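import Mathlib
import Groth.Agent.H29.RegFree
import Groth.Agent.Lead.RegularFlatDescent
import Groth.Agent.H54.Dim

/-!
# Coproduct decompositions of finite regular algebras over regular local rings

* `free_of_regular_finite`: a regular local ring finite and injective over a regular local ring is
  free (miracle flatness in the regular case; universe polymorphic).
* `free_of_tensor_free`: over a local ring, a finite tensor factor of a nonzero finite free module
  is free.
* `exists_algEquiv_of_coprod`: if `A` is the coproduct of subalgebras `B j` (universal property in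
  commutative `R`-algebras), then `A ≅ B i ⊗ ⨂_{j ≠ i} B j`.
* `free_and_regular_of_coprod`: under these hypotheses each `B i` is free over `R` and regular.
-/

set_option autoImplicit false
set_option linter.unusedSectionVars false
universe u v w

namespace Groth.Agent.H76.WildCoprod


open IsLocalRing

/-- A regular local ring finite and injective over a regular local ring is free (same universe). -/
theorem free_of_regular_finite_aux (R A : Type u) [CommRing R] [CommRing A] [IsRegularLocalRing R]
    [IsRegularLocalRing A] [Algebra R A] [Module.Finite R A]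
    (hinj : Function.Injective (algebraMap R A)) : Module.Free R A := by
  have hfs : FaithfulSMul R A := (faithfulSMul_iff_algebraMap_injective R A).mpr hinj
  have hint : Algebra.IsIntegral R A := inferInstance
  have hloc : IsLocalHom (algebraMap R A) := inferInstance
  obtain ⟨d, hd, -⟩ := Groth.Agent.Lead.RLR.exists_ringKrullDim_eq R
  have hdA : ringKrullDim A = d := by
    rw [← hd]
    exact (Groth.Agent.H54.ringKrullDim_eq_of_isIntegral_of_injective (R := R) (S := A) hinj).symm
  have h1 : LocCoh.depth R A = LocCoh.depth A A := Groth.Agent.H29.DepthAB.depth_eq (A := R) (B := A) A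
  have h2 := Groth.Agent.H29.RegFree.depth_eq_of_regular A d hdA
  exact Groth.Agent.H29.RegFree.free_of_depth_eq_dim d R hd A (h1.trans h2)

/-- Universe-polymorphic version. -/
theorem free_of_regular_finite (R : Type u) (A : Type v) [CommRing R] [CommRing A]
    [IsRegularLocalRing R] [IsRegularLocalRing A] [Algebra R A] [Module.Finite R A]
    (hinj : Function.Injective (algebraMap R A)) : Module.Free R A := by
  classical
  let R' := ULift.{v} R
  let A' := ULift.{u} A
  have hR' : IsRegularLocalRing R' := IsRegularLocalRing.of_ringEquiv (ULift.ringEquiv (R := R)).symm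
  have hA' : IsRegularLocalRing A' := IsRegularLocalRing.of_ringEquiv (ULift.ringEquiv (R := A)).symm
  let f : R' →+* A' := ((ULift.ringEquiv (R := A)).symm.toRingHom.comp (algebraMap R A)).comp
    (ULift.ringEquiv (R := R)).toRingHom
  let _ : Algebra R' A' :=
    { algebraMap := f
      smul := fun r x => r • x
      commutes' := fun r x => mul_comm _ _
      smul_def' := fun r x => ULift.ext _ _ (Algebra.smul_def r.down x.down) }
  have hfin : Module.Finite R' A' := by
    obtain ⟨s, hs⟩ := (Module.Finite.fg_top : (⊤ : Submodule R A).FG)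
    refine ⟨⟨s.image ULift.up, ?_⟩⟩
    rw [eq_top_iff]
    rintro ⟨a⟩ -
    have ha : a ∈ Submodule.span R (s : Set A) := hs ▸ Submodule.mem_top
    induction ha using Submodule.span_induction with
    | mem x hx => exact Submodule.subset_span (by simpa using ⟨x, hx, rfl⟩)
    | zero => exact Submodule.zero_mem _
    | add x y _ _ hx hy => exact Submodule.add_mem _ hx hy
    | smul r x _ hx =>
      have : (ULift.up (r • x) : A') = (ULift.up r : R') • (ULift.up x : A') := rfl
      rw [this]
      exact Submodule.smul_mem _ _ hx
  have hinj' : Function.Injective (algebraMap R' A') := by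
    intro x y hxy
    have : algebraMap R A x.down = algebraMap R A y.down := congrArg ULift.down hxy
    exact ULift.ext _ _ (hinj this)
  have hfree := free_of_regular_finite_aux R' A' hinj'
  let σ : R' ≃+* R := ULift.ringEquiv
  have i1 : RingHomInvPair (σ : R' →+* R) (σ.symm : R →+* R') := RingHomInvPair.of_ringEquiv σ
  have i2 : RingHomInvPair (σ.symm : R →+* R') (σ : R' →+* R) := RingHomInvPair.symm _ _
  let e₂ : A' ≃ₛₗ[(σ : R' →+* R)] A :=
    { toFun := ULift.down
      invFun := ULift.up
      map_add' := fun _ _ => rfl
      map_smul' := fun r x => rfl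
      left_inv := fun _ => rfl
      right_inv := fun _ => rfl }
  exact Module.Free.of_equiv e₂



open IsLocalRing TensorProduct

section tensorfree

variable (R : Type u) [CommRing R] [IsLocalRing R]

/-- minimal number of generators of a finite module over a local ring, via the residue field -/
theorem exists_surjective_finrank (M : Type v) [AddCommGroup M] [Module R M] [Module.Finite R M] :
    ∃ p : (Fin (Module.finrank (ResidueField R) (ResidueField R ⊗[R] M)) → R) →ₗ[R] M,
      Function.Surjective p := by
  classical
  have hfg : (⊤ : Submodule R M).FG := Module.Finite.fg_top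
  obtain ⟨s, hs1, hs2⟩ := hfg.exists_span_finset_card_eq_spanFinrank
  have h1 := TensorProduct.spanFinrank_top_eq_of_residueField (⊤ : Submodule R M) hfg
  rw [← Module.finrank_eq_spanFinrank_of_free] at h1
  have e : ResidueField R ⊗[R] (⊤ : Submodule R M) ≃ₗ[ResidueField R] ResidueField R ⊗[R] M :=
    TensorProduct.AlgebraTensorModule.congr (LinearEquiv.refl _ _) Submodule.topEquiv
  rw [e.finrank_eq] at h1
  rw [h1, ← hs1]
  let b : Fin s.card → M := fun i => (s.equivFin.symm i : M)
  refine ⟨Fintype.linearCombination R b, ?_⟩
  rw [← LinearMap.range_eq_top, Fintype.range_linearCombination]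
  have : Set.range b = (s : Set M) := by
    ext x
    constructor
    · rintro ⟨i, rfl⟩
      exact (s.equivFin.symm i).2
    · intro hx
      exact ⟨s.equivFin ⟨x, hx⟩, by simp [b]⟩
  rw [this, hs2]

theorem finrank_residue_tensor (M : Type v) (N : Type w) [AddCommGroup M] [Module R M]
    [AddCommGroup N] [Module R N] [Module.Finite R M] [Module.Finite R N] :
    Module.finrank (ResidueField R) (ResidueField R ⊗[R] (M ⊗[R] N)) =
      Module.finrank (ResidueField R) (ResidueField R ⊗[R] M) *
        Module.finrank (ResidueField R) (ResidueField R ⊗[R] N) := by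
  rw [(TensorProduct.AlgebraTensorModule.distribBaseChange R (ResidueField R) M N).finrank_eq,
    Module.finrank_tensorProduct]

theorem finrank_residue_free (P : Type v) [AddCommGroup P] [Module R P] [Module.Free R P]
    [Module.Finite R P] :
    Module.finrank (ResidueField R) (ResidueField R ⊗[R] P) = Module.finrank R P :=
  Module.finrank_baseChange

theorem free_of_tensor_free_aux (M : Type v) (N : Type w) [AddCommGroup M] [Module R M]
    [AddCommGroup N] [Module R N] [Module.Finite R M] [Module.Finite R N]
    [Module.Free R (M ⊗[R] N)] [Nontrivial (M ⊗[R] N)] (m n : ℕ)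
    (p : (Fin m → R) →ₗ[R] M) (hp : Function.Surjective p)
    (q : (Fin n → R) →ₗ[R] N) (hq : Function.Surjective q)
    (hrank : Module.finrank R (M ⊗[R] N) = m * n) : Module.Free R M := by
  classical
  -- `n ≥ 1`
  have hn0 : 0 < n := by
    by_contra h0
    have hn' : n = 0 := by omega
    subst hn'
    have : Subsingleton N := by
      refine ⟨fun a b => ?_⟩
      obtain ⟨a', rfl⟩ := hq a
      obtain ⟨b', rfl⟩ := hq b
      congr 1
      funext i
      exact i.elim0
    have : Subsingleton (M ⊗[R] N) := inferInstance
    exact not_subsingleton (M ⊗[R] N) this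
  have hrank' : Module.finrank R ((Fin m → R) ⊗[R] (Fin n → R)) = m * n := by
    rw [Module.finrank_tensorProduct]
    simp
  let e : (M ⊗[R] N) ≃ₗ[R] ((Fin m → R) ⊗[R] (Fin n → R)) :=
    LinearEquiv.ofFinrankEq _ _ (hrank.trans hrank'.symm)
  have hsurj : Function.Surjective (TensorProduct.map p q) := TensorProduct.map_surjective hp hq
  have hinj : Function.Injective (TensorProduct.map p q) := by
    have h1 : Function.Surjective (e.toLinearMap ∘ₗ TensorProduct.map p q) :=
      e.surjective.comp hsurj
    have h2 := OrzechProperty.injective_of_surjective_endomorphism _ h1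
    exact (Function.Injective.of_comp_iff e.injective _).mp h2
  -- `p` injective
  have hpinj : Function.Injective p := by
    rw [injective_iff_map_eq_zero]
    intro x hx
    let g₀ : Fin n → R := Pi.single ⟨0, hn0⟩ 1
    let φ : (Fin n → R) →ₗ[R] R := LinearMap.proj ⟨0, hn0⟩
    have h1 : TensorProduct.map p q (x ⊗ₜ g₀) = 0 := by
      rw [TensorProduct.map_tmul, hx, TensorProduct.zero_tmul]
    have h2 : x ⊗ₜ[R] g₀ = 0 := hinj (h1.trans (map_zero _).symm)
    have h3 := congrArg ((TensorProduct.rid R (Fin m → R)).toLinearMap ∘ₗ LinearMap.lTensor (Fin m → R) φ) h2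
    rw [LinearMap.comp_apply, LinearMap.lTensor_tmul, LinearEquiv.coe_coe, TensorProduct.rid_tmul, map_zero] at h3
    have h4 : φ g₀ = 1 := by simp [φ, g₀]
    rw [h4, one_smul] at h3
    exact h3
  exact Module.Free.of_equiv (LinearEquiv.ofBijective p ⟨hpinj, hp⟩)

/-- Over a local ring, if `M ⊗ N` is free and nonzero with `M`, `N` finite, then `M` is free. -/
theorem free_of_tensor_free (M : Type v) (N : Type w) [AddCommGroup M] [Module R M]
    [AddCommGroup N] [Module R N] [Module.Finite R M] [Module.Finite R N]
    [Module.Free R (M ⊗[R] N)] [Nontrivial (M ⊗[R] N)] : Module.Free R M := by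
  obtain ⟨p, hp⟩ := exists_surjective_finrank R M
  obtain ⟨q, hq⟩ := exists_surjective_finrank R N
  refine free_of_tensor_free_aux R M N _ _ p hp q hq ?_
  rw [← finrank_residue_free R (M ⊗[R] N), finrank_residue_tensor R M N]

end tensorfree



open TensorProduct

section coprod

variable {ι : Type} [Fintype ι] [DecidableEq ι] (R : Type u) (A : Type v) [CommRing R] [CommRing A]
  [Algebra R A] (B : ι → Subalgebra R A)

/-- the other tensor factor -/
abbrev Tcompl (i : ι) : Type (max u v) := ⨂[R] j : {j : ι // j ≠ i}, B j

/-- the product multilinear map -/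
noncomputable def prodMulti (i : ι) : MultilinearMap R (fun j : {j : ι // j ≠ i} => B j) A :=
  (MultilinearMap.mkPiAlgebra R {j : ι // j ≠ i} A).compLinearMap (fun j => (B j).val.toLinearMap)

theorem prodMulti_apply (i : ι) (x : ∀ j : {j : ι // j ≠ i}, B j) :
    prodMulti R A B i x = ∏ j, (x j : A) := by
  simp [prodMulti]

/-- the product map out of the complementary tensor factor -/
noncomputable def theta (i : ι) : Tcompl R A B i →ₐ[R] A :=
  PiTensorProduct.liftAlgHom (prodMulti R A B i)
    (by rw [prodMulti_apply]; simp)
    (by intro x y; rw [prodMulti_apply, prodMulti_apply, prodMulti_apply,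
      ← Finset.prod_mul_distrib]; rfl)

theorem theta_tprod (i : ι) (x : ∀ j : {j : ι // j ≠ i}, B j) :
    theta R A B i (PiTensorProduct.tprod R x) = ∏ j, (x j : A) := by
  unfold theta
  rw [PiTensorProduct.liftAlgHom_apply, PiTensorProduct.lift.tprod, prodMulti_apply]

theorem theta_single (i : ι) (j : {j : ι // j ≠ i}) (c : B j) :
    theta R A B i (PiTensorProduct.singleAlgHom j c) = c := by
  rw [PiTensorProduct.singleAlgHom_apply, theta_tprod]
  rw [Finset.prod_eq_single j]
  · simp
  · intro k _ hk
    simp [MonoidHom.mulSingle_apply, Pi.mulSingle_eq_of_ne hk]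
  · intro h
    exact absurd (Finset.mem_univ j) h

/-- the product map `B i ⊗ T_i → A` -/
noncomputable def Phi (i : ι) : (B i ⊗[R] Tcompl R A B i) →ₐ[R] A :=
  Algebra.TensorProduct.productMap (B i).val (theta R A B i)

/-- the family of maps `B j → B i ⊗ T_i` -/
noncomputable def phiFam (i : ι) (j : ι) : B j →ₐ[R] (B i ⊗[R] Tcompl R A B i) :=
  if h : j = i then
    (Algebra.TensorProduct.includeLeft (R := R) (S := R) (A := B i) (B := Tcompl R A B i)).comp
      (Subalgebra.inclusion (le_of_eq (congrArg B h)))
  else
    (Algebra.TensorProduct.includeRight (R := R) (A := B i) (B := Tcompl R A B i)).comp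
      (PiTensorProduct.singleAlgHom (R := R) (A := fun j : {j : ι // j ≠ i} => B j) ⟨j, h⟩)

theorem phiFam_self (i : ι) (b : B i) : phiFam R A B i i b = b ⊗ₜ 1 := by
  unfold phiFam
  rw [dif_pos rfl]
  rfl

theorem phiFam_ne (i : ι) (j : ι) (h : j ≠ i) (c : B j) :
    phiFam R A B i j c = 1 ⊗ₜ PiTensorProduct.singleAlgHom (R := R)
      (A := fun j : {j : ι // j ≠ i} => B j) ⟨j, h⟩ c := by
  unfold phiFam
  rw [dif_neg h]
  rfl

theorem Phi_phiFam (i j : ι) (c : B j) : Phi R A B i (phiFam R A B i j c) = c := by
  by_cases h : j = i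
  · subst h
    rw [phiFam_self]
    simp [Phi]
  · rw [phiFam_ne R A B i j h]
    simp only [Phi, Algebra.TensorProduct.productMap_apply_tmul, map_one, one_mul]
    exact theta_single R A B i ⟨j, h⟩ c

variable (hcoprod : ∀ (C : Type (max u v)) [CommRing C] [Algebra R C] (φ : ∀ i, B i →ₐ[R] C),
      ∃! ψ : A →ₐ[R] C, ∀ i (x : B i), ψ x = φ i x)

include hcoprod in
theorem exists_algEquiv_of_coprod (i : ι) :
    ∃ e : (B i ⊗[R] Tcompl R A B i) ≃ₐ[R] A, ∀ (b : B i) (t : Tcompl R A B i),
      e (b ⊗ₜ t) = b * theta R A B i t := by
  obtain ⟨Ψ, hΨ, -⟩ := hcoprod (B i ⊗[R] Tcompl R A B i) (phiFam R A B i)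
  -- `Ψ ∘ Φ = id`
  have h1 : Ψ.comp (Phi R A B i) = AlgHom.id R _ := by
    apply Algebra.TensorProduct.ext
    · ext b
      change Ψ (Phi R A B i (b ⊗ₜ 1)) = b ⊗ₜ 1
      have : Phi R A B i (b ⊗ₜ 1) = b := by simp [Phi]
      rw [this, hΨ i b, phiFam_self]
    · apply PiTensorProduct.algHom_ext
      intro j
      ext c
      change Ψ (Phi R A B i (1 ⊗ₜ PiTensorProduct.singleAlgHom j c)) =
        1 ⊗ₜ PiTensorProduct.singleAlgHom j c
      have : Phi R A B i (1 ⊗ₜ PiTensorProduct.singleAlgHom j c) = c := by
        simp only [Phi, Algebra.TensorProduct.productMap_apply_tmul, map_one, one_mul]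
        exact theta_single R A B i j c
      rw [this, hΨ j.1 c, phiFam_ne R A B i j.1 j.2]
  -- `Φ ∘ Ψ = id`
  have h2 : (Phi R A B i).comp Ψ = AlgHom.id R A := by
    let up : A →ₐ[R] ULift.{u} A := (ULift.algEquiv (R := R) (A := A)).symm.toAlgHom
    obtain ⟨ψ₀, -, huniq⟩ := hcoprod (ULift.{u} A) (fun j => up.comp (B j).val)
    have e1 : up.comp ((Phi R A B i).comp Ψ) = ψ₀ := by
      apply huniq
      intro j x
      change up (Phi R A B i (Ψ x)) = up x
      rw [hΨ j x, Phi_phiFam]
    have e2 : up = ψ₀ := by
      apply huniq
      intro j x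
      rfl
    ext a
    have := DFunLike.congr_fun (e1.trans e2.symm) a
    exact congrArg ULift.down this
  refine ⟨AlgEquiv.ofAlgHom (Phi R A B i) Ψ h2 h1, fun b t => ?_⟩
  simp [Phi]

end coprod


section main

open IsLocalRing

variable {ι : Type} [Fintype ι] [DecidableEq ι] (R : Type u) (A : Type v) [CommRing R]
  [IsRegularLocalRing R] [CommRing A] [IsRegularLocalRing A] [Algebra R A] [Module.Finite R A]

theorem free_and_regular_of_coprod (hinj : Function.Injective (algebraMap R A))
    (B : ι → Subalgebra R A)
    (hcoprod : ∀ (C : Type (max u v)) [CommRing C] [Algebra R C] (φ : ∀ i, B i →ₐ[R] C),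
      ∃! ψ : A →ₐ[R] C, ∀ i (x : B i), ψ x = φ i x) (i : ι) :
    Module.Free R (B i) ∧ IsRegularLocalRing (B i) := by
  have hfreeA : Module.Free R A := free_of_regular_finite R A hinj
  obtain ⟨e, he⟩ := exists_algEquiv_of_coprod R A B hcoprod i
  have hnA : IsNoetherian R A := isNoetherian_of_isNoetherianRing_of_finite R A
  have hfinB : ∀ j, Module.Finite R (B j) := fun j =>
    Module.Finite.of_injective (B j).val.toLinearMap Subtype.val_injective
  have hfinT : Module.Finite R (Tcompl R A B i) := inferInstance
  have hfreeS : Module.Free R (B i ⊗[R] Tcompl R A B i) :=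
    Module.Free.of_equiv e.symm.toLinearEquiv
  have hntS : Nontrivial (B i ⊗[R] Tcompl R A B i) := e.symm.injective.nontrivial
  have hfreeB : Module.Free R (B i) := free_of_tensor_free R (B i) (Tcompl R A B i)
  have hfreeS' : Module.Free R (Tcompl R A B i ⊗[R] B i) :=
    Module.Free.of_equiv (TensorProduct.comm R (B i) (Tcompl R A B i))
  have hntS' : Nontrivial (Tcompl R A B i ⊗[R] B i) :=
    (TensorProduct.comm R (B i) (Tcompl R A B i)).injective.nontrivial
  have hfreeT : Module.Free R (Tcompl R A B i) := free_of_tensor_free R (Tcompl R A B i) (B i)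
  refine ⟨hfreeB, ?_⟩
  -- `A` is free over `B i`
  let e' : (B i ⊗[R] Tcompl R A B i) ≃ₗ[B i] A :=
    { e.toLinearEquiv with
      map_smul' := fun b x => by
        change e (b • x) = b • e x
        have : b • x = (b ⊗ₜ[R] (1 : Tcompl R A B i)) * x := by
          refine (Algebra.smul_def b x).trans ?_
          rw [Algebra.TensorProduct.algebraMap_apply]
          rfl
        rw [this, map_mul, he, map_one, mul_one]
        rfl }
  have hfreeBA : Module.Free (B i) A := Module.Free.of_equiv e'
  have hflat : Module.Flat (B i) A := inferInstance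
  have hint : Algebra.IsIntegral R A := inferInstance
  have hintB : Algebra.IsIntegral (B i) A := Algebra.IsIntegral.tower_top (R := R)
  have hloc : IsLocalHom (algebraMap (B i) A) := inferInstance
  have hlocal : IsLocalRing (B i) := (algebraMap (B i) A).domain_isLocalRing
  have hnoeth : IsNoetherianRing (B i) := IsNoetherianRing.of_finite R (B i)
  exact Groth.Agent.Lead.RLR.isRegularLocalRing_of_flat (B i) A

end main

end Groth.Agent.H76.WildCoprod
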