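import Mathlib

set_option autoImplicit false
universe u
open CategoryTheory AlgebraicGeometry

namespace Groth.Agent.H76

/-- Global sections of a scheme flat over the spectrum of a domain are torsion-free. -/
lemma eq_zero_of_mul_eq_zero_of_flat {R : Type u} [CommRing R] [IsDomain R] {X : Scheme.{u}}
    (q : X ⟶ Spec (CommRingCat.of R)) [Flat q] (r : R) (hr : r ≠ 0) (s : Γ(X, ⊤))
    (hs : q.appTop.hom ((Scheme.ΓSpecIso (CommRingCat.of R)).inv.hom r) * s = 0) : s = 0 := by
  apply X.IsSheaf.section_ext (U := Opposite.op ⊤)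
  intro x _
  obtain ⟨_, ⟨V, hV, rfl⟩, hxV, -⟩ :=
    X.isBasis_affineOpens.exists_subset_of_mem_open (Set.mem_univ x) isOpen_univ
  refine ⟨V, le_top, hxV, ?_⟩
  rw [map_zero]
  have hflat : (q.appLE ⊤ V le_top).hom.Flat :=
    HasRingHomProperty.appLE @Flat q inferInstance ⟨⊤, isAffineOpen_top _⟩ ⟨V, hV⟩ le_top
  have hiso : (Scheme.ΓSpecIso (CommRingCat.of R)).inv.hom.Flat :=
    RingHom.Flat.of_bijective
      (ConcreteCategory.bijective_of_isIso (Scheme.ΓSpecIso (CommRingCat.of R)).inv)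
  let φ : R →+* Γ(X, V) :=
    (q.appLE ⊤ V le_top).hom.comp (Scheme.ΓSpecIso (CommRingCat.of R)).inv.hom
  have hφ : φ.Flat := hiso.comp hflat
  letI : Algebra R Γ(X, V) := φ.toAlgebra
  have : Module.Flat R Γ(X, V) := hφ
  have hreg : IsSMulRegular Γ(X, V) r :=
    Module.Flat.isSMulRegular_of_nonZeroDivisors (mem_nonZeroDivisors_of_ne_zero hr)
  apply hreg
  change r • _ = r • (0 : Γ(X, V))
  rw [smul_zero, Algebra.smul_def]
  have h1 := congrArg (X.presheaf.map (homOfLE (le_top : V ≤ ⊤)).op).hom hs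
  rw [map_mul, map_zero] at h1
  exact h1

end Groth.Agent.H76
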