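import Groth.Prelude.Def_DeRham
import Mathlib

set_option autoImplicit false
universe u

open exteriorPower

namespace Groth.Agent.H76

/-- Induction principle: the exterior powers of the Kähler differentials are additively generated by
the elements `b₀ • db₁ ∧ … ∧ db_p`. -/
theorem deRham_gen_induction (R A : Type u) [CommRing R] [CommRing A] [Algebra R A] (p : ℕ)
    (motive : ↥(⋀[A]^p (Ω[A⁄R])) → Prop)
    (zero : motive 0) (add : ∀ x y, motive x → motive y → motive (x + y))
    (gen : ∀ (b₀ : A) (b : Fin p → A), motive (DeRham.gen (KaehlerDifferential.D R A) p b₀ b)) :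
    ∀ x, motive x := by
  intro x
  have hx : x ∈ Submodule.span A (ιMulti A p '' {a : Fin p → Ω[A⁄R] |
      Set.range a ⊆ Set.range (KaehlerDifferential.D R A)}) := by
    rw [ιMulti_span_of_span A p (Ω[A⁄R]) (KaehlerDifferential.span_range_derivation R A)]
    trivial
  induction hx using Submodule.closure_induction with
  | zero => exact zero
  | add x y _ _ hx hy => exact add x y hx hy
  | smul_mem r x hx =>
    obtain ⟨a, ha, rfl⟩ := hx
    have : ∀ i, ∃ b : A, KaehlerDifferential.D R A b = a i := fun i => ha ⟨i, rfl⟩
    choose b hb using this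
    have : a = fun i => KaehlerDifferential.D R A (b i) := by
      funext i; exact (hb i).symm
    rw [this]
    exact gen r b

/-- `db₀ ∧ db₁ ∧ … ∧ db_p` is the generator `1 • d(b₀) ∧ …` one degree up. -/
theorem deRham_ιMulti_cons_eq_gen {R : Type u} {A M : Type u} [CommRing R] [CommRing A] [Algebra R A]
    [AddCommGroup M] [Module A M] [Module R M]
    (δ : Derivation R A M) (p : ℕ) (b₀ : A) (b : Fin p → A) :
    ιMulti A (p + 1) (Fin.cons (δ b₀) (fun i => δ (b i)))
      = DeRham.gen δ (p + 1) 1 (Fin.cons b₀ b) := by
  unfold DeRham.gen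
  rw [one_smul]
  congr 1
  funext i
  refine Fin.cases ?_ (fun j => ?_) i <;> simp

end Groth.Agent.H76
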