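import Mathlib
import Groth.Agent.H55.FFGaps
import Groth.Agent.H55.FFMisc
import Groth.Agent.H62.FFSepPlaces1

/-!
helper76: function fields over an algebraically closed constant field:
base points, `ℓ(A) + ℓ(B) ≤ 1 + ℓ(A + B)` and Clifford's theorem.
-/

set_option autoImplicit false
set_option linter.unusedSectionVars false

namespace Groth.Agent.H76.Curve

open FunFld WithZero Module Groth.Agent.H55

variable {k K : Type*} [Field k] [Field K] [Algebra k K]

/-- the base points of a nonempty complete linear system are finitely many -/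
theorem finite_basePoints (hK : IsFunctionField k K) (A : Divisor k K) (hA : L A ≠ ⊥) :
    {P : Place k K | ell (A - Finsupp.single P 1) = ell A}.Finite := by
  classical
  obtain ⟨x, hx0, hx⟩ := (L_ne_bot_iff hK A).mp hA
  refine (A + div k x).support.finite_toSet.subset fun P hP => ?_
  rw [Set.mem_ofPred_eq] at hP
  rw [Finset.mem_coe, Finsupp.mem_support_iff]
  intro h0
  have hxA : x ∈ L A := (mem_L_iff_div hK hx0).mpr hx
  have hle : A - Finsupp.single P 1 ≤ A := by
    intro Q
    rw [Finsupp.sub_apply, Finsupp.single_apply]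
    split_ifs <;> omega
  have hxn : x ∉ L (A - Finsupp.single P 1) := by
    intro hmem
    have h1 := (mem_L_iff_div hK hx0).mp hmem P
    rw [Finsupp.zero_apply, Finsupp.add_apply, Finsupp.sub_apply, Finsupp.single_eq_same] at h1
    rw [Finsupp.add_apply] at h0
    omega
  have hlt : L (A - Finsupp.single P 1) < L A :=
    lt_of_le_of_ne (L_mono hle) (fun heq => hxn (heq ▸ hxA))
  haveI := L_finite hK A
  have := Submodule.finrank_lt_finrank_of_lt hlt
  unfold ell at hP
  omega

/-- removing a point which is not a base point drops `ℓ` by exactly one -/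
theorem ell_sub_single_add_one (hK : IsFunctionField k K) (A : Divisor k K) {P : Place k K}
    (hP : P.deg = 1) (hne : ell (A - Finsupp.single P 1) ≠ ell A) :
    ell (A - Finsupp.single P 1) + 1 = ell A := by
  classical
  have hle : A - Finsupp.single P 1 ≤ A := by
    intro Q
    rw [Finsupp.sub_apply, Finsupp.single_apply]
    split_ifs <;> omega
  have h1 := ell_sub_le hK hle
  rw [Divisor.deg_sub, deg_single_of_deg_one hP] at h1
  have h2 := ell_mono hK hle
  omega

/-- `ℓ(A) + ℓ(B) ≤ 1 + ℓ(A + B)` for nonempty complete linear systems, over an algebraically closed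
field -/
theorem ell_add_ell_le [IsAlgClosed k] (hK : IsFunctionField k K) :
    ∀ (n : ℕ) (A B : Divisor k K), ell A = n → L A ≠ ⊥ → L B ≠ ⊥ →
      ell A + ell B ≤ 1 + ell (A + B) := by
  classical
  intro n
  induction n with
  | zero =>
    intro A B hn hA _
    exact absurd ((ell_pos_iff hK A).mpr hA) (by omega)
  | succ n ih =>
    intro A B hn hA hB
    obtain ⟨x, hxA, hx0⟩ := Submodule.exists_mem_ne_zero_of_ne_bot hA
    -- multiplication by `x` embeds `L(B)` into `L(A + B)`
    have hmul : ell B ≤ ell (A + B) := by
      haveI := L_finite hK (A + B)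
      have hmem : ∀ y ∈ L B, LinearMap.mulLeft k x y ∈ L (A + B) := fun y hy => mul_mem_L hxA hy
      have hinj : Function.Injective ((LinearMap.mulLeft k x).restrict hmem) := by
        intro a b hab
        have h1 : x * (a : K) = x * (b : K) := congrArg Subtype.val hab
        exact Subtype.ext (mul_left_cancel₀ hx0 h1)
      exact LinearMap.finrank_le_finrank_of_injective hinj
    rcases Nat.eq_zero_or_pos n with rfl | hnpos
    · omega
    -- `L(A + B)` is nonzero
    obtain ⟨y, hyB, hy0⟩ := Submodule.exists_mem_ne_zero_of_ne_bot hB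
    have hAB : L (A + B) ≠ ⊥ := by
      intro hbot
      have := mul_mem_L hxA hyB
      rw [hbot, Submodule.mem_bot] at this
      exact mul_ne_zero hx0 hy0 this
    -- a place which is a base point neither of `A` nor of `A + B`
    haveI := Groth.Agent.H62.FFSepPlaces.infinite_places hK
    obtain ⟨P, hP⟩ := ((finite_basePoints hK A hA).union
      (finite_basePoints hK (A + B) hAB)).exists_notMem
    rw [Set.mem_union, not_or, Set.mem_ofPred_eq, Set.mem_ofPred_eq] at hP
    have hP1 := Place.deg_eq_one_of_isAlgClosed hK P
    have h1 := ell_sub_single_add_one hK A hP1 hP.1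
    have h2 := ell_sub_single_add_one hK (A + B) hP1 hP.2
    have hA' : L (A - Finsupp.single P 1) ≠ ⊥ := (ell_pos_iff hK _).mp (by omega)
    have h3 := ih (A - Finsupp.single P 1) B (by omega) hA' hB
    have heq : A - Finsupp.single P 1 + B = A + B - Finsupp.single P 1 := by abel
    rw [heq] at h3
    omega

/-- **Clifford's theorem**: a special divisor with `ℓ(D) > 0` has `2 ℓ(D) ≤ deg D + 2` -/
theorem clifford [IsAlgClosed k] (hK : IsFunctionField k K) (D : Divisor k K) (hD : L D ≠ ⊥)
    (hsp : D.deg + 1 - (ell D : ℤ) < genus k K) : 2 * (ell D : ℤ) ≤ D.deg + 2 := by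
  obtain ⟨W, hW⟩ := exists_canonical hK
  have hRR := riemann_roch hK hW D
  have hpos : 0 < ell (W - D) := by
    have : (0 : ℤ) < ell (W - D) := by linarith
    exact_mod_cast this
  have hWD : L (W - D) ≠ ⊥ := (ell_pos_iff hK _).mp hpos
  have h1 := ell_add_ell_le hK (ell D) D (W - D) rfl hD hWD
  rw [add_sub_cancel, (canonical_ell_deg hK hW).1] at h1
  have h1' : (ell D : ℤ) + ell (W - D) ≤ 1 + genus k K := by exact_mod_cast h1
  linarith

end Groth.Agent.H76.Curve
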