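import Groth.Agent.H62.CF1

/-!
helper76, line-bundle bridge for curves, part A (pure function fields):
Čech `H¹` of the "sheaf `O(D)`" of a function field for a finite cover of the places by proper
subsets, and the adele quotient `A / (A(D) + K)`.  This generalises `Groth.Agent.H62.CF`
(`H62/CF1.lean`, the case `D = 0`) to an arbitrary divisor `D`.
-/

set_option autoImplicit false
set_option linter.unusedSectionVars false

namespace Groth.Agent.H76.Curve

open FunFld WithZero Module Groth.Agent.H55 Groth.Agent.H62.CF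

attribute [-instance] FunFld.Place.algRes

variable {k K : Type*} [Field k] [Field K] [Algebra k K]

/-- the functions `f` with `ord_P f + D(P) ≥ 0` at all places in `T` -/
def holoD (D : Divisor k K) (T : Set (Place k K)) : AddSubgroup K where
  carrier := {f | ∀ P ∈ T, P.1 f ≤ exp (D P)}
  add_mem' {a b} ha hb P hP := (P.1.map_add a b).trans (max_le (ha P hP) (hb P hP))
  zero_mem' P _ := by simp
  neg_mem' {a} ha P hP := by rw [Valuation.map_neg]; exact ha P hP

theorem mem_holoD {D : Divisor k K} {T : Set (Place k K)} {f : K} :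
    f ∈ holoD D T ↔ ∀ P ∈ T, P.1 f ≤ exp (D P) := Iff.rfl

theorem holoD_zero (T : Set (Place k K)) : holoD (0 : Divisor k K) T = holo T := by
  ext f
  simp [mem_holoD, mem_holo]

theorem holoD_univ (D : Divisor k K) (f : K) : f ∈ holoD D Set.univ ↔ f ∈ L D := by
  rw [mem_holoD]
  constructor
  · intro h P
    exact h P (Set.mem_univ P)
  · intro h P _
    exact h P

variable (D : Divisor k K) {ι : Type*} (S : ι → Set (Place k K))

/-- Čech `1`-cocycles of `O(D)` -/
def Z1D : AddSubgroup (ι → ι → K) where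
  carrier := {c | (∀ i j, c i j ∈ holoD D (S i ∩ S j)) ∧ ∀ i j l, c j l - c i l + c i j = 0}
  add_mem' {a b} ha hb := ⟨fun i j => add_mem (ha.1 i j) (hb.1 i j), fun i j l => by
    have h1 := ha.2 i j l
    have h2 := hb.2 i j l
    simp only [Pi.add_apply]
    linear_combination h1 + h2⟩
  zero_mem' := ⟨fun i j => zero_mem _, fun i j l => by simp⟩
  neg_mem' {a} ha := ⟨fun i j => neg_mem (ha.1 i j), fun i j l => by
    have h1 := ha.2 i j l
    simp only [Pi.neg_apply]
    linear_combination -h1⟩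

/-- Čech `1`-coboundaries of `O(D)` -/
def B1D : AddSubgroup (ι → ι → K) where
  carrier := {c | ∃ g : ι → K, (∀ i, g i ∈ holoD D (S i)) ∧ ∀ i j, c i j = g j - g i}
  add_mem' {a b} ha hb := by
    obtain ⟨g, hg, hga⟩ := ha
    obtain ⟨g', hg', hgb⟩ := hb
    refine ⟨g + g', fun i => add_mem (hg i) (hg' i), fun i j => ?_⟩
    simp only [Pi.add_apply, hga, hgb]
    ring
  zero_mem' := ⟨0, fun i => zero_mem _, fun i j => by simp⟩
  neg_mem' {a} ha := by
    obtain ⟨g, hg, hga⟩ := ha
    refine ⟨-g, fun i => neg_mem (hg i), fun i j => ?_⟩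
    simp only [Pi.neg_apply, hga]
    ring

/-- Čech `0`-cocycles of `O(D)`: the constant families -/
theorem mem_L_iff_forall_mem_holoD (hcov : ∀ P : Place k K, ∃ i, P ∈ S i) (f : K) :
    f ∈ L D ↔ ∀ i, f ∈ holoD D (S i) := by
  constructor
  · intro h i P _
    exact h P
  · intro h P
    obtain ⟨i, hi⟩ := hcov P
    exact h i P hi

section main

variable [Finite ι] (hK : IsFunctionField k K) (hcov : ∀ P : Place k K, ∃ i, P ∈ S i)

/-- the map from cocycles to the adele quotient -/
noncomputable def thetaD (i₀ : ι) : Z1D D S →+ adele k K ⧸ ADK D :=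
  ((ADK D).mkQ.toAddMonoidHom.comp (toAdele S hK hcov i₀)).comp (Z1D D S).subtype

theorem thetaD_apply (i₀ : ι) (c : Z1D D S) :
    thetaD D S hK hcov i₀ c = (ADK D).mkQ (toAdele S hK hcov i₀ c.1) := rfl

theorem mem_ADK_iff (a : adele k K) : a ∈ ADK D ↔
    ∃ h : K, ∀ P : Place k K, P.1 (a.1 P - h) ≤ exp (D P) := by
  show a.1 ∈ AD D ⊔ LinearMap.range (diag k K) ↔ _
  rw [Submodule.mem_sup]
  constructor
  · rintro ⟨b, hb, d, ⟨h, rfl⟩, hsum⟩
    refine ⟨h, fun P => ?_⟩
    have h1 : a.1 P - h = b P := by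
      rw [← hsum]
      show b P + h - h = b P
      ring
    rw [h1]
    exact hb P
  · rintro ⟨h, hh⟩
    refine ⟨fun P => a.1 P - h, fun P => hh P, diag k K h, ⟨h, rfl⟩, ?_⟩
    funext P
    show a.1 P - h + h = a.1 P
    ring

theorem thetaD_eq_zero_iff (i₀ : ι) (c : Z1D D S) :
    thetaD D S hK hcov i₀ c = 0 ↔ c.1 ∈ B1D D S := by
  rw [thetaD_apply, Submodule.mkQ_apply, Submodule.Quotient.mk_eq_zero, mem_ADK_iff]
  obtain ⟨c, hc1, hc2⟩ := c
  constructor
  · rintro ⟨h, hh⟩
    refine ⟨fun i => c i₀ i - h, fun i P hP => ?_, fun i j => ?_⟩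
    · have h1 := hc2 i₀ (idx S hcov P) i
      have h2 : c i₀ i - h = c (idx S hcov P) i + (c i₀ (idx S hcov P) - h) := by
        linear_combination -h1
      show P.1 (c i₀ i - h) ≤ exp (D P)
      rw [h2]
      exact (P.1.map_add _ _).trans (max_le (hc1 _ _ P ⟨idx_mem S hcov P, hP⟩) (hh P))
    · have h1 := hc2 i₀ i j
      show c i j = c i₀ j - h - (c i₀ i - h)
      linear_combination h1
  · rintro ⟨g, hg, hcg⟩
    refine ⟨-g i₀, fun P => ?_⟩
    rw [toAdele_apply]
    show P.1 (c i₀ (idx S hcov P) - -g i₀) ≤ exp (D P)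
    have hcg' : c i₀ (idx S hcov P) = g (idx S hcov P) - g i₀ := hcg _ _
    rw [hcg']
    have : g (idx S hcov P) - g i₀ - -g i₀ = g (idx S hcov P) := by ring
    rw [this]
    exact hg _ P (idx_mem S hcov P)

theorem thetaD_surjective (hne : ∀ i, ∃ P : Place k K, P ∉ S i) (i₀ : ι) :
    Function.Surjective (thetaD D S hK hcov i₀) := by
  classical
  intro q
  obtain ⟨a, rfl⟩ := (ADK D).mkQ_surjective q
  have hfin : {P : Place k K | ¬ P.1 (a.1 P) ≤ 1}.Finite := Filter.eventually_cofinite.mp a.2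
  -- approximate on each member of the cover
  have happ : ∀ i, ∃ h : K, ∀ P ∈ S i, P.1 (h - a.1 P) ≤ exp (D P) := by
    intro i
    obtain ⟨Pinf, hPinf⟩ := hne i
    set T : Finset (Place k K) := (hfin.toFinset ∪ D.support).filter (fun P => P ∈ S i) with hT
    have hPT : Pinf ∉ T := by
      intro h
      rw [hT, Finset.mem_filter] at h
      exact hPinf h.2
    obtain ⟨z, hz1, hz2⟩ := strong_approx_le hK Pinf T hPT a.1 (fun P => -(D P))
    refine ⟨z, fun P hP => ?_⟩
    by_cases hPT' : P ∈ T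
    · have := hz1 P hPT'
      simpa using this
    · have hPne : P ≠ Pinf := by
        rintro rfl
        exact hPinf hP
      have h1 := hz2 P hPne hPT'
      have hnot : P ∉ hfin.toFinset ∪ D.support := by
        intro hmem
        apply hPT'
        rw [hT, Finset.mem_filter]
        exact ⟨hmem, hP⟩
      rw [Finset.mem_union, not_or] at hnot
      have h2 : P.1 (a.1 P) ≤ 1 := by
        by_contra hcon
        apply hnot.1
        rw [Set.Finite.mem_toFinset]
        exact hcon
      have h3 : D P = 0 := by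
        by_contra hcon
        exact hnot.2 (Finsupp.mem_support_iff.mpr hcon)
      rw [h3, exp_zero]
      exact (Valuation.map_sub _ _ _).trans (max_le h1 h2)
  choose h hh using happ
  have hcZ : (fun i j => h j - h i) ∈ Z1D D S := by
    refine ⟨fun i j P hP => ?_, fun i j l => by ring⟩
    have h1 : h j - h i = (h j - a.1 P) - (h i - a.1 P) := by ring
    show P.1 (h j - h i) ≤ exp (D P)
    rw [h1]
    exact (Valuation.map_sub _ _ _).trans (max_le (hh j P hP.2) (hh i P hP.1))
  refine ⟨⟨_, hcZ⟩, ?_⟩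
  rw [thetaD_apply, ← sub_eq_zero, ← map_sub, Submodule.mkQ_apply, Submodule.Quotient.mk_eq_zero,
    mem_ADK_iff]
  refine ⟨-h i₀, fun P => ?_⟩
  show P.1 (h (idx S hcov P) - h i₀ - a.1 P - -h i₀) ≤ exp (D P)
  have : h (idx S hcov P) - h i₀ - a.1 P - -h i₀ = h (idx S hcov P) - a.1 P := by ring
  rw [this]
  exact hh _ P (idx_mem S hcov P)

end main

end Groth.Agent.H76.Curve
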