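import Mathlib
import Groth.Agent.H8.MeroGen

/-!
helper76, line-bundle bridge for curves, part B (any integral scheme): an invertible module `L`
on an integral scheme `X` embeds, after the choice of a free generator near the generic point,
into the constant sheaf `K(X)`.

* `germ_gen_injective`: sections of an invertible module over an open containing the generic point
  are determined by their germ at the generic point.
* `GenTriv`: the data of a free generator near the generic point; `GenTriv.eps` the resulting
  embeddings `Γ(L, V) →+ K(X)`, with `eps_injective`, `eps_res`, `eps_smul`.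
* `GenTriv.range_eps_of_isFreeGen`: on an open with a free generator `σ`, the image of `eps` is
  `eps σ • (image of O(V))`.
-/

set_option autoImplicit false
universe u
open CategoryTheory CategoryTheory.Limits AlgebraicGeometry TopologicalSpace Opposite

namespace Groth.Agent.H76.Curve

open Groth.Agent.H8

variable {X : Scheme.{u}} [IsIntegral X] {L : X.Modules}

/-- sections of an invertible module on an integral scheme are determined by their germ at the
generic point -/
theorem germ_gen_injective (hL : PicF.IsInvertible L) (V : X.Opens) (hξ : genericPoint X ∈ V) :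
    Function.Injective (L.presheaf.germ V (genericPoint X) hξ) := by
  rw [injective_iff_map_eq_zero]
  intro s hs
  apply TopCat.Presheaf.section_ext ⟨L.presheaf, L.isSheaf⟩
  intro x hxV
  rw [map_zero]
  obtain ⟨U, hxU, σ, hσ⟩ := exists_isFreeGen_of_isInvertible hL x
  let W : X.Opens := V ⊓ U
  have hxW : x ∈ W := ⟨hxV, hxU⟩
  have hξW : genericPoint X ∈ W :=
    ((genericPoint_spec X).mem_open_set_iff W.isOpen).mpr ⟨x, trivial, hxW⟩
  have hWV : W ≤ V := inf_le_left
  have hWU : W ≤ U := inf_le_right
  obtain ⟨r, hr⟩ := hσ.exists_smul_eq hWU (L.presheaf.map (homOfLE hWV).op s)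
  have h1 : L.presheaf.germ W (genericPoint X) hξW (L.presheaf.map (homOfLE hWV).op s) = 0 := by
    rw [TopCat.Presheaf.germ_res_apply]
    exact hs
  rw [← hr, Mero.germ_smul] at h1
  have hσW := hσ.res hWU
  have h2 := hσW.germ_eq_zero_of_smul_eq_zero hξW _ h1
  have h3 : r = 0 := by
    apply germ_injective_of_isIntegral X (genericPoint X) hξW
    rw [h2, map_zero]
  rw [h3, zero_smul] at hr
  rw [← TopCat.Presheaf.germ_res_apply L.presheaf (homOfLE hWV) x hxW s, ← hr, map_zero]

/-- a free generator of `L` near the generic point -/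
structure GenTriv (L : X.Modules) where
  U : X.Opens
  mem : genericPoint X ∈ U
  σ : Γ(L, U)
  free : IsFreeGen L U σ

theorem exists_genTriv (hL : PicF.IsInvertible L) : Nonempty (GenTriv L) := by
  obtain ⟨U, hU, σ, hσ⟩ := exists_isFreeGen_of_isInvertible hL (genericPoint X)
  exact ⟨⟨U, hU, σ, hσ⟩⟩

namespace GenTriv

variable (T : GenTriv L)

/-- the generic stalk of `L` is identified with the function field -/
noncomputable def stalkEquiv : X.functionField ≃+ L.presheaf.stalk (genericPoint X) :=
  AddEquiv.ofBijective
    ({ toFun := fun r => r • L.presheaf.germ T.U (genericPoint X) T.mem T.σ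
       map_zero' := zero_smul _ _
       map_add' := fun a b => add_smul a b _ } : X.functionField →+ L.presheaf.stalk (genericPoint X))
    (T.free.germ_bijective T.mem)

theorem stalkEquiv_apply (r : X.functionField) :
    T.stalkEquiv r = r • L.presheaf.germ T.U (genericPoint X) T.mem T.σ := rfl

theorem stalkEquiv_symm_smul (r : X.functionField) (m : L.presheaf.stalk (genericPoint X)) :
    T.stalkEquiv.symm (r • m) = r * T.stalkEquiv.symm m := by
  apply T.stalkEquiv.injective
  rw [AddEquiv.apply_symm_apply, stalkEquiv_apply, mul_smul, ← stalkEquiv_apply,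
    AddEquiv.apply_symm_apply]

/-- the embedding of the sections of `L` over an open containing the generic point into the
function field -/
noncomputable def eps (V : X.Opens) (hV : genericPoint X ∈ V) : Γ(L, V) →+ X.functionField :=
  T.stalkEquiv.symm.toAddMonoidHom.comp (L.presheaf.germ V (genericPoint X) hV).hom

theorem eps_apply (V : X.Opens) (hV : genericPoint X ∈ V) (s : Γ(L, V)) :
    T.eps V hV s = T.stalkEquiv.symm (L.presheaf.germ V (genericPoint X) hV s) := rfl

theorem eps_injective (hL : PicF.IsInvertible L) (V : X.Opens) (hV : genericPoint X ∈ V) :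
    Function.Injective (T.eps V hV) := fun a b hab =>
  germ_gen_injective hL V hV (T.stalkEquiv.symm.injective hab)

theorem eps_res (V W : X.Opens) (h : W ≤ V) (hW : genericPoint X ∈ W) (s : Γ(L, V)) :
    T.eps W hW (L.presheaf.map (homOfLE h).op s) = T.eps V (h hW) s := by
  rw [eps_apply, eps_apply, TopCat.Presheaf.germ_res_apply]

theorem eps_smul (V : X.Opens) (hV : genericPoint X ∈ V) (r : Γ(X, V)) (s : Γ(L, V)) :
    T.eps V hV (r • s) = X.presheaf.germ V (genericPoint X) hV r * T.eps V hV s := by
  rw [eps_apply, eps_apply, Mero.germ_smul, stalkEquiv_symm_smul]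

theorem eps_self : T.eps T.U T.mem T.σ = 1 := by
  rw [eps_apply]
  apply T.stalkEquiv.injective
  rw [AddEquiv.apply_symm_apply, stalkEquiv_apply, one_smul]

/-- the generator of a free generator is nonzero -/
theorem eps_ne_zero_of_isFreeGen {U : X.Opens} (hU : genericPoint X ∈ U) {σ : Γ(L, U)}
    (hσ : IsFreeGen L U σ) : T.eps U hU σ ≠ 0 := by
  intro h0
  rw [eps_apply] at h0
  have h1 : L.presheaf.germ U (genericPoint X) hU σ = 0 := by
    apply T.stalkEquiv.symm.injective
    rw [h0, map_zero]
  have h2 : (1 : X.functionField) • L.presheaf.germ U (genericPoint X) hU σ = 0 := by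
    rw [h1, smul_zero]
  exact one_ne_zero (hσ.germ_eq_zero_of_smul_eq_zero hU _ h2)

/-- on an open with a free generator `σ`, the image of `eps` is `eps σ • (image of O(V))` -/
theorem mem_range_eps_iff {U : X.Opens} {σ : Γ(L, U)} (hσ : IsFreeGen L U σ) (V : X.Opens)
    (hVU : V ≤ U) (hV : genericPoint X ∈ V) (z : X.functionField) :
    z ∈ (T.eps V hV).range ↔
      ∃ a : Γ(X, V), z = X.presheaf.germ V (genericPoint X) hV a * T.eps U (hVU hV) σ := by
  constructor
  · rintro ⟨s, rfl⟩
    obtain ⟨r, hr⟩ := hσ.exists_smul_eq hVU s
    refine ⟨r, ?_⟩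
    rw [← hr, eps_smul, eps_res]
  · rintro ⟨a, rfl⟩
    refine ⟨a • L.presheaf.map (homOfLE hVU).op σ, ?_⟩
    rw [eps_smul, eps_res]

end GenTriv

end Groth.Agent.H76.Curve
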