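import Mathlib
import Groth.Agent.H62.GD3
import Groth.Agent.H76.CurveA
import Groth.Agent.H76.CurveB

/-!
helper76, line-bundle bridge for curves, part C: the divisor of an invertible module on a
`GCurve` (relative to a generic trivialization and a finite trivializing affine cover), and the
identification of the sections over small affine opens with the function-field "sheaf `O(D)`".
-/

set_option autoImplicit false
set_option linter.style.haveILetI false
open CategoryTheory CategoryTheory.Limits AlgebraicGeometry TopologicalSpace Topology FunFld Opposite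
universe u

namespace Groth.Agent.H76.Curve

attribute [local instance] Curv2.stalkAlgebra Curv2.resAlgebra

open Groth.Agent.H8 Groth.Agent.H62 Groth.Agent.H62.GD WithZero

variable {k : Type u} [Field k] {C : Scheme.{u}} [C.Over (Spec (CommRingCat.of k))]
  [IsIntegral C]

/-- a finite cover by affine opens, each with a free generator of `L` -/
structure TrivCover (L : C.Modules) where
  ι : Type u
  fin : Finite ι
  U : ι → C.Opens
  haff : ∀ i, IsAffineOpen (U i)
  hξ : ∀ i, genericPoint C ∈ U i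
  σ : ∀ i, Γ(L, U i)
  free : ∀ i, IsFreeGen L (U i) (σ i)
  cov : ∀ x : C, ∃ i, x ∈ U i

instance {L : C.Modules} (Cv : TrivCover L) : Finite Cv.ι := Cv.fin

theorem exists_trivCover [CompactSpace C] {L : C.Modules} (hL : PicF.IsInvertible L) :
    Nonempty (TrivCover L) := by
  classical
  have h1 : ∀ x : C, ∃ (V : C.Opens) (σ : Γ(L, V)), IsAffineOpen V ∧ x ∈ V ∧ IsFreeGen L V σ := by
    intro x
    obtain ⟨U, hxU, σ, hσ⟩ := exists_isFreeGen_of_isInvertible hL x
    obtain ⟨V, hV, hxV, hVU⟩ := exists_isAffineOpen_mem_and_subset hxU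
    exact ⟨V, L.presheaf.map (homOfLE hVU).op σ, hV, hxV, hσ.res hVU⟩
  choose V σ hV hxV hσ using h1
  obtain ⟨t, ht⟩ := isCompact_univ.elim_finite_subcover (fun x : C => ((V x : C.Opens) : Set C))
    (fun x => (V x).isOpen) (fun x _ => Set.mem_iUnion.2 ⟨x, hxV x⟩)
  refine ⟨⟨{x : C // x ∈ t}, inferInstance, fun i => V i.1, fun i => hV i.1, fun i => ?_,
    fun i => σ i.1, fun i => hσ i.1, fun x => ?_⟩⟩
  · exact ((genericPoint_spec C).mem_open_set_iff (V i.1).isOpen).mpr ⟨i.1, trivial, hxV i.1⟩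
  · have := ht (Set.mem_univ x)
    simp only [Set.mem_iUnion] at this
    obtain ⟨y, hy, hxy⟩ := this
    exact ⟨⟨y, hy⟩, hxy⟩

section twoGens

omit [C.Over (Spec (CommRingCat.of k))] in
/-- two free generators near a point differ by a unit of the local ring -/
theorem exists_unit_of_isFreeGen {L : C.Modules} (T : GenTriv L) {U U' : C.Opens} {σ : Γ(L, U)}
    {σ' : Γ(L, U')} (hσ : IsFreeGen L U σ) (hσ' : IsFreeGen L U' σ') (x : C) (hx : x ∈ U)
    (hx' : x ∈ U') (hξ : genericPoint C ∈ U) (hξ' : genericPoint C ∈ U') :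
    ∃ u : (C.presheaf.stalk x)ˣ, T.eps U hξ σ =
      algebraMap (C.presheaf.stalk x) C.functionField u * T.eps U' hξ' σ' := by
  let W : C.Opens := U ⊓ U'
  have hxW : x ∈ W := ⟨hx, hx'⟩
  have hξW : genericPoint C ∈ W := ⟨hξ, hξ'⟩
  have hWU : W ≤ U := inf_le_left
  have hWU' : W ≤ U' := inf_le_right
  obtain ⟨r, hr⟩ := hσ'.exists_smul_eq hWU' (L.presheaf.map (homOfLE hWU).op σ)
  obtain ⟨r', hr'⟩ := hσ.exists_smul_eq hWU (L.presheaf.map (homOfLE hWU').op σ')
  have h1 : (r * r') • L.presheaf.map (homOfLE hWU).op σ =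
      (1 : Γ(C, W)) • L.presheaf.map (homOfLE hWU).op σ := by
    rw [mul_smul, hr', hr, one_smul]
  have h2 : r * r' = 1 := (hσ W hWU).1 h1
  haveI : Nonempty W := ⟨⟨x, hxW⟩⟩
  refine ⟨⟨C.presheaf.germ W x hxW r, C.presheaf.germ W x hxW r', ?_, ?_⟩, ?_⟩
  · rw [← map_mul, h2, map_one]
  · rw [← map_mul, mul_comm, h2, map_one]
  · change _ = algebraMap (C.presheaf.stalk x) C.functionField (C.presheaf.germ W x hxW r) * _
    rw [C.algebraMap_germ_eq_germToFunctionField hxW r, ← T.eps_res U W hWU hξW σ, ← hr,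
      T.eps_smul, T.eps_res]

end twoGens

variable (hC : GCurve k C)

/-- the value of a unit of the local ring at the corresponding place is `1` -/
theorem val_unit_eq_one (x : {x : C // IsClosed ({x} : Set C)}) (u : (C.presheaf.stalk x.1)ˣ) :
    (placeOf hC x).1 (algebraMap (C.presheaf.stalk x.1) C.functionField u) = 1 := by
  have h1 : (placeOf hC x).1 (algebraMap (C.presheaf.stalk x.1) C.functionField u) ≤ 1 :=
    (placeOf_le_one_iff hC x _).mpr ⟨_, rfl⟩
  have h2 : (placeOf hC x).1 (algebraMap (C.presheaf.stalk x.1) C.functionField (u⁻¹ : _ˣ)) ≤ 1 :=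
    (placeOf_le_one_iff hC x _).mpr ⟨_, rfl⟩
  have h3 : (placeOf hC x).1 (algebraMap (C.presheaf.stalk x.1) C.functionField u) *
      (placeOf hC x).1 (algebraMap (C.presheaf.stalk x.1) C.functionField (u⁻¹ : _ˣ)) = 1 := by
    rw [← map_mul, ← map_mul, ← Units.val_mul, mul_inv_cancel, Units.val_one, map_one, map_one]
  refine le_antisymm h1 ?_
  by_contra hlt
  push Not at hlt
  have h4 := mul_le_mul' (le_refl ((placeOf hC x).1
    (algebraMap (C.presheaf.stalk x.1) C.functionField u))) h2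
  rw [h3, mul_one] at h4
  exact absurd hlt (not_lt.mpr h4)

namespace TrivCover

variable {L : C.Modules} (Cv : TrivCover L) (T : GenTriv L)

/-- the local equations of `L` in the function field -/
noncomputable def f (i : Cv.ι) : C.functionField := T.eps (Cv.U i) (Cv.hξ i) (Cv.σ i)

omit [C.Over (Spec (CommRingCat.of k))] in
theorem f_ne_zero (i : Cv.ι) : Cv.f T i ≠ 0 :=
  T.eps_ne_zero_of_isFreeGen (Cv.hξ i) (Cv.free i)

/-- the cover of the places -/
def S (i : Cv.ι) : Set (Place k C.functionField) := placesIn hC (Cv.U i)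

theorem covS (Q : Place k C.functionField) : ∃ i, Q ∈ Cv.S hC i := by
  obtain ⟨x, rfl⟩ := placeOf_surjective hC Q
  obtain ⟨i, hi⟩ := Cv.cov x.1
  exact ⟨i, x, hi, rfl⟩

theorem val_f_eq (i j : Cv.ι) (Q : Place k C.functionField) (hi : Q ∈ Cv.S hC i)
    (hj : Q ∈ Cv.S hC j) : Q.1 (Cv.f T i) = Q.1 (Cv.f T j) := by
  obtain ⟨x, hx, rfl⟩ := hi
  obtain ⟨y, hy, hxy⟩ := hj
  have := placeOf_injective hC hxy
  subst this
  obtain ⟨u, hu⟩ := exists_unit_of_isFreeGen T (Cv.free i) (Cv.free j) y.1 hx hy (Cv.hξ i)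
    (Cv.hξ j)
  change (placeOf hC y).1 (T.eps _ _ _) = (placeOf hC y).1 (T.eps _ _ _)
  rw [hu, map_mul, val_unit_eq_one hC y u, one_mul]

/-- the divisor of `L`, as a function on places -/
noncomputable def Dfun (Q : Place k C.functionField) : ℤ :=
  log (Q.1 (Cv.f T (CF.idx (Cv.S hC) (Cv.covS hC) Q)))

theorem exp_Dfun (i : Cv.ι) (Q : Place k C.functionField) (hi : Q ∈ Cv.S hC i) :
    exp (Cv.Dfun hC T Q) = Q.1 (Cv.f T i) := by
  unfold Dfun
  rw [exp_log ((map_ne_zero _).mpr (Cv.f_ne_zero T _))]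
  exact Cv.val_f_eq hC T _ _ Q (CF.idx_mem (Cv.S hC) (Cv.covS hC) Q) hi

theorem finite_support_Dfun : (Function.support (Cv.Dfun hC T)).Finite := by
  haveI := Cv.fin
  have hK := hC.isFunctionField
  have hfin : (⋃ i : Cv.ι, ({Q : Place k C.functionField | Q.1 (Cv.f T i) < 1} ∪
      {Q : Place k C.functionField | 1 < Q.1 (Cv.f T i)})).Finite :=
    Set.finite_iUnion fun i => (Groth.Agent.H55.Place.finite_zeros hK (Cv.f_ne_zero T i)).union
      (Groth.Agent.H55.Place.finite_poles hK (Cv.f_ne_zero T i))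
  refine hfin.subset fun Q hQ => ?_
  rw [Function.mem_support] at hQ
  obtain ⟨i, hi⟩ := Cv.covS hC Q
  have h1 := Cv.exp_Dfun hC T i Q hi
  refine Set.mem_iUnion.2 ⟨i, ?_⟩
  rcases lt_trichotomy (Q.1 (Cv.f T i)) 1 with h | h | h
  · exact Or.inl h
  · exfalso
    apply hQ
    rw [h, ← exp_zero] at h1
    exact exp_injective h1
  · exact Or.inr h

/-- **the divisor of `L`** (relative to the generic trivialization `T`) -/
noncomputable def D : Divisor k C.functionField :=
  Finsupp.ofSupportFinite (Cv.Dfun hC T) (Cv.finite_support_Dfun hC T)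

theorem D_apply (Q : Place k C.functionField) : Cv.D hC T Q = Cv.Dfun hC T Q := rfl

theorem exp_D (i : Cv.ι) (Q : Place k C.functionField) (hi : Q ∈ Cv.S hC i) :
    exp (Cv.D hC T Q) = Q.1 (Cv.f T i) := Cv.exp_Dfun hC T i Q hi

/-- **sections of `L` over small affine opens are the sections of `O(D)`** -/
theorem mem_range_eps_iff_mem_holoD (i : Cv.ι) (V : C.Opens) (hVU : V ≤ Cv.U i)
    (hV : IsAffineOpen V) (hξV : genericPoint C ∈ V) (z : C.functionField) :
    z ∈ (T.eps V hξV).range ↔ z ∈ holoD (Cv.D hC T) (placesIn hC V) := by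
  rw [T.mem_range_eps_iff (Cv.free i) V hVU hξV z, mem_holoD]
  have hf0 := Cv.f_ne_zero T i
  have key : (∃ a : Γ(C, V), z = C.presheaf.germ V (genericPoint C) hξV a * Cv.f T i) ↔
      z / Cv.f T i ∈ CF.holo (placesIn hC V) := by
    rw [mem_holo_placesIn_iff hC hV hξV]
    constructor
    · rintro ⟨a, rfl⟩
      exact ⟨a, by rw [mul_div_assoc, div_self hf0, mul_one]⟩
    · rintro ⟨a, ha⟩
      refine ⟨a, ?_⟩
      rw [eq_div_iff hf0] at ha
      rw [← ha]
  change (∃ a : Γ(C, V), z = C.presheaf.germ V (genericPoint C) hξV a * Cv.f T i) ↔ _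
  rw [key, CF.mem_holo]
  refine forall₂_congr fun Q hQ => ?_
  have hQi : Q ∈ Cv.S hC i := by
    obtain ⟨x, hx, rfl⟩ := hQ
    exact ⟨x, hVU hx, rfl⟩
  rw [Cv.exp_D hC T i Q hQi, map_div₀, div_le_iff₀ (zero_lt_iff.mpr ((map_ne_zero _).mpr hf0)),
    one_mul]

end TrivCover

end Groth.Agent.H76.Curve
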