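import Mathlib
import Groth.Agent.H62.GD4
import Groth.Agent.H54.GenSection
import Groth.Agent.H76.CurveC

/-!
helper76, line-bundle bridge for curves, part D: `H¹(C, L)` of an invertible module on a `GCurve`
is `k`-linearly isomorphic to the adele quotient `A_K / (A_K(D) + K)`, where `D` is the divisor
of `L`.
-/

set_option autoImplicit false
set_option linter.style.haveILetI false
open CategoryTheory CategoryTheory.Limits AlgebraicGeometry TopologicalSpace Topology FunFld Opposite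
universe u

namespace Groth.Agent.H76.Curve

attribute [local instance] Curv2.stalkAlgebra Curv2.resAlgebra

open Groth.Agent.H8 Groth.Agent.H62 Groth.Agent.H62.GD WithZero
open Groth.Agent.Lead.Cech

variable {k : Type u} [Field k] {C : Scheme.{u}} [C.Over (Spec (CommRingCat.of k))]
  [IsIntegral C]

variable (hC : GCurve k C) {L : C.Modules} (hL : PicF.IsInvertible L) (Cv : TrivCover L)
  (T : GenTriv L)

namespace TrivCover

include hC in
theorem hinter (t : Finset Cv.ι) (ht : t.Nonempty) : IsAffineOpen (⨅ i ∈ t, Cv.U i) := by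
  haveI := hC.isSeparated
  exact IsAffineOpen.biInf (↑t : Set Cv.ι) t.finite_toSet ht (fun i _ => Cv.haff i)

omit [C.Over (Spec (CommRingCat.of k))] in
theorem hsup : ⨆ i, Cv.U i = ⊤ := by
  refine eq_top_iff.mpr fun x _ => ?_
  obtain ⟨i, hi⟩ := Cv.cov x
  exact Opens.mem_iSup.mpr ⟨i, hi⟩

theorem neS (i : Cv.ι) : ∃ Q : Place k C.functionField, Q ∉ Cv.S hC i := by
  have hne := hC.ne_top_of_isAffineOpen (Cv.haff i)
  obtain ⟨x, hx⟩ : ∃ x : C, x ∉ Cv.U i := by
    by_contra hcon
    push Not at hcon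
    exact hne (eq_top_iff.mpr fun x _ => hcon x)
  have hcl : IsClosed ({x} : Set C) := by
    rcases hC.isClosed_or_eq_genericPoint x with h | h
    · exact h
    · exact absurd (h ▸ Cv.hξ i) hx
  refine ⟨placeOf hC ⟨x, hcl⟩, ?_⟩
  rintro ⟨y, hy, hxy⟩
  have := placeOf_injective hC hxy
  subst this
  exact hx hy

include hL in
/-- **`H¹(C, L)` is the adele quotient `A / (A(D) + K)`, `k`-linearly** -/
theorem nonempty_linearEquiv_HH_one :
    Nonempty ((adele k C.functionField ⧸ ADK (Cv.D hC T)) ≃ₗ[k] Coh.HH C L 1) := by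
  classical
  haveI := hC.compactSpace
  haveI := hC.isSeparated
  let ι : Type u := Cv.ι
  let U : ι → C.Opens := Cv.U
  have hξ : ∀ i, genericPoint C ∈ U i := Cv.hξ
  have haff : ∀ i, IsAffineOpen (U i) := Cv.haff
  haveI : Finite ι := Cv.fin
  haveI : Nonempty ι := (Cv.cov (genericPoint C)).nonempty
  have hsup : ⨆ i, U i = ⊤ := Cv.hsup
  haveI : Coh.IsQCoh L := Groth.Agent.H54.GenSection.isQuasicoherent_of_isInvertible hL
  have hM : Acyc (X := C.toTopCat) U (Coh.toAb L) :=
    NL.acyc_of_isAffineOpen C U (Cv.hinter hC) L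
  let P := L.presheaf
  let ε : ∀ V : C.Opens, genericPoint C ∈ V → ((P.obj (op V) : Type u) →+ C.functionField) :=
    fun V hV => T.eps V hV
  have hinj : ∀ V h, Function.Injective (ε V h) := fun V h => T.eps_injective hL V h
  have hcomp : ∀ (V W : C.Opens) (h : W ≤ V) (hW : genericPoint C ∈ W) (t : P.obj (op V)),
      ε W hW (P.map (homOfLE h).op t) = ε V (h hW) t := fun V W h hW t =>
    T.eps_res V W h hW t
  let S : ι → Set (Place k C.functionField) := Cv.S hC
  let D := Cv.D hC T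
  have hrange : ∀ (i : ι) (V : C.Opens) (hVU : V ≤ U i) (hV : IsAffineOpen V)
      (h : genericPoint C ∈ V) (z : C.functionField),
      z ∈ (ε V h).range ↔ z ∈ holoD D (placesIn hC V) := fun i V hVU hV h z =>
    Cv.mem_range_eps_iff_mem_holoD hC T i V hVU hV h z
  have hZ : CF.Z1' U P (genericPoint C) hξ ε = Z1D D S := by
    ext c
    constructor
    · rintro ⟨h1, h2⟩
      refine ⟨fun i j => ?_, h2⟩
      change c i j ∈ holoD D (placesIn hC (U i) ∩ placesIn hC (U j))
      rw [← placesIn_inf]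
      exact (hrange i _ inf_le_left ((haff i).inf (haff j)) ⟨hξ i, hξ j⟩ _).mp (h1 i j)
    · rintro ⟨h1, h2⟩
      refine ⟨fun i j => ?_, h2⟩
      have := h1 i j
      change c i j ∈ holoD D (placesIn hC (U i) ∩ placesIn hC (U j)) at this
      rw [← placesIn_inf] at this
      exact (hrange i _ inf_le_left ((haff i).inf (haff j)) ⟨hξ i, hξ j⟩ _).mpr this
  have hB : CF.B1' U P (genericPoint C) hξ ε = B1D D S := by
    ext c
    constructor
    · rintro ⟨g, hg, hc⟩
      exact ⟨g, fun i => (hrange i _ le_rfl (haff i) (hξ i) _).mp (hg i), hc⟩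
    · rintro ⟨g, hg, hc⟩
      exact ⟨g, fun i => (hrange i _ le_rfl (haff i) (hξ i) _).mpr (hg i), hc⟩
  have hcovS : ∀ Q : Place k C.functionField, ∃ i, Q ∈ S i := Cv.covS hC
  have hneS : ∀ i, ∃ Q : Place k C.functionField, Q ∉ S i := Cv.neS hC
  have hK := hC.isFunctionField
  obtain ⟨i₀⟩ := ‹Nonempty ι›
  have hmem : ∀ z : NL.cocyc (K (X := C) U P) 1,
      CF.Psi U P (genericPoint C) hξ ε z.1 ∈ Z1D D S := by
    intro z
    rw [← hZ]
    exact (CF.d_eq_zero_iff_Psi_mem U P (genericPoint C) hξ ε hinj hcomp z.1).mp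
      ((NL.mem_cocyc _ z.1).mp z.2)
  let π : NL.cocyc (K (X := C) U P) 1 →+ (adele k C.functionField ⧸ ADK D) :=
    { toFun := fun z => thetaD D S hK hcovS i₀ ⟨CF.Psi U P (genericPoint C) hξ ε z.1, hmem z⟩
      map_zero' := by
        have : (⟨CF.Psi U P (genericPoint C) hξ ε (0 : NL.cocyc (K (X := C) U P) 1).1, hmem 0⟩ :
            Z1D D S) = 0 := Subtype.ext (map_zero _)
        rw [this, map_zero]
      map_add' := fun a b => by
        have : (⟨CF.Psi U P (genericPoint C) hξ ε (a + b).1, hmem (a + b)⟩ : Z1D D S) =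
            ⟨CF.Psi U P (genericPoint C) hξ ε a.1, hmem a⟩ +
              ⟨CF.Psi U P (genericPoint C) hξ ε b.1, hmem b⟩ := Subtype.ext (map_add _ a.1 b.1)
        rw [this, map_add] }
  have hπ : Function.Surjective π := by
    intro v
    obtain ⟨c, rfl⟩ := thetaD_surjective D S hK hcovS hneS i₀ v
    have hc : c.1 ∈ CF.Z1' U P (genericPoint C) hξ ε := by rw [hZ]; exact c.2
    obtain ⟨x, hx⟩ := CF.exists_Psi_eq U P (genericPoint C) hξ ε c.1 hc
    have hx0 : x ∈ NL.cocyc (K (X := C) U P) 1 := by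
      rw [NL.mem_cocyc, CF.d_eq_zero_iff_Psi_mem U P (genericPoint C) hξ ε hinj hcomp, hx]
      exact hc
    refine ⟨⟨x, hx0⟩, ?_⟩
    change thetaD D S hK hcovS i₀ ⟨CF.Psi U P (genericPoint C) hξ ε x, _⟩ = _
    congr 1
    exact Subtype.ext hx
  have hker : ∀ z : NL.cocyc (K (X := C) U P) 1, π z = 0 ↔
      ∃ b : (K (X := C) U P).X 0, (K (X := C) U P).d 0 (0 + 1) b = z.1 := by
    intro z
    change thetaD D S hK hcovS i₀ ⟨CF.Psi U P (genericPoint C) hξ ε z.1, hmem z⟩ = 0 ↔ _
    rw [thetaD_eq_zero_iff, ← hB, CF.mem_B1'_iff U P (genericPoint C) hξ ε hcomp]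
    constructor
    · rintro ⟨y, hy⟩
      exact ⟨y, CF.Psi_injective U P (genericPoint C) hξ ε hinj hy⟩
    · rintro ⟨y, hy⟩
      exact ⟨y, congrArg _ hy⟩
  refine NL.nonempty_linearEquiv_HH U hsup L hM k 0 π hπ hker ?_
  intro a z
  change thetaD D S hK hcovS i₀ ⟨CF.Psi U P (genericPoint C) hξ ε
      (NL.cechSmul U L (Coh.toGlobal (C ↘ Spec (CommRingCat.of k)) a)
        (0 + 1) z.1), _⟩ =
    a • thetaD D S hK hcovS i₀ ⟨CF.Psi U P (genericPoint C) hξ ε z.1, hmem z⟩
  rw [thetaD_apply, thetaD_apply, ← map_smul]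
  congr 1
  apply Subtype.ext
  funext Q
  rw [CF.toAdele_apply]
  change CF.Psi U P (genericPoint C) hξ ε (NL.cechSmul U L
      (Coh.toGlobal (C ↘ Spec (CommRingCat.of k)) a) (0 + 1) z.1) i₀ (CF.idx S hcovS Q) =
    a • CF.Psi U P (genericPoint C) hξ ε z.1 i₀ (CF.idx S hcovS Q)
  rw [CF.Psi_apply, CF.Psi_apply, CF.Phi_apply, CF.Phi_apply,
    NL.proj_cechSmul, Coh.smulAb_app, Algebra.smul_def]
  have hW : genericPoint C ∈ cechOpen (X := C) U ![i₀, CF.idx S hcovS Q] :=
    CF.mem_cechOpen U (genericPoint C) _ hξ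
  set W := cechOpen (X := C) U ![i₀, CF.idx S hcovS Q] with hWdef
  set m : Γ(L, W) := (ConcreteCategory.hom (proj (X := C) U L.presheaf 1
    ![i₀, CF.idx S hcovS Q])) z.1 with hm
  change T.eps W hW
      ((show Γ(C, W) from Coh.resTop C (op W) (Coh.toGlobal (C ↘ Spec (CommRingCat.of k)) a)) • m) =
    algebraMap k C.functionField a * T.eps W hW m
  rw [T.eps_smul]
  congr 1
  exact TopCat.Presheaf.germ_res_apply C.presheaf (homOfLE (le_top : W ≤ ⊤)) (genericPoint C) hW _

end TrivCover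

end Groth.Agent.H76.Curve
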