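import Mathlib
import Groth.Agent.H18.HH0Sections
import Groth.Agent.H76.CurveD

/-!
helper76, line-bundle bridge for curves, part E: `H⁰(C, L)` of an invertible module on a `GCurve`
is `k`-linearly isomorphic to the Riemann–Roch space `L(D)` of the divisor `D` of `L`.
-/

set_option autoImplicit false
set_option linter.style.haveILetI false
open CategoryTheory CategoryTheory.Limits AlgebraicGeometry TopologicalSpace Topology FunFld Opposite
universe u

namespace Groth.Agent.H76.Curve

attribute [local instance] Curv2.stalkAlgebra Curv2.resAlgebra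

open Groth.Agent.H8 Groth.Agent.H62 Groth.Agent.H62.GD WithZero

variable {k : Type u} [Field k] {C : Scheme.{u}} [C.Over (Spec (CommRingCat.of k))]
  [IsIntegral C]

variable (hC : GCurve k C) {L : C.Modules} (hL : PicF.IsInvertible L) (Cv : TrivCover L)
  (T : GenTriv L)

omit [C.Over (Spec (CommRingCat.of k))] in
include hL in
/-- a function is the image of a global section iff it is the image of a section over each member
of an open cover -/
theorem mem_range_eps_top_iff {ι : Type u} (U : ι → C.Opens) (hξ : ∀ i, genericPoint C ∈ U i)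
    (hcov : ∀ x : C, ∃ i, x ∈ U i) (z : C.functionField) :
    z ∈ (T.eps ⊤ (Opens.mem_top _)).range ↔ ∀ i, z ∈ (T.eps (U i) (hξ i)).range := by
  constructor
  · rintro ⟨s, rfl⟩ i
    exact ⟨L.presheaf.map (homOfLE le_top).op s, T.eps_res ⊤ (U i) le_top (hξ i) s⟩
  · intro h
    choose sf hsf using h
    let F : TopCat.Sheaf Ab C.toTopCat := ⟨L.presheaf, L.isSheaf⟩
    have hcompat : TopCat.Presheaf.IsCompatible F.1 U sf := by
      intro i j
      apply T.eps_injective hL (U i ⊓ U j) ⟨hξ i, hξ j⟩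
      have h1 := T.eps_res (U i) (U i ⊓ U j) inf_le_left ⟨hξ i, hξ j⟩ (sf i)
      have h2 := T.eps_res (U j) (U i ⊓ U j) inf_le_right ⟨hξ i, hξ j⟩ (sf j)
      exact (h1.trans (hsf i)).trans ((h2.trans (hsf j)).symm)
    obtain ⟨s, hs, -⟩ := F.existsUnique_gluing' U ⊤ (fun i => homOfLE le_top)
      (fun x _ => by
        obtain ⟨i, hi⟩ := hcov x
        exact Opens.mem_iSup.mpr ⟨i, hi⟩) sf hcompat
    obtain ⟨i₀, -⟩ := hcov (genericPoint C)
    refine ⟨s, ?_⟩
    rw [← T.eps_res ⊤ (U i₀) le_top (hξ i₀) s]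
    exact (congrArg _ (hs i₀)).trans (hsf i₀)

/-- `H⁰(C, L)` is the group of global sections -/
noncomputable def secEquiv (L : C.Modules) : Coh.HH C L 0 ≃+ Γ(L, ⊤) :=
  Groth.Agent.H18.HH0.equiv L

theorem secEquiv_smul (L : C.Modules) (a : k) (x : Coh.HH C L 0) :
    secEquiv L (a • x) =
      (show Γ(C, ⊤) from Coh.toGlobal (C ↘ Spec (CommRingCat.of k)) a) • secEquiv L x := by
  rw [Groth.Agent.H18.HH0.smul_def']
  exact Groth.Agent.H18.HH0.equiv_smul L _ x

/-- the embedding of `H⁰(C, L)` into the function field -/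
noncomputable def h0Map : Coh.HH C L 0 →ₗ[k] C.functionField where
  toFun x := T.eps ⊤ (Opens.mem_top _) (secEquiv L x)
  map_add' x y := by rw [map_add, map_add]
  map_smul' a x := by
    rw [secEquiv_smul, T.eps_smul, RingHom.id_apply, Algebra.smul_def]
    rfl

theorem h0Map_apply (x : Coh.HH C L 0) :
    h0Map (k := k) T x = T.eps ⊤ (Opens.mem_top _) (secEquiv L x) := rfl

include hL in
theorem h0Map_injective : Function.Injective (h0Map (k := k) T) := fun a b hab =>
  (secEquiv L).injective (T.eps_injective hL ⊤ (Opens.mem_top _) hab)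

namespace TrivCover

include hL in
theorem range_h0Map : LinearMap.range (h0Map (k := k) T) = FunFld.L (Cv.D hC T) := by
  ext z
  rw [LinearMap.mem_range, mem_L_iff_forall_mem_holoD (Cv.D hC T) (Cv.S hC) (Cv.covS hC) z]
  have h1 : (∃ y, h0Map (k := k) T y = z) ↔ z ∈ (T.eps ⊤ (Opens.mem_top _)).range := by
    constructor
    · rintro ⟨y, rfl⟩
      exact ⟨_, rfl⟩
    · rintro ⟨s, rfl⟩
      exact ⟨(secEquiv L).symm s, by
        rw [h0Map_apply (k := k), AddEquiv.apply_symm_apply]⟩
  rw [h1, mem_range_eps_top_iff hL T Cv.U Cv.hξ Cv.cov z]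
  exact forall_congr' fun i =>
    Cv.mem_range_eps_iff_mem_holoD hC T i (Cv.U i) le_rfl (Cv.haff i) (Cv.hξ i) z

include hL in
/-- **`H⁰(C, L)` is the Riemann–Roch space `L(D)`, `k`-linearly** -/
theorem nonempty_linearEquiv_HH_zero :
    Nonempty (Coh.HH C L 0 ≃ₗ[k] FunFld.L (Cv.D hC T)) := by
  have e1 := LinearEquiv.ofInjective (h0Map (k := k) T) (h0Map_injective hL T)
  rw [Cv.range_h0Map hC hL T] at e1
  exact ⟨e1⟩

end TrivCover

end Groth.Agent.H76.Curve
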