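import Mathlib
import Groth.Agent.H62.GD3

/-!
helper76, line-bundle bridge for curves, part F: every open subset of an affine open of a
`GCurve` is affine; more precisely the inclusion of any open subset of a `GCurve` is an affine
morphism.
-/

set_option autoImplicit false
set_option linter.style.haveILetI false
open CategoryTheory CategoryTheory.Limits AlgebraicGeometry TopologicalSpace Topology FunFld Opposite
universe u

namespace Groth.Agent.H76.Curve

attribute [local instance] Curv2.stalkAlgebra Curv2.resAlgebra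

open Groth.Agent.H62 Groth.Agent.H62.GD

variable {k : Type u} [Field k] {C : Scheme.{u}} [C.Over (Spec (CommRingCat.of k))]
  [IsIntegral C]

variable (hC : GCurve k C)
include hC

/-- the value at the place of `x` of an element of the maximal ideal of the local ring is `< 1` -/
theorem val_lt_one_of_mem_maximalIdeal (x : {x : C // IsClosed ({x} : Set C)})
    (a : C.presheaf.stalk x.1) (ha : a ∈ IsLocalRing.maximalIdeal (C.presheaf.stalk x.1)) :
    (placeOf hC x).1 (algebraMap (C.presheaf.stalk x.1) C.functionField a) < 1 := by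
  have h := (dominates_placeOf hC x).2 a ha
  exact (Valuation.isEquiv_valuation_valuationSubring (placeOf hC x).1).lt_one_iff_lt_one.mpr h

/-- a nonzero function on an open subset has finitely many zeros -/
theorem finite_compl_basicOpen {W : C.Opens} (hξW : genericPoint C ∈ W) (g : Γ(C, W))
    (hg : g ≠ 0) : {y : C | y ∈ W ∧ y ∉ C.basicOpen g}.Finite := by
  haveI : Nonempty W := ⟨⟨_, hξW⟩⟩
  set z : C.functionField := C.presheaf.germ W (genericPoint C) hξW g with hz
  have hz0 : z ≠ 0 := by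
    intro h0
    apply hg
    apply germ_injective_of_isIntegral C (genericPoint C) hξW
    rw [map_zero]
    exact h0
  have hK := hC.isFunctionField
  have hfin := Groth.Agent.H55.Place.finite_zeros hK hz0
  have hfin2 := (hfin.preimage ((placeOf_injective hC).injOn)).image Subtype.val
  refine hfin2.subset ?_
  rintro y ⟨hyW, hyg⟩
  have hcl : IsClosed ({y} : Set C) := by
    rcases hC.isClosed_or_eq_genericPoint y with h | h
    · exact h
    · exfalso
      apply hyg
      rw [h, Scheme.mem_basicOpen _ _ _ hξW]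
      exact (isUnit_iff_ne_zero.mpr hz0)
  refine ⟨⟨y, hcl⟩, ?_, rfl⟩
  change (placeOf hC ⟨y, hcl⟩).1 z < 1
  have hmem : C.presheaf.germ W y hyW g ∈ IsLocalRing.maximalIdeal (C.presheaf.stalk y) := by
    rw [IsLocalRing.mem_maximalIdeal, mem_nonunits_iff]
    intro hu
    apply hyg
    rw [Scheme.mem_basicOpen _ _ _ hyW]
    exact hu
  have h1 := val_lt_one_of_mem_maximalIdeal hC ⟨y, hcl⟩ _ hmem
  rwa [C.algebraMap_germ_eq_germToFunctionField hyW g] at h1

/-- every point has an affine neighbourhood meeting a given open in an affine open -/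
theorem exists_affine_nhd_inf_affine (V : C.Opens) (x : C) :
    ∃ W : C.Opens, x ∈ W ∧ IsAffineOpen W ∧ IsAffineOpen (V ⊓ W) := by
  classical
  by_cases hxV : x ∈ V
  · obtain ⟨W, hW, hxW, hWV⟩ := exists_isAffineOpen_mem_and_subset hxV
    refine ⟨W, hxW, hW, ?_⟩
    have : V ⊓ W = W := inf_eq_right.mpr hWV
    rwa [this]
  by_cases hV : V = ⊥
  · obtain ⟨W, hW, hxW, -⟩ := exists_isAffineOpen_mem_and_subset (show x ∈ (⊤ : C.Opens) from trivial)
    refine ⟨W, hxW, hW, ?_⟩
    rw [hV, bot_inf_eq]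
    exact isAffineOpen_bot C
  -- `V` is nonempty, hence contains the generic point
  obtain ⟨v, hv⟩ : ∃ v, v ∈ V := by
    by_contra hcon
    push Not at hcon
    exact hV (le_bot_iff.mp fun y hy => absurd hy (hcon y))
  have hξV : genericPoint C ∈ V :=
    ((genericPoint_spec C).mem_open_set_iff V.isOpen).mpr ⟨v, trivial, hv⟩
  obtain ⟨W₀, hW₀, hxW₀, -⟩ :=
    exists_isAffineOpen_mem_and_subset (show x ∈ (⊤ : C.Opens) from trivial)
  have hξW₀ : genericPoint C ∈ W₀ :=
    ((genericPoint_spec C).mem_open_set_iff W₀.isOpen).mpr ⟨x, trivial, hxW₀⟩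
  -- a function on `W₀` whose nonvanishing locus lies in `V`
  obtain ⟨g, hgV, hξg⟩ := hW₀.exists_basicOpen_le (V := V ⊓ W₀)
    ⟨genericPoint C, ⟨hξV, hξW₀⟩⟩ hξW₀
  have hg0 : g ≠ 0 := by
    rintro rfl
    rw [Scheme.basicOpen_zero] at hξg
    exact hξg
  -- the other zeros of `g`
  let F : Set C := {y : C | (y ∈ W₀ ∧ y ∉ C.basicOpen g) ∧ y ≠ x}
  have hFfin : F.Finite := (finite_compl_basicOpen hC hξW₀ g hg0).subset fun y hy => hy.1
  have hFcl : IsClosed F := by
    have : F = ⋃ y ∈ F, ({y} : Set C) := by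
      ext y
      simp
    rw [this]
    refine hFfin.isClosed_biUnion fun y hy => ?_
    rcases hC.isClosed_or_eq_genericPoint y with h | h
    · exact h
    · exfalso
      apply hy.1.2
      rw [h]
      exact hξg
  let W₁' : C.Opens := W₀ ⊓ ⟨Fᶜ, hFcl.isOpen_compl⟩
  have hxW₁' : x ∈ W₁' := ⟨hxW₀, fun hxF => hxF.2 rfl⟩
  obtain ⟨h, hhW, hxh⟩ := hW₀.exists_basicOpen_le (V := W₁') ⟨x, hxW₁'⟩ hxW₀
  refine ⟨C.basicOpen h, hxh, hW₀.basicOpen h, ?_⟩
  have heq : V ⊓ C.basicOpen h = C.basicOpen (h * g) := by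
    rw [Scheme.basicOpen_mul]
    apply le_antisymm
    · rintro y ⟨hyV, hyh⟩
      refine ⟨hyh, ?_⟩
      by_contra hyg
      have hyW₁' := hhW hyh
      have hyx : y ≠ x := fun e => hxV (e ▸ hyV)
      exact hyW₁'.2 ⟨⟨hyW₁'.1, hyg⟩, hyx⟩
    · rintro y ⟨hyh, hyg⟩
      exact ⟨(hgV hyg).1, hyh⟩
  rw [heq]
  exact hW₀.basicOpen (h * g)

/-- the inclusion of an open subset of a `GCurve` is an affine morphism -/
theorem isAffineHom_ι (V : C.Opens) : IsAffineHom V.ι := by
  refine isAffineHom_of_forall_exists_isAffineOpen V.ι fun x => ?_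
  obtain ⟨W, hxW, hW, hVW⟩ := exists_affine_nhd_inf_affine hC V x
  refine ⟨W, hxW, hW, ?_⟩
  rwa [← V.ι.isAffineOpen_iff_of_isOpenImmersion, V.ι.image_preimage_eq_opensRange_inf,
    Scheme.Opens.opensRange_ι]

/-- **every open subset of an affine open of a `GCurve` is affine** -/
theorem isAffineOpen_of_le {U V : C.Opens} (hU : IsAffineOpen U) (hVU : V ≤ U) :
    IsAffineOpen V := by
  haveI := isAffineHom_ι hC V
  have h1 : IsAffineOpen (V.ι ⁻¹ᵁ U) := hU.preimage V.ι
  have h2 : V.ι ⁻¹ᵁ U = ⊤ := by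
    apply top_le_iff.mp
    intro y _
    exact hVU y.2
  rw [h2] at h1
  rw [← V.ι_image_top, V.ι.isAffineOpen_iff_of_isOpenImmersion]
  exact h1

end Groth.Agent.H76.Curve
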