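import Mathlib
import Groth.Agent.Lead.Coh.AffineOpen
import Groth.Agent.Lead.Coh.AcyclicEmbed
import Groth.Agent.H76.CurveF

/-!
helper76, line-bundle bridge for curves, part G: on a `GCurve` the cohomology of a
quasi-coherent module vanishes in degrees `≥ 2`; the Euler characteristic is `h⁰ - h¹`.
-/

set_option autoImplicit false
set_option linter.style.haveILetI false
open CategoryTheory CategoryTheory.Limits AlgebraicGeometry TopologicalSpace Topology FunFld Opposite
universe u

namespace Groth.Agent.H76.Curve

attribute [local instance] Curv2.stalkAlgebra Curv2.resAlgebra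

open Groth.Agent.H62 Groth.Agent.H62.GD Groth.Agent.Lead.Coh

variable {k : Type u} [Field k] {C : Scheme.{u}} [C.Over (Spec (CommRingCat.of k))]
  [IsIntegral C]

variable (hC : GCurve k C)
include hC

/-- Mayer–Vietoris induction: vanishing in degrees `≥ 2` on finite unions of affine opens -/
theorem hVanish_finset_sup_add_two (M : C.Modules) [M.IsQuasicoherent] {ι : Type*} (s : Finset ι) :
    ∀ (U : ι → C.Opens), (∀ i ∈ s, IsAffineOpen (U i)) → ∀ n : ℕ,
      HVanish (T := C) (Coh.toAb M) (n + 2) (s.sup U) := by
  classical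
  induction s using Finset.induction_on with
  | empty =>
    intro U _ n
    rw [Finset.sup_empty]
    exact HVanish.bot _ _
  | insert a s ha ih =>
    intro U hU n
    rw [Finset.sup_insert]
    have hUa : IsAffineOpen (U a) := hU a (Finset.mem_insert_self _ _)
    apply HVanish.sup (hVanish_of_isAffineOpen C M hUa (n + 1))
    · exact ih U (fun i hi => hU i (Finset.mem_insert_of_mem hi)) n
    · exact hVanish_of_isAffineOpen C M (isAffineOpen_of_le hC hUa inf_le_left) n

/-- **cohomology of quasi-coherent modules on a `GCurve` vanishes in degrees `≥ 2`** -/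
theorem subsingleton_HH_of_two_le (M : C.Modules) [M.IsQuasicoherent] (n : ℕ) (hn : 2 ≤ n) :
    Subsingleton (Coh.HH C M n) := by
  haveI := hC.compactSpace
  obtain ⟨s, hs, hcov⟩ := Groth.Agent.Lead.AcyclicEmbed.exists_finset_affine_cover C
  obtain ⟨m, rfl⟩ : ∃ m, n = m + 2 := ⟨n - 2, by omega⟩
  have h := hVanish_finset_sup_add_two hC M s (fun V => V) (fun V hV => hs V hV) m
  have htop : s.sup (fun V => V) = (⊤ : C.Opens) := by
    refine eq_top_iff.mpr fun x _ => ?_
    obtain ⟨V, hV, hxV⟩ := hcov x
    exact (Finset.le_sup (f := fun V : C.Opens => V) hV) hxV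
  rw [htop] at h
  exact subsingleton_HH_of_hVanish_top C M (m + 2) h

/-- the Euler characteristic on a `GCurve` is `h⁰ - h¹` -/
theorem euler_eq (M : C.Modules) [M.IsQuasicoherent] :
    Curv2.euler k C M = (Module.finrank k (Coh.HH C M 0) : ℤ) - Module.finrank k (Coh.HH C M 1) := by
  unfold Curv2.euler
  have hsupp : (Function.support fun i : ℕ =>
      (-1 : ℤ) ^ i * (Module.finrank k (Coh.HH C M i) : ℤ)) ⊆ (({0, 1} : Finset ℕ) : Set ℕ) := by
    intro i hi
    rw [Function.mem_support] at hi
    by_contra hcon
    have h2 : 2 ≤ i := by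
      simp only [Finset.coe_insert, Finset.coe_singleton, Set.mem_insert_iff,
        Set.mem_singleton_iff, not_or] at hcon
      omega
    haveI := subsingleton_HH_of_two_le hC M i h2
    apply hi
    rw [Module.finrank_zero_of_subsingleton]
    simp
  rw [finsum_eq_sum_of_support_subset _ hsupp]
  simp
  ring

end Groth.Agent.H76.Curve
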