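import Mathlib
import Groth.Agent.H76.CurveE
import Groth.Agent.H76.CurveG

/-!
helper76, line-bundle bridge for curves, part H: **Riemann–Roch dictionary for invertible modules
on a `GCurve`** (`Groth.Agent.H62.GD.GCurve`: an integral scheme `C` over a field `k`, proper of
dimension one with discrete valuation rings at the closed points and `k` algebraically closed in
`K = K(C)`).

`IsDiv hC L D` says that the divisor `D` of the function field `K/k` is a divisor of the invertible
module `L` (relative to some generic trivialization and some finite trivializing affine cover).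
Then
* `exists_isDiv`: every invertible module has a divisor;
* `IsDiv.nonempty_linearEquiv_HH_zero : H⁰(C, L) ≃ₗ[k] L(D)`;
* `IsDiv.nonempty_linearEquiv_HH_one : A_K / (A_K(D) + K) ≃ₗ[k] H¹(C, L)`;
* `IsDiv.finrank_HH_zero`, `IsDiv.finrank_HH_one`, `IsDiv.finite_HH`;
* `IsDiv.euler_eq : χ(L) = deg D + 1 - g`, `IsDiv.deg_eq : deg L = deg D`;
* `isDiv_structureModule : IsDiv hC O_C 0`, `finrank_HH_zero_structureModule : h⁰(O_C) = 1`.
-/

set_option autoImplicit false
set_option linter.style.haveILetI false
open CategoryTheory CategoryTheory.Limits AlgebraicGeometry TopologicalSpace Topology FunFld Opposite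
universe u

namespace Groth.Agent.H76.Curve

attribute [local instance] Curv2.stalkAlgebra Curv2.resAlgebra

open Groth.Agent.H8 Groth.Agent.H62 Groth.Agent.H62.GD WithZero Groth.Agent.H55

variable {k : Type u} [Field k] {C : Scheme.{u}} [C.Over (Spec (CommRingCat.of k))]
  [IsIntegral C]

variable (hC : GCurve k C)

/-- `D` is a divisor of the invertible module `L` -/
def IsDiv (L : C.Modules) (D : Divisor k C.functionField) : Prop :=
  ∃ (T : GenTriv L) (Cv : TrivCover L), Cv.D hC T = D

theorem exists_isDiv {L : C.Modules} (hL : PicF.IsInvertible L) :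
    ∃ D : Divisor k C.functionField, IsDiv hC L D := by
  haveI := hC.compactSpace
  obtain ⟨T⟩ := exists_genTriv hL
  obtain ⟨Cv⟩ := exists_trivCover hL
  exact ⟨_, T, Cv, rfl⟩

namespace IsDiv

variable {hC} {L : C.Modules} {D : Divisor k C.functionField}

theorem nonempty_linearEquiv_HH_zero (hL : PicF.IsInvertible L) (h : IsDiv hC L D) :
    Nonempty (Coh.HH C L 0 ≃ₗ[k] FunFld.L D) := by
  obtain ⟨T, Cv, rfl⟩ := h
  exact Cv.nonempty_linearEquiv_HH_zero hC hL T

theorem nonempty_linearEquiv_HH_one (hL : PicF.IsInvertible L) (h : IsDiv hC L D) :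
    Nonempty ((adele k C.functionField ⧸ ADK D) ≃ₗ[k] Coh.HH C L 1) := by
  obtain ⟨T, Cv, rfl⟩ := h
  exact Cv.nonempty_linearEquiv_HH_one hC hL T

theorem finrank_HH_zero (hL : PicF.IsInvertible L) (h : IsDiv hC L D) :
    Module.finrank k (Coh.HH C L 0) = ell D := by
  obtain ⟨e⟩ := h.nonempty_linearEquiv_HH_zero hL
  exact e.finrank_eq

theorem finrank_HH_one (hL : PicF.IsInvertible L) (h : IsDiv hC L D) :
    (Module.finrank k (Coh.HH C L 1) : ℤ) =
      (FunFld.genus k C.functionField : ℤ) - (D.deg + 1 - ell D) := by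
  obtain ⟨e⟩ := h.nonempty_linearEquiv_HH_one hL
  rw [← e.finrank_eq]
  exact (adele_quot_finrank hC.isFunctionField D).2

theorem finite_HH_zero (hL : PicF.IsInvertible L) (h : IsDiv hC L D) :
    Module.Finite k (Coh.HH C L 0) := by
  obtain ⟨e⟩ := h.nonempty_linearEquiv_HH_zero hL
  haveI := L_finite hC.isFunctionField D
  exact Module.Finite.equiv e.symm

theorem finite_HH_one (hL : PicF.IsInvertible L) (h : IsDiv hC L D) :
    Module.Finite k (Coh.HH C L 1) := by
  obtain ⟨e⟩ := h.nonempty_linearEquiv_HH_one hL
  obtain ⟨hfin, -⟩ := adele_quot_finrank hC.isFunctionField D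
  haveI : Module.Finite k (adele k C.functionField ⧸ ADK D) := hfin
  exact Module.Finite.equiv e

/-- **Riemann–Roch**: `χ(L) = deg D + 1 - g` -/
theorem euler_eq (hL : PicF.IsInvertible L) (h : IsDiv hC L D) :
    Curv2.euler k C L = D.deg + 1 - (Curv2.genus k C : ℤ) := by
  haveI : L.IsQuasicoherent := Groth.Agent.H54.GenSection.isQuasicoherent_of_isInvertible hL
  rw [Groth.Agent.H76.Curve.euler_eq hC L, h.finrank_HH_zero hL, h.finrank_HH_one hL, hC.genus_eq]
  ring

end IsDiv

section structureModule

omit [C.Over (Spec (CommRingCat.of k))] [IsIntegral C] in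
theorem isInvertible_of_iso {L L' : C.Modules} (e : L ≅ L') (hL : PicF.IsInvertible L) :
    PicF.IsInvertible L' := by
  intro y
  obtain ⟨W, hy, ⟨a⟩⟩ := hL y
  exact ⟨W, hy, ⟨(Scheme.Modules.restrictFunctor W.ι).mapIso e.symm ≪≫ a⟩⟩

omit [C.Over (Spec (CommRingCat.of k))] [IsIntegral C] in
theorem isInvertible_structureModule : PicF.IsInvertible (Coh.structureModule C) := by
  intro y
  exact ⟨⊤, trivial, ⟨Scheme.Modules.restrictUnitIso (⊤ : C.Opens).ι⟩⟩

/-- the unit section of the structure module -/
noncomputable def oneSec (U : C.Opens) : Γ(Coh.structureModule C, U) := (1 : Γ(C, U))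

omit [C.Over (Spec (CommRingCat.of k))] [IsIntegral C] in
theorem isFreeGen_oneSec (U : C.Opens) : IsFreeGen (Coh.structureModule C) U (oneSec U) := by
  intro V hV
  have : (fun r : Γ(C, V) =>
      r • (Coh.structureModule C).presheaf.map (homOfLE hV).op (oneSec U)) = id := by
    funext r
    change r * (C.presheaf.map (homOfLE hV).op).hom 1 = r
    rw [map_one, mul_one]
  rw [this]
  exact Function.bijective_id

omit [C.Over (Spec (CommRingCat.of k))] [IsIntegral C] in
theorem map_oneSec {U V : C.Opens} (hV : V ≤ U) :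
    (Coh.structureModule C).presheaf.map (homOfLE hV).op (oneSec U) = oneSec V := by
  change (C.presheaf.map (homOfLE hV).op).hom 1 = 1
  rw [map_one]

/-- the trivial generic trivialization of the structure module -/
noncomputable def genTrivOne : GenTriv (Coh.structureModule C) :=
  ⟨⊤, Opens.mem_top _, oneSec ⊤, isFreeGen_oneSec ⊤⟩

/-- **`0` is a divisor of the structure module** -/
theorem isDiv_structureModule : IsDiv hC (Coh.structureModule C) 0 := by
  classical
  haveI := hC.compactSpace
  obtain ⟨s, hs, hcov⟩ := Groth.Agent.Lead.AcyclicEmbed.exists_finset_affine_cover C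
  let Cv : TrivCover (Coh.structureModule C) :=
    { ι := {V : C.Opens // V ∈ s ∧ genericPoint C ∈ V}
      fin := Set.Finite.subset s.finite_toSet (fun V hV => hV.1)
      U := fun i => i.1
      haff := fun i => hs _ i.2.1
      hξ := fun i => i.2.2
      σ := fun i => oneSec i.1
      free := fun i => isFreeGen_oneSec i.1
      cov := fun x => by
        obtain ⟨V, hV, hx⟩ := hcov x
        have : genericPoint C ∈ V :=
          ((genericPoint_spec C).mem_open_set_iff V.isOpen).mpr ⟨x, trivial, hx⟩
        exact ⟨⟨V, hV, this⟩, hx⟩ }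
  refine ⟨genTrivOne, Cv, ?_⟩
  have hf : ∀ i, Cv.f genTrivOne i = 1 := by
    intro i
    change genTrivOne.eps i.1 i.2.2 (oneSec i.1) = 1
    rw [← map_oneSec (le_top : i.1 ≤ ⊤), genTrivOne.eps_res ⊤ i.1 le_top i.2.2 (oneSec ⊤)]
    exact genTrivOne.eps_self
  ext Q
  rw [TrivCover.D_apply, Finsupp.zero_apply]
  unfold TrivCover.Dfun
  rw [hf, map_one, log_one]

include hC in
theorem finrank_HH_zero_structureModule :
    Module.finrank k (Coh.HH C (Coh.structureModule C) 0) = 1 := by
  rw [(isDiv_structureModule hC).finrank_HH_zero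
    isInvertible_structureModule]
  exact ell_zero hC.isFunctionField

include hC in
theorem euler_structureModule :
    Curv2.euler k C (Coh.structureModule C) = 1 - (Curv2.genus k C : ℤ) := by
  rw [(isDiv_structureModule hC).euler_eq isInvertible_structureModule,
    Divisor.deg_zero]
  ring

end structureModule

/-- **the degree of an invertible module is the degree of its divisor** -/
theorem IsDiv.deg_eq {L : C.Modules} {D : Divisor k C.functionField}
    (hL : PicF.IsInvertible L) (h : IsDiv hC L D) : Curv2.deg k C L 1 = D.deg := by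
  unfold Curv2.deg
  rw [h.euler_eq hL, euler_structureModule hC]
  push_cast
  ring

end Groth.Agent.H76.Curve
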