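import Mathlib
import Groth.Prelude.Def_MeroSh
import Groth.Agent.H62.GD5
import Groth.Agent.H18.RestrictUnit
import Groth.Agent.H8.MeroGen

/-!
helper76, line-bundle bridge for curves, part I: **the invertible module `O_C(D)` of a divisor `D`
of the function field of a `GCurve`**, as the submodule of the constant sheaf `K(C)` of the
functions `z` with `ord_P z + D(P) ≥ 0` at the places of the closed points.

* `OD hC D : C.Modules`, `ODval` (the value of a section), `ODsec` (sections from functions);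
* `isFreeGen_ODsec`: a function with exactly the valuations `exp (D P)` over an open is a free
  generator there;
* `exists_local_gen`: such functions exist near every point;
* `isInvertible_OD`.
-/

set_option autoImplicit false
set_option linter.style.haveILetI false
open CategoryTheory CategoryTheory.Limits AlgebraicGeometry TopologicalSpace Topology FunFld Opposite
universe u

namespace Groth.Agent.H76.Curve

attribute [local instance] Curv2.stalkAlgebra Curv2.resAlgebra

open Groth.Agent.H8 Groth.Agent.H62 Groth.Agent.H62.GD WithZero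

variable {k : Type u} [Field k] {C : Scheme.{u}} [C.Over (Spec (CommRingCat.of k))]
  [IsIntegral C]

section glue

omit [C.Over (Spec (CommRingCat.of k))] in
/-- an element of the function field lying in all local rings of an open subset is a section over
that open subset -/
theorem mem_range_germ_open (W : C.Opens) (hξW : genericPoint C ∈ W) (z : C.functionField)
    (h : ∀ x ∈ W, z ∈ Set.range (algebraMap (C.presheaf.stalk x) C.functionField)) :
    z ∈ Set.range (C.presheaf.germ W (genericPoint C) hξW).hom := by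
  have hloc : ∀ x : W, ∃ (V : C.Opens) (_ : x.1 ∈ V) (_ : V ≤ W) (hξ : genericPoint C ∈ V)
      (s : Γ(C, V)), (C.presheaf.germ V (genericPoint C) hξ).hom s = z := by
    intro x
    obtain ⟨a, ha⟩ := h x.1 x.2
    obtain ⟨V₀, hxV₀, s₀, hs₀⟩ := C.presheaf.exists_germ_eq a
    let V : C.Opens := V₀ ⊓ W
    have hxV : x.1 ∈ V := ⟨hxV₀, x.2⟩
    have hξ : genericPoint C ∈ V :=
      ((genericPoint_spec C).mem_open_set_iff V.isOpen).mpr ⟨x.1, trivial, hxV⟩
    refine ⟨V, hxV, inf_le_right, hξ, C.presheaf.map (homOfLE inf_le_left).op s₀, ?_⟩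
    rw [← ha, ← hs₀]
    haveI : Nonempty V₀ := ⟨⟨x.1, hxV₀⟩⟩
    rw [C.algebraMap_germ_eq_germToFunctionField hxV₀ s₀]
    exact TopCat.Presheaf.germ_res_apply C.presheaf (homOfLE inf_le_left) (genericPoint C) hξ s₀
  choose V hxV hVW hξV s hs using hloc
  have hcompat : TopCat.Presheaf.IsCompatible C.sheaf.1 V s := by
    intro x y
    apply germ_injective_of_isIntegral C (genericPoint C) (U := V x ⊓ V y) ⟨hξV x, hξV y⟩
    change (C.presheaf.germ (V x ⊓ V y) (genericPoint C) _).hom
        ((C.presheaf.map (Opens.infLELeft (V x) (V y)).op).hom (s x)) =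
      (C.presheaf.germ (V x ⊓ V y) (genericPoint C) _).hom
        ((C.presheaf.map (Opens.infLERight (V x) (V y)).op).hom (s y))
    rw [TopCat.Presheaf.germ_res_apply, TopCat.Presheaf.germ_res_apply, hs, hs]
  have hcover : W ≤ iSup V := fun x hx => Opens.mem_iSup.mpr ⟨⟨x, hx⟩, hxV ⟨x, hx⟩⟩
  obtain ⟨g, hg, -⟩ := C.sheaf.existsUnique_gluing' V W (fun x => homOfLE (hVW x)) hcover s hcompat
  refine ⟨g, ?_⟩
  have h1 := hg ⟨genericPoint C, hξW⟩
  rw [← hs ⟨genericPoint C, hξW⟩, ← h1]
  exact (TopCat.Presheaf.germ_res_apply C.presheaf (homOfLE (hVW ⟨genericPoint C, hξW⟩))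
    (genericPoint C) (hξV ⟨genericPoint C, hξW⟩) g).symm

end glue

variable (hC : GCurve k C) (D : Divisor k C.functionField)

/-- the valuation bound at a point (vacuous at the generic point) -/
def ODcond (z : C.functionField) (x : C) : Prop :=
  ∀ hx : IsClosed ({x} : Set C), (placeOf hC ⟨x, hx⟩).1 z ≤ exp (D (placeOf hC ⟨x, hx⟩))

/-- the local predicate cutting `O_C(D)` out of the constant sheaf `K(C)` -/
def ODpred : TopCat.LocalPredicate (fun _ : C => (C.functionField : Type u)) where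
  pred {U} f := ∃ z : C.functionField, (∀ x : U, f x = z) ∧ ∀ x : U, ODcond hC D z x.1
  res {V U} i f := fun ⟨z, h1, h2⟩ => ⟨z, fun x => h1 (i x), fun x => h2 (i x)⟩
  locality {U} f h := by
    by_cases hU : ∃ x : C, x ∈ U
    · obtain ⟨x₀', hx₀'⟩ := hU
      set x₀ : U := ⟨x₀', hx₀'⟩
      refine ⟨f x₀, fun x => ?_, fun x => ?_⟩
      · obtain ⟨V, hxV, i, z, h1, -⟩ := h x
        obtain ⟨V₀, hxV₀, i₀, z₀, h1₀, -⟩ := h x₀
        have hξV : genericPoint C ∈ V :=
          ((genericPoint_spec C).mem_open_set_iff V.isOpen).mpr ⟨x.1, trivial, hxV⟩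
        have hξV₀ : genericPoint C ∈ V₀ :=
          ((genericPoint_spec C).mem_open_set_iff V₀.isOpen).mpr ⟨x₀.1, trivial, hxV₀⟩
        have e1 := h1 ⟨x.1, hxV⟩
        have e2 := h1 ⟨genericPoint C, hξV⟩
        have e3 := h1₀ ⟨x₀.1, hxV₀⟩
        have e4 := h1₀ ⟨genericPoint C, hξV₀⟩
        exact e1.trans (e2.symm.trans (e4.trans e3.symm))
      · obtain ⟨V, hxV, i, z, h1, h2⟩ := h x
        obtain ⟨V₀, hxV₀, i₀, z₀, h1₀, -⟩ := h x₀
        have hξV : genericPoint C ∈ V :=
          ((genericPoint_spec C).mem_open_set_iff V.isOpen).mpr ⟨x.1, trivial, hxV⟩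
        have hξV₀ : genericPoint C ∈ V₀ :=
          ((genericPoint_spec C).mem_open_set_iff V₀.isOpen).mpr ⟨x₀.1, trivial, hxV₀⟩
        have e2 := h1 ⟨genericPoint C, hξV⟩
        have e3 := h1₀ ⟨x₀.1, hxV₀⟩
        have e4 := h1₀ ⟨genericPoint C, hξV₀⟩
        have hz : z = f x₀ := e2.symm.trans (e4.trans e3.symm)
        rw [← hz]
        exact h2 ⟨x.1, hxV⟩
    · exact ⟨0, fun x => absurd ⟨x.1, x.2⟩ hU, fun x => absurd ⟨x.1, x.2⟩ hU⟩

instance : Mero.IsModPred (ODpred hC D) where
  zero U := ⟨0, fun _ => rfl, fun x hx => by rw [map_zero]; exact zero_le⟩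
  add U f g := by
    rintro ⟨z, h1, h2⟩ ⟨z', h1', h2'⟩
    refine ⟨z + z', fun x => ?_, fun x hx => ?_⟩
    · rw [Pi.add_apply, h1, h1']
    · exact ((placeOf hC ⟨x.1, hx⟩).1.map_add z z').trans (max_le (h2 x hx) (h2' x hx))
  smul U r f := by
    rintro ⟨z, h1, h2⟩
    by_cases hU : ∃ x : C, x ∈ U
    · obtain ⟨x₀', hx₀'⟩ := hU
      haveI : Nonempty U := ⟨⟨x₀', hx₀'⟩⟩
      refine ⟨C.germToFunctionField U r * z, fun x => ?_, fun x hx => ?_⟩
      · change C.presheaf.germ U x.1 x.2 r • f x = _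
        rw [h1, Algebra.smul_def, C.algebraMap_germ_eq_germToFunctionField x.2 r]
      · rw [← C.algebraMap_germ_eq_germToFunctionField x.2 r, map_mul]
        have h3 : (placeOf hC ⟨x.1, hx⟩).1
            (algebraMap (C.presheaf.stalk x.1) C.functionField (C.presheaf.germ U x.1 x.2 r)) ≤ 1 :=
          (placeOf_le_one_iff hC ⟨x.1, hx⟩ _).mpr ⟨_, rfl⟩
        exact (mul_le_mul' h3 (h2 x hx)).trans_eq (one_mul _)
    · exact ⟨0, fun x => absurd ⟨x.1, x.2⟩ hU, fun x => absurd ⟨x.1, x.2⟩ hU⟩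

/-- **the module `O_C(D)`** -/
noncomputable def OD : C.Modules := Mero.modOf (ODpred hC D)

variable {hC D}

/-- the value of a section of `O_C(D)` over an open containing the generic point -/
noncomputable def ODval {V : C.Opens} (hξ : genericPoint C ∈ V) (s : Γ(OD hC D, V)) : C.functionField :=
  s.1 ⟨genericPoint C, hξ⟩

theorem ODval_spec {V : C.Opens} (hξ : genericPoint C ∈ V) (s : Γ(OD hC D, V)) (x : V) :
    s.1 x = ODval hξ s := by
  obtain ⟨z, h1, -⟩ := s.2
  exact (h1 x).trans (h1 ⟨genericPoint C, hξ⟩).symm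

theorem ODval_cond {V : C.Opens} (hξ : genericPoint C ∈ V) (s : Γ(OD hC D, V)) (x : V) :
    ODcond hC D (ODval hξ s) x.1 := by
  obtain ⟨z, h1, h2⟩ := s.2
  have : ODval hξ s = z := h1 ⟨genericPoint C, hξ⟩
  rw [this]
  exact h2 x

/-- the section of `O_C(D)` defined by a function satisfying the valuation bounds -/
def ODsec (V : C.Opens) (z : C.functionField) (hz : ∀ x : V, ODcond hC D z x.1) : Γ(OD hC D, V) :=
  ⟨fun _ => z, z, fun _ => rfl, hz⟩

theorem ODsec_apply (V : C.Opens) (z : C.functionField) (hz : ∀ x : V, ODcond hC D z x.1) (x : V) :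
    (ODsec V z hz).1 x = z := rfl

theorem OD_ext {V : C.Opens} {s t : Γ(OD hC D, V)} (h : ∀ x : V, s.1 x = t.1 x) : s = t :=
  Subtype.ext (funext h)

theorem OD_smul_apply {V : C.Opens} (r : Γ(C, V)) (s : Γ(OD hC D, V)) (x : V) :
    (r • s).1 x = C.presheaf.germ V x.1 x.2 r • s.1 x := rfl

theorem OD_map_apply {U V : C.Opens} (hVU : V ≤ U) (s : Γ(OD hC D, U)) (x : V) :
    ((OD hC D).presheaf.map (homOfLE hVU).op s).1 x = s.1 ⟨x.1, hVU x.2⟩ := rfl

theorem OD_smul_apply' {V : C.Opens} (hξ : genericPoint C ∈ V) (r : Γ(C, V))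
    (s : Γ(OD hC D, V)) (x : V) :
    (r • s).1 x = C.presheaf.germ V (genericPoint C) hξ r * ODval hξ s := by
  haveI : Nonempty V := ⟨⟨_, hξ⟩⟩
  rw [OD_smul_apply, ODval_spec hξ s x, Algebra.smul_def,
    C.algebraMap_germ_eq_germToFunctionField x.2 r]

theorem OD_smul_val {V : C.Opens} (hξ : genericPoint C ∈ V) (r : Γ(C, V)) (s : Γ(OD hC D, V)) :
    ODval hξ (r • s) = C.presheaf.germ V (genericPoint C) hξ r * ODval hξ s :=
  OD_smul_apply' hξ r s ⟨genericPoint C, hξ⟩

theorem OD_map_val {U V : C.Opens} (hVU : V ≤ U) (hξ : genericPoint C ∈ V) (s : Γ(OD hC D, U)) :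
    ODval hξ ((OD hC D).presheaf.map (homOfLE hVU).op s) = ODval (hVU hξ) s := rfl

theorem ODsec_val (V : C.Opens) (hξ : genericPoint C ∈ V) (z : C.functionField)
    (hz : ∀ x : V, ODcond hC D z x.1) : ODval hξ (ODsec V z hz) = z := rfl

/-- a function with exactly the valuations `exp (D P)` at the closed points of `V` is a free
generator of `O_C(D)` over `V` -/
theorem isFreeGen_ODsec (V : C.Opens) (t : C.functionField) (ht0 : t ≠ 0)
    (ht : ∀ x : V, ∀ hx : IsClosed ({x.1} : Set C),
      (placeOf hC ⟨x.1, hx⟩).1 t = exp (D (placeOf hC ⟨x.1, hx⟩))) :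
    IsFreeGen (OD hC D) V (ODsec V t (fun x hx => (ht x hx).le)) := by
  intro W hWV
  constructor
  · intro r r' hrr'
    apply TopCat.Presheaf.section_ext C.sheaf
    intro y hy
    have h1 := congrArg (fun s : Γ(OD hC D, W) => s.1 ⟨y, hy⟩) hrr'
    have h2 : C.presheaf.germ W y hy r • t = C.presheaf.germ W y hy r' • t := h1
    rw [Algebra.smul_def, Algebra.smul_def] at h2
    exact IsFractionRing.injective (C.presheaf.stalk y) C.functionField
      (mul_right_cancel₀ ht0 h2)
  · intro s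
    by_cases hW : ∃ x : C, x ∈ W
    · obtain ⟨w₀', hw₀'⟩ := hW
      set w₀ : W := ⟨w₀', hw₀'⟩
      have hξW : genericPoint C ∈ W :=
        ((genericPoint_spec C).mem_open_set_iff W.isOpen).mpr ⟨w₀.1, trivial, w₀.2⟩
      set z := ODval hξW s with hz
      have hmem : ∀ x ∈ W, z / t ∈ Set.range (algebraMap (C.presheaf.stalk x) C.functionField) := by
        intro x hx
        rcases hC.isClosed_or_eq_genericPoint x with hcl | hgen
        · apply (placeOf_le_one_iff hC ⟨x, hcl⟩ _).mp
          rw [map_div₀, ht ⟨x, hWV hx⟩ hcl,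
            div_le_iff₀ (zero_lt_iff.mpr exp_ne_zero), one_mul]
          exact ODval_cond hξW s ⟨x, hx⟩ hcl
        · exact Groth.Agent.H22.CurveValuation.surjective_algebraMap_of_eq_genericPoint x hgen _
      obtain ⟨r, hr⟩ := mem_range_germ_open W hξW (z / t) hmem
      refine ⟨r, OD_ext fun y => ?_⟩
      rw [OD_smul_apply, OD_map_apply, ODsec_apply, ODval_spec hξW s y, Algebra.smul_def]
      haveI : Nonempty W := ⟨w₀⟩
      rw [C.algebraMap_germ_eq_germToFunctionField y.2 r]
      change (C.presheaf.germ W (genericPoint C) hξW).hom r * t = z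
      rw [hr, div_mul_cancel₀ _ ht0]
    · exact ⟨0, OD_ext fun y => absurd ⟨y.1, y.2⟩ hW⟩

variable (hC D)

/-- near every point there is a function with exactly the valuations `exp (D P)` -/
theorem exists_local_gen (x : C) : ∃ (V : C.Opens) (t : C.functionField), x ∈ V ∧ t ≠ 0 ∧
    ∀ y : V, ∀ hy : IsClosed ({y.1} : Set C),
      (placeOf hC ⟨y.1, hy⟩).1 t = exp (D (placeOf hC ⟨y.1, hy⟩)) := by
  classical
  have hK := hC.isFunctionField
  -- a closed point, equal to `x` if `x` is closed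
  obtain ⟨x', hx'cl, hxx'⟩ : ∃ x' : C, IsClosed ({x'} : Set C) ∧ (IsClosed ({x} : Set C) → x = x') := by
    by_cases hx : IsClosed ({x} : Set C)
    · exact ⟨x, hx, fun _ => rfl⟩
    · obtain ⟨x', hx'⟩ := hC.exists_isClosed_singleton
      exact ⟨x', hx', fun h => absurd h hx⟩
  set P := placeOf hC ⟨x', hx'cl⟩ with hP
  obtain ⟨t, ht⟩ := P.2.2 (exp (D P))
  have ht0 : t ≠ 0 := by
    rintro rfl
    rw [map_zero] at ht
    exact exp_ne_zero ht.symm
  -- the bad places
  let Bad : Set (Place k C.functionField) := {Q | Q.1 t ≠ exp (D Q)}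
  have hBad : Bad.Finite := by
    have hfin := ((Groth.Agent.H55.Place.finite_zeros hK ht0).union
      (Groth.Agent.H55.Place.finite_poles hK ht0)).union D.support.finite_toSet
    refine hfin.subset fun Q hQ => ?_
    by_contra hcon
    simp only [Set.mem_union, Set.mem_ofPred_eq, Finset.mem_coe, Finsupp.mem_support_iff,
      not_or, not_lt, not_not] at hcon
    apply hQ
    rw [hcon.2, exp_zero]
    exact le_antisymm hcon.1.2 hcon.1.1
  let F : Set C := {y | ∃ hy : IsClosed ({y} : Set C), placeOf hC ⟨y, hy⟩ ∈ Bad}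
  have hFfin : F.Finite := by
    have h1 := (hBad.preimage ((placeOf_injective hC).injOn)).image Subtype.val
    refine h1.subset ?_
    rintro y ⟨hy, hyB⟩
    exact ⟨⟨y, hy⟩, hyB, rfl⟩
  have hFcl : IsClosed F := by
    have : F = ⋃ y ∈ F, ({y} : Set C) := by
      ext y
      simp
    rw [this]
    exact hFfin.isClosed_biUnion fun y hy => hy.1
  refine ⟨⟨Fᶜ, hFcl.isOpen_compl⟩, t, ?_, ht0, ?_⟩
  · rintro ⟨hx, hxB⟩
    have := hxx' hx
    subst this
    exact hxB ht
  · intro y hy
    by_contra hne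
    exact y.2 ⟨hy, hne⟩

/-- **`O_C(D)` is invertible** -/
theorem isInvertible_OD : PicF.IsInvertible (OD hC D) := by
  intro x
  obtain ⟨V, t, hxV, ht0, ht⟩ := exists_local_gen hC D x
  exact ⟨V, hxV, Groth.Agent.H18.nonempty_restrict_iso_unit (OD hC D) V _
    (isFreeGen_ODsec V t ht0 ht)⟩

end Groth.Agent.H76.Curve
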