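import Mathlib
import Groth.Agent.H76.CurveI
import Groth.Agent.H76.CurveH

/-!
helper76, line-bundle bridge for curves, part J: the divisor of `O_C(D)` is `D`:
`isDiv_OD : IsDiv hC (OD hC D) D`; consequently `h⁰(O_C(D)) = ℓ(D)`, `deg O_C(D) = deg D`, ...
-/

set_option autoImplicit false
set_option linter.style.haveILetI false
open CategoryTheory CategoryTheory.Limits AlgebraicGeometry TopologicalSpace Topology FunFld Opposite
universe u

namespace Groth.Agent.H76.Curve

attribute [local instance] Curv2.stalkAlgebra Curv2.resAlgebra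

open Groth.Agent.H8 Groth.Agent.H62 Groth.Agent.H62.GD WithZero

variable {k : Type u} [Field k] {C : Scheme.{u}} [C.Over (Spec (CommRingCat.of k))]
  [IsIntegral C]

variable (hC : GCurve k C) (D : Divisor k C.functionField)

/-- the closed points in the support of `D` -/
def suppPts : Set C := {y | ∃ hy : IsClosed ({y} : Set C), placeOf hC ⟨y, hy⟩ ∈ (D.support : Set _)}

theorem isClosed_suppPts : IsClosed (suppPts hC D) := by
  have hfin : (suppPts hC D).Finite := by
    have h1 := (D.support.finite_toSet.preimage ((placeOf_injective hC).injOn)).image Subtype.val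
    refine h1.subset ?_
    rintro y ⟨hy, hyB⟩
    exact ⟨⟨y, hy⟩, hyB, rfl⟩
  have : suppPts hC D = ⋃ y ∈ suppPts hC D, ({y} : Set C) := by
    ext y
    simp
  rw [this]
  exact hfin.isClosed_biUnion fun y hy => hy.1

/-- the complement of the support of `D` -/
def suppCompl : C.Opens := ⟨(suppPts hC D)ᶜ, (isClosed_suppPts hC D).isOpen_compl⟩

theorem genericPoint_mem_suppCompl : genericPoint C ∈ suppCompl hC D := by
  rintro ⟨hy, -⟩
  exact hC.not_isClosed_genericPoint hy

theorem val_one_eq (y : suppCompl hC D) (hy : IsClosed ({y.1} : Set C)) :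
    (placeOf hC ⟨y.1, hy⟩).1 1 = exp (D (placeOf hC ⟨y.1, hy⟩)) := by
  have h0 : D (placeOf hC ⟨y.1, hy⟩) = 0 := by
    by_contra hne
    exact y.2 ⟨hy, Finsupp.mem_support_iff.mpr hne⟩
  rw [h0, map_one, exp_zero]

/-- the generic trivialization of `O_C(D)` by the function `1` -/
noncomputable def ODtriv : GenTriv (OD hC D) :=
  ⟨suppCompl hC D, genericPoint_mem_suppCompl hC D,
    ODsec (suppCompl hC D) 1 (fun y hy => (val_one_eq hC D y hy).le),
    isFreeGen_ODsec (suppCompl hC D) 1 one_ne_zero (val_one_eq hC D)⟩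

/-- the embedding attached to `ODtriv` is the value of a section -/
theorem ODtriv_eps (V : C.Opens) (hξ : genericPoint C ∈ V) (s : Γ(OD hC D, V)) :
    (ODtriv hC D).eps V hξ s = ODval hξ s := by
  set T := ODtriv hC D with hT
  let W : C.Opens := V ⊓ suppCompl hC D
  have hξW : genericPoint C ∈ W := ⟨hξ, genericPoint_mem_suppCompl hC D⟩
  have hWV : W ≤ V := inf_le_left
  have hWU : W ≤ T.U := inf_le_right
  obtain ⟨r, hr⟩ := T.free.exists_smul_eq hWU ((OD hC D).presheaf.map (homOfLE hWV).op s)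
  haveI : Nonempty W := ⟨⟨_, hξW⟩⟩
  have h1 : ODval hξ s = C.presheaf.germ W (genericPoint C) hξW r := by
    have h2 := congrArg (ODval hξW) hr
    rw [OD_smul_val, OD_map_val, OD_map_val] at h2
    have h4 : ODval (hWU hξW) T.σ = 1 := rfl
    rw [h4, mul_one] at h2
    exact h2.symm
  rw [← T.eps_res V W hWV hξW s, ← hr, T.eps_smul, T.eps_res T.U W hWU hξW T.σ, T.eps_self,
    mul_one, h1]

/-- **the divisor of `O_C(D)` is `D`** -/
theorem isDiv_OD : IsDiv hC (OD hC D) D := by
  classical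
  haveI := hC.compactSpace
  have h1 : ∀ x : C, ∃ (V : C.Opens) (t : C.functionField), IsAffineOpen V ∧ x ∈ V ∧ t ≠ 0 ∧
      ∀ y : V, ∀ hy : IsClosed ({y.1} : Set C),
        (placeOf hC ⟨y.1, hy⟩).1 t = exp (D (placeOf hC ⟨y.1, hy⟩)) := by
    intro x
    obtain ⟨V, t, hxV, ht0, ht⟩ := exists_local_gen hC D x
    obtain ⟨V', hV', hxV', hV'V⟩ := exists_isAffineOpen_mem_and_subset hxV
    exact ⟨V', t, hV', hxV', ht0, fun y hy => ht ⟨y.1, hV'V y.2⟩ hy⟩
  choose V t hV hxV ht0 ht using h1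
  obtain ⟨s, hs⟩ := isCompact_univ.elim_finite_subcover (fun x : C => ((V x : C.Opens) : Set C))
    (fun x => (V x).isOpen) (fun x _ => Set.mem_iUnion.2 ⟨x, hxV x⟩)
  let Cv : TrivCover (OD hC D) :=
    { ι := {x : C // x ∈ s}
      fin := inferInstance
      U := fun i => V i.1
      haff := fun i => hV i.1
      hξ := fun i =>
        ((genericPoint_spec C).mem_open_set_iff (V i.1).isOpen).mpr ⟨i.1, trivial, hxV i.1⟩
      σ := fun i => ODsec (V i.1) (t i.1) (fun y hy => (ht i.1 y hy).le)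
      free := fun i => isFreeGen_ODsec (V i.1) (t i.1) (ht0 i.1) (ht i.1)
      cov := fun x => by
        have := hs (Set.mem_univ x)
        simp only [Set.mem_iUnion] at this
        obtain ⟨y, hy, hxy⟩ := this
        exact ⟨⟨y, hy⟩, hxy⟩ }
  refine ⟨ODtriv hC D, Cv, ?_⟩
  have hf : ∀ i, Cv.f (ODtriv hC D) i = t i.1 := by
    intro i
    change (ODtriv hC D).eps (V i.1) _ (ODsec (V i.1) (t i.1)
      (fun y hy => (ht i.1 y hy).le)) = t i.1
    rw [ODtriv_eps]
    rfl
  ext Q
  rw [TrivCover.D_apply]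
  unfold TrivCover.Dfun
  rw [hf]
  obtain ⟨y, hy, hyQ⟩ := CF.idx_mem (Cv.S hC) (Cv.covS hC) Q
  have h2 := ht _ ⟨y.1, hy⟩ y.2
  have h3 : placeOf hC ⟨y.1, y.2⟩ = Q := hyQ
  rw [h3] at h2
  rw [h2, log_exp]

end Groth.Agent.H76.Curve
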