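import Mathlib
import Groth.Agent.H54.MeroDivIso
import Groth.Agent.H76.CurveJ

/-!
helper76, line-bundle bridge for curves, part K: **classification**: an invertible module `L` on a
`GCurve` with divisor `D` is isomorphic to `O_C(D)`:
`IsDiv.nonempty_iso_OD : IsDiv hC L D → Nonempty (L ≅ OD hC D)`.
-/

set_option autoImplicit false
set_option linter.style.haveILetI false
open CategoryTheory CategoryTheory.Limits AlgebraicGeometry TopologicalSpace Topology FunFld Opposite
universe u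

namespace Groth.Agent.H76.Curve

attribute [local instance] Curv2.stalkAlgebra Curv2.resAlgebra

open Groth.Agent.H8 Groth.Agent.H62 Groth.Agent.H62.GD WithZero

variable {k : Type u} [Field k] {C : Scheme.{u}} [C.Over (Spec (CommRingCat.of k))]
  [IsIntegral C]

variable (hC : GCurve k C) {L : C.Modules} (Cv : TrivCover L) (T : GenTriv L)

omit [C.Over (Spec (CommRingCat.of k))] in
theorem genericPoint_mem_of_mem {U : C.Opens} (x : U) : genericPoint C ∈ U :=
  ((genericPoint_spec C).mem_open_set_iff U.isOpen).mpr ⟨x.1, trivial, x.2⟩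

namespace TrivCover

/-- the image of a section of `L` satisfies the valuation bounds of `O_C(D)` -/
theorem eps_cond (U : C.Opens) (hξ : genericPoint C ∈ U) (m : Γ(L, U)) (x : U) :
    ODcond hC (Cv.D hC T) (T.eps U hξ m) x.1 := by
  intro hx
  obtain ⟨i, hi⟩ := Cv.cov x.1
  let W : C.Opens := U ⊓ Cv.U i
  have hxW : x.1 ∈ W := ⟨x.2, hi⟩
  have hξW : genericPoint C ∈ W := ⟨hξ, Cv.hξ i⟩
  have hWU : W ≤ U := inf_le_left
  have hWi : W ≤ Cv.U i := inf_le_right
  obtain ⟨r, hr⟩ := (Cv.free i).exists_smul_eq hWi (L.presheaf.map (homOfLE hWU).op m)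
  have h1 : T.eps U hξ m = C.presheaf.germ W (genericPoint C) hξW r * Cv.f T i := by
    rw [← T.eps_res U W hWU hξW m, ← hr, T.eps_smul, T.eps_res]
    rfl
  haveI : Nonempty W := ⟨⟨x.1, hxW⟩⟩
  have h2 : (placeOf hC ⟨x.1, hx⟩).1 (C.presheaf.germ W (genericPoint C) hξW r) ≤ 1 := by
    apply (placeOf_le_one_iff hC ⟨x.1, hx⟩ _).mpr
    exact ⟨C.presheaf.germ W x.1 hxW r, C.algebraMap_germ_eq_germToFunctionField hxW r⟩
  have h3 : exp (Cv.D hC T (placeOf hC ⟨x.1, hx⟩)) = (placeOf hC ⟨x.1, hx⟩).1 (Cv.f T i) :=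
    Cv.exp_D hC T i _ ⟨⟨x.1, hx⟩, hi, rfl⟩
  rw [h1, map_mul, h3]
  exact (mul_le_mul' h2 le_rfl).trans_eq (one_mul _)

/-- the comparison map on sections -/
noncomputable def toODFun (U : C.Opens) : Γ(L, U) →+ Γ(OD hC (Cv.D hC T), U) where
  toFun m := ⟨fun x => T.eps U (genericPoint_mem_of_mem x) m,
    by
      by_cases hU : ∃ x : C, x ∈ U
      · obtain ⟨x₀, hx₀⟩ := hU
        exact ⟨T.eps U (genericPoint_mem_of_mem ⟨x₀, hx₀⟩) m, fun x => rfl,
          fun x => Cv.eps_cond hC T U _ m x⟩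
      · exact ⟨0, fun x => absurd ⟨x.1, x.2⟩ hU, fun x => absurd ⟨x.1, x.2⟩ hU⟩⟩
  map_zero' := OD_ext fun x => map_zero _
  map_add' a b := OD_ext fun x => map_add _ a b

theorem toODFun_apply (U : C.Opens) (m : Γ(L, U)) (x : U) :
    (Cv.toODFun hC T U m).1 x = T.eps U (genericPoint_mem_of_mem x) m := rfl

/-- **the comparison morphism `L ⟶ O_C(D)`** -/
noncomputable def toOD : L ⟶ OD hC (Cv.D hC T) :=
  ⟨PresheafOfModules.homMk
    { app := fun U => AddCommGrpCat.ofHom (Cv.toODFun hC T U.unop)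
      naturality := fun {U V} i => by
        ext m
        refine OD_ext fun x => ?_
        exact T.eps_res U.unop V.unop i.unop.le (genericPoint_mem_of_mem x) m }
    (fun U r m => OD_ext fun x => by
      haveI : Nonempty U.unop := ⟨x⟩
      have h1 := T.eps_smul U.unop (genericPoint_mem_of_mem x) r m
      refine h1.trans ?_
      symm
      change C.presheaf.germ U.unop x.1 x.2 r • T.eps U.unop (genericPoint_mem_of_mem x) m = _
      rw [Algebra.smul_def, C.algebraMap_germ_eq_germToFunctionField x.2 r])⟩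

theorem toOD_app (U : C.Opens) (m : Γ(L, U)) :
    (Cv.toOD hC T).app U m = Cv.toODFun hC T U m := rfl

/-- **the comparison morphism is an isomorphism** -/
theorem isIso_toOD : IsIso (Cv.toOD hC T) := by
  apply Groth.Agent.H54.MeroDivIso.isIso_of_local_bases
  intro y
  obtain ⟨i, hi⟩ := Cv.cov y
  refine ⟨Cv.U i, hi, Cv.σ i, (Cv.free i).germ_bijective hi, ?_⟩
  have hfree : IsFreeGen (OD hC (Cv.D hC T)) (Cv.U i) ((Cv.toOD hC T).app (Cv.U i) (Cv.σ i)) := by
    have h1 := isFreeGen_ODsec (hC := hC) (D := Cv.D hC T) (Cv.U i) (Cv.f T i) (Cv.f_ne_zero T i)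
      (fun x hx => (Cv.exp_D hC T i _ ⟨⟨x.1, hx⟩, x.2, rfl⟩).symm)
    have h2 : (Cv.toOD hC T).app (Cv.U i) (Cv.σ i) =
        ODsec (Cv.U i) (Cv.f T i)
          (fun x hx => ((Cv.exp_D hC T i _ ⟨⟨x.1, hx⟩, x.2, rfl⟩).symm).le) :=
      OD_ext fun x => rfl
    rw [h2]
    exact h1
  exact hfree.germ_bijective hi

end TrivCover

/-- **classification of invertible modules on a `GCurve`** -/
theorem IsDiv.nonempty_iso_OD {D : Divisor k C.functionField} (h : IsDiv hC L D) :
    Nonempty (L ≅ OD hC D) := by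
  obtain ⟨T, Cv, rfl⟩ := h
  haveI := Cv.isIso_toOD hC T
  exact ⟨asIso (Cv.toOD hC T)⟩

end Groth.Agent.H76.Curve
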