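import Mathlib
import Groth.Agent.H18.STL.Invertible
import Groth.Agent.H76.CurveH

/-!
helper76, line-bundle bridge for curves, part L: **tensor products**.
If `D` is a divisor of `L` and `E` a divisor of `M` then `D + E` is a divisor of `L ⊗ M`;
`n • D` is a divisor of `L^{⊗ n}`. Consequently `deg (L ⊗ M) = deg L + deg M` on a `GCurve`.
-/

set_option autoImplicit false
set_option linter.style.haveILetI false
open CategoryTheory CategoryTheory.Limits AlgebraicGeometry TopologicalSpace Topology FunFld Opposite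
universe u

namespace Groth.Agent.H76.Curve

attribute [local instance] Curv2.stalkAlgebra Curv2.resAlgebra

open Groth.Agent.H8 Groth.Agent.H62 Groth.Agent.H62.GD WithZero Groth.Agent.H55
open Groth.Agent.H18 Groth.Agent.H18.STL Groth.Agent.H18.PUP

section general

variable {X : Scheme.{u}} [IsIntegral X] {L M : X.Modules}

/-- the tensor product of two generic trivializations -/
noncomputable def GenTriv.tensor (T : GenTriv L) (T' : GenTriv M) :
    GenTriv (CohB1.tensorMod L M) where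
  U := T.U ⊓ T'.U
  mem := ⟨T.mem, T'.mem⟩
  σ := SecTwist.tmul L M (T.U ⊓ T'.U) (L.presheaf.map (homOfLE inf_le_left).op T.σ)
    (M.presheaf.map (homOfLE inf_le_right).op T'.σ)
  free := isBasisOn_tmul (T.free.res inf_le_left) (T'.free.res inf_le_right)

theorem GenTriv.eps_tmul (T : GenTriv L) (T' : GenTriv M) (V : X.Opens)
    (hV : genericPoint X ∈ V) (s : Γ(L, V)) (t : Γ(M, V)) :
    (T.tensor T').eps V hV (SecTwist.tmul L M V s t) = T.eps V hV s * T'.eps V hV t := by
  let W : X.Opens := V ⊓ (T.U ⊓ T'.U)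
  have hW : genericPoint X ∈ W := ⟨hV, T.mem, T'.mem⟩
  have hWV : W ≤ V := inf_le_left
  have hWU : W ≤ T.U ⊓ T'.U := inf_le_right
  have hWT : W ≤ T.U := hWU.trans inf_le_left
  have hWT' : W ≤ T'.U := hWU.trans inf_le_right
  obtain ⟨a, ha⟩ := T.free.exists_smul_eq hWT (L.presheaf.map (homOfLE hWV).op s)
  obtain ⟨b, hb⟩ := T'.free.exists_smul_eq hWT' (M.presheaf.map (homOfLE hWV).op t)
  have h1 : T.eps V hV s = X.presheaf.germ W (genericPoint X) hW a := by
    rw [← T.eps_res V W hWV hW s, ← ha, T.eps_smul, T.eps_res, T.eps_self, mul_one]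
  have h2 : T'.eps V hV t = X.presheaf.germ W (genericPoint X) hW b := by
    rw [← T'.eps_res V W hWV hW t, ← hb, T'.eps_smul, T'.eps_res, T'.eps_self, mul_one]
  have h3 : (CohB1.tensorMod L M).presheaf.map (homOfLE hWV).op (SecTwist.tmul L M V s t) =
      (a * b) • (CohB1.tensorMod L M).presheaf.map (homOfLE hWU).op (T.tensor T').σ := by
    have e1 := mres_tmul L M hWV s t
    have e2 := mres_tmul L M hWU (L.presheaf.map (homOfLE inf_le_left).op T.σ)
      (M.presheaf.map (homOfLE inf_le_right).op T'.σ)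
    change (CohB1.tensorMod L M).presheaf.map (homOfLE hWV).op (SecTwist.tmul L M V s t) = _ at e1
    change (CohB1.tensorMod L M).presheaf.map (homOfLE hWU).op (T.tensor T').σ = _ at e2
    rw [e1, e2, mres_mres, mres_mres]
    change SecTwist.tmul L M W (L.presheaf.map (homOfLE hWV).op s)
      (M.presheaf.map (homOfLE hWV).op t) = (a * b) • SecTwist.tmul L M W
        (L.presheaf.map (homOfLE hWT).op T.σ) (M.presheaf.map (homOfLE hWT').op T'.σ)
    rw [← ha, ← hb, tmul_smul_left, tmul_smul_right, mul_smul]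
  have h4 : (T.tensor T').eps (T.U ⊓ T'.U) ⟨T.mem, T'.mem⟩ (T.tensor T').σ = 1 :=
    (T.tensor T').eps_self
  rw [← (T.tensor T').eps_res V W hWV hW, h3, (T.tensor T').eps_smul,
    (T.tensor T').eps_res (T.U ⊓ T'.U) W hWU hW, h4, mul_one, map_mul, h1, h2]

end general

variable {k : Type u} [Field k] {C : Scheme.{u}} [C.Over (Spec (CommRingCat.of k))]
  [IsIntegral C]

variable (hC : GCurve k C)

variable {L M : C.Modules}

include hC in
/-- the tensor product of two trivializing covers -/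
noncomputable def TrivCover.tensor (Cv : TrivCover L) (Cv' : TrivCover M) :
    TrivCover (CohB1.tensorMod L M) where
  ι := Cv.ι × Cv'.ι
  fin := by haveI := Cv.fin; haveI := Cv'.fin; infer_instance
  U := fun p => Cv.U p.1 ⊓ Cv'.U p.2
  haff := fun p => by
    haveI := hC.isSeparated
    exact (Cv.haff p.1).inf (Cv'.haff p.2)
  hξ := fun p => ⟨Cv.hξ p.1, Cv'.hξ p.2⟩
  σ := fun p => SecTwist.tmul L M (Cv.U p.1 ⊓ Cv'.U p.2)
    (L.presheaf.map (homOfLE inf_le_left).op (Cv.σ p.1))
    (M.presheaf.map (homOfLE inf_le_right).op (Cv'.σ p.2))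
  free := fun p => isBasisOn_tmul ((Cv.free p.1).res inf_le_left) ((Cv'.free p.2).res inf_le_right)
  cov := fun x => by
    obtain ⟨i, hi⟩ := Cv.cov x
    obtain ⟨j, hj⟩ := Cv'.cov x
    exact ⟨(i, j), hi, hj⟩

theorem TrivCover.f_tensor (Cv : TrivCover L) (Cv' : TrivCover M) (T : GenTriv L)
    (T' : GenTriv M) (p : Cv.ι × Cv'.ι) :
    (Cv.tensor hC Cv').f (T.tensor T') p = Cv.f T p.1 * Cv'.f T' p.2 := by
  change (T.tensor T').eps (Cv.U p.1 ⊓ Cv'.U p.2) _ (SecTwist.tmul L M _ _ _) = _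
  rw [GenTriv.eps_tmul, T.eps_res, T'.eps_res]
  rfl

theorem TrivCover.D_tensor (Cv : TrivCover L) (Cv' : TrivCover M) (T : GenTriv L)
    (T' : GenTriv M) :
    (Cv.tensor hC Cv').D hC (T.tensor T') = Cv.D hC T + Cv'.D hC T' := by
  ext Q
  obtain ⟨x, rfl⟩ := placeOf_surjective hC Q
  obtain ⟨i, hi⟩ := Cv.cov x.1
  obtain ⟨j, hj⟩ := Cv'.cov x.1
  have h1 : placeOf hC x ∈ (Cv.tensor hC Cv').S hC (i, j) := ⟨x, ⟨hi, hj⟩, rfl⟩
  have h2 : placeOf hC x ∈ Cv.S hC i := ⟨x, hi, rfl⟩
  have h3 : placeOf hC x ∈ Cv'.S hC j := ⟨x, hj, rfl⟩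
  apply exp_injective
  rw [Finsupp.add_apply, exp_add, (Cv.tensor hC Cv').exp_D hC (T.tensor T') (i, j) _ h1,
    Cv.exp_D hC T i _ h2, Cv'.exp_D hC T' j _ h3, TrivCover.f_tensor, map_mul]

variable {D E : Divisor k C.functionField}

/-- **the divisor of a tensor product is the sum of the divisors** -/
theorem IsDiv.tensor (h : IsDiv hC L D) (h' : IsDiv hC M E) :
    IsDiv hC (CohB1.tensorMod L M) (D + E) := by
  obtain ⟨T, Cv, rfl⟩ := h
  obtain ⟨T', Cv', rfl⟩ := h'
  exact ⟨T.tensor T', Cv.tensor hC Cv', TrivCover.D_tensor hC Cv Cv' T T'⟩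

/-- the divisor of a tensor power -/
theorem IsDiv.tensorPow (h : IsDiv hC L D) (n : ℕ) :
    IsDiv hC (CohB1.tensorPow L n) (n • D) := by
  induction n with
  | zero =>
    rw [zero_smul]
    exact isDiv_structureModule hC
  | succ n ih =>
    rw [succ_nsmul]
    exact ih.tensor hC h

include hC in
/-- **additivity of the degree** on a `GCurve` -/
theorem deg_tensorMod (hL : PicF.IsInvertible L) (hM : PicF.IsInvertible M) :
    Curv2.deg k C (CohB1.tensorMod L M) 1 = Curv2.deg k C L 1 + Curv2.deg k C M 1 := by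
  obtain ⟨D, hD⟩ := exists_isDiv hC hL
  obtain ⟨E, hE⟩ := exists_isDiv hC hM
  rw [(hD.tensor hC hE).deg_eq hC (isInvertible_tensorMod hL hM), hD.deg_eq hC hL,
    hE.deg_eq hC hM, Divisor.deg_add]

include hC in
theorem deg_tensorPow (hL : PicF.IsInvertible L) (n : ℕ) :
    Curv2.deg k C (CohB1.tensorPow L n) 1 = n * Curv2.deg k C L 1 := by
  obtain ⟨D, hD⟩ := exists_isDiv hC hL
  rw [(hD.tensorPow hC n).deg_eq hC (isInvertible_tensorPow hL n), hD.deg_eq hC hL]
  induction n with
  | zero => simp [Divisor.deg_zero]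
  | succ n ih => rw [succ_nsmul, Divisor.deg_add, ih]; push_cast; ring

end Groth.Agent.H76.Curve
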