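import Mathlib
import Groth.Agent.H67.BasisLocal
import Groth.Agent.H7.ZClosBase
import Groth.Agent.H76.CurveK
import Groth.Agent.H76.CurveL

/-!
helper76, line-bundle bridge for curves, part M: **morphisms of invertible modules**.
A morphism `φ : L ⟶ M` of invertible modules on an integral scheme is, relative to generic
trivializations, the multiplication by a constant `c` of the function field
(`GenTriv.homConst`, `GenTriv.eps_hom`). On a `GCurve`, with divisors `D` of `L` and `E` of `M`: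
* `TrivCover.homConst_le`: `c ∈ L(E - D)`;
* `TrivCover.isIso_of_homConst`: `φ` is an isomorphism if `c ≠ 0` and `E = D - div c`;
* `deg_lt_of_mono_of_not_isIso`;
* `IsDiv.of_iso`, `IsDiv.exists_eq_add_div` (the divisor of an invertible module is unique up to
  linear equivalence).
-/

set_option autoImplicit false
set_option linter.style.haveILetI false
open CategoryTheory CategoryTheory.Limits AlgebraicGeometry TopologicalSpace Topology FunFld Opposite
universe u

namespace Groth.Agent.H76.Curve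

attribute [local instance] Curv2.stalkAlgebra Curv2.resAlgebra

open Groth.Agent.H8 Groth.Agent.H62 Groth.Agent.H62.GD WithZero Groth.Agent.H55
open Groth.Agent.H18 Groth.Agent.H18.STL Groth.Agent.H18.PUP

section general

variable {X : Scheme.{u}} {L M N : X.Modules}

theorem app_map (φ : L ⟶ M) {U V : X.Opens} (h : V ≤ U) (s : Γ(L, U)) :
    φ.app V (L.presheaf.map (homOfLE h).op s) = M.presheaf.map (homOfLE h).op (φ.app U s) :=
  PresheafOfModules.naturality_apply φ.val (homOfLE h).op s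

variable [IsIntegral X]

/-- the constant of a morphism relative to generic trivializations -/
noncomputable def GenTriv.homConst (T : GenTriv L) (T' : GenTriv M) (φ : L ⟶ M) :
    X.functionField :=
  T'.eps T.U T.mem (φ.app T.U T.σ)

theorem GenTriv.eps_hom (T : GenTriv L) (T' : GenTriv M) (φ : L ⟶ M) (V : X.Opens)
    (hV : genericPoint X ∈ V) (s : Γ(L, V)) :
    T'.eps V hV (φ.app V s) = T.homConst T' φ * T.eps V hV s := by
  let W : X.Opens := V ⊓ T.U
  have hW : genericPoint X ∈ W := ⟨hV, T.mem⟩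
  have hWV : W ≤ V := inf_le_left
  have hWT : W ≤ T.U := inf_le_right
  obtain ⟨a, ha⟩ := T.free.exists_smul_eq hWT (L.presheaf.map (homOfLE hWV).op s)
  have h1 : T.eps V hV s = X.presheaf.germ W (genericPoint X) hW a := by
    rw [← T.eps_res V W hWV hW s, ← ha, T.eps_smul, T.eps_res, T.eps_self, mul_one]
  have h2 : T'.eps V hV (φ.app V s) =
      X.presheaf.germ W (genericPoint X) hW a * T.homConst T' φ := by
    rw [← T'.eps_res V W hWV hW, ← app_map, ← ha, Scheme.Modules.Hom.app_smul, T'.eps_smul,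
      app_map, T'.eps_res]
    rfl
  rw [h1, h2, mul_comm]

theorem GenTriv.homConst_id (T : GenTriv L) : T.homConst T (𝟙 L) = 1 := T.eps_self

theorem GenTriv.homConst_comp (T : GenTriv L) (T' : GenTriv M) (T'' : GenTriv N)
    (φ : L ⟶ M) (ψ : M ⟶ N) :
    T.homConst T'' (φ ≫ ψ) = T.homConst T' φ * T'.homConst T'' ψ := by
  change T''.eps T.U T.mem (ψ.app T.U (φ.app T.U T.σ)) = _
  rw [T'.eps_hom T'' ψ, mul_comm]
  rfl

theorem GenTriv.homConst_ne_zero (hM : PicF.IsInvertible M) (T : GenTriv L) (T' : GenTriv M)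
    (φ : L ⟶ M) [Mono φ] : T.homConst T' φ ≠ 0 := by
  intro h0
  have h1 : φ.app T.U T.σ = 0 := by
    apply T'.eps_injective hM T.U T.mem
    rw [map_zero]
    exact h0
  have h2 : T.σ = 0 := by
    apply Groth.Agent.H7.ZClosBase.injective_app_of_mono φ T.U
    rw [h1, map_zero]
  have h3 := T.eps_self
  rw [h2, map_zero] at h3
  exact zero_ne_one h3

theorem GenTriv.homConst_iso_ne_zero (T : GenTriv L) (T' : GenTriv M) (e : L ≅ M) :
    T.homConst T' e.hom ≠ 0 := by
  intro h0
  have h1 := T.homConst_comp T' T e.hom e.inv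
  rw [e.hom_inv_id, T.homConst_id, h0, zero_mul] at h1
  exact one_ne_zero h1

end general

variable {k : Type u} [Field k] {C : Scheme.{u}} [C.Over (Spec (CommRingCat.of k))]
  [IsIntegral C]

variable (hC : GCurve k C)

variable {L M : C.Modules}

namespace TrivCover

/-- the valuation of any free generator near a closed point computes the divisor -/
theorem exp_D_of_isFreeGen (Cv : TrivCover L) (T : GenTriv L) {U : C.Opens} {σ : Γ(L, U)}
    (hσ : IsFreeGen L U σ) (x : {x : C // IsClosed ({x} : Set C)}) (hx : x.1 ∈ U)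
    (hξ : genericPoint C ∈ U) :
    exp (Cv.D hC T (placeOf hC x)) = (placeOf hC x).1 (T.eps U hξ σ) := by
  obtain ⟨i, hi⟩ := Cv.cov x.1
  rw [Cv.exp_D hC T i _ ⟨x, hi, rfl⟩]
  obtain ⟨u, hu⟩ := exists_unit_of_isFreeGen T hσ (Cv.free i) x.1 hx hi hξ (Cv.hξ i)
  rw [hu, map_mul, val_unit_eq_one hC x u, one_mul]
  rfl

/-- **the constant of a morphism lies in `L(E - D)`** -/
theorem homConst_le (Cv : TrivCover L) (T : GenTriv L) (Cv' : TrivCover M) (T' : GenTriv M)
    (φ : L ⟶ M) (Q : Place k C.functionField) :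
    Q.1 (T.homConst T' φ) * exp (Cv.D hC T Q) ≤ exp (Cv'.D hC T' Q) := by
  obtain ⟨x, rfl⟩ := placeOf_surjective hC Q
  obtain ⟨i, hi⟩ := Cv.cov x.1
  rw [Cv.exp_D hC T i _ ⟨x, hi, rfl⟩, ← map_mul]
  have h1 : T.homConst T' φ * Cv.f T i = T'.eps (Cv.U i) (Cv.hξ i) (φ.app (Cv.U i) (Cv.σ i)) :=
    (T.eps_hom T' φ (Cv.U i) (Cv.hξ i) (Cv.σ i)).symm
  rw [h1]
  exact Cv'.eps_cond hC T' (Cv.U i) (Cv.hξ i) _ ⟨x.1, hi⟩ x.2

/-- **a morphism whose constant has exactly the valuations of `E - D` is an isomorphism** -/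
theorem isIso_of_homConst (Cv : TrivCover L) (T : GenTriv L) (Cv' : TrivCover M) (T' : GenTriv M)
    (φ : L ⟶ M)
    (heq : ∀ Q : Place k C.functionField,
      Q.1 (T.homConst T' φ) * exp (Cv.D hC T Q) = exp (Cv'.D hC T' Q)) : IsIso φ := by
  apply Groth.Agent.H54.MeroDivIso.isIso_of_local_bases
  intro y
  obtain ⟨x, hxy⟩ : ∃ x : {x : C // IsClosed ({x} : Set C)}, ∀ V : C.Opens, x.1 ∈ V → y ∈ V := by
    rcases hC.isClosed_or_eq_genericPoint y with hcl | hgen
    · exact ⟨⟨y, hcl⟩, fun V h => h⟩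
    · obtain ⟨x', hx'⟩ := hC.exists_isClosed_singleton
      refine ⟨⟨x', hx'⟩, fun V h => ?_⟩
      rw [hgen]
      exact genericPoint_mem_of_mem ⟨x', h⟩
  obtain ⟨i, hi⟩ := Cv.cov x.1
  obtain ⟨j, hj⟩ := Cv'.cov x.1
  let W : C.Opens := Cv.U i ⊓ Cv'.U j
  have hxW : x.1 ∈ W := ⟨hi, hj⟩
  have hξW : genericPoint C ∈ W := ⟨Cv.hξ i, Cv'.hξ j⟩
  have hWi : W ≤ Cv.U i := inf_le_left
  have hWj : W ≤ Cv'.U j := inf_le_right
  haveI : Nonempty W := ⟨⟨x.1, hxW⟩⟩
  obtain ⟨a, ha⟩ := (Cv'.free j).exists_smul_eq hWj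
    (M.presheaf.map (homOfLE hWi).op (φ.app (Cv.U i) (Cv.σ i)))
  have h1 : T.homConst T' φ * Cv.f T i =
      C.presheaf.germ W (genericPoint C) hξW a * Cv'.f T' j := by
    have e0 : T.homConst T' φ * Cv.f T i =
        T'.eps (Cv.U i) (Cv.hξ i) (φ.app (Cv.U i) (Cv.σ i)) :=
      (T.eps_hom T' φ (Cv.U i) (Cv.hξ i) (Cv.σ i)).symm
    rw [e0, ← T'.eps_res _ W hWi hξW, ← ha, T'.eps_smul, T'.eps_res]
    rfl
  have h2 : (placeOf hC x).1 (C.presheaf.germ W (genericPoint C) hξW a) = 1 := by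
    have e1 := heq (placeOf hC x)
    rw [Cv.exp_D hC T i _ ⟨x, hi, rfl⟩, Cv'.exp_D hC T' j _ ⟨x, hj, rfl⟩, ← map_mul, h1,
      map_mul] at e1
    have hne : (placeOf hC x).1 (Cv'.f T' j) ≠ 0 := (map_ne_zero _).mpr (Cv'.f_ne_zero T' j)
    exact mul_right_cancel₀ hne (e1.trans (one_mul _).symm)
  have h3 : x.1 ∈ C.basicOpen a := by
    rw [Scheme.mem_basicOpen _ _ _ hxW]
    by_contra hnu
    have hm : C.presheaf.germ W x.1 hxW a ∈ IsLocalRing.maximalIdeal (C.presheaf.stalk x.1) :=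
      (IsLocalRing.mem_maximalIdeal _).mpr hnu
    have hlt := val_lt_one_of_mem_maximalIdeal hC x _ hm
    rw [C.algebraMap_germ_eq_germToFunctionField hxW a] at hlt
    exact absurd h2 (ne_of_lt hlt)
  let V : C.Opens := C.basicOpen a
  have hVW : V ≤ W := C.basicOpen_le a
  have hy : y ∈ V := hxy V h3
  refine ⟨V, hy, L.presheaf.map (homOfLE (hVW.trans hWi)).op (Cv.σ i),
    ((Cv.free i).res (hVW.trans hWi)).germ_bijective hy, ?_⟩
  have hfree : IsFreeGen M V
      (φ.app V (L.presheaf.map (homOfLE (hVW.trans hWi)).op (Cv.σ i))) := by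
    have e1 : φ.app V (L.presheaf.map (homOfLE (hVW.trans hWi)).op (Cv.σ i)) =
        C.presheaf.map (homOfLE hVW).op a •
          M.presheaf.map (homOfLE (hVW.trans hWj)).op (Cv'.σ j) := by
      rw [app_map]
      have e2 : M.presheaf.map (homOfLE (hVW.trans hWi)).op (φ.app (Cv.U i) (Cv.σ i)) =
          mres M hVW (mres M hWi (φ.app (Cv.U i) (Cv.σ i))) := (mres_mres M hWi hVW _).symm
      rw [e2]
      change mres M hVW (M.presheaf.map (homOfLE hWi).op (φ.app (Cv.U i) (Cv.σ i))) = _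
      rw [← ha]
      change mres M hVW (a • mres M hWj (Cv'.σ j)) = _
      rw [mres_smul, mres_mres]
    rw [e1]
    exact Groth.Agent.H67.BasisLocal.isBasisOn_smul_of_isUnit ((Cv'.free j).res (hVW.trans hWj)) _
      ((isUnit_res_iff_le_basicOpen hVW a).mpr le_rfl)
  exact hfree.germ_bijective hy

end TrivCover

section iso

variable {X : Scheme.{u}} {L M : X.Modules}

theorem bijective_app_of_iso (e : L ≅ M) (V : X.Opens) : Function.Bijective (e.hom.app V) := by
  haveI : IsIso (e.hom.app V) :=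
    (Scheme.Modules.Hom.isIso_iff_isIso_app (φ := e.hom)).1 inferInstance V
  exact ConcreteCategory.bijective_of_isIso (e.hom.app V)

theorem isFreeGen_of_iso (e : L ≅ M) {U : X.Opens} {σ : Γ(L, U)} (hσ : IsFreeGen L U σ) :
    IsFreeGen M U (e.hom.app U σ) := by
  intro V hV
  have h1 : (fun r : Γ(X, V) => r • M.presheaf.map (homOfLE hV).op (e.hom.app U σ)) =
      (e.hom.app V) ∘ (fun r : Γ(X, V) => r • L.presheaf.map (homOfLE hV).op σ) := by
    funext r
    rw [Function.comp_apply, Scheme.Modules.Hom.app_smul, app_map]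
  rw [h1]
  exact (bijective_app_of_iso e V).comp (hσ V hV)

variable [IsIntegral X]

/-- transport of a generic trivialization along an isomorphism -/
noncomputable def GenTriv.map (T : GenTriv L) (e : L ≅ M) : GenTriv M :=
  ⟨T.U, T.mem, e.hom.app T.U T.σ, isFreeGen_of_iso e T.free⟩

theorem GenTriv.eps_map (T : GenTriv L) (e : L ≅ M) (V : X.Opens) (hV : genericPoint X ∈ V)
    (s : Γ(L, V)) : (T.map e).eps V hV (e.hom.app V s) = T.eps V hV s := by
  rw [T.eps_hom (T.map e) e.hom V hV s]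
  have : T.homConst (T.map e) e.hom = 1 := (T.map e).eps_self
  rw [this, one_mul]

end iso

/-- transport of a trivializing cover along an isomorphism -/
noncomputable def TrivCover.map (Cv : TrivCover L) (e : L ≅ M) : TrivCover M where
  ι := Cv.ι
  fin := Cv.fin
  U := Cv.U
  haff := Cv.haff
  hξ := Cv.hξ
  σ := fun i => e.hom.app (Cv.U i) (Cv.σ i)
  free := fun i => isFreeGen_of_iso e (Cv.free i)
  cov := Cv.cov

theorem TrivCover.D_map (Cv : TrivCover L) (T : GenTriv L) (e : L ≅ M) :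
    (Cv.map e).D hC (T.map e) = Cv.D hC T := by
  ext Q
  obtain ⟨i, hi⟩ := Cv.covS hC Q
  have hi' : Q ∈ (Cv.map e).S hC i := hi
  apply exp_injective
  rw [(Cv.map e).exp_D hC (T.map e) i Q hi', Cv.exp_D hC T i Q hi]
  change Q.1 ((T.map e).eps (Cv.U i) (Cv.hξ i) (e.hom.app (Cv.U i) (Cv.σ i))) = _
  rw [T.eps_map e]
  rfl

variable {D E : Divisor k C.functionField}

/-- **isomorphic modules have the same divisors** -/
theorem IsDiv.of_iso (e : L ≅ M) (h : IsDiv hC L D) : IsDiv hC M D := by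
  obtain ⟨T, Cv, rfl⟩ := h
  exact ⟨T.map e, Cv.map e, TrivCover.D_map hC Cv T e⟩

theorem exp_add_div (hK : IsFunctionField k C.functionField) (D : Divisor k C.functionField)
    {c : C.functionField} (hc : c ≠ 0) (Q : Place k C.functionField) :
    exp ((D + div k c⁻¹) Q) = Q.1 c * exp (D Q) := by
  rw [Finsupp.add_apply, Place.div_apply hK, exp_add, mul_comm]
  congr 1
  unfold FunFld.Place.ord
  rw [map_inv₀, log_inv, neg_neg, exp_log ((map_ne_zero _).mpr hc)]

/-- **a monomorphism of invertible modules is, on divisors, an inequality up to linear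
equivalence, strict unless it is an isomorphism** -/
theorem IsDiv.exists_div_le_of_mono (hM : PicF.IsInvertible M) (h : IsDiv hC L D)
    (h' : IsDiv hC M E) (φ : L ⟶ M) [Mono φ] :
    ∃ c : C.functionField, c ≠ 0 ∧ D + div k c ≤ E ∧ (D + div k c = E → IsIso φ) := by
  obtain ⟨T, Cv, rfl⟩ := h
  obtain ⟨T', Cv', rfl⟩ := h'
  have hK := hC.isFunctionField
  have hc := T.homConst_ne_zero hM T' φ
  refine ⟨(T.homConst T' φ)⁻¹, inv_ne_zero hc, fun Q => ?_, fun heq => ?_⟩
  · have h1 := TrivCover.homConst_le hC Cv T Cv' T' φ Q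
    rw [← exp_add_div hK _ hc Q] at h1
    exact exp_le_exp.mp h1
  · apply TrivCover.isIso_of_homConst hC Cv T Cv' T' φ
    intro Q
    rw [← exp_add_div hK _ hc Q, heq]

/-- **the divisor of an invertible module is unique up to linear equivalence** -/
theorem IsDiv.exists_eq_add_div_of_iso (e : L ≅ M) (h : IsDiv hC L D) (h' : IsDiv hC M E) :
    ∃ c : C.functionField, c ≠ 0 ∧ E = D + div k c := by
  obtain ⟨T, Cv, rfl⟩ := h
  obtain ⟨T', Cv', rfl⟩ := h'
  have hK := hC.isFunctionField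
  have hc := T.homConst_iso_ne_zero T' e
  have hc' := T'.homConst_iso_ne_zero T e.symm
  have h12 : T.homConst T' e.hom * T'.homConst T e.inv = 1 := by
    rw [← T.homConst_comp T' T e.hom e.inv, e.hom_inv_id, T.homConst_id]
  refine ⟨(T.homConst T' e.hom)⁻¹, inv_ne_zero hc, ?_⟩
  ext Q
  apply exp_injective
  rw [exp_add_div hK _ hc Q]
  apply le_antisymm
  · have h2 := TrivCover.homConst_le hC Cv' T' Cv T e.inv Q
    have h3 : Q.1 (T.homConst T' e.hom) * (Q.1 (T'.homConst T e.inv) *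
        exp (Cv'.D hC T' Q)) ≤ Q.1 (T.homConst T' e.hom) * exp (Cv.D hC T Q) :=
      mul_le_mul' le_rfl h2
    rwa [← mul_assoc, ← map_mul, h12, map_one, one_mul] at h3
  · exact TrivCover.homConst_le hC Cv T Cv' T' e.hom Q

theorem IsDiv.exists_eq_add_div (h : IsDiv hC L D) (h' : IsDiv hC L E) :
    ∃ c : C.functionField, c ≠ 0 ∧ E = D + div k c :=
  h.exists_eq_add_div_of_iso hC (Iso.refl L) h'

include hC in
/-- degrees along monomorphisms of invertible modules -/
theorem deg_le_of_mono (hL : PicF.IsInvertible L) (hM : PicF.IsInvertible M) (φ : L ⟶ M)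
    [Mono φ] : Curv2.deg k C L 1 ≤ Curv2.deg k C M 1 := by
  obtain ⟨D, hD⟩ := exists_isDiv hC hL
  obtain ⟨E, hE⟩ := exists_isDiv hC hM
  obtain ⟨c, hc, hle, -⟩ := hD.exists_div_le_of_mono hC hM hE φ
  rw [hD.deg_eq hC hL, hE.deg_eq hC hM, ← deg_add_div hC.isFunctionField D c]
  exact Divisor.deg_mono hle

include hC in
theorem deg_lt_of_mono_of_not_isIso (hL : PicF.IsInvertible L) (hM : PicF.IsInvertible M)
    (φ : L ⟶ M) [Mono φ] (hφ : ¬ IsIso φ) : Curv2.deg k C L 1 < Curv2.deg k C M 1 := by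
  obtain ⟨D, hD⟩ := exists_isDiv hC hL
  obtain ⟨E, hE⟩ := exists_isDiv hC hM
  obtain ⟨c, hc, hle, hiso⟩ := hD.exists_div_le_of_mono hC hM hE φ
  have hK := hC.isFunctionField
  rw [hD.deg_eq hC hL, hE.deg_eq hC hM, ← deg_add_div hK D c]
  have hZ : (0 : Divisor k C.functionField) ≤ E - (D + div k c) := by
    intro Q
    have := hle Q
    rw [Finsupp.sub_apply, Finsupp.zero_apply]
    omega
  have hZne : E - (D + div k c) ≠ 0 := by
    intro h0
    exact hφ (hiso (sub_eq_zero.mp h0).symm)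
  have := deg_pos_of_nonneg_ne_zero hK hZ hZne
  rw [Divisor.deg_sub] at this
  omega

end Groth.Agent.H76.Curve
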