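import Mathlib
import Groth.Agent.H71.IdealInvertible
import Groth.Agent.H76.CurveM

/-!
helper76, line-bundle bridge for curves, part N: **the ideal sheaf of a closed point `P` of a
`GCurve` is `O_C(-P)`**.

* `ODHomData`, `ODHomData.hom`: morphisms into `O_C(D)` from compatible families of additive maps
  `Γ(L, U) → K(C)`;
* `mem_vanishingIdeal_point_iff`;
* `pointIdealHom`, `isIso_pointIdealHom`: `idealMod (vanishingIdeal {P}) ≅ O_C(-P)`;
* `isDiv_pointIdeal`, `isInvertible_pointIdeal`.
-/

set_option autoImplicit false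
set_option linter.style.haveILetI false
open CategoryTheory CategoryTheory.Limits AlgebraicGeometry TopologicalSpace Topology FunFld Opposite
universe u

namespace Groth.Agent.H76.Curve

attribute [local instance] Curv2.stalkAlgebra Curv2.resAlgebra

open Groth.Agent.H8 Groth.Agent.H62 Groth.Agent.H62.GD WithZero Groth.Agent.H55

variable {k : Type u} [Field k] {C : Scheme.{u}} [C.Over (Spec (CommRingCat.of k))]
  [IsIntegral C]

variable (hC : GCurve k C)

/-- data defining a morphism into `O_C(D)` -/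
structure ODHomData (L : C.Modules) (D : Divisor k C.functionField) where
  φ : ∀ (U : C.Opens), genericPoint C ∈ U → (Γ(L, U) →+ C.functionField)
  res : ∀ (U V : C.Opens) (h : V ≤ U) (hξ : genericPoint C ∈ V) (s : Γ(L, U)),
    φ V hξ (L.presheaf.map (homOfLE h).op s) = φ U (h hξ) s
  smul : ∀ (U : C.Opens) (hξ : genericPoint C ∈ U) (r : Γ(C, U)) (s : Γ(L, U)),
    φ U hξ (r • s) = C.presheaf.germ U (genericPoint C) hξ r * φ U hξ s
  cond : ∀ (U : C.Opens) (hξ : genericPoint C ∈ U) (s : Γ(L, U)) (x : U),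
    ODcond hC D (φ U hξ s) x.1

namespace ODHomData

variable {hC} {L : C.Modules} {D : Divisor k C.functionField} (A : ODHomData hC L D)

/-- the map on sections -/
noncomputable def toFun (U : C.Opens) : Γ(L, U) →+ Γ(OD hC D, U) where
  toFun m := ⟨fun x => A.φ U (genericPoint_mem_of_mem x) m,
    by
      by_cases hU : ∃ x : C, x ∈ U
      · obtain ⟨x₀, hx₀⟩ := hU
        exact ⟨A.φ U (genericPoint_mem_of_mem ⟨x₀, hx₀⟩) m, fun x => rfl,
          fun x => A.cond U _ m x⟩
      · exact ⟨0, fun x => absurd ⟨x.1, x.2⟩ hU, fun x => absurd ⟨x.1, x.2⟩ hU⟩⟩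
  map_zero' := OD_ext fun x => map_zero _
  map_add' a b := OD_ext fun x => map_add _ a b

/-- the morphism into `O_C(D)` -/
noncomputable def hom : L ⟶ OD hC D :=
  ⟨PresheafOfModules.homMk
    { app := fun U => AddCommGrpCat.ofHom (A.toFun U.unop)
      naturality := fun {U V} i => by
        ext m
        refine OD_ext fun x => ?_
        exact A.res U.unop V.unop i.unop.le (genericPoint_mem_of_mem x) m }
    (fun U r m => OD_ext fun x => by
      haveI : Nonempty U.unop := ⟨x⟩
      have h1 := A.smul U.unop (genericPoint_mem_of_mem x) r m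
      refine h1.trans ?_
      symm
      change C.presheaf.germ U.unop x.1 x.2 r • A.φ U.unop (genericPoint_mem_of_mem x) m = _
      rw [Algebra.smul_def, C.algebraMap_germ_eq_germToFunctionField x.2 r])⟩

theorem hom_val (U : C.Opens) (hξ : genericPoint C ∈ U) (m : Γ(L, U)) :
    ODval hξ (A.hom.app U m) = A.φ U hξ m := rfl

end ODHomData

section vanishing

omit [C.Over (Spec (CommRingCat.of k))] [IsIntegral C] in
/-- sections of the vanishing ideal of a closed point over an affine open -/
theorem mem_vanishingIdeal_point_iff (P : C) (hP : IsClosed ({P} : Set C)) {U : C.Opens}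
    (hU : IsAffineOpen U) (f : Γ(C, U)) :
    f ∈ (Scheme.IdealSheafData.vanishingIdeal ⟨{P}, hP⟩).ideal ⟨U, hU⟩ ↔ P ∉ C.basicOpen f := by
  rw [Scheme.IdealSheafData.vanishingIdeal_ideal, PrimeSpectrum.mem_vanishingIdeal]
  constructor
  · intro h hPf
    have hPU : P ∈ U := C.basicOpen_le f hPf
    have h1 := h (hU.primeIdealOf ⟨P, hPU⟩) (by
      change hU.fromSpec (hU.primeIdealOf ⟨P, hPU⟩) ∈ ({P} : Set C)
      rw [hU.fromSpec_primeIdealOf]
      rfl)
    have h2 : hU.primeIdealOf ⟨P, hPU⟩ ∈ hU.fromSpec ⁻¹ᵁ C.basicOpen f := by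
      change hU.fromSpec (hU.primeIdealOf ⟨P, hPU⟩) ∈ C.basicOpen f
      rw [hU.fromSpec_primeIdealOf]
      exact hPf
    rw [hU.fromSpec_preimage_basicOpen] at h2
    exact h2 h1
  · intro h p hp
    have hp' : hU.fromSpec p = P := hp
    by_contra hfp
    have h2 : p ∈ hU.fromSpec ⁻¹ᵁ C.basicOpen f := by
      rw [hU.fromSpec_preimage_basicOpen]
      exact hfp
    have h3 : hU.fromSpec p ∈ C.basicOpen f := h2
    rw [hp'] at h3
    exact h h3

end vanishing

section valuations

theorem val_germ_le_one (x : {x : C // IsClosed ({x} : Set C)}) {U : C.Opens} (hx : x.1 ∈ U)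
    (hξ : genericPoint C ∈ U) (a : Γ(C, U)) :
    (placeOf hC x).1 (C.presheaf.germ U (genericPoint C) hξ a) ≤ 1 := by
  haveI : Nonempty U := ⟨⟨x.1, hx⟩⟩
  apply (placeOf_le_one_iff hC x _).mpr
  exact ⟨C.presheaf.germ U x.1 hx a, C.algebraMap_germ_eq_germToFunctionField hx a⟩

theorem val_germ_lt_one_iff (x : {x : C // IsClosed ({x} : Set C)}) {U : C.Opens} (hx : x.1 ∈ U)
    (hξ : genericPoint C ∈ U) (a : Γ(C, U)) :
    (placeOf hC x).1 (C.presheaf.germ U (genericPoint C) hξ a) < 1 ↔ x.1 ∉ C.basicOpen a := by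
  haveI : Nonempty U := ⟨⟨x.1, hx⟩⟩
  rw [Scheme.mem_basicOpen _ _ _ hx]
  constructor
  · intro hlt hu
    obtain ⟨u, hu⟩ := hu
    have h1 := val_unit_eq_one hC x u
    rw [hu, C.algebraMap_germ_eq_germToFunctionField hx a] at h1
    exact absurd h1 (ne_of_lt hlt)
  · intro hnu
    have hm : C.presheaf.germ U x.1 hx a ∈ IsLocalRing.maximalIdeal (C.presheaf.stalk x.1) :=
      (IsLocalRing.mem_maximalIdeal _).mpr hnu
    have hlt := val_lt_one_of_mem_maximalIdeal hC x _ hm
    rwa [C.algebraMap_germ_eq_germToFunctionField hx a] at hlt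

omit [C.Over (Spec (CommRingCat.of k))] [IsIntegral C] in
theorem le_exp_neg_one_of_lt_one {v : ℤᵐ⁰} (h : v < 1) : v ≤ exp (-1) := by
  by_cases hv : v = 0
  · rw [hv]; exact zero_le
  · rw [← exp_log hv, ← exp_zero, exp_lt_exp] at h
    rw [← exp_log hv, exp_le_exp]
    omega

end valuations

section pointIdeal

variable (P : C) (hP : IsClosed ({P} : Set C))

omit [C.Over (Spec (CommRingCat.of k))] [IsIntegral C] in
theorem idealSect_map (K : C.IdealSheafData) {U V : C.Opens} (h : V ≤ U)
    (s : Γ(ClSub.idealMod K, U)) :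
    OmegaSh.idealSect K V ((ClSub.idealMod K).presheaf.map (homOfLE h).op s) =
      C.presheaf.map (homOfLE h).op (OmegaSh.idealSect K U s) :=
  OmegaSh.idealModι_app_map U K h s

/-- the divisor `-P` -/
noncomputable def negPt : Divisor k C.functionField :=
  -Finsupp.single (placeOf hC ⟨P, hP⟩) 1

/-- the data of the comparison morphism `I_P ⟶ O_C(-P)` -/
noncomputable def pointIdealData :
    ODHomData hC (ClSub.idealMod (Scheme.IdealSheafData.vanishingIdeal ⟨{P}, hP⟩))
      (negPt hC P hP) where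
  φ U hξ := (C.presheaf.germ U (genericPoint C) hξ).hom.toAddMonoidHom.comp
    (OmegaSh.idealSect (Scheme.IdealSheafData.vanishingIdeal ⟨{P}, hP⟩) U)
  res U V h hξ s := by
    change C.presheaf.germ V (genericPoint C) hξ (OmegaSh.idealSect _ V _) =
      C.presheaf.germ U (genericPoint C) (h hξ) (OmegaSh.idealSect _ U s)
    rw [idealSect_map, TopCat.Presheaf.germ_res_apply]
  smul U hξ r s := by
    change C.presheaf.germ U (genericPoint C) hξ (OmegaSh.idealSect _ U (r • s)) =
      C.presheaf.germ U (genericPoint C) hξ r *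
        C.presheaf.germ U (genericPoint C) hξ (OmegaSh.idealSect _ U s)
    rw [Groth.Agent.H71.IdealInv.idealSect_smul, map_mul]
  cond U hξ s x := by
    intro hx
    change (placeOf hC ⟨x.1, hx⟩).1
      (C.presheaf.germ U (genericPoint C) hξ (OmegaSh.idealSect _ U s)) ≤ _
    obtain ⟨V, hV, hxV, hVU'⟩ := exists_isAffineOpen_mem_and_subset (x := x.1) (U := U) x.2
    have hVU : V ≤ U := hVU'
    have hξV : genericPoint C ∈ V := genericPoint_mem_of_mem ⟨x.1, hxV⟩
    set a := OmegaSh.idealSect (Scheme.IdealSheafData.vanishingIdeal ⟨{P}, hP⟩) V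
      ((ClSub.idealMod _).presheaf.map (homOfLE hVU).op s) with ha
    have hmem : a ∈ (Scheme.IdealSheafData.vanishingIdeal ⟨{P}, hP⟩).ideal ⟨V, hV⟩ :=
      Groth.Agent.H71.IdealInv.idealSect_mem _ hV _
    have hPa : P ∉ C.basicOpen a := (mem_vanishingIdeal_point_iff P hP hV a).mp hmem
    have hgerm : C.presheaf.germ U (genericPoint C) hξ (OmegaSh.idealSect _ U s) =
        C.presheaf.germ V (genericPoint C) hξV a := by
      rw [ha, idealSect_map, TopCat.Presheaf.germ_res_apply]
    rw [hgerm]
    by_cases hxP : x.1 = P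
    · have e1 : (⟨x.1, hx⟩ : {x : C // IsClosed ({x} : Set C)}) = ⟨P, hP⟩ := Subtype.ext hxP
      rw [e1]
      have e2 : negPt hC P hP (placeOf hC ⟨P, hP⟩) = -1 := by
        unfold negPt
        rw [Finsupp.neg_apply, Finsupp.single_eq_same]
      rw [e2]
      apply le_exp_neg_one_of_lt_one
      exact (val_germ_lt_one_iff hC ⟨P, hP⟩ (hxP ▸ hxV) hξV a).mpr hPa
    · have e2 : negPt hC P hP (placeOf hC ⟨x.1, hx⟩) = 0 := by
        unfold negPt
        rw [Finsupp.neg_apply, Finsupp.single_eq_of_ne, neg_zero]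
        intro h
        exact hxP (congrArg Subtype.val (placeOf_injective hC h))
      rw [e2, exp_zero]
      exact val_germ_le_one hC ⟨x.1, hx⟩ hxV hξV a

/-- the comparison morphism `I_P ⟶ O_C(-P)` -/
noncomputable def pointIdealHom :
    ClSub.idealMod (Scheme.IdealSheafData.vanishingIdeal ⟨{P}, hP⟩) ⟶ OD hC (negPt hC P hP) :=
  (pointIdealData hC P hP).hom

theorem pointIdealHom_val (U : C.Opens) (hξ : genericPoint C ∈ U)
    (s : Γ(ClSub.idealMod (Scheme.IdealSheafData.vanishingIdeal ⟨{P}, hP⟩), U)) :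
    ODval hξ ((pointIdealHom hC P hP).app U s) =
      C.presheaf.germ U (genericPoint C) hξ
        (OmegaSh.idealSect (Scheme.IdealSheafData.vanishingIdeal ⟨{P}, hP⟩) U s) := rfl

theorem negPt_le_zero (Q : Place k C.functionField) : negPt hC P hP Q ≤ 0 := by
  classical
  unfold negPt
  rw [Finsupp.neg_apply, Finsupp.single_apply]
  split_ifs <;> omega

/-- **the ideal sheaf of a closed point `P` is `O_C(-P)`** -/
theorem isIso_pointIdealHom : IsIso (pointIdealHom hC P hP) := by
  apply Groth.Agent.H7.ZClosBase.isIso_of_isBasis _ C.isBasis_affineOpens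
  intro U hU
  have hU' : IsAffineOpen U := hU
  by_cases hne : ∃ x : C, x ∈ U
  · obtain ⟨x₀, hx₀⟩ := hne
    have hξ : genericPoint C ∈ U := genericPoint_mem_of_mem ⟨x₀, hx₀⟩
    constructor
    · intro s s' hss'
      have h1 := congrArg (ODval hξ) hss'
      rw [pointIdealHom_val, pointIdealHom_val] at h1
      exact Groth.Agent.H71.IdealInv.idealSect_injective _ U
        (germ_injective_of_isIntegral C (genericPoint C) hξ h1)
    · intro t
      have hz : ODval hξ t ∈ CF.holo (placesIn hC U) := by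
        rw [CF.mem_holo]
        rintro Q ⟨x, hx, rfl⟩
        refine (ODval_cond hξ t ⟨x.1, hx⟩ x.2).trans ?_
        rw [← exp_zero, exp_le_exp]
        exact negPt_le_zero hC P hP _
      obtain ⟨a, ha⟩ := (mem_holo_placesIn_iff hC hU' hξ _).mp hz
      have hmem : a ∈ (Scheme.IdealSheafData.vanishingIdeal ⟨{P}, hP⟩).ideal ⟨U, hU'⟩ := by
        rw [mem_vanishingIdeal_point_iff P hP hU' a]
        by_cases hPU : P ∈ U
        · rw [← val_germ_lt_one_iff hC ⟨P, hP⟩ hPU hξ a]
          have h1 := ODval_cond hξ t ⟨P, hPU⟩ hP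
          have e2 : negPt hC P hP (placeOf hC ⟨P, hP⟩) = -1 := by
            unfold negPt
            rw [Finsupp.neg_apply, Finsupp.single_eq_same]
          rw [e2] at h1
          change (placeOf hC ⟨P, hP⟩).1 ((C.presheaf.germ U (genericPoint C) hξ).hom a) < 1
          rw [ha]
          refine lt_of_le_of_lt h1 ?_
          rw [← exp_zero, exp_lt_exp]
          omega
        · exact fun h => hPU (C.basicOpen_le a h)
      obtain ⟨s, hs⟩ := Groth.Agent.H71.IdealInv.exists_idealSect_eq _ hU' a hmem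
      refine ⟨s, OD_ext fun x => ?_⟩
      rw [ODval_spec hξ _ x, ODval_spec hξ t x, pointIdealHom_val, hs]
      exact ha
  · have hbot : U = ⊥ := by
      ext x
      simp only [Opens.coe_bot, Set.mem_empty_iff_false, iff_false]
      exact fun hx => hne ⟨x, hx⟩
    subst hbot
    constructor
    · intro s s' _
      apply Groth.Agent.H71.IdealInv.idealSect_injective _ ⊥
      exact Subsingleton.elim _ _
    · intro t
      exact ⟨0, OD_ext fun x => absurd ⟨x.1, x.2⟩ hne⟩

/-- the isomorphism `I_P ≅ O_C(-P)` -/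
noncomputable def pointIdealIso :
    ClSub.idealMod (Scheme.IdealSheafData.vanishingIdeal ⟨{P}, hP⟩) ≅ OD hC (negPt hC P hP) :=
  haveI := isIso_pointIdealHom hC P hP
  asIso (pointIdealHom hC P hP)

/-- **`-P` is a divisor of the ideal sheaf of the closed point `P`** -/
theorem isDiv_pointIdeal :
    IsDiv hC (ClSub.idealMod (Scheme.IdealSheafData.vanishingIdeal ⟨{P}, hP⟩))
      (negPt hC P hP) :=
  (isDiv_OD hC (negPt hC P hP)).of_iso hC (pointIdealIso hC P hP).symm

include hC in
theorem isInvertible_pointIdeal :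
    PicF.IsInvertible (ClSub.idealMod (Scheme.IdealSheafData.vanishingIdeal ⟨{P}, hP⟩)) :=
  isInvertible_of_iso (pointIdealIso hC P hP).symm (isInvertible_OD hC (negPt hC P hP))

end pointIdeal

end Groth.Agent.H76.Curve
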