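import Mathlib
import Groth.Agent.H54.PullbackSection
import Groth.Agent.H67.GlobGenPointwise
import Groth.Agent.H76.CurveN

/-!
helper76, line-bundle bridge for curves, part O: **global generation of invertible modules on a
`GCurve`** in terms of the function field: `L` with divisor `D` is globally generated iff `D` has no
base points, i.e. for every place `P` there is `z ∈ L(D)` with `v_P(z) = exp (D P)`
(`IsDiv.isGloballyGenerated_iff`); equivalently `ℓ(D - P) ≠ ℓ(D)` (`exists_val_eq_iff_ell_ne`).
-/

set_option autoImplicit false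
set_option linter.style.haveILetI false
open CategoryTheory CategoryTheory.Limits AlgebraicGeometry TopologicalSpace Topology FunFld Opposite
universe u

namespace Groth.Agent.H76.Curve

attribute [local instance] Curv2.stalkAlgebra Curv2.resAlgebra

open Groth.Agent.H8 Groth.Agent.H62 Groth.Agent.H62.GD WithZero Groth.Agent.H55
open Groth.Agent.H18 Groth.Agent.H18.STL Groth.Agent.H18.PUP

section categorical

variable {X : Scheme.{u}}

/-- if all the components of an epimorphism from a free module factor through `j`, then `j` is an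
epimorphism -/
theorem epi_of_factor {ι : Type u} {L N : X.Modules}
    (p : (SheafOfModules.free ι : X.Modules) ⟶ L) [Epi p] (j : N ⟶ L)
    (h : ∀ i, ∃ t : Coh.structureModule X ⟶ N, t ≫ j = SheafOfModules.ιFree i ≫ p) : Epi j := by
  choose t ht using h
  let q : (SheafOfModules.free ι : X.Modules) ⟶ N :=
    Sigma.desc (f := fun _ : ι => Coh.structureModule X) t
  have hq : ∀ i, SheafOfModules.ιFree i ≫ q = t i := fun i =>
    Sigma.ι_desc (f := fun _ : ι => Coh.structureModule X) t i
  have h1 : p = q ≫ j := by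
    refine Sigma.hom_ext (f := fun _ : ι => Coh.structureModule X) _ _ (fun i => ?_)
    have e1 : SheafOfModules.ιFree i ≫ (q ≫ j) = t i ≫ j :=
      (Category.assoc _ _ _).symm.trans (congrArg (fun r => r ≫ j) (hq i))
    exact (ht i).symm.trans e1.symm
  haveI : Epi (q ≫ j) := h1 ▸ (inferInstance : Epi p)
  exact epi_of_epi q j

theorem isGloballyGenerated_of_iso {L M : X.Modules} (e : L ≅ M)
    (h : Curv2.IsGloballyGenerated L) : Curv2.IsGloballyGenerated M := by
  obtain ⟨ι, p, hp⟩ := h
  exact ⟨ι, p ≫ e.hom, epi_comp p e.hom⟩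

end categorical

variable {k : Type u} [Field k] {C : Scheme.{u}} [C.Over (Spec (CommRingCat.of k))]
  [IsIntegral C]

variable (hC : GCurve k C)

section incl

variable {D E : Divisor k C.functionField}

/-- the data of the inclusion `O_C(D) ⟶ O_C(E)` for `D ≤ E` -/
noncomputable def ODinclData (h : D ≤ E) : ODHomData hC (OD hC D) E where
  φ _ hξ :=
    { toFun := fun s => ODval hξ s
      map_zero' := rfl
      map_add' := fun _ _ => rfl }
  res _ _ _ _ _ := rfl
  smul U hξ r s := OD_smul_val hξ r s
  cond U hξ s x := fun hx => (ODval_cond hξ s x hx).trans (exp_le_exp.mpr (h _))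

/-- the inclusion `O_C(D) ⟶ O_C(E)` for `D ≤ E` -/
noncomputable def ODincl (h : D ≤ E) : OD hC D ⟶ OD hC E := (ODinclData hC h).hom

theorem ODincl_apply (h : D ≤ E) (U : C.Opens) (s : Γ(OD hC D, U)) (x : U) :
    ((ODincl hC h).app U s).1 x = s.1 x :=
  (ODval_spec (genericPoint_mem_of_mem x) s x).symm

instance (h : D ≤ E) : Mono (ODincl hC h) := by
  apply Groth.Agent.H7.ZClosBase.mono_of_injective_app
  intro U s s' hss'
  refine OD_ext fun x => ?_
  rw [← ODincl_apply hC h U s x, ← ODincl_apply hC h U s' x, hss']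

end incl

section gg

variable (D : Divisor k C.functionField)

/-- the global section of `O_C(D)` attached to an element of `L(D)` -/
noncomputable def ODglob (z : C.functionField) (hz : z ∈ L D) : Γ(OD hC D, (⊤ : C.Opens)) :=
  ODsec ⊤ z (fun _ _ => hz _)

theorem ODval_evOne_mem (a : Coh.structureModule C ⟶ OD hC D) :
    ODval (Opens.mem_top _) (Groth.Agent.H54.PB.evOne (OD hC D) a) ∈ L D := by
  intro Q
  obtain ⟨x, rfl⟩ := placeOf_surjective hC Q
  exact ODval_cond (Opens.mem_top _) (Groth.Agent.H54.PB.evOne (OD hC D) a) ⟨x.1, trivial⟩ x.2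

/-- a base point obstructs global generation -/
theorem not_isGloballyGenerated_OD_of_basePoint (P : Place k C.functionField)
    (hP : ∀ z ∈ L D, z ∈ L (D - Finsupp.single P 1)) :
    ¬ Curv2.IsGloballyGenerated (OD hC D) := by
  classical
  rintro ⟨ι, p, hp⟩
  have hK := hC.isFunctionField
  have hle : D - Finsupp.single P 1 ≤ D := by
    intro Q
    rw [Finsupp.sub_apply, Finsupp.single_apply]
    split_ifs <;> omega
  haveI : Epi (ODincl hC hle) := by
    apply epi_of_factor p (ODincl hC hle)
    intro i
    set a : Coh.structureModule C ⟶ OD hC D := SheafOfModules.ιFree i ≫ p with ha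
    set m := Groth.Agent.H54.PB.evOne (OD hC D) a with hm
    have hz := ODval_evOne_mem hC D a
    have hz' := hP _ hz
    refine ⟨sectionHom (OD hC (D - Finsupp.single P 1)) (ODglob hC _ _ hz'), ?_⟩
    rw [Groth.Agent.H54.PB.sectionHom_comp]
    have e1 : (ODincl hC hle).app ⊤ (ODglob hC _ _ hz') = m := by
      refine OD_ext fun x => ?_
      rw [ODincl_apply, ODval_spec (Opens.mem_top _) m x]
      rfl
    rw [e1]
    apply Groth.Agent.H54.PB.evOne_injective
    rw [Groth.Agent.H54.PB.evOne_sectionHom]
    rfl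
  haveI : IsIso (ODincl hC hle) := isIso_of_mono_of_epi _
  have h1 : IsDiv hC (OD hC D) (D - Finsupp.single P 1) :=
    (isDiv_OD hC _).of_iso hC (asIso (ODincl hC hle))
  obtain ⟨c, hc, hDc⟩ := (isDiv_OD hC D).exists_eq_add_div hC h1
  have h2 := congrArg Divisor.deg hDc
  rw [deg_add_div hK, Divisor.deg_sub, Divisor.deg_single] at h2
  have := Place.deg_pos hK P
  omega

/-- a divisor without base points gives a globally generated module -/
theorem isGloballyGenerated_OD_of_noBasePoint
    (h : ∀ P : Place k C.functionField, ∃ z ∈ L D, P.1 z = exp (D P)) :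
    Curv2.IsGloballyGenerated (OD hC D) := by
  apply Groth.Agent.H67.GlobGenPointwise.isGloballyGenerated_of_pointwise (isInvertible_OD hC D)
  intro x
  obtain ⟨x', hxx'⟩ : ∃ x' : {x : C // IsClosed ({x} : Set C)},
      ∀ V : C.Opens, x'.1 ∈ V → x ∈ V := by
    rcases hC.isClosed_or_eq_genericPoint x with hcl | hgen
    · exact ⟨⟨x, hcl⟩, fun V h => h⟩
    · obtain ⟨y, hy⟩ := hC.exists_isClosed_singleton
      refine ⟨⟨y, hy⟩, fun V h => ?_⟩
      rw [hgen]
      exact genericPoint_mem_of_mem ⟨y, h⟩
  obtain ⟨z, hz, hzP⟩ := h (placeOf hC x')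
  set s := sectionHom (OD hC D) (ODglob hC D z hz) with hs
  refine ⟨s, hxx' _ ?_⟩
  obtain ⟨V, t, hx'V, ht0, ht⟩ := exists_local_gen hC D x'.1
  have hξV : genericPoint C ∈ V := genericPoint_mem_of_mem ⟨x'.1, hx'V⟩
  have he : IsBasisOn (OD hC D) V (ODsec V t (fun x hx => (ht x hx).le)) :=
    isFreeGen_ODsec V t ht0 ht
  set f := he.coord le_rfl (SecTwist.val s V) with hf_def
  have hf : SecTwist.val s V = f • ODsec V t (fun x hx => (ht x hx).le) := by
    have := he.coord_smul le_rfl (SecTwist.val s V)
    rw [mres_self] at this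
    exact this.symm
  have hD := genLocus_inf_eq_basicOpen s he f hf
  have hval : ODval hξV (SecTwist.val s V) = z := by
    rw [hs, val_sectionHom]
    rfl
  have hzt : z = C.presheaf.germ V (genericPoint C) hξV f * t := by
    rw [← hval, hf, OD_smul_val, ODsec_val]
  have h1 : (placeOf hC x').1 (C.presheaf.germ V (genericPoint C) hξV f) = 1 := by
    have e1 := hzP
    rw [hzt, map_mul, ht ⟨x'.1, hx'V⟩ x'.2] at e1
    exact mul_right_cancel₀ exp_ne_zero (e1.trans (one_mul _).symm)
  have h2 : x'.1 ∈ C.basicOpen f := by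
    by_contra hcon
    have := (val_germ_lt_one_iff hC x' hx'V hξV f).mpr hcon
    exact absurd h1 (ne_of_lt this)
  rw [← hD] at h2
  exact h2.1

end gg

section FF

variable {k' K : Type*} [Field k'] [Field K] [Algebra k' K]

theorem le_exp_sub_one_of_lt {v : ℤᵐ⁰} {n : ℤ} (h : v < exp n) : v ≤ exp (n - 1) := by
  by_cases hv : v = 0
  · rw [hv]; exact zero_le
  · rw [← exp_log hv, exp_lt_exp] at h
    rw [← exp_log hv, exp_le_exp]
    omega

theorem mem_L_sub_single_iff (D : Divisor k' K) (P : Place k' K) (z : K) :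
    z ∈ L (D - Finsupp.single P 1) ↔ z ∈ L D ∧ P.1 z ≠ exp (D P) := by
  classical
  constructor
  · intro hz
    refine ⟨fun Q => (hz Q).trans (exp_le_exp.mpr ?_), fun heq => ?_⟩
    · rw [Finsupp.sub_apply, Finsupp.single_apply]
      split_ifs <;> omega
    · have h1 := hz P
      rw [heq, Finsupp.sub_apply, Finsupp.single_eq_same, exp_le_exp] at h1
      omega
  · rintro ⟨hz, hne⟩ Q
    by_cases hQ : Q = P
    · subst hQ
      rw [Finsupp.sub_apply, Finsupp.single_eq_same]
      exact le_exp_sub_one_of_lt (lt_of_le_of_ne (hz Q) hne)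
    · rw [Finsupp.sub_apply, Finsupp.single_eq_of_ne hQ, sub_zero]
      exact hz Q

theorem exists_val_eq_iff_ell_ne (hK : IsFunctionField k' K) (D : Divisor k' K) (P : Place k' K) :
    (∃ z ∈ L D, P.1 z = exp (D P)) ↔ ell (D - Finsupp.single P 1) ≠ ell D := by
  classical
  have hle : D - Finsupp.single P 1 ≤ D := by
    intro Q
    rw [Finsupp.sub_apply, Finsupp.single_apply]
    split_ifs <;> omega
  have hfin := L_finite hK D
  constructor
  · rintro ⟨z, hz, hzP⟩ heq
    have h1 : L (D - Finsupp.single P 1) = L D :=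
      Submodule.eq_of_le_of_finrank_eq (L_mono hle) heq
    have h2 : z ∈ L (D - Finsupp.single P 1) := h1 ▸ hz
    exact ((mem_L_sub_single_iff D P z).mp h2).2 hzP
  · intro hne
    by_contra hcon
    push Not at hcon
    apply hne
    have h1 : L D ≤ L (D - Finsupp.single P 1) := fun z hz =>
      (mem_L_sub_single_iff D P z).mpr ⟨hz, hcon z hz⟩
    unfold ell
    rw [le_antisymm (L_mono hle) h1]

end FF

/-- **global generation of an invertible module in terms of its divisor** -/
theorem IsDiv.isGloballyGenerated_iff {L : C.Modules} {D : Divisor k C.functionField}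
    (h : IsDiv hC L D) :
    Curv2.IsGloballyGenerated L ↔
      ∀ P : Place k C.functionField, ∃ z ∈ FunFld.L D, P.1 z = exp (D P) := by
  obtain ⟨e⟩ := h.nonempty_iso_OD hC
  constructor
  · intro hgg
    have hgg' := isGloballyGenerated_of_iso e hgg
    by_contra hcon
    push Not at hcon
    obtain ⟨P, hP⟩ := hcon
    exact not_isGloballyGenerated_OD_of_basePoint hC D P
      (fun z hz => (mem_L_sub_single_iff D P z).mpr ⟨hz, hP z hz⟩) hgg'
  · intro hP
    exact isGloballyGenerated_of_iso e.symm (isGloballyGenerated_OD_of_noBasePoint hC D hP)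

theorem IsDiv.isGloballyGenerated_iff_ell {L : C.Modules} {D : Divisor k C.functionField}
    (h : IsDiv hC L D) :
    Curv2.IsGloballyGenerated L ↔
      ∀ P : Place k C.functionField, ell (D - Finsupp.single P 1) ≠ ell D := by
  rw [h.isGloballyGenerated_iff hC]
  exact forall_congr' fun P => exists_val_eq_iff_ell_ne hC.isFunctionField D P

end Groth.Agent.H76.Curve
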