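import Mathlib
import Groth.Agent.H62.GW2
import Groth.Agent.H55.FFMisc
import Groth.Agent.H76.CurveH

/-!
helper76: `h⁰(L) ≤ deg L` for invertible modules of positive degree on smooth proper connected
curves of positive genus over an algebraically closed field (S18895), through the line-bundle
bridge `Groth.Agent.H76.Curve`.
-/

set_option autoImplicit false
set_option linter.style.haveILetI false
open CategoryTheory CategoryTheory.Limits AlgebraicGeometry TopologicalSpace Topology FunFld Opposite
universe u

namespace Groth.Agent.H76.Curve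

attribute [local instance] Curv2.stalkAlgebra Curv2.resAlgebra

open Groth.Agent.H55 Groth.Agent.H62 Groth.Agent.H62.GD

section FF

variable {k K : Type*} [Field k] [Field K] [Algebra k K]

/-- in positive genus, an effective divisor of positive degree has `ℓ(D) ≤ deg D` -/
theorem ell_le_deg_of_nonneg [IsAlgClosed k] (hK : IsFunctionField k K) (hg : 0 < genus k K)
    {D : Divisor k K} (hD : 0 ≤ D) (hdeg : 0 < D.deg) : (ell D : ℤ) ≤ D.deg := by
  classical
  obtain ⟨P, hP⟩ : ∃ P : Place k K, 0 < D P := by
    by_contra hcon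
    push Not at hcon
    have : D = 0 := by
      ext P
      exact le_antisymm (hcon P) (hD P)
    rw [this, Divisor.deg_zero] at hdeg
    exact lt_irrefl _ hdeg
  have hP1 := Place.deg_eq_one_of_isAlgClosed hK P
  have hle : (Finsupp.single P 1 : Divisor k K) ≤ D := by
    intro Q
    rw [Finsupp.single_apply]
    split_ifs with h
    · subst h; omega
    · exact hD Q
  have h1 := ell_sub_le hK hle
  rw [ell_single_one hK hg hP1, deg_single_of_deg_one hP1] at h1
  push_cast at h1
  omega

/-- in positive genus, a divisor of positive degree has `ℓ(D) ≤ deg D` -/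
theorem ell_le_deg_of_deg_pos [IsAlgClosed k] (hK : IsFunctionField k K) (hg : 0 < genus k K)
    (D : Divisor k K) (hdeg : 0 < D.deg) : (ell D : ℤ) ≤ D.deg := by
  by_cases h0 : ell D = 0
  · rw [h0]
    exact_mod_cast hdeg.le
  have hne : L D ≠ ⊥ := (ell_pos_iff hK D).mp (Nat.pos_of_ne_zero h0)
  obtain ⟨x, hx0, hx⟩ := (L_ne_bot_iff hK D).mp hne
  have h1 := ell_le_deg_of_nonneg hK hg hx (by rw [deg_add_div hK]; exact hdeg)
  rwa [ell_add_div hK D hx0, deg_add_div hK] at h1

end FF

/-- a smooth proper connected curve over an algebraically closed field is a `GCurve` -/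
theorem gcurve_of_smooth_of_isAlgClosed (k : Type u) [Field k] [IsAlgClosed k]
    (X : Scheme.{u}) [X.Over (Spec (CommRingCat.of k))] [IsIntegral X]
    [IsProper (X ↘ Spec (CommRingCat.of k))] [Smooth (X ↘ Spec (CommRingCat.of k))]
    (hX : topologicalKrullDim X = 1) : GCurve k X :=
  (PCurve.of_smooth inferInstance hX).gcurve (GW.finrank_HH_zero_of_isAlgClosed k X)

theorem S18895_main (k : Type u) [Field k] [IsAlgClosed k]
    (X : Scheme.{u}) [X.Over (Spec (CommRingCat.of k))]
    [IsProper (X ↘ Spec (CommRingCat.of k))] [Smooth (X ↘ Spec (CommRingCat.of k))]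
    [ConnectedSpace ↥X]
    (hX : topologicalKrullDim ↥X = 1) (hg : 1 ≤ Curv2.genus k X)
    (L : X.Modules) (hL : PicF.IsInvertible L) (hdeg : 0 < Curv2.deg k X L 1) :
    (Module.finrank k (Coh.HH X L 0) : ℤ) ≤ Curv2.deg k X L 1 := by
  haveI := GW.isIntegral_of_smooth k X
  have hC := gcurve_of_smooth_of_isAlgClosed k X hX
  obtain ⟨D, hD⟩ := exists_isDiv hC hL
  rw [hD.deg_eq hC hL] at hdeg ⊢
  rw [hD.finrank_HH_zero hL]
  rw [hC.genus_eq] at hg
  exact ell_le_deg_of_deg_pos hC.isFunctionField (by omega) D hdeg

end Groth.Agent.H76.Curve
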