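import Mathlib
import Groth.Agent.H76.CurveS1
import Groth.Agent.H76.CurveFF

/-!
helper76: gateway for regular proper integral curves over an algebraically closed field, and the
linear (semi)stability inequalities S19205, S19204 via Clifford's theorem.
-/

set_option autoImplicit false
set_option linter.style.haveILetI false
open CategoryTheory CategoryTheory.Limits AlgebraicGeometry TopologicalSpace Topology FunFld Opposite
universe u

namespace Groth.Agent.H76.Curve

attribute [local instance] Curv2.stalkAlgebra Curv2.resAlgebra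

open Groth.Agent.H55 Groth.Agent.H62 Groth.Agent.H62.GD

/-- a regular proper integral curve is a `PCurve` -/
theorem pcurve_of_regular (k : Type u) [Field k]
    (X : Scheme.{u}) [X.Over (Spec (CommRingCat.of k))] [IsIntegral X]
    [IsProper (X ↘ Spec (CommRingCat.of k))] (hdim : topologicalKrullDim X = 1)
    (hreg : ∀ x : X, IsRegularLocalRing (X.presheaf.stalk x)) : PCurve k X where
  proper := inferInstance
  dim := hdim
  dvr x hx := by
    haveI : LocallyOfFiniteType (X ↘ Spec (CommRingCat.of k)) := inferInstance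
    haveI := hreg x
    apply isDiscreteValuationRing_of_isRegularLocalRing
    rw [← Groth.Agent.S1617.result k X x hx,
      ← Groth.Agent.H17.Chev.topologicalKrullDim_eq_localDim_of_irreducible k
        (X ↘ Spec (CommRingCat.of k)) x, hdim]

/-- a regular proper integral curve over an algebraically closed field is a `GCurve` -/
theorem gcurve_of_regular_of_isAlgClosed (k : Type u) [Field k] [IsAlgClosed k]
    (X : Scheme.{u}) [X.Over (Spec (CommRingCat.of k))] [IsIntegral X]
    [IsProper (X ↘ Spec (CommRingCat.of k))] (hdim : topologicalKrullDim X = 1)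
    (hreg : ∀ x : X, IsRegularLocalRing (X.presheaf.stalk x)) : GCurve k X :=
  (pcurve_of_regular k X hdim hreg).gcurve (GW.finrank_HH_zero_of_isAlgClosed k X)

section FF

variable {k K : Type*} [Field k] [Field K] [Algebra k K]

/-- the numerical inequality behind linear semistability -/
theorem ff_linSemistable [IsAlgClosed k] (hK : IsFunctionField k K) (D : Divisor k K)
    (d : ℤ) (hd : 2 * (genus k K : ℤ) ≤ d) (m : ℕ) (hm : 1 ≤ m) (hsec : m + 1 ≤ ell D)
    (hdeg : D.deg ≤ d) : d * (m : ℤ) ≤ D.deg * (d - genus k K) := by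
  have hD : L D ≠ ⊥ := (ell_pos_iff hK D).mp (by omega)
  have hsec' : (m : ℤ) + 1 ≤ ell D := by exact_mod_cast hsec
  have hm' : (1 : ℤ) ≤ m := by exact_mod_cast hm
  have hg0 : (0 : ℤ) ≤ genus k K := by positivity
  by_cases hsp : D.deg + 1 - (ell D : ℤ) < genus k K
  · have hcl := clifford hK D hD hsp
    nlinarith
  · push Not at hsp
    have hle := le_genus hK D
    nlinarith

/-- the numerical inequality behind linear stability -/
theorem ff_linStable [IsAlgClosed k] (hK : IsFunctionField k K) (D : Divisor k K)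
    (hg : 1 ≤ genus k K)
    (d : ℤ) (hd : 2 * (genus k K : ℤ) < d) (m : ℕ) (hm : 1 ≤ m) (hsec : m + 1 ≤ ell D)
    (hdeg : D.deg ≤ d) (hlt : D.deg < d ∨ (m : ℤ) < d - genus k K) :
    d * (m : ℤ) < D.deg * (d - genus k K) := by
  have hD : L D ≠ ⊥ := (ell_pos_iff hK D).mp (by omega)
  have hsec' : (m : ℤ) + 1 ≤ ell D := by exact_mod_cast hsec
  have hm' : (1 : ℤ) ≤ m := by exact_mod_cast hm
  have hg1 : (1 : ℤ) ≤ genus k K := by exact_mod_cast hg
  by_cases hsp : D.deg + 1 - (ell D : ℤ) < genus k K
  · have hcl := clifford hK D hD hsp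
    nlinarith
  · push Not at hsp
    have hle := le_genus hK D
    rcases hlt with hlt | hlt
    · nlinarith
    · nlinarith

end FF

theorem S19205_main (k : Type u) [Field k] [IsAlgClosed k] (X : Scheme.{u})
    [X.Over (Spec (CommRingCat.of k))] [IsIntegral X] [IsProper (X ↘ (Spec (CommRingCat.of k)))]
    (hdim : topologicalKrullDim X = 1) (hreg : ∀ x : X, IsRegularLocalRing (X.presheaf.stalk x))
    (d : ℤ) (hd : 2 * (Curv2.genus k X : ℤ) ≤ d)
    (M : X.Modules) (hM : PicF.IsInvertible M) (m : ℕ) (hm : 1 ≤ m)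
    (hsec : m + 1 ≤ Module.finrank k (Coh.HH X M 0)) (hdeg : Curv2.deg k X M 1 ≤ d) :
    d * (m : ℤ) ≤ Curv2.deg k X M 1 * (d - Curv2.genus k X) := by
  have hC := gcurve_of_regular_of_isAlgClosed k X hdim hreg
  obtain ⟨D, hD⟩ := exists_isDiv hC hM
  rw [hD.deg_eq hC hM] at hdeg ⊢
  rw [hD.finrank_HH_zero hM] at hsec
  rw [hC.genus_eq] at hd ⊢
  exact ff_linSemistable hC.isFunctionField D d hd m hm hsec hdeg

theorem S19204_main (k : Type u) [Field k] [IsAlgClosed k] (X : Scheme.{u})
    [X.Over (Spec (CommRingCat.of k))] [IsIntegral X] [IsProper (X ↘ (Spec (CommRingCat.of k)))]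
    (hdim : topologicalKrullDim X = 1) (hreg : ∀ x : X, IsRegularLocalRing (X.presheaf.stalk x))
    (hg : 1 ≤ Curv2.genus k X) (d : ℤ) (hd : 2 * (Curv2.genus k X : ℤ) < d)
    (M : X.Modules) (hM : PicF.IsInvertible M) (m : ℕ) (hm : 1 ≤ m)
    (hsec : m + 1 ≤ Module.finrank k (Coh.HH X M 0)) (hdeg : Curv2.deg k X M 1 ≤ d)
    (hlt : Curv2.deg k X M 1 < d ∨ (m : ℤ) < d - Curv2.genus k X) :
    d * (m : ℤ) < Curv2.deg k X M 1 * (d - Curv2.genus k X) := by
  have hC := gcurve_of_regular_of_isAlgClosed k X hdim hreg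
  obtain ⟨D, hD⟩ := exists_isDiv hC hM
  rw [hD.deg_eq hC hM] at hdeg hlt ⊢
  rw [hD.finrank_HH_zero hM] at hsec
  rw [hC.genus_eq] at hd hg hlt ⊢
  exact ff_linStable hC.isFunctionField D hg d hd m hm hsec hdeg hlt

end Groth.Agent.H76.Curve
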