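import Mathlib
import Groth.Agent.H76.CurveO

/-!
helper76, line-bundle bridge for curves, part P: **linear equivalence and isomorphism**.
* `ODmulIso : O_C(D) ≅ O_C(D + div c)` (multiplication by `c⁻¹`);
* `IsDiv.add_div`: if `D` is a divisor of `L` then so is `D + div c`;
* `IsDiv.nonempty_iso`: modules with a common divisor are isomorphic;
* `IsDiv.nonempty_iso_iff`: `L ≅ M ↔ E = D + div c` for some `c ≠ 0`;
* `deg_placeOf_eq_one_iff`: rational closed points are the places of degree one.
-/

set_option autoImplicit false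
set_option linter.style.haveILetI false
open CategoryTheory CategoryTheory.Limits AlgebraicGeometry TopologicalSpace Topology FunFld Opposite
universe u

namespace Groth.Agent.H76.Curve

attribute [local instance] Curv2.stalkAlgebra Curv2.resAlgebra

open Groth.Agent.H8 Groth.Agent.H62 Groth.Agent.H62.GD WithZero Groth.Agent.H55

variable {k : Type u} [Field k] {C : Scheme.{u}} [C.Over (Spec (CommRingCat.of k))]
  [IsIntegral C]

variable (hC : GCurve k C)

section mul

variable (D : Divisor k C.functionField) (c : C.functionField) (hc : c ≠ 0)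

include hc in
theorem exp_add_div' (hK : IsFunctionField k C.functionField) (Q : Place k C.functionField) :
    exp ((D + div k c) Q) = (Q.1 c)⁻¹ * exp (D Q) := by
  have := exp_add_div hK D (inv_ne_zero hc) Q
  rwa [inv_inv, map_inv₀] at this

/-- the data of the multiplication by `c⁻¹ : O_C(D) ⟶ O_C(D + div c)` -/
noncomputable def ODmulData : ODHomData hC (OD hC D) (D + div k c) where
  φ _ hξ :=
    { toFun := fun s => c⁻¹ * ODval hξ s
      map_zero' := mul_zero _
      map_add' := fun _ _ => mul_add _ _ _ }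
  res _ _ _ _ _ := rfl
  smul U hξ r s := by
    change c⁻¹ * ODval hξ (r • s) = _ * (c⁻¹ * ODval hξ s)
    rw [OD_smul_val]
    ring
  cond U hξ s x := fun hx => by
    change (placeOf hC ⟨x.1, hx⟩).1 (c⁻¹ * ODval hξ s) ≤ _
    rw [exp_add_div' D c hc hC.isFunctionField, map_mul, map_inv₀]
    exact mul_le_mul' le_rfl (ODval_cond hξ s x hx)

/-- multiplication by `c⁻¹ : O_C(D) ⟶ O_C(D + div c)` -/
noncomputable def ODmul : OD hC D ⟶ OD hC (D + div k c) := (ODmulData hC D c hc).hom

theorem ODmul_apply (U : C.Opens) (s : Γ(OD hC D, U)) (x : U) :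
    ((ODmul hC D c hc).app U s).1 x = c⁻¹ * s.1 x := by
  rw [ODval_spec (genericPoint_mem_of_mem x) s x]
  rfl

theorem isIso_ODmul : IsIso (ODmul hC D c hc) := by
  apply Groth.Agent.H7.ZClosBase.isIso_of_bijective_app
  intro U
  constructor
  · intro s s' hss'
    refine OD_ext fun x => ?_
    have h1 := congrArg (fun t : Γ(OD hC (D + div k c), U) => t.1 x) hss'
    simp only [ODmul_apply] at h1
    exact mul_left_cancel₀ (inv_ne_zero hc) h1
  · intro t
    by_cases hU : ∃ x : C, x ∈ U
    · obtain ⟨x₀, hx₀⟩ := hU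
      have hξ : genericPoint C ∈ U := genericPoint_mem_of_mem ⟨x₀, hx₀⟩
      have hcond : ∀ x : U, ODcond hC D (c * ODval hξ t) x.1 := by
        intro x hx
        have h1 := ODval_cond hξ t x hx
        rw [exp_add_div' D c hc hC.isFunctionField] at h1
        rw [map_mul]
        have h2 := mul_le_mul' (le_refl ((placeOf hC ⟨x.1, hx⟩).1 c)) h1
        rwa [← mul_assoc, mul_inv_cancel₀ ((map_ne_zero _).mpr hc), one_mul] at h2
      refine ⟨ODsec U (c * ODval hξ t) hcond, OD_ext fun x => ?_⟩
      rw [ODmul_apply, ODsec_apply, ← mul_assoc, inv_mul_cancel₀ hc, one_mul, ODval_spec hξ t x]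
    · exact ⟨0, OD_ext fun x => absurd ⟨x.1, x.2⟩ hU⟩

/-- `O_C(D) ≅ O_C(D + div c)` -/
noncomputable def ODmulIso : OD hC D ≅ OD hC (D + div k c) :=
  haveI := isIso_ODmul hC D c hc
  asIso (ODmul hC D c hc)

end mul

variable {L M : C.Modules} {D E : Divisor k C.functionField}

/-- **linearly equivalent divisors are divisors of the same modules** -/
theorem IsDiv.add_div (h : IsDiv hC L D) {c : C.functionField} (hc : c ≠ 0) :
    IsDiv hC L (D + div k c) := by
  obtain ⟨e⟩ := h.nonempty_iso_OD hC
  exact (isDiv_OD hC (D + div k c)).of_iso hC (e ≪≫ ODmulIso hC D c hc).symm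

/-- modules with a common divisor are isomorphic -/
theorem IsDiv.nonempty_iso (h : IsDiv hC L D) (h' : IsDiv hC M D) : Nonempty (L ≅ M) := by
  obtain ⟨e⟩ := h.nonempty_iso_OD hC
  obtain ⟨e'⟩ := h'.nonempty_iso_OD hC
  exact ⟨e ≪≫ e'.symm⟩

/-- **isomorphism classes of invertible modules are linear equivalence classes of divisors** -/
theorem IsDiv.nonempty_iso_iff (h : IsDiv hC L D) (h' : IsDiv hC M E) :
    Nonempty (L ≅ M) ↔ ∃ c : C.functionField, c ≠ 0 ∧ E = D + div k c := by
  constructor
  · rintro ⟨e⟩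
    exact h.exists_eq_add_div_of_iso hC e h'
  · rintro ⟨c, hc, rfl⟩
    exact (h.add_div hC hc).nonempty_iso hC h'

/-- rational closed points are the places of degree one -/
theorem deg_placeOf_eq_one_iff (x : {x : C // IsClosed ({x} : Set C)}) :
    (placeOf hC x).deg = 1 ↔ Function.Bijective (Curv2.resMap k C x.1) := by
  rw [deg_placeOf hC x]
  exact Algebra.finrank_eq_one_iff_bijective_algebraMap

end Groth.Agent.H76.Curve
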