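import Mathlib
import Groth.Agent.H55.FFGaps
import Groth.Agent.H55.FFMisc

/-!
helper76: **the base-point-free pencil trick** in a function field:
if `ℓ(A) = 2` and `A` has no base points then `2 ℓ(B) ≤ ℓ(A + B) + ℓ(B - A)` for every divisor `B`.
-/

set_option autoImplicit false
set_option linter.unusedSectionVars false

namespace Groth.Agent.H76.Curve

open FunFld WithZero Module Groth.Agent.H55

variable {k K : Type*} [Field k] [Field K] [Algebra k K]

/-- for a base-point-free pencil spanned by `z₁, z₂`, the maximum of the valuations of `z₁, z₂`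
at a place `P` is `exp (A P)` -/
theorem max_val_eq_of_bpf {A : Divisor k K} {z₁ z₂ : K} (h₁ : z₁ ∈ L A) (h₂ : z₂ ∈ L A)
    (hspan : ∀ z ∈ L A, ∃ a b : k, z = a • z₁ + b • z₂)
    (hbpf : ∀ P : Place k K, ∃ z ∈ L A, P.1 z = exp (A P)) (P : Place k K) :
    max (P.1 z₁) (P.1 z₂) = exp (A P) := by
  apply le_antisymm (max_le (h₁ P) (h₂ P))
  obtain ⟨z, hz, hzP⟩ := hbpf P
  obtain ⟨a, b, rfl⟩ := hspan z hz
  rw [← hzP]
  refine (P.1.map_add _ _).trans (max_le_max ?_ ?_)
  · rw [Algebra.smul_def, map_mul]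
    exact (mul_le_mul' (P.2.1 a) le_rfl).trans_eq (one_mul _)
  · rw [Algebra.smul_def, map_mul]
    exact (mul_le_mul' (P.2.1 b) le_rfl).trans_eq (one_mul _)

/-- **the base-point-free pencil trick** -/
theorem bpf_pencil_trick (hK : IsFunctionField k K) (A B : Divisor k K) (hA : ell A = 2)
    (hbpf : ∀ P : Place k K, ∃ z ∈ L A, P.1 z = exp (A P)) :
    2 * ell B ≤ ell (A + B) + ell (B - A) := by
  classical
  haveI := L_finite hK A
  haveI := L_finite hK B
  haveI := L_finite hK (A + B)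
  haveI := L_finite hK (B - A)
  -- a basis of `L(A)`
  let b : Basis (Fin 2) k (L A) := Module.finBasisOfFinrankEq k (L A) hA
  set z₁ : K := (b 0 : K) with hz₁
  set z₂ : K := (b 1 : K) with hz₂
  have h₁ : z₁ ∈ L A := (b 0).2
  have h₂ : z₂ ∈ L A := (b 1).2
  have hz₁0 : z₁ ≠ 0 := fun h => b.ne_zero 0 (Subtype.ext h)
  have hz₂0 : z₂ ≠ 0 := fun h => b.ne_zero 1 (Subtype.ext h)
  have hspan : ∀ z ∈ L A, ∃ a c : k, z = a • z₁ + c • z₂ := by
    intro z hz
    have := b.sum_repr ⟨z, hz⟩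
    rw [Fin.sum_univ_two] at this
    refine ⟨b.repr ⟨z, hz⟩ 0, b.repr ⟨z, hz⟩ 1, ?_⟩
    have h3 := congrArg Subtype.val this
    exact h3.symm
  have hmax := max_val_eq_of_bpf h₁ h₂ hspan hbpf
  -- the multiplication map
  let φ : (L B × L B) →ₗ[k] L (A + B) :=
    { toFun := fun p => ⟨z₁ * p.1.1 + z₂ * p.2.1,
        Submodule.add_mem _ (mul_mem_L h₁ p.1.2) (mul_mem_L h₂ p.2.2)⟩
      map_add' := fun p q => Subtype.ext (by
        change z₁ * ((p.1 : K) + q.1) + z₂ * ((p.2 : K) + q.2) =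
          (z₁ * p.1 + z₂ * p.2) + (z₁ * q.1 + z₂ * q.2)
        ring)
      map_smul' := fun c p => Subtype.ext (by
        change z₁ * (c • (p.1 : K)) + z₂ * (c • (p.2 : K)) = c • (z₁ * p.1 + z₂ * p.2)
        rw [smul_add, mul_smul_comm, mul_smul_comm]) }
  -- the kernel embeds into `L(B - A)`
  have hker_mem : ∀ p : L B × L B, φ p = 0 → (p.1 : K) / z₂ ∈ L (B - A) := by
    intro p hp
    have hp' : z₁ * (p.1 : K) + z₂ * (p.2 : K) = 0 := congrArg Subtype.val hp
    intro P
    set w := (p.1 : K) / z₂ with hw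
    have e1 : w * z₂ = p.1 := div_mul_cancel₀ _ hz₂0
    have e2 : w * z₁ = -p.2 := by
      have : z₂ * (w * z₁) = z₂ * (-(p.2 : K)) := by
        rw [← mul_assoc, mul_comm z₂ w, e1, mul_comm]
        linear_combination hp'
      exact mul_left_cancel₀ hz₂0 this
    have b1 : P.1 w * P.1 z₂ ≤ exp (B P) := by
      rw [← map_mul, e1]; exact p.1.2 P
    have b2 : P.1 w * P.1 z₁ ≤ exp (B P) := by
      rw [← map_mul, e2, Valuation.map_neg]; exact p.2.2 P
    have b3 : P.1 w * exp (A P) ≤ exp (B P) := by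
      rw [← hmax P]
      rcases le_total (P.1 z₁) (P.1 z₂) with h | h
      · rw [max_eq_right h]; exact b1
      · rw [max_eq_left h]; exact b2
    rw [Finsupp.sub_apply, sub_eq_add_neg, exp_add, exp_neg]
    rw [← div_eq_mul_inv, le_div_iff₀ (zero_lt_iff.mpr exp_ne_zero)]
    exact b3
  let ψ : LinearMap.ker φ →ₗ[k] L (B - A) :=
    { toFun := fun p => ⟨(p.1.1 : K) / z₂, hker_mem p.1 (LinearMap.mem_ker.mp p.2)⟩
      map_add' := fun p q => Subtype.ext (by
        change ((p.1.1 : K) + q.1.1) / z₂ = (p.1.1 : K) / z₂ + (q.1.1 : K) / z₂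
        rw [add_div])
      map_smul' := fun c p => Subtype.ext (by
        change (c • (p.1.1 : K)) / z₂ = c • ((p.1.1 : K) / z₂)
        rw [smul_div_assoc]) }
  have hψ : Function.Injective ψ := by
    intro p q hpq
    have h3 : (p.1.1 : K) / z₂ = (q.1.1 : K) / z₂ := congrArg Subtype.val hpq
    have h4 : (p.1.1 : K) = q.1.1 := by
      have := congrArg (· * z₂) h3
      simpa [div_mul_cancel₀ _ hz₂0] using this
    have hp' : z₁ * (p.1.1 : K) + z₂ * (p.1.2 : K) = 0 :=
      congrArg Subtype.val (LinearMap.mem_ker.mp p.2)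
    have hq' : z₁ * (q.1.1 : K) + z₂ * (q.1.2 : K) = 0 :=
      congrArg Subtype.val (LinearMap.mem_ker.mp q.2)
    have h5 : (p.1.2 : K) = q.1.2 := by
      apply mul_left_cancel₀ hz₂0
      linear_combination hp' - hq' - z₁ * h4
    exact Subtype.ext (Prod.ext (Subtype.ext h4) (Subtype.ext h5))
  have hrn := LinearMap.finrank_range_add_finrank_ker φ
  have h6 : finrank k (LinearMap.range φ) ≤ ell (A + B) := Submodule.finrank_le _
  have h7 : finrank k (LinearMap.ker φ) ≤ ell (B - A) :=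
    LinearMap.finrank_le_finrank_of_injective hψ
  have h8 : finrank k (L B × L B) = ell B + ell B := Module.finrank_prod
  unfold ell at *
  omega

end Groth.Agent.H76.Curve
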