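import Mathlib
import Groth.Agent.H18.Cocycle.Inverse
import Groth.Agent.H18.ResProp.Ample
import Groth.Agent.H18.TwistPow
import Groth.Agent.H18.TwistTensor2
import Groth.Agent.H76.CurveS1
import Groth.Agent.H76.CurveP
import Groth.Agent.H76.CurveFF2

/-!
helper76: numerics of base-point-free pencils of degree 5 on curves of genus 9 and Clifford
index 3 (S16319, S16320, S16322), via the base-point-free pencil trick.
-/

set_option autoImplicit false
set_option linter.style.haveILetI false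
open CategoryTheory CategoryTheory.Limits AlgebraicGeometry TopologicalSpace Topology FunFld Opposite
universe u

namespace Groth.Agent.H76.Curve

attribute [local instance] Curv2.stalkAlgebra Curv2.resAlgebra

open Groth.Agent.H55 Groth.Agent.H62 Groth.Agent.H62.GD Groth.Agent.H18.STL

section FF

variable {k K : Type*} [Field k] [Field K] [Algebra k K]

/-- the Clifford index hypothesis, for divisors -/
def CliffThree (k K : Type*) [Field k] [Field K] [Algebra k K] : Prop :=
  ∀ E : Divisor k K, 2 ≤ ell E → (2 : ℤ) ≤ genus k K - (E.deg + 1 - ell E) →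
    2 * (ell E : ℤ) + 1 ≤ E.deg

theorem ff_two_pencils (hK : IsFunctionField k K) (hg : genus k K = 9) (hcl : CliffThree k K)
    (A B : Divisor k K) (hA : ell A = 2) (hB : ell B = 2) (hdA : A.deg = 5) (hdB : B.deg = 5)
    (hbpf : ∀ P : Place k K, ∃ z ∈ L A, P.1 z = WithZero.exp (A P))
    (hne : ¬ ∃ c : K, c ≠ 0 ∧ B = A + div k c) : ell (A + B) = 4 := by
  have h0 : ell (B - A) = 0 := by
    by_contra hpos
    have hne' : L (B - A) ≠ ⊥ := (ell_pos_iff hK _).mp (by omega)
    obtain ⟨x, hx0, hx⟩ := (L_ne_bot_iff hK _).mp hne'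
    have hdeg : (B - A + div k x).deg = (0 : Divisor k K).deg := by
      rw [deg_add_div hK, Divisor.deg_sub, hdA, hdB, Divisor.deg_zero]; ring
    have := Divisor.eq_of_le_of_deg_eq hK hx hdeg.symm
    apply hne
    refine ⟨x⁻¹, inv_ne_zero hx0, ?_⟩
    rw [div_inv hK]
    have h3 : B = (B - A + div k x) + A + -div k x := by abel
    rw [h3, ← this]
    abel
  have h1 := bpf_pencil_trick hK A B hA hbpf
  have hle := le_genus hK (A + B)
  have hdeg : (A + B).deg = 10 := by rw [Divisor.deg_add, hdA, hdB]; norm_num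
  by_contra hcon
  have h5 : 5 ≤ ell (A + B) := by omega
  have := hcl (A + B) (by omega) (by rw [hg, hdeg]; push_cast; omega)
  rw [hdeg] at this
  omega

theorem ff_pencil_residual (hK : IsFunctionField k K) (hg : genus k K = 9) (hcl : CliffThree k K)
    (A N : Divisor k K) (hA : ell A = 2) (hdA : A.deg = 5) (hdH : (A + N).deg = 7)
    (hH' : ell (A + N) = 3)
    (hbpf : ∀ P : Place k K, ∃ z ∈ L A, P.1 z = WithZero.exp (A P)) : ell N = 1 := by
  have hdN : N.deg = 2 := by
    rw [Divisor.deg_add, hdA] at hdH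
    omega
  have hup : ell N ≤ 1 := by
    by_contra hcon
    have := hcl N (by omega) (by rw [hg, hdN]; push_cast; omega)
    rw [hdN] at this
    omega
  have hlow : 1 ≤ ell N := by
    by_contra hcon
    have hN0 : ell N = 0 := by omega
    have h1 := bpf_pencil_trick hK A (A + N) hA hbpf
    have e1 : A + N - A = N := by abel
    rw [e1, hN0, hH'] at h1
    have hdeg : (A + (A + N)).deg = 12 := by
      rw [Divisor.deg_add, Divisor.deg_add, hdA, hdN]; norm_num
    have := hcl (A + (A + N)) (by omega) (by rw [hg, hdeg]; push_cast; omega)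
    rw [hdeg] at this
    omega
  omega

theorem ff_pencil_powers (hK : IsFunctionField k K) (hg : genus k K = 9) (hcl : CliffThree k K)
    (A : Divisor k K) (hA : ell A = 2) (hdA : A.deg = 5)
    (hbpf : ∀ P : Place k K, ∃ z ∈ L A, P.1 z = WithZero.exp (A P)) :
    (ell (2 • A) = 3 ∨ ell (2 • A) = 4) ∧ (ell (3 • A) = 7 ∨ ell (3 • A) = 8) ∧
      (ell (2 • A) = 3 → ell (3 • A) = 7) := by
  have hd2 : (2 • A).deg = 10 := by rw [two_nsmul, Divisor.deg_add, hdA]; norm_num
  have hd3 : (3 • A).deg = 15 := by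
    rw [succ_nsmul, Divisor.deg_add, hd2, hdA]; norm_num
  have h2low : 3 ≤ ell (2 • A) := by
    have h1 := bpf_pencil_trick hK A A hA hbpf
    rw [sub_self, ell_zero hK, ← two_nsmul] at h1
    omega
  have h2up : ell (2 • A) ≤ 4 := by
    by_contra hcon
    have := hcl (2 • A) (by omega) (by rw [hg, hd2]; push_cast; omega)
    rw [hd2] at this
    omega
  have h3low : 7 ≤ ell (3 • A) := by
    have := le_genus hK (3 • A)
    rw [hd3, hg] at this
    push_cast at this
    omega
  have h3up : ell (3 • A) ≤ 8 := by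
    by_contra hcon
    have := hcl (3 • A) (by omega) (by rw [hg, hd3]; push_cast; omega)
    rw [hd3] at this
    omega
  refine ⟨by omega, by omega, fun h23 => ?_⟩
  by_contra hcon
  have h38 : ell (3 • A) = 8 := by omega
  obtain ⟨W, hW⟩ := exists_canonical hK
  have hRR3 := riemann_roch hK hW (3 • A)
  have hRR2 := riemann_roch hK hW (2 • A)
  rw [hd3, hg, h38] at hRR3
  rw [hd2, hg, h23] at hRR2
  have hpos : 0 < ell (W - 3 • A) := by
    have : (0 : ℤ) < ell (W - 3 • A) := by push_cast at hRR3; omega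
    exact_mod_cast this
  obtain ⟨x, hx0, hx⟩ := (L_ne_bot_iff hK _).mp ((ell_pos_iff hK _).mp hpos)
  have hle : A ≤ W - 2 • A + div k x := by
    have e1 : W - 2 • A + div k x = A + (W - 3 • A + div k x) := by
      rw [succ_nsmul A 2]; abel
    rw [e1]
    intro Q
    have := hx Q
    rw [Finsupp.zero_apply] at this
    rw [Finsupp.add_apply]
    omega
  have h4 := ell_mono hK hle
  rw [ell_add_div hK _ hx0, hA] at h4
  push_cast at hRR2
  omega

end FF

section sheaf

variable {X : Scheme.{u}}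

open Groth.Agent.H18 in
/-- if `D ⊗ N ≅ H` with `D`, `H` invertible then `N` is invertible -/
theorem isInvertible_of_tensor_iso {D N H : X.Modules} (hD : PicF.IsInvertible D)
    (hH : PicF.IsInvertible H) (e : CohB1.tensorMod D N ≅ H) : PicF.IsInvertible N := by
  obtain ⟨D', hD', ⟨eD⟩⟩ := exists_inverse hD
  have e0 : N ≅ CohB1.tensorMod N (Coh.structureModule X) := (SecTwist.unitorR N).symm
  have e1 : CohB1.tensorMod N (Coh.structureModule X) ≅ CohB1.tensorMod N (CohB1.tensorMod D D') :=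
    tensorModMapIsoRight N eD.symm
  have e2 : CohB1.tensorMod N (CohB1.tensorMod D D') ≅ CohB1.tensorMod (CohB1.tensorMod N D) D' :=
    (Groth.Agent.H18.ResProp.tensorModAssoc N D D').symm
  have e3 : CohB1.tensorMod (CohB1.tensorMod N D) D' ≅ CohB1.tensorMod (CohB1.tensorMod D N) D' :=
    tensorModMapIsoLeft (tensorModComm N D) D'
  have e4 : CohB1.tensorMod (CohB1.tensorMod D N) D' ≅ CohB1.tensorMod H D' :=
    tensorModMapIsoLeft e D'
  exact isInvertible_of_iso (e0 ≪≫ e1 ≪≫ e2 ≪≫ e3 ≪≫ e4).symm (isInvertible_tensorMod hH hD')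

end sheaf

variable {k : Type u} [Field k] {C : Scheme.{u}} [C.Over (Spec (CommRingCat.of k))]
  [IsIntegral C]

/-- translation of the Clifford index hypothesis -/
theorem cliffThree_of_forall (hC : GCurve k C)
    (hmin : ∀ M : C.Modules, PicF.IsInvertible M → 2 ≤ Module.finrank k (Coh.HH C M 0) →
      2 ≤ Module.finrank k (Coh.HH C M 1) →
      2 * (Module.finrank k (Coh.HH C M 0) : ℤ) + 1 ≤ Curv2.deg k C M 1) :
    CliffThree k C.functionField := by
  intro E h0 h1
  have hM := isInvertible_OD hC E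
  have hE := isDiv_OD hC E
  have e0 := hE.finrank_HH_zero hM
  have e1 := hE.finrank_HH_one hM
  have := hmin (OD hC E) hM (by rw [e0]; exact h0)
    (by
      have : (2 : ℤ) ≤ (Module.finrank k (Coh.HH C (OD hC E) 1) : ℤ) := by
        rw [e1]; exact h1
      exact_mod_cast this)
  rwa [e0, hE.deg_eq hC hM] at this

section mains

variable (k : Type u) [Field k] [IsAlgClosed k] (X : Scheme.{u})
  [X.Over (Spec (CommRingCat.of k))] [IsIntegral X]
  [IsProper (X ↘ Spec (CommRingCat.of k))] [Smooth (X ↘ Spec (CommRingCat.of k))]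

theorem S16322_main (hdim : topologicalKrullDim X = 1) (hg : Curv2.genus k X = 9)
    (hmin : ∀ M : X.Modules, PicF.IsInvertible M → 2 ≤ Module.finrank k (Coh.HH X M 0) →
      2 ≤ Module.finrank k (Coh.HH X M 1) →
      2 * (Module.finrank k (Coh.HH X M 0) : ℤ) + 1 ≤ Curv2.deg k X M 1)
    (D₁ D₂ : X.Modules) (h₁ : PicF.IsInvertible D₁) (h₂ : PicF.IsInvertible D₂)
    (hg₁ : Curv2.IsGloballyGenerated D₁)
    (hd₁ : Curv2.deg k X D₁ 1 = 5) (hd₂ : Curv2.deg k X D₂ 1 = 5)
    (h0₁ : Module.finrank k (Coh.HH X D₁ 0) = 2) (h0₂ : Module.finrank k (Coh.HH X D₂ 0) = 2)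
    (hne : IsEmpty (D₁ ≅ D₂)) :
    Module.finrank k (Coh.HH X (CohB1.tensorMod D₁ D₂) 0) = 4 := by
  have hC := gcurve_of_smooth_of_isAlgClosed k X hdim
  have hK := hC.isFunctionField
  obtain ⟨A, hA⟩ := exists_isDiv hC h₁
  obtain ⟨B, hB⟩ := exists_isDiv hC h₂
  rw [hA.deg_eq hC h₁] at hd₁
  rw [hB.deg_eq hC h₂] at hd₂
  rw [hA.finrank_HH_zero h₁] at h0₁
  rw [hB.finrank_HH_zero h₂] at h0₂
  rw [hC.genus_eq] at hg
  rw [(hA.tensor hC hB).finrank_HH_zero (isInvertible_tensorMod h₁ h₂)]
  refine ff_two_pencils hK hg (cliffThree_of_forall hC hmin) A B h0₁ h0₂ hd₁ hd₂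
    ((hA.isGloballyGenerated_iff hC).mp hg₁) ?_
  intro h
  exact hne.false ((hA.nonempty_iso_iff hC hB).mpr h).some

theorem S16319_main (hdim : topologicalKrullDim X = 1) (hg : Curv2.genus k X = 9)
    (hmin : ∀ M : X.Modules, PicF.IsInvertible M → 2 ≤ Module.finrank k (Coh.HH X M 0) →
      2 ≤ Module.finrank k (Coh.HH X M 1) →
      2 * (Module.finrank k (Coh.HH X M 0) : ℤ) + 1 ≤ Curv2.deg k X M 1)
    (H : X.Modules) (hH : PicF.IsInvertible H) (hdH : Curv2.deg k X H 1 = 7)
    (h0H : Module.finrank k (Coh.HH X H 0) = 3)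
    (D : X.Modules) (hD : PicF.IsInvertible D) (hgD : Curv2.IsGloballyGenerated D)
    (hdD : Curv2.deg k X D 1 = 5) (h0D : Module.finrank k (Coh.HH X D 0) = 2)
    (N : X.Modules) (e : CohB1.tensorMod D N ≅ H) :
    Module.finrank k (Coh.HH X N 0) = 1 := by
  have hC := gcurve_of_smooth_of_isAlgClosed k X hdim
  have hK := hC.isFunctionField
  have hN := isInvertible_of_tensor_iso hD hH e
  obtain ⟨A, hA⟩ := exists_isDiv hC hD
  obtain ⟨B, hB⟩ := exists_isDiv hC hN
  have hHdiv : IsDiv hC H (A + B) := (hA.tensor hC hB).of_iso hC e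
  rw [hA.deg_eq hC hD] at hdD
  rw [hHdiv.deg_eq hC hH] at hdH
  rw [hA.finrank_HH_zero hD] at h0D
  rw [hHdiv.finrank_HH_zero hH] at h0H
  rw [hC.genus_eq] at hg
  rw [hB.finrank_HH_zero hN]
  exact ff_pencil_residual hK hg (cliffThree_of_forall hC hmin) A B h0D hdD hdH h0H
    ((hA.isGloballyGenerated_iff hC).mp hgD)

theorem S16320_main (hdim : topologicalKrullDim X = 1) (hg : Curv2.genus k X = 9)
    (hmin : ∀ M : X.Modules, PicF.IsInvertible M → 2 ≤ Module.finrank k (Coh.HH X M 0) →
      2 ≤ Module.finrank k (Coh.HH X M 1) →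
      2 * (Module.finrank k (Coh.HH X M 0) : ℤ) + 1 ≤ Curv2.deg k X M 1)
    (D : X.Modules) (hD : PicF.IsInvertible D) (hgD : Curv2.IsGloballyGenerated D)
    (hdD : Curv2.deg k X D 1 = 5) (h0D : Module.finrank k (Coh.HH X D 0) = 2) :
    (Module.finrank k (Coh.HH X (CohB1.tensorPow D 2) 0) = 3 ∨
        Module.finrank k (Coh.HH X (CohB1.tensorPow D 2) 0) = 4) ∧
      (Module.finrank k (Coh.HH X (CohB1.tensorPow D 3) 0) = 7 ∨
        Module.finrank k (Coh.HH X (CohB1.tensorPow D 3) 0) = 8) ∧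
      (Module.finrank k (Coh.HH X (CohB1.tensorPow D 2) 0) = 3 →
        Module.finrank k (Coh.HH X (CohB1.tensorPow D 3) 0) = 7) := by
  have hC := gcurve_of_smooth_of_isAlgClosed k X hdim
  have hK := hC.isFunctionField
  obtain ⟨A, hA⟩ := exists_isDiv hC hD
  rw [hA.deg_eq hC hD] at hdD
  rw [hA.finrank_HH_zero hD] at h0D
  rw [hC.genus_eq] at hg
  rw [(hA.tensorPow hC 2).finrank_HH_zero (isInvertible_tensorPow hD 2),
    (hA.tensorPow hC 3).finrank_HH_zero (isInvertible_tensorPow hD 3)]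
  exact ff_pencil_powers hK hg (cliffThree_of_forall hC hmin) A h0D hdD
    ((hA.isGloballyGenerated_iff hC).mp hgD)

end mains

end Groth.Agent.H76.Curve
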