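import Mathlib
import Groth.Agent.H61.PSBasic

set_option autoImplicit false
universe u

/-!
# Plane curve singularities: the jet filtration of `k[[x,y]]`

`J = (X 0, X 1)`, `J^n` = power series of order `≥ n`, `P/J^n` finite dimensional,
and the invariant `dim R/m_R^3` of quotients `R = P/(G)`.
-/

namespace Groth.Agent.H76.ASing

open MvPowerSeries

section basic

variable (k : Type u) [Field k]

local notation "P" => MvPowerSeries (Fin 2) k

/-- power series of order at least `n`. -/
noncomputable def ordIdeal (n : ℕ) : Ideal P where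
  carrier := {f | (n : ℕ∞) ≤ f.order}
  add_mem' := by
    intro f g hf hg
    exact le_trans (le_min hf hg) min_order_le_add
  zero_mem' := by
    show (n : ℕ∞) ≤ (0 : P).order
    rw [order_eq_top_iff.mpr rfl]
    exact le_top
  smul_mem' := by
    intro c f hf
    show (n : ℕ∞) ≤ (c * f).order
    calc (n : ℕ∞) ≤ f.order := hf
      _ ≤ c.order + f.order := le_add_self
      _ ≤ (c * f).order := order_mul_ge

theorem mem_ordIdeal (n : ℕ) (f : P) : f ∈ ordIdeal k n ↔ (n : ℕ∞) ≤ f.order := Iff.rfl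

/-- the ideal `(x, y)`. -/
noncomputable def J : Ideal P := Ideal.span (Set.range (X : Fin 2 → P))

theorem X_mem_J (i : Fin 2) : (X i : P) ∈ J k := Ideal.subset_span ⟨i, rfl⟩

theorem J_le_ordIdeal_one : J k ≤ ordIdeal k 1 := by
  unfold J
  rw [Ideal.span_le]
  rintro _ ⟨i, rfl⟩
  show ((1 : ℕ) : ℕ∞) ≤ (X i : P).order
  apply nat_le_order
  intro d hd
  have hd0 : d = 0 := by
    have : d.degree = 0 := by omega
    exact (Finsupp.degree_eq_zero_iff d).mp this
  subst hd0
  rw [coeff_zero_eq_constantCoeff_apply, constantCoeff_X]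

theorem ordIdeal_mul_le (a b : ℕ) : ordIdeal k a * ordIdeal k b ≤ ordIdeal k (a + b) := by
  rw [Ideal.mul_le]
  intro f hf g hg
  show ((a + b : ℕ) : ℕ∞) ≤ (f * g).order
  calc ((a + b : ℕ) : ℕ∞) = (a : ℕ∞) + (b : ℕ∞) := by push_cast; rfl
    _ ≤ f.order + g.order := add_le_add hf hg
    _ ≤ (f * g).order := order_mul_ge

theorem J_pow_le_ordIdeal (n : ℕ) : J k ^ n ≤ ordIdeal k n := by
  induction n with
  | zero =>
    intro f _
    show ((0 : ℕ) : ℕ∞) ≤ f.order
    simp
  | succ n ih =>
    rw [pow_succ]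
    exact le_trans (Ideal.mul_mono ih (J_le_ordIdeal_one k)) (ordIdeal_mul_le k n 1)

theorem coeff_eq_zero_of_mem_J_pow {n : ℕ} {f : P} (hf : f ∈ J k ^ n) {d : Fin 2 →₀ ℕ}
    (hd : d.degree < n) : coeff d f = 0 := by
  have h1 : (n : ℕ∞) ≤ f.order := J_pow_le_ordIdeal k n hf
  apply coeff_of_lt_order
  exact lt_of_lt_of_le (by exact_mod_cast hd) h1

theorem mem_J_pow_of_coeff (n : ℕ) (f : P) (h : ∀ d : Fin 2 →₀ ℕ, d.degree < n → coeff d f = 0) :
    f ∈ J k ^ n :=
  Groth.Agent.H61.mem_span_X_pow_of_coeff_eq_zero n f h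

theorem mem_J_pow_iff (n : ℕ) (f : P) :
    f ∈ J k ^ n ↔ ∀ d : Fin 2 →₀ ℕ, d.degree < n → coeff d f = 0 :=
  ⟨fun hf _ hd => coeff_eq_zero_of_mem_J_pow k hf hd, mem_J_pow_of_coeff k n f⟩

theorem mem_J_iff (f : P) : f ∈ J k ↔ constantCoeff f = 0 := by
  rw [← pow_one (J k), mem_J_pow_iff]
  constructor
  · intro h
    rw [← coeff_zero_eq_constantCoeff_apply]
    exact h 0 (by simp)
  · intro h d hd
    have hd0 : d = 0 := by
      have : d.degree = 0 := by omega
      exact (Finsupp.degree_eq_zero_iff d).mp this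
    subst hd0
    rw [coeff_zero_eq_constantCoeff_apply, h]

theorem J_ne_top : J k ≠ ⊤ := by
  intro h
  have : (1 : P) ∈ J k := by rw [h]; trivial
  rw [mem_J_iff] at this
  simp at this

theorem isUnit_iff_notMem_J (f : P) : IsUnit f ↔ f ∉ J k := by
  rw [mem_J_iff, MvPowerSeries.isUnit_iff_constantCoeff, isUnit_iff_ne_zero]

/-- the truncation map `P → (low multi-indices → k)`. -/
noncomputable def lowCoeffs (n : ℕ) : P →ₗ[k] ({d : Fin 2 →₀ ℕ // d.degree < n} → k) where
  toFun f := fun d => coeff d.1 f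
  map_add' f g := by funext d; simp
  map_smul' c f := by funext d; simp

theorem ker_lowCoeffs (n : ℕ) :
    LinearMap.ker (lowCoeffs k n) = (J k ^ n).restrictScalars k := by
  ext f
  rw [LinearMap.mem_ker, Submodule.restrictScalars_mem, mem_J_pow_iff]
  constructor
  · intro h d hd
    exact congrFun h ⟨d, hd⟩
  · intro h
    funext d
    exact h d.1 d.2

instance finite_low (n : ℕ) : Finite {d : Fin 2 →₀ ℕ // d.degree < n} :=
  (Finsupp.finite_of_degree_lt n).to_subtype

theorem finite_quot_J_pow (n : ℕ) : Module.Finite k (P ⧸ J k ^ n) := by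
  have e := (lowCoeffs k n).quotKerEquivRange
  rw [ker_lowCoeffs] at e
  have : Module.Finite k (LinearMap.range (lowCoeffs k n)) := inferInstance
  exact Module.Finite.equiv e.symm

end basic

end Groth.Agent.H76.ASing
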