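import Mathlib
import Groth.Agent.H76.ASingA

set_option autoImplicit false
universe u

/-!
# The invariant `dim_k R/m_R^3` for `R = k[[x,y]]/I`
-/

namespace Groth.Agent.H76.ASing

open MvPowerSeries

section inv

variable (k : Type u) [Field k]

local notation "P" => MvPowerSeries (Fin 2) k

/-- the image of `(x,y)` in `P/I`. -/
noncomputable def Mq (I : Ideal P) : Ideal (P ⧸ I) := Ideal.map (Ideal.Quotient.mkₐ k I) (J k)

theorem mem_Mq_iff (I : Ideal P) (hI : I ≤ J k) (r : P ⧸ I) : r ∈ Mq k I ↔ ¬ IsUnit r := by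
  constructor
  · intro hr hu
    unfold Mq at hr
    rw [Ideal.mem_map_iff_of_surjective _ (Ideal.Quotient.mkₐ_surjective k I)] at hr
    obtain ⟨g, hg, rfl⟩ := hr
    obtain ⟨s, hs⟩ := hu.exists_right_inv
    obtain ⟨h, rfl⟩ := Ideal.Quotient.mk_surjective s
    rw [Ideal.Quotient.mkₐ_eq_mk, ← map_mul, ← map_one (Ideal.Quotient.mk I), Ideal.Quotient.eq] at hs
    have h1 : g * h - 1 ∈ J k := hI hs
    have h2 : g * h ∈ J k := Ideal.mul_mem_right _ _ hg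
    have h3 : (1 : P) ∈ J k := by
      have := Ideal.sub_mem _ h2 h1
      simpa using this
    exact J_ne_top k ((Ideal.eq_top_iff_one _).mpr h3)
  · intro hr
    obtain ⟨g, rfl⟩ := Ideal.Quotient.mk_surjective r
    have hg : g ∈ J k := by
      by_contra hg
      exact hr (((isUnit_iff_notMem_J k g).mpr hg).map _)
    exact Ideal.mem_map_of_mem _ hg

theorem map_Mq (I₁ I₂ : Ideal P) (h1 : I₁ ≤ J k) (h2 : I₂ ≤ J k) (e : (P ⧸ I₁) ≃ₐ[k] (P ⧸ I₂)) :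
    Ideal.map (e : (P ⧸ I₁) →+* (P ⧸ I₂)) (Mq k I₁) = Mq k I₂ := by
  ext r
  have hsurj : Function.Surjective (e : (P ⧸ I₁) →+* (P ⧸ I₂)) := e.surjective
  rw [Ideal.mem_map_iff_of_surjective _ hsurj, mem_Mq_iff k I₂ h2]
  constructor
  · rintro ⟨s, hs, rfl⟩ hu
    rw [mem_Mq_iff k I₁ h1] at hs
    apply hs
    have := hu.map e.symm
    simpa using this
  · intro hr
    refine ⟨e.symm r, ?_, by simp⟩
    rw [mem_Mq_iff k I₁ h1]
    intro hu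
    apply hr
    have := hu.map e
    simpa using this

/-- an algebra isomorphism `P/I₁ ≃ P/I₂` induces `P/(I₁ ⊔ J³) ≃ P/(I₂ ⊔ J³)`. -/
theorem nonempty_equiv_sup (I₁ I₂ : Ideal P) (h1 : I₁ ≤ J k) (h2 : I₂ ≤ J k)
    (e : (P ⧸ I₁) ≃ₐ[k] (P ⧸ I₂)) (n : ℕ) :
    Nonempty ((P ⧸ I₁ ⊔ J k ^ n) ≃ₐ[k] (P ⧸ I₂ ⊔ J k ^ n)) := by
  have hmap : Mq k I₂ ^ n = Ideal.map (e : (P ⧸ I₁) →+* (P ⧸ I₂)) (Mq k I₁ ^ n) := by
    rw [Ideal.map_pow, map_Mq k I₁ I₂ h1 h2 e]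
  have e1 : ((P ⧸ I₁) ⧸ Mq k I₁ ^ n) ≃ₐ[k] ((P ⧸ I₂) ⧸ Mq k I₂ ^ n) :=
    Ideal.quotientEquivAlg _ _ e hmap
  have hp : ∀ I : Ideal P, Mq k I ^ n = Ideal.map (Ideal.Quotient.mkₐ k I) (J k ^ n) := by
    intro I
    unfold Mq
    rw [Ideal.map_pow]
  have e2 : ∀ I : Ideal P, ((P ⧸ I) ⧸ Mq k I ^ n) ≃ₐ[k] (P ⧸ I ⊔ J k ^ n) := by
    intro I
    exact (Ideal.quotientEquivAlgOfEq k (hp I)).trans (DoubleQuot.quotQuotEquivQuotSupₐ k I (J k ^ n))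
  exact ⟨((e2 I₁).symm.trans e1).trans (e2 I₂)⟩

theorem no_equiv_of_notMem (I₁ I₂ : Ideal P) (n : ℕ) (h1 : I₁ ≤ J k ^ n)
    (G : P) (hG : G ∈ I₂) (hG' : G ∉ J k ^ n)
    (e : (P ⧸ I₁ ⊔ J k ^ n) ≃ₗ[k] (P ⧸ I₂ ⊔ J k ^ n)) : False := by
  have heq : I₁ ⊔ J k ^ n = J k ^ n := sup_eq_right.mpr h1
  have e0 : (P ⧸ J k ^ n) ≃ₗ[k] (P ⧸ I₁ ⊔ J k ^ n) :=
    (Ideal.quotientEquivAlgOfEq k heq.symm).toLinearEquiv
  have := finite_quot_J_pow k n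
  let q : (P ⧸ J k ^ n) →ₗ[k] (P ⧸ I₂ ⊔ J k ^ n) :=
    (Ideal.Quotient.factorₐ k (le_sup_right : J k ^ n ≤ I₂ ⊔ J k ^ n)).toLinearMap
  have hle : J k ^ n ≤ I₂ ⊔ J k ^ n := le_sup_right
  have hq : Function.Surjective q := Ideal.Quotient.factor_surjective hle
  let t : (P ⧸ J k ^ n) →ₗ[k] (P ⧸ J k ^ n) := ((e0.trans e).symm : _ →ₗ[k] _).comp q
  have ht : Function.Surjective t := (e0.trans e).symm.surjective.comp hq
  have hinj : Function.Injective t := LinearMap.injective_iff_surjective.mpr ht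
  have hqinj : Function.Injective q := by
    intro a b hab
    apply hinj
    show (e0.trans e).symm (q a) = (e0.trans e).symm (q b)
    rw [hab]
  have h0 : q (Ideal.Quotient.mk _ G) = 0 := by
    show Ideal.Quotient.factor hle (Ideal.Quotient.mk (J k ^ n) G) = 0
    rw [Ideal.Quotient.factor_mk, Ideal.Quotient.eq_zero_iff_mem]
    exact Ideal.mem_sup_left hG
  have h1 : (Ideal.Quotient.mk (J k ^ n) G) = 0 := by
    apply hqinj
    rw [h0, map_zero]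
  exact hG' (Ideal.Quotient.eq_zero_iff_mem.mp h1)

/-- **The invariant**: if `G₁ ∈ J³` and `G₂ ∈ J ∖ J³`, then `P/(G₁)` and `P/(G₂)` are not
isomorphic `k`-algebras. -/
theorem no_algEquiv (G₁ G₂ : P) (h1 : G₁ ∈ J k ^ 3) (h2 : G₂ ∈ J k) (h2' : G₂ ∉ J k ^ 3)
    (e : (P ⧸ Ideal.span {G₁}) ≃ₐ[k] (P ⧸ Ideal.span {G₂})) : False := by
  have hJ3 : J k ^ 3 ≤ J k := Ideal.pow_le_self (by norm_num)
  have hI1 : Ideal.span {G₁} ≤ J k ^ 3 := (Ideal.span_singleton_le_iff_mem (I := J k ^ 3)).mpr h1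
  have hI2 : Ideal.span {G₂} ≤ J k := (Ideal.span_singleton_le_iff_mem (I := J k)).mpr h2
  obtain ⟨e'⟩ := nonempty_equiv_sup k _ _ (hI1.trans hJ3) hI2 e 3
  exact no_equiv_of_notMem k _ _ 3 hI1 G₂ (Ideal.mem_span_singleton_self _) h2' e'.toLinearEquiv

end inv

end Groth.Agent.H76.ASing
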