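import Groth.Agent.H76.NodeAlg

set_option autoImplicit false
universe u

namespace Groth.Agent.H76.NodeStruct

open MvPowerSeries

section kill

variable (B : Type u) [CommRing B]

/-- the embedding `Unit ↪ Fin 2` with value `i` -/
def emb (i : Fin 2) : Unit ↪ Fin 2 := ⟨fun _ => i, fun _ _ _ => rfl⟩

theorem embDomain_emb (i j : Fin 2) (hij : j ≠ i) (m : Fin 2 →₀ ℕ) (hm : m j = 0) :
    Finsupp.embDomain (emb i) (Finsupp.single () (m i)) = m := by
  ext k
  by_cases hk : k = i
  · subst hk
    have h1 := Finsupp.embDomain_apply_self (emb k) (Finsupp.single () (m k)) ()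
    have h2 : (emb k) () = k := rfl
    rw [h2] at h1
    rw [h1]
    simp
  · have hkj : k = j := by
      fin_cases k <;> fin_cases i <;> fin_cases j <;> simp_all
    rw [Finsupp.embDomain_of_notMem_range]
    · rw [hkj, hm]
    · rintro ⟨u, hu⟩
      exact hk hu.symm

/-- `f - rename (killCompl f)` is divisible by the killed variable. -/
theorem X_dvd_sub (i j : Fin 2) (hij : j ≠ i) (f : MvPowerSeries (Fin 2) B) :
    (X j : MvPowerSeries (Fin 2) B) ∣ f - rename (emb i) (killCompl (emb i) f) := by
  rw [X_dvd_iff]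
  intro m hm
  rw [map_sub, sub_eq_zero]
  conv_lhs => rw [← embDomain_emb i j hij m hm]
  conv_rhs => rw [← embDomain_emb i j hij m hm]
  rw [coeff_embDomain_rename, coeff_killCompl]

variable (π : B)

/-- A power series all of whose coefficients are divisible by `π` is `π` times a power series. -/
theorem exists_eq_C_mul_of_map_eq_zero' {σ : Type*} (g : MvPowerSeries σ B)
    (hg : MvPowerSeries.map (Ideal.Quotient.mk (Ideal.span ({π} : Set B))) g = 0) :
    ∃ g' : MvPowerSeries σ B, g = C π * g' := by
  have h : ∀ n, ∃ c : B, coeff n g = π * c := by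
    intro n
    have := congrArg (coeff n) hg
    rw [coeff_map, map_zero, Ideal.Quotient.eq_zero_iff_mem, Ideal.mem_span_singleton'] at this
    obtain ⟨c, hc⟩ := this
    exact ⟨c, by rw [← hc, mul_comm]⟩
  choose c hc using h
  let g' : MvPowerSeries σ B := fun n => c n
  refine ⟨g', ?_⟩
  ext n
  rw [hc n, coeff_C_mul]
  rfl

/-- kill the variable other than `i` and reduce modulo `π` -/
noncomputable def killHom (i : Fin 2) :
    MvPowerSeries (Fin 2) B →+* MvPowerSeries Unit (B ⧸ Ideal.span ({π} : Set B)) :=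
  (MvPowerSeries.map (Ideal.Quotient.mk (Ideal.span ({π} : Set B)))).comp
    (killCompl (R := B) (emb i)).toRingHom

theorem killHom_apply (i : Fin 2) (f : MvPowerSeries (Fin 2) B) :
    killHom B π i f = MvPowerSeries.map (Ideal.Quotient.mk (Ideal.span ({π} : Set B)))
      (killCompl (emb i) f) := rfl

theorem killHom_X_self (i : Fin 2) : killHom B π i (X i) = X () := by
  rw [killHom_apply]
  have : (X i : MvPowerSeries (Fin 2) B) = X (emb i ()) := rfl
  rw [this, killCompl_X, map_X]

theorem killHom_X_other (i j : Fin 2) (hij : j ≠ i) : killHom B π i (X j) = 0 := by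
  rw [killHom_apply, killCompl_X_eq_zero, map_zero]
  rintro ⟨u, hu⟩
  exact hij hu.symm

theorem killHom_C (i : Fin 2) (b : B) : killHom B π i (C b) = C (Ideal.Quotient.mk _ b) := by
  rw [killHom_apply, killCompl_C, map_C]

theorem mem_span_of_killHom_eq_zero (i j : Fin 2) (hij : j ≠ i) (f : MvPowerSeries (Fin 2) B)
    (hf : killHom B π i f = 0) :
    f ∈ Ideal.span ({X j, C π} : Set (MvPowerSeries (Fin 2) B)) := by
  rw [killHom_apply] at hf
  obtain ⟨g', hg'⟩ := exists_eq_C_mul_of_map_eq_zero' B π _ hf
  obtain ⟨q, hq⟩ := X_dvd_sub B i j hij f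
  have : f = X j * q + C π * rename (emb i) g' := by
    rw [← hq, hg', map_mul, rename_C]
    ring
  rw [this]
  refine Ideal.add_mem _ (Ideal.mul_mem_right _ _ (Ideal.subset_span (by simp)))
    (Ideal.mul_mem_right _ _ (Ideal.subset_span (by simp)))

end kill

end Groth.Agent.H76.NodeStruct
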