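import Groth.Agent.H76.NodeAlg
import Groth.Agent.H76.NodeStructA

set_option autoImplicit false
universe u

namespace Groth.Agent.H76.NodeStruct

open MvPowerSeries

section node

variable (B : Type u) [CommRing B] (π : B)

/-- the class of the variable `X i` in the node algebra -/
noncomputable abbrev gen (i : Fin 2) : ArLef.NodeAlg B π := Ideal.Quotient.mk _ (X i)

theorem gen_zero : gen B π 0 = ArLef.NodeAlg.t π := rfl
theorem gen_one : gen B π 1 = ArLef.NodeAlg.e π := rfl

theorem gen_mul_gen : gen B π 0 * gen B π 1 = algebraMap B (ArLef.NodeAlg B π) π :=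
  nodeAlg_t_mul_e B π

theorem algebraMap_eq (b : B) :
    algebraMap B (ArLef.NodeAlg B π) b = Ideal.Quotient.mk _ (C b) := rfl

theorem killHom_rel (i : Fin 2) :
    killHom B π i (X 0 * X 1 - C π) = 0 := by
  have hπ0 : (Ideal.Quotient.mk (Ideal.span ({π} : Set B))) π = 0 :=
    Ideal.Quotient.eq_zero_iff_mem.mpr (Ideal.mem_span_singleton_self π)
  rw [map_sub, map_mul, killHom_C, hπ0, map_zero, sub_zero]
  by_cases hi : i = 0
  · subst hi
    rw [killHom_X_other B π 0 1 (by decide), mul_zero]
  · have hi1 : i = 1 := by fin_cases i <;> simp_all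
    subst hi1
    rw [killHom_X_other B π 1 0 (by decide), zero_mul]

/-- the map `N → (B/π)[[x]]` killing the other variable -/
noncomputable def rho (i : Fin 2) :
    ArLef.NodeAlg B π →+* MvPowerSeries Unit (B ⧸ Ideal.span ({π} : Set B)) :=
  Ideal.Quotient.lift _ (killHom B π i) (by
    intro a ha
    obtain ⟨g, rfl⟩ := Ideal.mem_span_singleton'.mp ha
    rw [map_mul, killHom_rel, mul_zero])

theorem rho_mk (i : Fin 2) (f : MvPowerSeries (Fin 2) B) :
    rho B π i (Ideal.Quotient.mk _ f) = killHom B π i f := rfl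

theorem rho_gen_self (i : Fin 2) : rho B π i (gen B π i) = X () := by
  rw [rho_mk, killHom_X_self]

theorem rho_gen_other (i j : Fin 2) (hij : j ≠ i) : rho B π i (gen B π j) = 0 := by
  rw [rho_mk, killHom_X_other B π i j hij]

theorem rho_algebraMap (i : Fin 2) (b : B) :
    rho B π i (algebraMap B (ArLef.NodeAlg B π) b) = C (Ideal.Quotient.mk _ b) := by
  rw [algebraMap_eq, rho_mk, killHom_C]

theorem algebraMap_pi_mem (j : Fin 2) :
    algebraMap B (ArLef.NodeAlg B π) π ∈ Ideal.span ({gen B π j} : Set (ArLef.NodeAlg B π)) := by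
  rw [← gen_mul_gen]
  by_cases hj : j = 0
  · subst hj
    exact Ideal.mul_mem_right _ _ (Ideal.mem_span_singleton_self _)
  · have hj1 : j = 1 := by fin_cases j <;> simp_all
    subst hj1
    exact Ideal.mul_mem_left _ _ (Ideal.mem_span_singleton_self _)

theorem ker_rho (i j : Fin 2) (hij : j ≠ i) :
    RingHom.ker (rho B π i) = Ideal.span ({gen B π j} : Set (ArLef.NodeAlg B π)) := by
  apply le_antisymm
  · intro x hx
    obtain ⟨f, rfl⟩ := Ideal.Quotient.mk_surjective x
    rw [RingHom.mem_ker, rho_mk] at hx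
    have h1 := mem_span_of_killHom_eq_zero B π i j hij f hx
    have h2 := Ideal.mem_map_of_mem (Ideal.Quotient.mk (Ideal.span
      {(X 0 * X 1 - C π : MvPowerSeries (Fin 2) B)})) h1
    rw [Ideal.map_span] at h2
    refine (Ideal.span_le.mpr ?_) h2
    rintro _ ⟨y, hy, rfl⟩
    rcases hy with rfl | rfl
    · exact Ideal.mem_span_singleton_self _
    · exact algebraMap_pi_mem B π j
  · rw [Ideal.span_singleton_le_iff_mem, RingHom.mem_ker]
    exact rho_gen_other B π i j hij

end node

end Groth.Agent.H76.NodeStruct
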