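import Groth.Agent.H76.NodeAlg
import Groth.Agent.H76.NodeStructA
import Groth.Agent.H76.NodeStructB

set_option autoImplicit false
universe u

namespace Groth.Agent.H76.NodeStruct

open MvPowerSeries IsLocalRing

section decomp

variable (B : Type u) [CommRing B] (π : B)

theorem exists_decomp_ps (f : MvPowerSeries (Fin 2) B) :
    ∃ f₁ f₂ : MvPowerSeries (Fin 2) B, f = C (constantCoeff f) + X 0 * f₁ + X 1 * f₂ := by
  obtain ⟨q, hq⟩ := X_dvd_sub B 1 0 (by decide) f
  set g := killCompl (emb 1) f with hg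
  have hc : constantCoeff g = constantCoeff f := by
    rw [← coeff_zero_eq_constantCoeff_apply, ← coeff_zero_eq_constantCoeff_apply, hg,
      coeff_killCompl]
    simp
  have hdvd : (X () : MvPowerSeries Unit B) ∣ g - C (constantCoeff g) := by
    rw [X_dvd_iff]
    intro m hm
    have hm0 : m = 0 := by
      refine Finsupp.ext fun u => ?_
      cases u
      simpa using hm
    rw [hm0, map_sub, coeff_zero_eq_constantCoeff_apply, coeff_zero_eq_constantCoeff_apply,
      constantCoeff_C, sub_self]
  obtain ⟨g₁, hg₁⟩ := hdvd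
  refine ⟨q, rename (emb 1) g₁, ?_⟩
  have h1 : rename (emb 1) g = C (constantCoeff f) + X 1 * rename (emb 1) g₁ := by
    have : g = C (constantCoeff g) + X () * g₁ := by rw [← hg₁]; ring
    conv_lhs => rw [this]
    rw [map_add, map_mul, rename_C, rename_X, hc]
    rfl
  have h2 : f = rename (emb 1) g + X 0 * q := by rw [← hq]; ring
  calc f = rename (emb 1) g + X 0 * q := h2
    _ = C (constantCoeff f) + X 0 * q + X 1 * rename (emb 1) g₁ := by rw [h1]; ring

theorem exists_decomp (r : ArLef.NodeAlg B π) :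
    ∃ (b : B) (r₁ r₂ : ArLef.NodeAlg B π),
      r = algebraMap B (ArLef.NodeAlg B π) b + gen B π 0 * r₁ + gen B π 1 * r₂ := by
  obtain ⟨f, rfl⟩ := Ideal.Quotient.mk_surjective r
  obtain ⟨f₁, f₂, hf⟩ := exists_decomp_ps B f
  refine ⟨constantCoeff f, Ideal.Quotient.mk _ f₁, Ideal.Quotient.mk _ f₂, ?_⟩
  conv_lhs => rw [hf]
  rw [map_add, map_add, map_mul, map_mul]
  rfl

end decomp

end Groth.Agent.H76.NodeStruct
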