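import Mathlib
import Groth.Prelude.Def_W4c1arstab1appArSing
import Groth.Agent.H76.NodeStructC

set_option autoImplicit false
universe u

namespace Groth.Agent.H76.ArSing

open MvPowerSeries

section ext

variable {k : Type u} [CommRing k] {T : Type*} [CommRing T] [Algebra k T]

/-- every power series is a constant plus a multiple of `X` -/
theorem ps_decomp (f : PowerSeries k) :
    ∃ f₁ : PowerSeries k, f = PowerSeries.C (PowerSeries.constantCoeff f) + PowerSeries.X * f₁ := by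
  have h : (PowerSeries.X : PowerSeries k) ∣ f - PowerSeries.C (PowerSeries.constantCoeff f) := by
    rw [PowerSeries.X_dvd_iff]
    simp
  obtain ⟨q, hq⟩ := h
  exact ⟨q, by rw [← hq]; ring⟩

/-- `k`-algebra maps out of `k[[X]]` into a ring separated for the `J`-adic topology are determined
by the (topologically nilpotent) image of `X`. -/
theorem ps_algHom_ext (J : Ideal T) (hJ : ⨅ n : ℕ, J ^ n = ⊥)
    (ψ₁ ψ₂ : PowerSeries k →ₐ[k] T) (h : ψ₁ PowerSeries.X = ψ₂ PowerSeries.X)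
    (hX : ψ₁ PowerSeries.X ∈ J) : ψ₁ = ψ₂ := by
  have key : ∀ n : ℕ, ∀ f : PowerSeries k, ψ₁ f - ψ₂ f ∈ J ^ n := by
    intro n
    induction n with
    | zero => intro f; simp
    | succ n ih =>
      intro f
      obtain ⟨f₁, hf⟩ := ps_decomp f
      have e : ψ₁ f - ψ₂ f = ψ₁ PowerSeries.X * (ψ₁ f₁ - ψ₂ f₁) := by
        conv_lhs => rw [hf]
        rw [map_add, map_add, map_mul, map_mul, ← h]
        have hc : ∀ c : k, ψ₁ (PowerSeries.C c) = ψ₂ (PowerSeries.C c) := by
          intro c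
          have : (PowerSeries.C c : PowerSeries k) = algebraMap k _ c := rfl
          rw [this, AlgHom.commutes, AlgHom.commutes]
        rw [hc]
        ring
      rw [e, pow_succ']
      exact Ideal.mul_mem_mul hX (ih f₁)
  ext f
  have : ψ₁ f - ψ₂ f ∈ ⨅ n : ℕ, J ^ n := by
    rw [Ideal.mem_iInf]
    exact fun n => key n f
  rw [hJ] at this
  exact sub_eq_zero.mp this

/-- `k`-algebra maps out of `k[[X₀, X₁]]` into a ring separated for the `J`-adic topology are
determined by the (topologically nilpotent) images of the variables. -/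
theorem mvps2_algHom_ext (J : Ideal T) (hJ : ⨅ n : ℕ, J ^ n = ⊥)
    (ψ₁ ψ₂ : MvPowerSeries (Fin 2) k →ₐ[k] T) (h0 : ψ₁ (X 0) = ψ₂ (X 0)) (h1 : ψ₁ (X 1) = ψ₂ (X 1))
    (h0J : ψ₁ (X 0) ∈ J) (h1J : ψ₁ (X 1) ∈ J) : ψ₁ = ψ₂ := by
  have key : ∀ n : ℕ, ∀ f : MvPowerSeries (Fin 2) k, ψ₁ f - ψ₂ f ∈ J ^ n := by
    intro n
    induction n with
    | zero => intro f; simp
    | succ n ih =>
      intro f
      obtain ⟨f₁, f₂, hf⟩ := Groth.Agent.H76.NodeStruct.exists_decomp_ps k f
      have e : ψ₁ f - ψ₂ f = ψ₁ (X 0) * (ψ₁ f₁ - ψ₂ f₁) + ψ₁ (X 1) * (ψ₁ f₂ - ψ₂ f₂) := by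
        conv_lhs => rw [hf]
        simp only [map_add, map_mul]
        rw [← h0, ← h1]
        have hc : ∀ c : k, ψ₁ (C c) = ψ₂ (C c) := by
          intro c
          have : (C c : MvPowerSeries (Fin 2) k) = algebraMap k _ c := rfl
          rw [this, AlgHom.commutes, AlgHom.commutes]
        rw [hc]
        ring
      rw [e, pow_succ']
      exact Ideal.add_mem _ (Ideal.mul_mem_mul h0J (ih f₁)) (Ideal.mul_mem_mul h1J (ih f₂))
  ext f
  have : ψ₁ f - ψ₂ f ∈ ⨅ n : ℕ, J ^ n := by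
    rw [Ideal.mem_iInf]
    exact fun n => key n f
  rw [hJ] at this
  exact sub_eq_zero.mp this

end ext

end Groth.Agent.H76.ArSing
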