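import Mathlib
import Groth.Prelude.Def_W4c1arstab1appArSing
import Groth.Agent.H76.ArSingA

set_option autoImplicit false
universe u

namespace Groth.Agent.H76.ArSing

open MvPowerSeries

section ring

variable (k : Type u) [Field k] (r : ℕ)

local notation "𝒜" => ArSing.ring k r

theorem constantCoeff_eqn : constantCoeff (ArSing.eqn k r) = 0 := by
  unfold ArSing.eqn
  simp

/-- the augmentation `A_r → k` -/
noncomputable def aug : 𝒜 →+* k :=
  Ideal.Quotient.lift _ (constantCoeff (σ := Fin 2) (R := k)) (by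
    intro a ha
    obtain ⟨c, rfl⟩ := Ideal.mem_span_singleton'.mp ha
    rw [map_mul, constantCoeff_eqn, mul_zero])

theorem aug_mk (f : MvPowerSeries (Fin 2) k) :
    aug k r (Ideal.Quotient.mk _ f) = constantCoeff f := rfl

theorem aug_x : aug k r (ArSing.x k r) = 0 := by
  rw [ArSing.x, aug_mk, constantCoeff_X]

theorem aug_y : aug k r (ArSing.y k r) = 0 := by
  rw [ArSing.y, aug_mk, constantCoeff_X]

theorem nontrivial_ring : Nontrivial 𝒜 := (aug k r).domain_nontrivial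

theorem isLocalRing_ring : IsLocalRing 𝒜 := by
  have := nontrivial_ring k r
  exact IsLocalRing.of_surjective' (Ideal.Quotient.mk _) Ideal.Quotient.mk_surjective

/-- the ideal `(x, y)` of `A_r` -/
noncomputable def mI : Ideal 𝒜 := Ideal.span {ArSing.x k r, ArSing.y k r}

theorem x_mem_mI : ArSing.x k r ∈ mI k r := Ideal.subset_span (by simp)

theorem y_mem_mI : ArSing.y k r ∈ mI k r := Ideal.subset_span (by simp)

theorem mI_le_ker_aug : mI k r ≤ RingHom.ker (aug k r) := by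
  rw [mI, Ideal.span_le]
  rintro z (rfl | rfl)
  · exact aug_x k r
  · exact aug_y k r

theorem mI_ne_top : mI k r ≠ ⊤ := by
  intro h
  have : (1 : 𝒜) ∈ RingHom.ker (aug k r) := mI_le_ker_aug k r (h ▸ Submodule.mem_top)
  rw [RingHom.mem_ker, map_one] at this
  exact one_ne_zero this

theorem iInf_mI_pow : ⨅ n : ℕ, (mI k r) ^ n = ⊥ := by
  have := isLocalRing_ring k r
  exact Ideal.iInf_pow_eq_bot_of_isLocalRing _ (mI_ne_top k r)

/-- every element of `A_r` is a constant plus an element of `(x, y)` -/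
theorem exists_const_add (a : 𝒜) : ∃ c : k, a - algebraMap k 𝒜 c ∈ mI k r := by
  obtain ⟨f, rfl⟩ := Ideal.Quotient.mk_surjective a
  obtain ⟨f₁, f₂, hf⟩ := Groth.Agent.H76.NodeStruct.exists_decomp_ps k f
  generalize constantCoeff f = c at hf
  refine ⟨c, ?_⟩
  subst hf
  have e : (Ideal.Quotient.mk (Ideal.span {ArSing.eqn k r})) (C c + X 0 * f₁ + X 1 * f₂)
      - algebraMap k 𝒜 c
      = ArSing.x k r * Ideal.Quotient.mk _ f₁ + ArSing.y k r * Ideal.Quotient.mk _ f₂ := by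
    simp only [map_add, map_mul]
    have : (Ideal.Quotient.mk (Ideal.span {ArSing.eqn k r})) (C c) = algebraMap k 𝒜 c := rfl
    rw [this]
    ring
  rw [e]
  exact Ideal.add_mem _ (Ideal.mul_mem_right _ _ (x_mem_mI k r))
    (Ideal.mul_mem_right _ _ (y_mem_mI k r))

theorem mI_eq_ker_aug : mI k r = RingHom.ker (aug k r) := by
  refine le_antisymm (mI_le_ker_aug k r) ?_
  intro a ha
  obtain ⟨c, hc⟩ := exists_const_add k r a
  have h1 : aug k r (a - algebraMap k 𝒜 c) = 0 := mI_le_ker_aug k r hc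
  have h2 : aug k r (algebraMap k 𝒜 c) = c := by
    have : algebraMap k 𝒜 c = Ideal.Quotient.mk _ (C c) := rfl
    rw [this, aug_mk, constantCoeff_C]
  rw [map_sub, RingHom.mem_ker.mp ha, h2, zero_sub, neg_eq_zero] at h1
  rw [h1, map_zero, sub_zero] at hc
  exact hc

theorem mI_isMaximal : (mI k r).IsMaximal := by
  rw [mI_eq_ker_aug]
  apply RingHom.ker_isMaximal_of_surjective
  intro c
  refine ⟨algebraMap k 𝒜 c, ?_⟩
  have : algebraMap k 𝒜 c = Ideal.Quotient.mk _ (C c) := rfl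
  rw [this, aug_mk, constantCoeff_C]

theorem relation : ArSing.y k r ^ 2 = ArSing.x k r ^ (r + 1) := by
  have h : Ideal.Quotient.mk (Ideal.span {ArSing.eqn k r}) (ArSing.eqn k r) = 0 :=
    Ideal.Quotient.eq_zero_iff_mem.mpr (Ideal.mem_span_singleton_self _)
  unfold ArSing.eqn at h
  rw [map_sub, map_pow, map_pow, sub_eq_zero] at h
  exact h

/-- `k`-algebra maps out of `A_r` are determined by the images of `x` and `y`. -/
theorem algHom_ext_ring {T : Type*} [CommRing T] [Algebra k T] (J : Ideal T)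
    (hJ : ⨅ n : ℕ, J ^ n = ⊥) (ψ₁ ψ₂ : 𝒜 →ₐ[k] T)
    (hx : ψ₁ (ArSing.x k r) = ψ₂ (ArSing.x k r)) (hy : ψ₁ (ArSing.y k r) = ψ₂ (ArSing.y k r))
    (hxJ : ψ₁ (ArSing.x k r) ∈ J) (hyJ : ψ₁ (ArSing.y k r) ∈ J) : ψ₁ = ψ₂ := by
  have h := mvps2_algHom_ext J hJ (ψ₁.comp (Ideal.Quotient.mkₐ k _)) (ψ₂.comp (Ideal.Quotient.mkₐ k _))
    hx hy hxJ hyJ
  ext a
  obtain ⟨f, rfl⟩ := Ideal.Quotient.mk_surjective a
  exact congrArg (fun ψ => ψ f) h

theorem xMap_X : ArSing.xMap k r PowerSeries.X = ArSing.x k r := by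
  unfold ArSing.xMap
  rw [AlgHom.comp_apply, PowerSeries.substAlgHom_X]
  rfl

theorem xMap_C (c : k) : ArSing.xMap k r (PowerSeries.C c) = algebraMap k 𝒜 c := by
  have : (PowerSeries.C c : PowerSeries k) = algebraMap k _ c := rfl
  rw [this, AlgHom.commutes]

/-- `k`-algebra maps `k[[t]] → A_r` agreeing with `xMap` at `t` are `xMap`. -/
theorem eq_xMap_comp {T : Type*} [CommRing T] [Algebra k T] (J : Ideal T)
    (hJ : ⨅ n : ℕ, J ^ n = ⊥) (ψ : 𝒜 →ₐ[k] T) (θ : PowerSeries k →ₐ[k] T)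
    (h : θ PowerSeries.X = ψ (ArSing.x k r)) (hJx : ψ (ArSing.x k r) ∈ J) :
    ∀ f, ψ (ArSing.xMap k r f) = θ f := by
  have := ps_algHom_ext J hJ (ψ.comp (ArSing.xMap k r)) θ (by
    rw [AlgHom.comp_apply, xMap_X, h]) (by rw [AlgHom.comp_apply, xMap_X]; exact hJx)
  intro f
  exact congrArg (fun ψ => ψ f) this

end ring

end Groth.Agent.H76.ArSing
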