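import Mathlib
import Groth.Prelude.Def_W4c1arstab1appArSing
import Groth.Agent.H76.ArSingB

set_option autoImplicit false
universe u

namespace Groth.Agent.H76.ArSing

open MvPowerSeries

section weier

variable (k : Type u) [Field k] (r : ℕ)

local notation "𝒜" => ArSing.ring k r
local notation "P" => PowerSeries k

attribute [-instance] PowerSeries.algebraPowerSeries MvPowerSeries.algebraMvPowerSeries

/-- `Fin 2 ≃ Option Unit`, `0 ↦ some ()`, `1 ↦ none`. -/
def eFin : Fin 2 ≃ Option Unit where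
  toFun i := if i = 0 then some () else none
  invFun o := match o with
    | some _ => 0
    | none => 1
  left_inv := by
    intro i
    fin_cases i <;> simp
  right_inv := by
    rintro (_ | ⟨⟩) <;> simp

/-- `k[[x, y]] ≃ k[[x]][[y]]` -/
noncomputable def E : MvPowerSeries (Fin 2) k ≃ₐ[k] PowerSeries (PowerSeries k) :=
  (renameEquiv k eFin).trans (optionEquivLeft Unit k)

theorem E_X0 : E k (X 0) = PowerSeries.C (PowerSeries.X : P) := by
  show optionEquivLeft Unit k (rename eFin (X 0)) = _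
  rw [rename_X]
  have : eFin 0 = some () := rfl
  rw [this, optionEquivLeft_X_some]
  rfl

theorem E_X1 : E k (X 1) = (PowerSeries.X : PowerSeries P) := by
  show optionEquivLeft Unit k (rename eFin (X 1)) = _
  rw [rename_X]
  have : eFin 1 = none := rfl
  rw [this, optionEquivLeft_X_none]

/-- the Weierstrass polynomial `Y² - x^(r+1)` over `k[[x]]` -/
noncomputable def gpoly : Polynomial P :=
  Polynomial.X ^ 2 - Polynomial.C ((PowerSeries.X : P) ^ (r + 1))

theorem gpoly_monic : (gpoly k r).Monic := Polynomial.monic_X_pow_sub_C _ (by norm_num)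

theorem gpoly_natDegree : (gpoly k r).natDegree = 2 := Polynomial.natDegree_X_pow_sub_C

theorem gpoly_dist : (gpoly k r).IsDistinguishedAt (Ideal.span {(PowerSeries.X : P)}) := by
  refine ⟨⟨?_⟩, gpoly_monic k r⟩
  intro n hn
  rw [gpoly_natDegree] at hn
  unfold gpoly
  rw [Polynomial.coeff_sub, Polynomial.coeff_X_pow, Polynomial.coeff_C]
  rw [if_neg (by omega)]
  by_cases h0 : n = 0
  · rw [if_pos h0, zero_sub, neg_mem_iff, pow_succ]
    exact Ideal.mul_mem_left _ _ (Ideal.mem_span_singleton_self _)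
  · rw [if_neg h0, sub_zero]
    exact Ideal.zero_mem _

theorem coe_gpoly : ((gpoly k r : Polynomial P) : PowerSeries P) =
    PowerSeries.X ^ 2 - PowerSeries.C ((PowerSeries.X : P) ^ (r + 1)) := by
  unfold gpoly
  rw [Polynomial.coe_sub, Polynomial.coe_pow, Polynomial.coe_X, Polynomial.coe_C]

theorem E_eqn : E k (ArSing.eqn k r) = ((gpoly k r : Polynomial P) : PowerSeries P) := by
  rw [coe_gpoly]
  unfold ArSing.eqn
  rw [map_sub, map_pow, map_pow, E_X0, E_X1, map_pow]

/-- `A_r ≃ k[[x]][[y]]/(y² - x^(r+1))` -/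
noncomputable def Θ₁ : 𝒜 ≃ₐ[k]
    (PowerSeries P ⧸ Ideal.span {((gpoly k r : Polynomial P) : PowerSeries P)}) :=
  Ideal.quotientEquivAlg _ _ (E k) (by
    rw [Ideal.map_span, Set.image_singleton]
    congr 2
    exact (E_eqn k r).symm)

theorem Θ₁_mk (f : MvPowerSeries (Fin 2) k) :
    Θ₁ k r (Ideal.Quotient.mk _ f) = Ideal.Quotient.mk _ (E k f) := rfl

/-- the constant embedding `k[[x]] → k[[x]][[y]]` as a `k`-algebra map -/
noncomputable def Cₐ : P →ₐ[k] PowerSeries P :=
  { (PowerSeries.C : P →+* PowerSeries P) with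
    commutes' := fun c => by
      show PowerSeries.C (algebraMap k P c) = algebraMap k (PowerSeries P) c
      exact (PowerSeries.algebraMap_apply).symm }

theorem Cₐ_apply (f : P) : Cₐ k f = PowerSeries.C f := rfl

theorem iInf_maximalIdeal_pow_PP :
    ⨅ n : ℕ, (IsLocalRing.maximalIdeal (PowerSeries P)) ^ n = ⊥ :=
  Ideal.iInf_pow_eq_bot_of_isLocalRing _ (IsLocalRing.maximalIdeal.isMaximal _).ne_top

theorem C_X_mem : (PowerSeries.C (PowerSeries.X : P) : PowerSeries P) ∈
    IsLocalRing.maximalIdeal (PowerSeries P) := by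
  rw [IsLocalRing.mem_maximalIdeal, mem_nonunits_iff, PowerSeries.isUnit_iff_constantCoeff,
    PowerSeries.constantCoeff_C, PowerSeries.isUnit_iff_constantCoeff, PowerSeries.constantCoeff_X]
  exact not_isUnit_zero

theorem E_subst (f : P) :
    E k (PowerSeries.substAlgHom
      (PowerSeries.HasSubst.of_constantCoeff_zero
        (MvPowerSeries.constantCoeff_X (0 : Fin 2) : MvPowerSeries.constantCoeff
          (MvPowerSeries.X (0 : Fin 2) : MvPowerSeries (Fin 2) k) = 0)) f) = PowerSeries.C f := by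
  have := ps_algHom_ext (IsLocalRing.maximalIdeal (PowerSeries P)) (iInf_maximalIdeal_pow_PP k)
    ((E k : MvPowerSeries (Fin 2) k →ₐ[k] PowerSeries P).comp (PowerSeries.substAlgHom
      (PowerSeries.HasSubst.of_constantCoeff_zero
        (MvPowerSeries.constantCoeff_X (0 : Fin 2) : MvPowerSeries.constantCoeff
          (MvPowerSeries.X (0 : Fin 2) : MvPowerSeries (Fin 2) k) = 0)))) (Cₐ k)
    (by
      rw [AlgHom.comp_apply, PowerSeries.substAlgHom_X, Cₐ_apply]
      exact E_X0 k)
    (by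
      rw [AlgHom.comp_apply, PowerSeries.substAlgHom_X]
      have h0 := E_X0 k
      show E k (X 0) ∈ _
      rw [h0]
      exact C_X_mem k)
  have h2 := DFunLike.congr_fun this f
  rw [AlgHom.comp_apply, Cₐ_apply] at h2
  exact h2

theorem Θ₁_xMap (f : P) :
    Θ₁ k r (ArSing.xMap k r f) = Ideal.Quotient.mk _ (PowerSeries.C f) := by
  unfold ArSing.xMap
  rw [AlgHom.comp_apply, Ideal.Quotient.mkₐ_eq_mk, Θ₁_mk, E_subst]

theorem Θ₁_y : Θ₁ k r (ArSing.y k r) = Ideal.Quotient.mk _ (PowerSeries.X : PowerSeries P) := by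
  rw [ArSing.y, Θ₁_mk, E_X1]

/-- `k[[x]][Y]/(Y² - x^(r+1)) ≃ k[[x]][[y]]/(y² - x^(r+1))` -/
noncomputable def Θ₂ : (Polynomial P ⧸ Ideal.span {gpoly k r}) ≃+*
    (PowerSeries P ⧸ Ideal.span {((gpoly k r : Polynomial P) : PowerSeries P)}) :=
  (gpoly_dist k r).algEquivQuotient.toRingEquiv

theorem Θ₂_mk (p : Polynomial P) :
    Θ₂ k r (Ideal.Quotient.mk _ p) = Ideal.Quotient.mk _ (p : PowerSeries P) := rfl

theorem Θ₁_normal (f g : P) :
    Θ₁ k r (ArSing.xMap k r f + ArSing.xMap k r g * ArSing.y k r) =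
      Θ₂ k r (Ideal.Quotient.mk _ (Polynomial.C g * Polynomial.X + Polynomial.C f)) := by
  rw [Θ₂_mk, map_add, map_mul, Θ₁_xMap, Θ₁_xMap, Θ₁_y, Polynomial.coe_add, Polynomial.coe_mul,
    Polynomial.coe_C, Polynomial.coe_C, Polynomial.coe_X, map_add, map_mul]
  ring

/-- **Normal form, existence**: every element of `A_r` is `f(x) + g(x) y`. -/
theorem exists_normal (a : 𝒜) :
    ∃ f g : P, a = ArSing.xMap k r f + ArSing.xMap k r g * ArSing.y k r := by
  obtain ⟨p, hp⟩ := Ideal.Quotient.mk_surjective ((Θ₂ k r).symm (Θ₁ k r a))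
  have hdeg : (p %ₘ gpoly k r).natDegree ≤ 1 := by
    have h1 := Polynomial.natDegree_modByMonic_lt p (gpoly_monic k r) (by
      intro h
      have := gpoly_natDegree k r
      rw [h, Polynomial.natDegree_one] at this
      omega)
    rw [gpoly_natDegree] at h1
    omega
  obtain ⟨g, f, hgf⟩ := Polynomial.exists_eq_X_add_C_of_natDegree_le_one hdeg
  refine ⟨f, g, ?_⟩
  apply (Θ₁ k r).injective
  rw [Θ₁_normal, ← hgf]
  have h2 : Ideal.Quotient.mk (Ideal.span {gpoly k r}) (p %ₘ gpoly k r) =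
      Ideal.Quotient.mk (Ideal.span {gpoly k r}) p := by
    rw [Ideal.Quotient.eq, Ideal.mem_span_singleton]
    refine ⟨-(p /ₘ gpoly k r), ?_⟩
    have := Polynomial.modByMonic_add_div p (gpoly k r)
    linear_combination this
  rw [h2, hp, RingEquiv.apply_symm_apply]

/-- **Normal form, uniqueness**. -/
theorem normal_eq_zero (f g : P)
    (h : ArSing.xMap k r f + ArSing.xMap k r g * ArSing.y k r = 0) : f = 0 ∧ g = 0 := by
  have h1 := congrArg (Θ₁ k r) h
  rw [Θ₁_normal, map_zero, map_eq_zero_iff _ (Θ₂ k r).injective, Ideal.Quotient.eq_zero_iff_mem,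
    Ideal.mem_span_singleton] at h1
  have h2 : Polynomial.C g * Polynomial.X + Polynomial.C f = 0 := by
    apply Polynomial.eq_zero_of_dvd_of_degree_lt h1
    rw [Polynomial.degree_eq_natDegree (gpoly_monic k r).ne_zero, gpoly_natDegree]
    calc (Polynomial.C g * Polynomial.X + Polynomial.C f).degree ≤ 1 :=
          Polynomial.degree_linear_le
      _ < ((2 : ℕ) : WithBot ℕ) := by norm_num
  have hf := congrArg (fun p => Polynomial.coeff p 0) h2
  have hg := congrArg (fun p => Polynomial.coeff p 1) h2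
  simp at hf hg
  exact ⟨hf, hg⟩

theorem normal_unique (f g f' g' : P)
    (h : ArSing.xMap k r f + ArSing.xMap k r g * ArSing.y k r =
      ArSing.xMap k r f' + ArSing.xMap k r g' * ArSing.y k r) : f = f' ∧ g = g' := by
  have := normal_eq_zero k r (f - f') (g - g') (by
    rw [map_sub, map_sub]
    linear_combination h)
  exact ⟨sub_eq_zero.mp this.1, sub_eq_zero.mp this.2⟩

end weier

end Groth.Agent.H76.ArSing
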