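import Mathlib
import Groth.Agent.H76.ArSingC

set_option autoImplicit false
universe u

/-!
# Weierstrass preparation for `k[[x,y]]`, in the form `P/(G) ≃ k[[x]][Y]/(f)`
-/

namespace Groth.Agent.H76.ASing

open MvPowerSeries Groth.Agent.H76

section weier

variable (k : Type u) [Field k]

local notation "P" => MvPowerSeries (Fin 2) k
local notation "A" => PowerSeries k
local notation "B" => PowerSeries (PowerSeries k)

attribute [-instance] PowerSeries.algebraPowerSeries MvPowerSeries.algebraMvPowerSeries

theorem isAdicComplete_A : IsAdicComplete (IsLocalRing.maximalIdeal A) A := by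
  rw [PowerSeries.maximalIdeal_eq_span_X]
  infer_instance

theorem mem_maximalIdeal_A_iff (a : A) :
    a ∈ IsLocalRing.maximalIdeal A ↔ PowerSeries.constantCoeff a = 0 := by
  rw [IsLocalRing.mem_maximalIdeal, mem_nonunits_iff, PowerSeries.isUnit_iff_constantCoeff,
    isUnit_iff_ne_zero, not_not]

theorem constantCoeff_coeff_E (G : P) (j : ℕ) :
    PowerSeries.constantCoeff (PowerSeries.coeff j (ArSing.E k G)) =
      coeff (Finsupp.single 1 j) G := by
  show PowerSeries.constantCoeff (PowerSeries.coeff j
    (optionEquivLeft Unit k (rename ArSing.eFin G))) = _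
  rw [← PowerSeries.coeff_zero_eq_constantCoeff_apply]
  have h1 : PowerSeries.coeff 0 (PowerSeries.coeff j (optionEquivLeft Unit k (rename ArSing.eFin G))) =
      MvPowerSeries.coeff (0 : Unit →₀ ℕ) (PowerSeries.coeff j
        (optionEquivLeft Unit k (rename ArSing.eFin G))) := by
    show MvPowerSeries.coeff (Finsupp.single () 0) _ = _
    rw [Finsupp.single_zero]
  rw [h1, coeff_coeff_optionEquivLeft]
  have h2 : (Finsupp.optionElim j (0 : Unit →₀ ℕ)) =
      Finsupp.embDomain ArSing.eFin.toEmbedding (Finsupp.single 1 j) := by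
    rw [Finsupp.embDomain_single]
    ext o
    rcases o with _ | ⟨⟩
    · simp [ArSing.eFin]
    · simp [ArSing.eFin]
  rw [h2]
  exact coeff_embDomain_rename ArSing.eFin.toEmbedding G (Finsupp.single 1 j)

/-- transport along `E`. -/
noncomputable def quotE (G : P) :
    (P ⧸ Ideal.span {G}) ≃ₐ[k] (B ⧸ Ideal.span {ArSing.E k G}) :=
  Ideal.quotientEquivAlg _ _ (ArSing.E k) (by
    rw [Ideal.map_span, Set.image_singleton]
    rfl)

theorem exists_distinguished (G : P) (s : ℕ) (hs : coeff (Finsupp.single 1 s) G ≠ 0)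
    (hlt : ∀ j < s, coeff (Finsupp.single 1 j) G = 0) :
    ∃ f : Polynomial A, f.IsDistinguishedAt (IsLocalRing.maximalIdeal A) ∧ f.natDegree = s ∧
      Nonempty ((P ⧸ Ideal.span {G}) ≃ₐ[k] (Polynomial A ⧸ Ideal.span {f})) := by
  have := isAdicComplete_A k
  set g := ArSing.E k G with hgdef
  have hcoef : ∀ j, PowerSeries.coeff j (g.map (IsLocalRing.residue A)) = 0 ↔
      coeff (Finsupp.single 1 j) G = 0 := by
    intro j
    rw [PowerSeries.coeff_map, IsLocalRing.residue_eq_zero_iff, mem_maximalIdeal_A_iff,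
      constantCoeff_coeff_E]
  have hg : g.map (IsLocalRing.residue A) ≠ 0 := by
    intro h
    have := (hcoef s).mp (by rw [h, map_zero])
    exact hs this
  obtain ⟨f, h, H⟩ := PowerSeries.exists_isWeierstrassFactorization hg
  refine ⟨f, H.isDistinguishedAt, ?_, ?_⟩
  · rw [H.natDegree_eq_toNat_order_map]
    have : (g.map (IsLocalRing.residue A)).order = s := by
      rw [PowerSeries.order_eq_nat]
      exact ⟨fun h => hs ((hcoef s).mp h), fun i hi => (hcoef i).mpr (hlt i hi)⟩
    rw [this]
    rfl
  · exact ⟨(quotE k G).trans (H.algEquivQuotient.symm.restrictScalars k)⟩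

/-- converse direction: a distinguished polynomial presents `P/(E⁻¹ f)`. -/
theorem nonempty_equiv_of_distinguished (f : Polynomial A)
    (hf : f.IsDistinguishedAt (IsLocalRing.maximalIdeal A)) (G : P)
    (hG : ArSing.E k G = (f : PowerSeries A)) :
    Nonempty ((P ⧸ Ideal.span {G}) ≃ₐ[k] (Polynomial A ⧸ Ideal.span {f})) := by
  have := isAdicComplete_A k
  have e1 := quotE k G
  rw [hG] at e1
  exact ⟨e1.trans (hf.algEquivQuotient.symm.restrictScalars k)⟩

end weier

end Groth.Agent.H76.ASing
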