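import Mathlib
import Groth.Agent.H76.ASingD

set_option autoImplicit false
universe u

/-!
# Quadratic polynomials over `k[[x]]`: completing the square, scaling
-/

namespace Groth.Agent.H76.ASing

open Polynomial

section quad

variable (k : Type u) [Field k]

local notation "A" => PowerSeries k

attribute [-instance] PowerSeries.algebraPowerSeries MvPowerSeries.algebraMvPowerSeries

theorem deg_one (f : Polynomial A) (hf : f.Monic) (h1 : f.natDegree = 1) :
    Nonempty ((Polynomial A ⧸ Ideal.span {f}) ≃ₐ[k] A) := by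
  have hf' : f = X - C (-f.coeff 0) := by
    rw [map_neg, sub_neg_eq_add]
    exact hf.eq_X_add_C h1
  rw [hf']
  exact ⟨(Polynomial.quotientSpanXSubCAlgEquiv (-f.coeff 0)).restrictScalars k⟩

theorem monic_deg_two_eq (f : Polynomial A) (hf : f.Monic) (h2 : f.natDegree = 2) :
    f = X ^ 2 + C (f.coeff 1) * X + C (f.coeff 0) := by
  have := hf.as_sum
  rw [h2, Finset.sum_range_succ, Finset.sum_range_one] at this
  rw [this]
  simp only [pow_zero, mul_one, pow_one, coeff_add, coeff_X_pow, coeff_C_mul, coeff_C, coeff_X]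
  simp
  ring

/-- completing the square. -/
theorem deg_two (h2 : (2 : k) ≠ 0) (f : Polynomial A)
    (hf : f.IsDistinguishedAt (IsLocalRing.maximalIdeal A)) (hd : f.natDegree = 2) :
    ∃ c : A, c ∈ IsLocalRing.maximalIdeal A ∧
      Nonempty ((Polynomial A ⧸ Ideal.span {f}) ≃ₐ[k]
        (Polynomial A ⧸ Ideal.span {(X ^ 2 - C c : Polynomial A)})) := by
  set a₁ := f.coeff 1 with ha₁
  set a₀ := f.coeff 0 with ha₀
  have hm1 : a₁ ∈ IsLocalRing.maximalIdeal A := hf.mem (by rw [hd]; norm_num)
  have hm0 : a₀ ∈ IsLocalRing.maximalIdeal A := hf.mem (by rw [hd]; norm_num)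
  set half : A := PowerSeries.C (2⁻¹ : k) with hhalf
  have hh : 2 * half = 1 := by
    have : (2 : A) = PowerSeries.C (2 : k) := (map_ofNat (PowerSeries.C (R := k)) 2).symm
    rw [this, hhalf, ← map_mul, mul_inv_cancel₀ h2, map_one]
  set t : A := -half * a₁ with ht
  have h2t : 2 * t + a₁ = 0 := by
    rw [ht]
    linear_combination (-a₁) * hh
  set c : A := -(t ^ 2 + a₁ * t + a₀) with hc
  refine ⟨c, ?_, ?_⟩
  · rw [hc]
    refine neg_mem (add_mem (add_mem ?_ (Ideal.mul_mem_right _ _ hm1)) hm0)
    rw [ht, pow_two]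
    exact Ideal.mul_mem_left _ _ (Ideal.mul_mem_left _ _ hm1)
  · have hfe := monic_deg_two_eq k f hf.monic hd
    have hτ : (Polynomial.algEquivAevalXAddC t) f = X ^ 2 - C c := by
      rw [hfe, Polynomial.algEquivAevalXAddC_apply]
      simp only [map_add, map_mul, map_pow, aeval_X, aeval_C, Polynomial.algebraMap_eq]
      rw [hc, ← ha₁, ← ha₀]
      have : (C a₁ : Polynomial A) = - 2 * C t := by
        have := congrArg (C : A → Polynomial A) h2t
        simp only [map_add, map_mul, map_zero] at this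
        have h2 : (C (2 : A) : Polynomial A) = 2 := map_ofNat (C (R := A)) 2
        rw [h2] at this
        linear_combination this
      simp only [map_neg, map_add, map_mul, map_pow]
      rw [this]
      ring
    refine ⟨(Ideal.quotientEquivAlg _ _ (Polynomial.algEquivAevalXAddC t) ?_).restrictScalars k⟩
    rw [Ideal.map_span, Set.image_singleton]
    congr 2
    exact hτ.symm

theorem exists_sqrt [IsAlgClosed k] (h2 : (2 : k) ≠ 0) (v : A) (hv : IsUnit v) :
    ∃ w : A, w * w = v := by
  have hv0 : PowerSeries.constantCoeff v ≠ 0 := by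
    rw [PowerSeries.isUnit_iff_constantCoeff, isUnit_iff_ne_zero] at hv
    exact hv
  obtain ⟨r₀, hr₀⟩ := IsAlgClosed.exists_pow_nat_eq (PowerSeries.constantCoeff v) (n := 2) (by norm_num)
  have hr0 : r₀ ≠ 0 := by
    rintro rfl
    rw [zero_pow (by norm_num)] at hr₀
    exact hv0 hr₀.symm
  let f : Polynomial A := X ^ 2 - C v
  have hmonic : f.Monic := monic_X_pow_sub_C v (by norm_num)
  obtain ⟨a, ha, _⟩ := HenselianRing.is_henselian (I := Ideal.span {(PowerSeries.X : A)}) f hmonic
    (PowerSeries.C r₀) (by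
      rw [Ideal.mem_span_singleton, PowerSeries.X_dvd_iff]
      simp only [f, eval_sub, eval_pow, eval_X, eval_C, map_sub, map_pow,
        PowerSeries.constantCoeff_C, hr₀, sub_self]) (by
      have : IsUnit (f.derivative.eval (PowerSeries.C r₀)) := by
        simp only [f, derivative_sub, derivative_X_pow, derivative_C, sub_zero, eval_mul,
          eval_X, Nat.cast_ofNat, eval_C, Nat.add_one_sub_one, pow_one]
        rw [PowerSeries.isUnit_iff_constantCoeff, map_mul, PowerSeries.constantCoeff_C,
          isUnit_iff_ne_zero]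
        have : PowerSeries.constantCoeff (2 : A) = (2 : k) := map_ofNat _ 2
        rw [this]
        exact mul_ne_zero h2 hr0
      exact this.map _)
  refine ⟨a, ?_⟩
  have := ha
  simp only [f, IsRoot.def, eval_sub, eval_pow, eval_X, eval_C, sub_eq_zero] at this
  rw [← this, pow_two]

/-- the Weierstrass polynomial `Y² - x^(n+1)`. -/
theorem scale [IsAlgClosed k] (h2 : (2 : k) ≠ 0) (c : A) (hc : c ≠ 0)
    (hcm : c ∈ IsLocalRing.maximalIdeal A) :
    ∃ n : ℕ, Nonempty ((Polynomial A ⧸ Ideal.span {(X ^ 2 - C c : Polynomial A)}) ≃ₐ[k]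
      (Polynomial A ⧸ Ideal.span {ArSing.gpoly k n})) := by
  set m := c.order.toNat with hm
  set v := PowerSeries.divXPowOrder c with hvdef
  have hcv : PowerSeries.X ^ m * v = c := PowerSeries.X_pow_order_mul_divXPowOrder
  have hv : IsUnit v := PowerSeries.isUnit_divided_by_X_pow_order hc
  have hm1 : 1 ≤ m := by
    by_contra h
    have h0 : m = 0 := by omega
    rw [h0, pow_zero, one_mul] at hcv
    rw [← hcv] at hcm
    exact (IsLocalRing.mem_maximalIdeal _).mp hcm hv
  obtain ⟨w, hw⟩ := exists_sqrt k h2 v hv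
  have hwu : IsUnit w := isUnit_of_mul_isUnit_left (hw ▸ hv)
  obtain ⟨n, hn⟩ : ∃ n, m = n + 1 := ⟨m - 1, by omega⟩
  refine ⟨n, ?_⟩
  let _ : Invertible w := hwu.invertible
  have hσ : (Polynomial.algEquivCMulXAddC w 0) (X ^ 2 - C c : Polynomial A) =
      C (w * w) * ArSing.gpoly k n := by
    rw [Polynomial.algEquivCMulXAddC_apply]
    unfold ArSing.gpoly
    simp only [map_sub, map_pow, aeval_X, aeval_C, Polynomial.algebraMap_eq, map_zero, add_zero]
    rw [← hcv, hn, ← hw]
    simp only [map_mul, map_pow]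
    ring
  refine ⟨(Ideal.quotientEquivAlg _ _ (Polynomial.algEquivCMulXAddC w 0) ?_).restrictScalars k⟩
  rw [Ideal.map_span, Set.image_singleton]
  have h3 : ((Polynomial.algEquivCMulXAddC w 0 : Polynomial A ≃ₐ[A] Polynomial A) :
      Polynomial A →+* Polynomial A) (X ^ 2 - C c) = C (w * w) * ArSing.gpoly k n := hσ
  rw [h3]
  have hu : IsUnit (C (w * w) : Polynomial A) := (hwu.mul hwu).map C
  exact (Ideal.span_singleton_mul_left_unit hu _).symm

end quad

end Groth.Agent.H76.ASing
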