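import Mathlib
import Groth.Agent.H76.ASingA
import Groth.Agent.H76.ASingE
import Groth.Agent.H76.ArSingA

set_option autoImplicit false
universe u

/-!
# Coordinate changes of `k[[x,y]]` and classification of `P/(G)` for `G` of `y`-order `≤ 2`
-/

namespace Groth.Agent.H76.ASing

open MvPowerSeries Groth.Agent.H76

section aut

variable (k : Type u) [Field k]

local notation "P" => MvPowerSeries (Fin 2) k
local notation "A" => PowerSeries k

attribute [-instance] PowerSeries.algebraPowerSeries MvPowerSeries.algebraMvPowerSeries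

theorem iInf_J_pow : ⨅ n : ℕ, J k ^ n = ⊥ := by
  rw [eq_bot_iff]
  intro f hf
  rw [Ideal.mem_iInf] at hf
  rw [Ideal.mem_bot]
  ext d
  rw [map_zero]
  exact coeff_eq_zero_of_mem_J_pow k (hf (d.degree + 1)) (Nat.lt_succ_self _)

/-- quotient by `G` and by its image under an automorphism. -/
noncomputable def autQuot (θ : P ≃ₐ[k] P) (G : P) :
    (P ⧸ Ideal.span {G}) ≃ₐ[k] (P ⧸ Ideal.span {θ G}) :=
  Ideal.quotientEquivAlg _ _ θ (by
    rw [Ideal.map_span, Set.image_singleton]
    rfl)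

/-- substitution homomorphism `X i ↦ g i`. -/
noncomputable def lin (g : Fin 2 → P) (hg : ∀ i, constantCoeff (g i) = 0) : P →ₐ[k] P :=
  substAlgHom (hasSubst_of_constantCoeff_zero hg)

theorem lin_X (g : Fin 2 → P) (hg : ∀ i, constantCoeff (g i) = 0) (i : Fin 2) :
    lin k g hg (X i) = g i := substAlgHom_X _ i

theorem lin_comp_eq_id (g g' : Fin 2 → P) (hg : ∀ i, constantCoeff (g i) = 0)
    (hg' : ∀ i, constantCoeff (g' i) = 0) (h : ∀ i, lin k g hg (g' i) = X i) :
    (lin k g hg).comp (lin k g' hg') = AlgHom.id k P := by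
  apply ArSing.mvps2_algHom_ext (J k) (iInf_J_pow k)
  · rw [AlgHom.comp_apply, lin_X, h]; rfl
  · rw [AlgHom.comp_apply, lin_X, h]; rfl
  · rw [AlgHom.comp_apply, lin_X, h]; exact X_mem_J k 0
  · rw [AlgHom.comp_apply, lin_X, h]; exact X_mem_J k 1

/-- the automorphism `X i ↦ g i` with inverse `X i ↦ g' i`. -/
noncomputable def linEquiv (g g' : Fin 2 → P) (hg : ∀ i, constantCoeff (g i) = 0)
    (hg' : ∀ i, constantCoeff (g' i) = 0) (h : ∀ i, lin k g hg (g' i) = X i)
    (h' : ∀ i, lin k g' hg' (g i) = X i) : P ≃ₐ[k] P :=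
  AlgEquiv.ofAlgHom (lin k g hg) (lin k g' hg') (lin_comp_eq_id k g g' hg hg' h)
    (lin_comp_eq_id k g' g hg' hg h')

theorem lin_map_J_le (g : Fin 2 → P) (hg : ∀ i, constantCoeff (g i) = 0) :
    Ideal.map (lin k g hg) (J k) ≤ J k := by
  unfold J
  rw [Ideal.map_span, Ideal.span_le]
  rintro _ ⟨_, ⟨i, rfl⟩, rfl⟩
  show lin k g hg (X i) ∈ J k
  rw [lin_X, mem_J_iff]
  exact hg i

theorem lin_mem_J_pow (g : Fin 2 → P) (hg : ∀ i, constantCoeff (g i) = 0) (n : ℕ) (R : P)
    (hR : R ∈ J k ^ n) : lin k g hg R ∈ J k ^ n := by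
  have h1 : lin k g hg R ∈ Ideal.map (lin k g hg) (J k ^ n) := Ideal.mem_map_of_mem _ hR
  rw [Ideal.map_pow] at h1
  exact Ideal.pow_right_mono (lin_map_J_le k g hg) n h1

theorem shear_hg : ∀ i : Fin 2, constantCoeff ((![X 0 + X 1, X 1] : Fin 2 → P) i) = 0 := by
  intro i; fin_cases i <;> simp

theorem shear_hg' : ∀ i : Fin 2, constantCoeff ((![X 0 - X 1, X 1] : Fin 2 → P) i) = 0 := by
  intro i; fin_cases i <;> simp

/-- the shear `x ↦ x + y, y ↦ y`. -/
noncomputable def shear : P ≃ₐ[k] P :=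
  linEquiv k ![X 0 + X 1, X 1] ![X 0 - X 1, X 1] (shear_hg k) (shear_hg' k)
    (by
      intro i
      fin_cases i
      · show lin k _ _ (X 0 - X 1) = X 0
        rw [map_sub, lin_X, lin_X]
        simp
      · show lin k _ _ (X 1) = X 1
        rw [lin_X]
        rfl)
    (by
      intro i
      fin_cases i
      · show lin k _ _ (X 0 + X 1) = X 0
        rw [map_add, lin_X, lin_X]
        simp
      · show lin k _ _ (X 1) = X 1
        rw [lin_X]
        rfl)

theorem shear_X0 : shear k (X 0) = X 0 + X 1 := lin_X k _ (shear_hg k) 0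

theorem shear_X1 : shear k (X 1) = X 1 := lin_X k _ (shear_hg k) 1

theorem shear_mem_J_pow (n : ℕ) (R : P) (hR : R ∈ J k ^ n) : shear k R ∈ J k ^ n :=
  lin_mem_J_pow k _ (shear_hg k) n R hR

/-- the swap `x ↔ y`. -/
noncomputable def swap : P ≃ₐ[k] P := renameEquiv k (Equiv.swap (0 : Fin 2) 1)

theorem swap_apply (G : P) : swap k G = rename (Equiv.swap (0 : Fin 2) 1) G := rfl

theorem swap_X0 : swap k (X 0) = X 1 := by
  rw [swap_apply, rename_X]
  simp

theorem swap_X1 : swap k (X 1) = X 0 := by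
  rw [swap_apply, rename_X]
  simp

theorem coeff_swap (G : P) (j : ℕ) :
    coeff (Finsupp.single 1 j) (swap k G) = coeff (Finsupp.single 0 j) G := by
  have h := coeff_embDomain_rename (Equiv.swap (0 : Fin 2) 1).toEmbedding G (Finsupp.single 0 j)
  rw [Finsupp.embDomain_single] at h
  rw [swap_apply]
  simpa using h

end aut

end Groth.Agent.H76.ASing
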