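import Mathlib
import Groth.Agent.H76.ASingF

set_option autoImplicit false
universe u

/-!
# `P/(G)` for `G` of `y`-order `1` or `2`
-/

namespace Groth.Agent.H76.ASing

open MvPowerSeries Groth.Agent.H76

section good

variable (k : Type u) [Field k]

local notation "P" => MvPowerSeries (Fin 2) k
local notation "A" => PowerSeries k

attribute [-instance] PowerSeries.algebraPowerSeries MvPowerSeries.algebraMvPowerSeries

/-- `P/(G)` is an `A_n`-singularity (`n ≥ 0`) or the double line. -/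
def Good (G : P) : Prop :=
  (∃ n : ℕ, Nonempty ((P ⧸ Ideal.span {G}) ≃ₐ[k] ArSing.ring k n)) ∨
    Nonempty ((P ⧸ Ideal.span {G}) ≃ₐ[k] (P ⧸ Ideal.span {(X 1 ^ 2 : P)}))

theorem good_of_aut (θ : P ≃ₐ[k] P) (G : P) (h : Good k (θ G)) : Good k G := by
  rcases h with ⟨n, ⟨e⟩⟩ | ⟨⟨e⟩⟩
  · exact Or.inl ⟨n, ⟨(autQuot k θ G).trans e⟩⟩
  · exact Or.inr ⟨(autQuot k θ G).trans e⟩

theorem dist_sq_sub (c : A) (hc : c ∈ IsLocalRing.maximalIdeal A) :
    (Polynomial.X ^ 2 - Polynomial.C c : Polynomial A).IsDistinguishedAt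
      (IsLocalRing.maximalIdeal A) := by
  have hmonic : (Polynomial.X ^ 2 - Polynomial.C c : Polynomial A).Monic :=
    Polynomial.monic_X_pow_sub_C _ (by norm_num)
  have hdeg : (Polynomial.X ^ 2 - Polynomial.C c : Polynomial A).natDegree = 2 :=
    Polynomial.natDegree_X_pow_sub_C
  refine ⟨⟨?_⟩, hmonic⟩
  intro n hn
  rw [hdeg] at hn
  rw [Polynomial.coeff_sub, Polynomial.coeff_X_pow, Polynomial.coeff_C]
  rw [if_neg (by omega)]
  by_cases h0 : n = 0
  · rw [if_pos h0, zero_sub, neg_mem_iff]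
    exact hc
  · rw [if_neg h0, sub_zero]
    exact Ideal.zero_mem _

theorem equiv_A_of_order_one (G : P) (h0 : coeff (Finsupp.single 1 0) G = 0)
    (h1 : coeff (Finsupp.single 1 1) G ≠ 0) :
    Nonempty ((P ⧸ Ideal.span {G}) ≃ₐ[k] A) := by
  obtain ⟨f, hf, hd, ⟨e⟩⟩ := exists_distinguished k G 1 h1 (by
    intro j hj
    have : j = 0 := by omega
    subst this
    exact h0)
  obtain ⟨e'⟩ := deg_one k f hf.monic hd
  exact ⟨e.trans e'⟩

theorem good_of_order_one (G : P) (h0 : coeff (Finsupp.single 1 0) G = 0)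
    (h1 : coeff (Finsupp.single 1 1) G ≠ 0) : Good k G := by
  obtain ⟨e⟩ := equiv_A_of_order_one k G h0 h1
  have h0' : coeff (Finsupp.single 1 0) (swap k (ArSing.eqn k 0)) = 0 := by
    rw [coeff_swap]
    unfold ArSing.eqn
    rw [map_sub, coeff_X_pow, coeff_X_pow]
    have hne1 : (Finsupp.single (0 : Fin 2) 0 : Fin 2 →₀ ℕ) ≠ Finsupp.single 1 2 := by
      intro h
      have := DFunLike.congr_fun h 1
      simp at this
    have hne2 : (Finsupp.single (0 : Fin 2) 0 : Fin 2 →₀ ℕ) ≠ Finsupp.single 0 (0 + 1) := by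
      intro h
      have := DFunLike.congr_fun h 0
      simp at this
    rw [if_neg hne1, if_neg hne2, sub_zero]
  have h1' : coeff (Finsupp.single 1 1) (swap k (ArSing.eqn k 0)) ≠ 0 := by
    rw [coeff_swap]
    unfold ArSing.eqn
    rw [map_sub, coeff_X_pow, coeff_X_pow]
    have hne : (Finsupp.single (0 : Fin 2) 1 : Fin 2 →₀ ℕ) ≠ Finsupp.single 1 2 := by
      intro h
      have := DFunLike.congr_fun h 0
      simp at this
    rw [if_neg hne, if_pos (by simp)]
    simp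
  obtain ⟨e'⟩ := equiv_A_of_order_one k _ h0' h1'
  exact Or.inl ⟨0, ⟨e.trans ((autQuot k (swap k) (ArSing.eqn k 0)).trans e').symm⟩⟩

theorem good_of_order_two [IsAlgClosed k] (h2 : (2 : k) ≠ 0) (G : P)
    (h0 : coeff (Finsupp.single 1 0) G = 0) (h1 : coeff (Finsupp.single 1 1) G = 0)
    (h2' : coeff (Finsupp.single 1 2) G ≠ 0) : Good k G := by
  obtain ⟨f, hf, hd, ⟨e⟩⟩ := exists_distinguished k G 2 h2' (by
    intro j hj
    have : j = 0 ∨ j = 1 := by omega
    rcases this with rfl | rfl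
    · exact h0
    · exact h1)
  obtain ⟨c, hc, ⟨e'⟩⟩ := deg_two k h2 f hf hd
  by_cases hc0 : c = 0
  · subst hc0
    have hE : ArSing.E k (X 1 ^ 2 : P) =
        ((Polynomial.X ^ 2 - Polynomial.C 0 : Polynomial A) : PowerSeries A) := by
      rw [map_pow, ArSing.E_X1, Polynomial.coe_sub, Polynomial.coe_pow, Polynomial.coe_X,
        Polynomial.coe_C, map_zero, sub_zero]
    obtain ⟨e''⟩ := nonempty_equiv_of_distinguished k _ (dist_sq_sub k 0 hc) (X 1 ^ 2 : P) hE
    exact Or.inr ⟨(e.trans e').trans e''.symm⟩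
  · obtain ⟨n, ⟨e''⟩⟩ := scale k h2 c hc0 hc
    have hmem : (PowerSeries.X : A) ^ (n + 1) ∈ IsLocalRing.maximalIdeal A := by
      rw [pow_succ]
      refine Ideal.mul_mem_left _ _ ?_
      rw [mem_maximalIdeal_A_iff, PowerSeries.constantCoeff_X]
    obtain ⟨e₃⟩ := nonempty_equiv_of_distinguished k (ArSing.gpoly k n)
      (dist_sq_sub k _ hmem) (ArSing.eqn k n) (ArSing.E_eqn k n)
    exact Or.inl ⟨n, ⟨((e.trans e').trans e'').trans e₃.symm⟩⟩

end good

end Groth.Agent.H76.ASing
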