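import Mathlib
import Groth.Agent.H76.ASingG

set_option autoImplicit false
universe u

/-!
# Every `F ∈ J ∖ J³` is good
-/

namespace Groth.Agent.H76.ASing

open MvPowerSeries Groth.Agent.H76

section cases

variable (k : Type u) [Field k]

local notation "P" => MvPowerSeries (Fin 2) k

theorem low_cases (d : Fin 2 →₀ ℕ) (hd : d.degree < 3) :
    d = 0 ∨ d = Finsupp.single 0 1 ∨ d = Finsupp.single 1 1 ∨ d = Finsupp.single 0 2 ∨
      d = Finsupp.single 0 1 + Finsupp.single 1 1 ∨ d = Finsupp.single 1 2 := by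
  have hdeg : d.degree = d 0 + d 1 := by rw [Finsupp.degree_eq_sum, Fin.sum_univ_two]
  have hd' : d = Finsupp.single 0 (d 0) + Finsupp.single 1 (d 1) := by
    ext i
    fin_cases i <;> simp
  rw [hdeg] at hd
  have h6 : (d 0 = 0 ∧ d 1 = 0) ∨ (d 0 = 1 ∧ d 1 = 0) ∨ (d 0 = 0 ∧ d 1 = 1) ∨ (d 0 = 2 ∧ d 1 = 0) ∨
      (d 0 = 1 ∧ d 1 = 1) ∨ (d 0 = 0 ∧ d 1 = 2) := by omega
  rcases h6 with ⟨h0, h1⟩ | ⟨h0, h1⟩ | ⟨h0, h1⟩ | ⟨h0, h1⟩ | ⟨h0, h1⟩ | ⟨h0, h1⟩
  · rw [h0, h1, Finsupp.single_zero, Finsupp.single_zero, add_zero] at hd'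
    exact Or.inl hd'
  · rw [h0, h1, Finsupp.single_zero, add_zero] at hd'
    exact Or.inr (Or.inl hd')
  · rw [h0, h1, Finsupp.single_zero, zero_add] at hd'
    exact Or.inr (Or.inr (Or.inl hd'))
  · rw [h0, h1, Finsupp.single_zero, add_zero] at hd'
    exact Or.inr (Or.inr (Or.inr (Or.inl hd')))
  · rw [h0, h1] at hd'
    exact Or.inr (Or.inr (Or.inr (Or.inr (Or.inl hd'))))
  · rw [h0, h1, Finsupp.single_zero, zero_add] at hd'
    exact Or.inr (Or.inr (Or.inr (Or.inr (Or.inr hd'))))

theorem coeff_X0_mul_X1 (d : Fin 2 →₀ ℕ) (hd : d 0 ≠ 1 ∨ d 1 ≠ 1) :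
    coeff d (X 0 * X 1 : P) = 0 := by
  rw [X_def, X_def, monomial_mul_monomial, coeff_monomial, if_neg]
  intro h
  rcases hd with hd | hd
  · apply hd; rw [h]; simp
  · apply hd; rw [h]; simp

theorem coeff_X0_mul_X1_self :
    coeff (Finsupp.single 0 1 + Finsupp.single 1 1) (X 0 * X 1 : P) = 1 := by
  rw [X_def, X_def, monomial_mul_monomial, coeff_monomial, if_pos rfl, one_mul]

theorem single_one_zero : (Finsupp.single (1 : Fin 2) 0 : Fin 2 →₀ ℕ) = 0 := Finsupp.single_zero 1

theorem single_zero_zero : (Finsupp.single (0 : Fin 2) 0 : Fin 2 →₀ ℕ) = 0 := Finsupp.single_zero 0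

theorem good_of_notMem [IsAlgClosed k] (h2 : (2 : k) ≠ 0) (F : P) (h00 : coeff 0 F = 0)
    (hF : F ∉ J k ^ 3) : Good k F := by
  by_cases h01 : coeff (Finsupp.single 1 1) F = 0
  swap
  · exact good_of_order_one k F (by rw [single_one_zero]; exact h00) h01
  by_cases h10 : coeff (Finsupp.single 0 1) F = 0
  swap
  · apply good_of_aut k (swap k)
    apply good_of_order_one
    · rw [coeff_swap, single_zero_zero]; exact h00
    · rw [coeff_swap]; exact h10
  by_cases h02 : coeff (Finsupp.single 1 2) F = 0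
  swap
  · exact good_of_order_two k h2 F (by rw [single_one_zero]; exact h00) h01 h02
  by_cases h20 : coeff (Finsupp.single 0 2) F = 0
  swap
  · apply good_of_aut k (swap k)
    apply good_of_order_two k h2
    · rw [coeff_swap, single_zero_zero]; exact h00
    · rw [coeff_swap]; exact h10
    · rw [coeff_swap]; exact h20
  set c := coeff (Finsupp.single 0 1 + Finsupp.single 1 1) F with hc
  have hc0 : c ≠ 0 := by
    intro hc0
    apply hF
    apply mem_J_pow_of_coeff
    intro d hd
    rcases low_cases d hd with rfl | rfl | rfl | rfl | rfl | rfl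
    · exact h00
    · exact h10
    · exact h01
    · exact h20
    · rw [← hc]; exact hc0
    · exact h02
  -- the remainder
  set R := F - C c * (X 0 * X 1) with hR
  have hRmem : R ∈ J k ^ 3 := by
    apply mem_J_pow_of_coeff
    intro d hd
    rw [hR, map_sub, coeff_C_mul]
    rcases low_cases d hd with rfl | rfl | rfl | rfl | rfl | rfl
    · rw [h00, coeff_X0_mul_X1 k _ (Or.inl (by simp))]; simp
    · rw [h10, coeff_X0_mul_X1 k _ (Or.inr (by simp))]; simp
    · rw [h01, coeff_X0_mul_X1 k _ (Or.inl (by simp))]; simp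
    · rw [h20, coeff_X0_mul_X1 k _ (Or.inl (by simp))]; simp
    · rw [coeff_X0_mul_X1_self, ← hc]; simp
    · rw [h02, coeff_X0_mul_X1 k _ (Or.inl (by simp))]; simp
  have hFR : F = C c * (X 0 * X 1) + R := by rw [hR]; ring
  have hsh : shear k F = C c * (X 0 * X 1 + X 1 ^ 2) + shear k R := by
    conv_lhs => rw [hFR]
    rw [map_add, map_mul, map_mul, shear_X0, shear_X1]
    have : shear k (C c) = C c := by
      have : (C c : P) = algebraMap k P c := rfl
      rw [this, AlgEquiv.commutes]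
    rw [this]
    ring
  have hshR := shear_mem_J_pow k 3 R hRmem
  have hcoef : ∀ j : ℕ, j < 3 → coeff (Finsupp.single 1 j) (shear k F) =
      c * (if j = 2 then 1 else 0) := by
    intro j hj
    rw [hsh, map_add, coeff_C_mul, map_add, coeff_X0_mul_X1 k _ (Or.inl (by simp)), zero_add,
      coeff_X_pow, coeff_eq_zero_of_mem_J_pow k hshR (by rw [Finsupp.degree_single]; exact hj),
      add_zero]
    congr 1
    by_cases hj2 : j = 2
    · subst hj2; simp
    · rw [if_neg hj2, if_neg]
      intro h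
      apply hj2
      have := DFunLike.congr_fun h 1
      simpa using this
  apply good_of_aut k (shear k)
  apply good_of_order_two k h2
  · rw [hcoef 0 (by norm_num)]; simp
  · rw [hcoef 1 (by norm_num)]; simp
  · rw [hcoef 2 (by norm_num)]; simpa using hc0

end cases

end Groth.Agent.H76.ASing
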