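import Mathlib

set_option autoImplicit false
universe u

/-!
# Taylor coefficients of a recentred polynomial
-/

namespace Groth.Agent.H76.ASing

open MvPolynomial

section taylor

variable {k : Type u} [Field k] (a : Fin 2 → k)

/-- recentring `f ↦ f(X + a)`. -/
noncomputable def shiftHom : MvPolynomial (Fin 2) k →ₐ[k] MvPolynomial (Fin 2) k :=
  aeval (fun i => X i + C (a i))

theorem shiftHom_apply (f : MvPolynomial (Fin 2) k) :
    shiftHom a f = aeval (fun i : Fin 2 => (X i + C (a i) : MvPolynomial (Fin 2) k)) f := rfl

theorem pderiv_shift (i : Fin 2) (p : MvPolynomial (Fin 2) k) :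
    pderiv i (shiftHom a p) = shiftHom a (pderiv i p) := by
  induction p using MvPolynomial.induction_on with
  | C c =>
    have : shiftHom a (C c) = C c := by
      rw [shiftHom_apply, aeval_C]
      rfl
    rw [this, pderiv_C, map_zero]
  | add p q hp hq => rw [map_add, map_add, map_add, map_add, hp, hq]
  | mul_X p j hp =>
    have hX : shiftHom a (X j) = X j + C (a j) := by rw [shiftHom_apply, aeval_X]
    rw [map_mul, pderiv_mul, hp, hX, pderiv_mul, map_add (pderiv i), pderiv_C, add_zero,
      map_add (shiftHom a), map_mul, map_mul, hX]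
    congr 2
    by_cases hij : j = i
    · subst hij
      rw [pderiv_X_self, map_one]
    · rw [pderiv_X_of_ne hij, map_zero]

theorem eval_zero_shift (p : MvPolynomial (Fin 2) k) : eval 0 (shiftHom a p) = eval a p := by
  have h : (aeval (0 : Fin 2 → k)).comp (shiftHom a) = aeval a := by
    apply MvPolynomial.algHom_ext
    intro i
    rw [AlgHom.comp_apply, shiftHom_apply, aeval_X, aeval_X, map_add, aeval_X, aeval_C]
    simp
  have := DFunLike.congr_fun h p
  rw [AlgHom.comp_apply] at this
  rw [← aeval_eq_eval, ← aeval_eq_eval]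
  exact this

theorem coeff_zero_shift (f : MvPolynomial (Fin 2) k) : coeff 0 (shiftHom a f) = eval a f := by
  rw [← eval_zero_shift, eval_zero, constantCoeff_eq]

theorem coeff_single_shift (f : MvPolynomial (Fin 2) k) (i : Fin 2) :
    coeff (Finsupp.single i 1) (shiftHom a f) = eval a (pderiv i f) := by
  rw [← coeff_zero_shift, ← pderiv_shift, coeff_pderiv]
  simp

theorem eval_pderiv_pderiv (f : MvPolynomial (Fin 2) k) (i j : Fin 2) :
    eval a (pderiv i (pderiv j f)) =
      coeff (Finsupp.single i 1 + Finsupp.single j 1) (shiftHom a f) *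
        (((Finsupp.single i 1 : Fin 2 →₀ ℕ) j : k) + 1) := by
  rw [← coeff_zero_shift, ← pderiv_shift, ← pderiv_shift, coeff_pderiv, coeff_pderiv]
  simp

end taylor

end Groth.Agent.H76.ASing
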