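import Mathlib
import Groth.Agent.H76.ASingB
import Groth.Agent.H76.ASingH
import Groth.Agent.H76.ASingI

set_option autoImplicit false
universe u

/-!
# Classification of plane curve points with non-zero 2-jet
-/

namespace Groth.Agent.H76.ASing

open MvPowerSeries Groth.Agent.H76

section main

variable (k : Type u) [Field k]

local notation "P" => MvPowerSeries (Fin 2) k

theorem eqn_mem_J (n : ℕ) : ArSing.eqn k n ∈ J k := by
  rw [mem_J_iff]
  unfold ArSing.eqn
  rw [map_sub, map_pow, map_pow, constantCoeff_X, constantCoeff_X]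
  simp

theorem eqn_notMem (n : ℕ) : ArSing.eqn k n ∉ J k ^ 3 := by
  intro h
  have h1 := coeff_eq_zero_of_mem_J_pow k h (d := Finsupp.single 1 2)
    (by rw [Finsupp.degree_single]; norm_num)
  unfold ArSing.eqn at h1
  rw [map_sub, coeff_X_pow, coeff_X_pow, if_pos rfl, if_neg, sub_zero] at h1
  · exact one_ne_zero h1
  · intro h
    have := DFunLike.congr_fun h 1
    simp at this

theorem sq_mem_J : (X 1 ^ 2 : P) ∈ J k := by
  rw [mem_J_iff, map_pow, constantCoeff_X]
  simp

theorem sq_notMem : (X 1 ^ 2 : P) ∉ J k ^ 3 := by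
  intro h
  have h1 := coeff_eq_zero_of_mem_J_pow k h (d := Finsupp.single 1 2)
    (by rw [Finsupp.degree_single]; norm_num)
  rw [coeff_X_pow, if_pos rfl] at h1
  exact one_ne_zero h1

theorem not_good_of_mem (F : P) (hF : F ∈ J k ^ 3) : ¬ Good k F := by
  rintro (⟨n, ⟨e⟩⟩ | ⟨⟨e⟩⟩)
  · exact no_algEquiv k F (ArSing.eqn k n) hF (eqn_mem_J k n) (eqn_notMem k n) e
  · exact no_algEquiv k F (X 1 ^ 2) hF (sq_mem_J k) (sq_notMem k) e

theorem mem_J_cube_iff (h2 : (2 : k) ≠ 0) (f : MvPolynomial (Fin 2) k) (a : Fin 2 → k)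
    (hfa : MvPolynomial.eval a f = 0) :
    ((∀ i : Fin 2, MvPolynomial.eval a (MvPolynomial.pderiv i f) = 0) ∧
      ∀ i j : Fin 2, MvPolynomial.eval a (MvPolynomial.pderiv i (MvPolynomial.pderiv j f)) = 0) ↔
    ((shiftHom a f : MvPolynomial (Fin 2) k) : P) ∈ J k ^ 3 := by
  constructor
  · rintro ⟨h1, h2'⟩
    apply mem_J_pow_of_coeff
    intro d hd
    rw [MvPolynomial.coeff_coe]
    rcases low_cases d hd with rfl | rfl | rfl | rfl | rfl | rfl
    · rw [coeff_zero_shift]; exact hfa
    · rw [coeff_single_shift]; exact h1 0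
    · rw [coeff_single_shift]; exact h1 1
    · have := eval_pderiv_pderiv a f 0 0
      rw [h2' 0 0] at this
      have h3 : (Finsupp.single (0 : Fin 2) 1 + Finsupp.single 0 1 : Fin 2 →₀ ℕ) =
          Finsupp.single 0 2 := by rw [← Finsupp.single_add]
      rw [h3] at this
      have h4 : (((Finsupp.single (0 : Fin 2) 1 : Fin 2 →₀ ℕ) 0 : k) + 1) = 2 := by
        simp; norm_num
      rw [h4] at this
      rcases mul_eq_zero.mp this.symm with h | h
      · exact h
      · exact absurd h h2
    · have := eval_pderiv_pderiv a f 0 1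
      rw [h2' 0 1] at this
      have h4 : (((Finsupp.single (0 : Fin 2) 1 : Fin 2 →₀ ℕ) 1 : k) + 1) = 1 := by simp
      rw [h4, mul_one] at this
      exact this.symm
    · have := eval_pderiv_pderiv a f 1 1
      rw [h2' 1 1] at this
      have h3 : (Finsupp.single (1 : Fin 2) 1 + Finsupp.single 1 1 : Fin 2 →₀ ℕ) =
          Finsupp.single 1 2 := by rw [← Finsupp.single_add]
      rw [h3] at this
      have h4 : (((Finsupp.single (1 : Fin 2) 1 : Fin 2 →₀ ℕ) 1 : k) + 1) = 2 := by
        simp; norm_num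
      rw [h4] at this
      rcases mul_eq_zero.mp this.symm with h | h
      · exact h
      · exact absurd h h2
  · intro hF
    have hc : ∀ d : Fin 2 →₀ ℕ, d.degree < 3 → MvPolynomial.coeff d (shiftHom a f) = 0 := by
      intro d hd
      rw [← MvPolynomial.coeff_coe]
      exact coeff_eq_zero_of_mem_J_pow k hF hd
    constructor
    · intro i
      rw [← coeff_single_shift]
      exact hc _ (by rw [Finsupp.degree_single]; norm_num)
    · intro i j
      rw [eval_pderiv_pderiv, hc _ (by rw [map_add, Finsupp.degree_single, Finsupp.degree_single]; norm_num),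
        zero_mul]

theorem main [IsAlgClosed k] (h2 : (2 : k) ≠ 0) (f : MvPolynomial (Fin 2) k) (a : Fin 2 → k)
    (hfa : MvPolynomial.eval a f = 0) :
    ((∀ i : Fin 2, MvPolynomial.eval a (MvPolynomial.pderiv i f) = 0) ∧
      ∀ i j : Fin 2, MvPolynomial.eval a (MvPolynomial.pderiv i (MvPolynomial.pderiv j f)) = 0) ↔
    ¬ Good k ((shiftHom a f : MvPolynomial (Fin 2) k) : P) := by
  rw [mem_J_cube_iff k h2 f a hfa]
  constructor
  · exact not_good_of_mem k _
  · intro hng
    by_contra hF
    apply hng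
    apply good_of_notMem k h2 _ _ hF
    rw [MvPolynomial.coeff_coe, coeff_zero_shift]
    exact hfa

end main

end Groth.Agent.H76.ASing
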