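import Mathlib
import Groth.Prelude.Def_GSzCSA

/-!
# Reduced norm / reduced trace basics for `CSAGal.IsRedNorm` and `CSAGal.IsRedTrace`

* `charpoly_mulLeft`, `det_mulLeft`, `trace_mulLeft`: left multiplication by a matrix `M` on
  `Matrix n n R` has characteristic polynomial `M.charpoly ^ card n`, determinant `M.det ^ card n`,
  trace `card n • M.trace`.
* `charpoly_map_eq`, `algebraMap_norm_eq`, `algebraMap_trace_eq`: for a splitting
  `φ : K ⊗[k] A ≃ₐ[K] Matrix (Fin n) (Fin n) K`, the corresponding facts for left multiplication by `a`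
  on `A`.
* `exists_of_isRedNorm`, `exists_of_isRedTrace`: consequences for the Prelude predicates.
-/

set_option autoImplicit false

open Matrix Polynomial TensorProduct

namespace Groth.Agent.H76

section MatrixMulLeft

variable {R : Type*} [CommRing R] {n : Type*} [Fintype n] [DecidableEq n]

omit [DecidableEq n] in
theorem stdBasis_repr (A : Matrix n n R) (i j : n) :
    (Matrix.stdBasis R n n).repr A (i, j) = A i j := by
  simp [Matrix.stdBasis]

theorem toMatrix_mulLeft (M : Matrix n n R) :
    LinearMap.toMatrix (Matrix.stdBasis R n n) (Matrix.stdBasis R n n) (LinearMap.mulLeft R M) =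
      Matrix.kroneckerMap (· * ·) M (1 : Matrix n n R) := by
  ext ⟨i, j⟩ ⟨k, l⟩
  rw [LinearMap.toMatrix_apply, stdBasis_repr, Matrix.stdBasis_eq_single]
  simp only [LinearMap.mulLeft_apply, Matrix.mul_apply, Matrix.single_apply, Matrix.one_apply,
    Matrix.kroneckerMap_apply, mul_ite, mul_one, mul_zero]
  by_cases hjl : j = l
  · subst hjl
    simp
  · have : ¬ l = j := fun h => hjl h.symm
    simp [hjl, this]

theorem det_mulLeft (M : Matrix n n R) :
    LinearMap.det (LinearMap.mulLeft R M) = M.det ^ Fintype.card n := by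
  rw [← LinearMap.det_toMatrix (Matrix.stdBasis R n n), toMatrix_mulLeft]
  have := Matrix.det_kronecker M (1 : Matrix n n R)
  rw [Matrix.det_one, one_pow, mul_one] at this
  exact this

theorem trace_mulLeft (M : Matrix n n R) :
    LinearMap.trace R _ (LinearMap.mulLeft R M) = Fintype.card n • M.trace := by
  rw [LinearMap.trace_eq_matrix_trace R (Matrix.stdBasis R n n), toMatrix_mulLeft]
  have := Matrix.trace_kronecker M (1 : Matrix n n R)
  rw [Matrix.trace_one] at this
  rw [this, nsmul_eq_mul, mul_comm]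

theorem charpoly_mulLeft (M : Matrix n n R) :
    (LinearMap.mulLeft R M).charpoly = M.charpoly ^ Fintype.card n := by
  rw [← LinearMap.charpoly_toMatrix _ (Matrix.stdBasis R n n), toMatrix_mulLeft]
  unfold Matrix.charpoly
  have h1 : (Matrix.kroneckerMap (· * ·) M (1 : Matrix n n R)).charmatrix =
      Matrix.kroneckerMap (· * ·) M.charmatrix (1 : Matrix n n R[X]) := by
    ext ⟨i, j⟩ ⟨k, l⟩
    simp only [Matrix.charmatrix_apply, Matrix.kroneckerMap_apply, Matrix.diagonal_apply,
      Matrix.one_apply, Prod.mk.injEq]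
    by_cases hjl : j = l
    · subst hjl
      by_cases hik : i = k <;> simp [hik]
    · simp [hjl]
  rw [h1]
  have := Matrix.det_kronecker M.charmatrix (1 : Matrix n n R[X])
  rw [Matrix.det_one, one_pow, mul_one] at this
  exact this

end MatrixMulLeft

section BaseChange

variable {k : Type*} [Field k] {A : Type*} [Ring A] [Algebra k A]
variable {K : Type*} [Field K] [Algebra k K]

theorem mulLeft_baseChange (a : A) :
    (LinearMap.mulLeft k a).baseChange K = LinearMap.mulLeft K ((1 : K) ⊗ₜ[k] a) := by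
  apply TensorProduct.AlgebraTensorModule.curry_injective
  ext b
  simp

theorem conj_mulLeft {B C : Type*} [Ring B] [Algebra K B] [Ring C] [Algebra K C]
    (φ : B ≃ₐ[K] C) (t : B) :
    φ.toLinearEquiv.conj (LinearMap.mulLeft K t) = LinearMap.mulLeft K (φ t) := by
  ext M
  simp [LinearEquiv.conj_apply]

variable [Module.Finite k A] {n : ℕ} (φ : K ⊗[k] A ≃ₐ[K] Matrix (Fin n) (Fin n) K)

theorem charpoly_map_eq (a : A) :
    (LinearMap.mulLeft k a).charpoly.map (algebraMap k K) = (φ (1 ⊗ₜ a)).charpoly ^ n := by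
  rw [← LinearMap.charpoly_baseChange, mulLeft_baseChange,
    ← LinearEquiv.charpoly_conj φ.toLinearEquiv, conj_mulLeft, charpoly_mulLeft, Fintype.card_fin]

theorem algebraMap_norm_eq (a : A) :
    algebraMap k K (Algebra.norm k a) = (φ (1 ⊗ₜ a)).det ^ n := by
  rw [Algebra.norm_apply, ← LinearMap.det_baseChange]
  have : (Algebra.lmul k A a) = LinearMap.mulLeft k a := rfl
  rw [this, mulLeft_baseChange]
  have h2 := det_mulLeft (φ (1 ⊗ₜ[k] a))
  rw [← conj_mulLeft φ, LinearEquiv.conj_apply, LinearMap.comp_assoc, LinearMap.det_conj,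
    Fintype.card_fin] at h2
  exact h2

theorem algebraMap_trace_eq (a : A) :
    algebraMap k K (LinearMap.trace k A (LinearMap.mulLeft k a)) = n • (φ (1 ⊗ₜ a)).trace := by
  rw [← LinearMap.trace_baseChange, mulLeft_baseChange, ← LinearMap.trace_conj' _ φ.toLinearEquiv,
    conj_mulLeft, trace_mulLeft, Fintype.card_fin]

include φ in
theorem finrank_eq_sq_of_algEquiv : Module.finrank k A = n ^ 2 := by
  have h1 : Module.finrank K (K ⊗[k] A) = Module.finrank k A := Module.finrank_baseChange
  have h2 := φ.toLinearEquiv.finrank_eq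
  rw [h1, Module.finrank_matrix] at h2
  simpa [sq] using h2

omit [Module.Finite k A] in
theorem map_one_tmul_algebraMap (c : k) :
    φ (1 ⊗ₜ[k] algebraMap k A c) = algebraMap K _ (algebraMap k K c) := by
  have : (1 : K) ⊗ₜ[k] algebraMap k A c = algebraMap K (K ⊗[k] A) (algebraMap k K c) := by
    rw [Algebra.TensorProduct.algebraMap_apply, Algebra.algebraMap_eq_smul_one c,
      TensorProduct.tmul_smul, TensorProduct.smul_tmul', ← Algebra.algebraMap_eq_smul_one]
    rfl
  rw [this, φ.commutes]

end BaseChange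

section Prelude

universe u v

variable {k : Type u} [Field k] {A : Type v} [Ring A] [Algebra k A] [FiniteDimensional k A]

/-- For a reduced norm `N` in the sense of the Prelude: `dim A = n ^ 2`, the algebra norm is `N ^ n`,
and `N c = c ^ n` for scalars. -/
theorem exists_of_isRedNorm (N : A →* k) (hN : CSAGal.IsRedNorm k A N) :
    ∃ n : ℕ, Module.finrank k A = n ^ 2 ∧ (∀ a : A, Algebra.norm k a = N a ^ n) ∧
      (∀ c : k, N (algebraMap k A c) = c ^ n) := by
  obtain ⟨K, _, _, _, n, φ, h⟩ := hN
  refine ⟨n, finrank_eq_sq_of_algEquiv φ, fun a => ?_, fun c => ?_⟩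
  · apply (algebraMap k K).injective
    rw [algebraMap_norm_eq φ, map_pow, h]
  · apply (algebraMap k K).injective
    rw [h, map_one_tmul_algebraMap, map_pow, Algebra.algebraMap_eq_smul_one, Matrix.det_smul,
      Matrix.det_one, mul_one, Fintype.card_fin]

theorem exists_of_isRedTrace (T : A →+ k) (hT : CSAGal.IsRedTrace k A T) :
    ∃ n : ℕ, Module.finrank k A = n ^ 2 ∧
      (∀ a : A, LinearMap.trace k A (LinearMap.mulLeft k a) = n • T a) := by
  obtain ⟨K, _, _, _, n, φ, h⟩ := hT
  refine ⟨n, finrank_eq_sq_of_algEquiv φ, fun a => ?_⟩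
  apply (algebraMap k K).injective
  rw [algebraMap_trace_eq φ, map_nsmul, h]

/-- The characteristic polynomial version. -/
theorem exists_charpoly_of_isRedNorm (N : A →* k) (hN : CSAGal.IsRedNorm k A N) :
    ∃ (K : Type u) (_ : Field K) (_ : Algebra k K) (n : ℕ)
      (φ : K ⊗[k] A ≃ₐ[K] Matrix (Fin n) (Fin n) K),
      (∀ a : A, algebraMap k K (N a) = Matrix.det (φ (1 ⊗ₜ[k] a))) ∧
      (∀ a : A, (LinearMap.mulLeft k a).charpoly.map (algebraMap k K) =
        (φ (1 ⊗ₜ a)).charpoly ^ n) := by
  obtain ⟨K, _, _, _, n, φ, h⟩ := hN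
  exact ⟨K, _, _, n, φ, h, fun a => charpoly_map_eq φ a⟩

end Prelude

end Groth.Agent.H76
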