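import Groth.Agent.H76.NodeStructK

set_option autoImplicit false
set_option linter.unusedSectionVars false
universe u

namespace Groth.Agent.H76.NodeStruct

open MvPowerSeries IsLocalRing

section general

variable {A : Type u} [CommRing A]

/-- a prime nonzerodivisor `p` not dividing `y` is regular modulo `y`. -/
theorem regular_mod_of_prime (p y : A) (hp : (Ideal.span ({p} : Set A)).IsPrime)
    (hreg : ∀ z, p * z = 0 → z = 0) (hy : y ∉ Ideal.span ({p} : Set A)) :
    IsSMulRegular (A ⧸ Ideal.span ({y} : Set A)) p := by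
  intro x x' hxy
  obtain ⟨a, rfl⟩ := Ideal.Quotient.mk_surjective x
  obtain ⟨b, rfl⟩ := Ideal.Quotient.mk_surjective x'
  simp only at hxy
  have h2 : (Ideal.Quotient.mk (Ideal.span ({y} : Set A))) (p * (a - b)) = 0 := by
    have e1 : ∀ c : A, p • (Ideal.Quotient.mk (Ideal.span ({y} : Set _)) c) =
        Ideal.Quotient.mk (Ideal.span ({y} : Set _)) (p * c) := fun c => rfl
    rw [e1, e1] at hxy
    rw [mul_sub, map_sub, hxy, sub_self]
  rw [Ideal.Quotient.eq_zero_iff_mem] at h2
  obtain ⟨w, hw⟩ := Ideal.mem_span_singleton'.mp h2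
  have hw1 : w * y ∈ Ideal.span ({p} : Set A) := by
    rw [hw, Ideal.mem_span_singleton]
    exact ⟨a - b, rfl⟩
  obtain ⟨w₂, rfl⟩ := Ideal.mem_span_singleton'.mp ((hp.mem_or_mem hw1).resolve_right hy)
  have e2 : a - b = w₂ * y := by
    apply sub_eq_zero.mp
    apply hreg
    linear_combination -hw
  rw [Ideal.Quotient.eq, e2]
  exact Ideal.mul_mem_left _ _ (Ideal.mem_span_singleton_self y)

variable [IsNoetherianRing A]

theorem length_pow_general (x y : A) (hreg : IsSMulRegular (A ⧸ Ideal.span ({y} : Set A)) x)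
    (n : ℕ) :
    Module.length A (A ⧸ (Ideal.span ({x ^ n} : Set A) ⊔ Ideal.span {y})) =
      n * Module.length A (A ⧸ Ideal.span ({x, y} : Set A)) := by
  induction n with
  | zero =>
    rw [pow_zero, Ideal.span_singleton_one, top_sup_eq]
    simp
  | succ n ih =>
    have := Groth.Agent.S15315.result A x y (Ideal.span ({x ^ n} : Set A)) hreg
    rw [Ideal.span_singleton_mul_span_singleton, ← pow_succ', ih] at this
    rw [this]
    push_cast
    ring

end general

end Groth.Agent.H76.NodeStruct
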