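import Mathlib
import Groth.Prelude.Def_W4c1arstab1appArSing
import Groth.Agent.H76.ArSingC
import Groth.Agent.H76.NodeStructL

set_option autoImplicit false
universe u

namespace Groth.Agent.H76.ArSing

open MvPowerSeries

section general

variable {A : Type u} [CommRing A]

theorem length_quot_of_isMaximal (I : Ideal A) (hI : I.IsMaximal) :
    Module.length A (A ⧸ I) = 1 := by
  rw [Module.length_eq_one_iff, isSimpleModule_iff_isCoatom]
  exact hI.out

/-- `length (A/(x^n)) = n * length (A/(x))` for a nonzerodivisor `x` of a noetherian ring. -/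
theorem length_quot_pow_of_regular [IsNoetherianRing A] (x : A) (hx : ∀ z, x * z = 0 → z = 0)
    (n : ℕ) :
    Module.length A (A ⧸ Ideal.span ({x ^ n} : Set A)) =
      n * Module.length A (A ⧸ Ideal.span ({x} : Set A)) := by
  have hreg : IsSMulRegular (A ⧸ Ideal.span ({(0 : A)} : Set A)) x := by
    intro a b hab
    obtain ⟨a, rfl⟩ := Ideal.Quotient.mk_surjective a
    obtain ⟨b, rfl⟩ := Ideal.Quotient.mk_surjective b
    have e1 : ∀ c : A, x • (Ideal.Quotient.mk (Ideal.span ({(0 : A)} : Set _)) c) =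
        Ideal.Quotient.mk (Ideal.span ({(0 : A)} : Set _)) (x * c) := fun c => rfl
    simp only [e1] at hab
    rw [Ideal.Quotient.eq, Ideal.span_singleton_zero, Ideal.mem_bot] at hab ⊢
    apply hx
    linear_combination hab
  have h := Groth.Agent.H76.NodeStruct.length_pow_general x (0 : A) hreg n
  have e2 : Ideal.span ({x ^ n} : Set A) ⊔ Ideal.span {(0 : A)} = Ideal.span {x ^ n} := by
    rw [Ideal.span_singleton_zero, sup_bot_eq]
  have e3 : Ideal.span ({x, (0 : A)} : Set A) = Ideal.span {x} := by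
    rw [Ideal.span_insert, Ideal.span_singleton_zero, sup_bot_eq]
  rw [e2, e3] at h
  exact h

end general

section ps

variable (k : Type u) [Field k]

theorem length_ps_quot_X_pow (n : ℕ) :
    Module.length (PowerSeries k) (PowerSeries k ⧸ Ideal.span {(PowerSeries.X : PowerSeries k) ^ n})
      = n := by
  rw [length_quot_pow_of_regular (PowerSeries.X : PowerSeries k) (by
    intro z hz
    rcases mul_eq_zero.mp hz with h | h
    · exact absurd h PowerSeries.X_ne_zero
    · exact h) n]
  rw [length_quot_of_isMaximal _ (by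
    rw [← PowerSeries.maximalIdeal_eq_span_X]
    exact IsLocalRing.maximalIdeal.isMaximal _), mul_one]

end ps

section ring

variable (k : Type u) [Field k] (r : ℕ)

local notation "𝒜" => ArSing.ring k r
local notation "P" => PowerSeries k

theorem xMap_ne_zero (f : P) (hf : f ≠ 0) : ArSing.xMap k r f ≠ 0 := by
  intro h
  have := normal_eq_zero k r f 0 (by rw [h, map_zero, zero_mul, add_zero])
  exact hf this.1

theorem xMap_injective : Function.Injective (ArSing.xMap k r) := by
  rw [injective_iff_map_eq_zero]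
  intro f hf
  by_contra h
  exact xMap_ne_zero k r f h hf

theorem y_mul_normal (f g : P) :
    ArSing.y k r * (ArSing.xMap k r f + ArSing.xMap k r g * ArSing.y k r) =
      ArSing.xMap k r (g * PowerSeries.X ^ (r + 1)) + ArSing.xMap k r f * ArSing.y k r := by
  rw [map_mul, map_pow, xMap_X]
  linear_combination (ArSing.xMap k r g) * relation k r

theorem x_mul_normal (f g : P) :
    ArSing.x k r * (ArSing.xMap k r f + ArSing.xMap k r g * ArSing.y k r) =
      ArSing.xMap k r (PowerSeries.X * f) + ArSing.xMap k r (PowerSeries.X * g) * ArSing.y k r := by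
  rw [map_mul, map_mul, xMap_X]
  ring

theorem y_regular (z : 𝒜) (hz : ArSing.y k r * z = 0) : z = 0 := by
  obtain ⟨f, g, rfl⟩ := exists_normal k r z
  rw [y_mul_normal] at hz
  obtain ⟨h1, h2⟩ := normal_eq_zero k r _ _ hz
  have hg : g = 0 := by
    rcases mul_eq_zero.mp h1 with h | h
    · exact h
    · exact absurd h (pow_ne_zero _ PowerSeries.X_ne_zero)
  rw [h2, hg]
  simp

theorem x_regular (z : 𝒜) (hz : ArSing.x k r * z = 0) : z = 0 := by
  obtain ⟨f, g, rfl⟩ := exists_normal k r z
  rw [x_mul_normal] at hz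
  obtain ⟨h1, h2⟩ := normal_eq_zero k r _ _ hz
  have hf : f = 0 := (mul_eq_zero.mp h1).resolve_left PowerSeries.X_ne_zero
  have hg : g = 0 := (mul_eq_zero.mp h2).resolve_left PowerSeries.X_ne_zero
  rw [hf, hg]
  simp

theorem y_mem_nonZeroDivisors : ArSing.y k r ∈ nonZeroDivisors 𝒜 := by
  rw [mem_nonZeroDivisors_iff_left]
  exact y_regular k r

theorem x_mem_nonZeroDivisors : ArSing.x k r ∈ nonZeroDivisors 𝒜 := by
  rw [mem_nonZeroDivisors_iff_left]
  exact x_regular k r

/-- membership in `(y)` in terms of the normal form -/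
theorem mem_span_y_iff (f g : P) :
    ArSing.xMap k r f + ArSing.xMap k r g * ArSing.y k r ∈ Ideal.span {ArSing.y k r} ↔
      PowerSeries.X ^ (r + 1) ∣ f := by
  rw [Ideal.mem_span_singleton]
  constructor
  · rintro ⟨z, hz⟩
    obtain ⟨f', g', rfl⟩ := exists_normal k r z
    rw [y_mul_normal] at hz
    obtain ⟨h1, -⟩ := normal_unique k r _ _ _ _ hz
    exact ⟨g', by rw [h1]; ring⟩
  · rintro ⟨q, rfl⟩
    refine ⟨ArSing.xMap k r g + ArSing.xMap k r q * ArSing.y k r, ?_⟩
    rw [y_mul_normal]
    congr 2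
    ring

/-- membership in `(x)` in terms of the normal form -/
theorem mem_span_x_iff (f g : P) :
    ArSing.xMap k r f + ArSing.xMap k r g * ArSing.y k r ∈ Ideal.span {ArSing.x k r} ↔
      PowerSeries.X ∣ f ∧ PowerSeries.X ∣ g := by
  rw [Ideal.mem_span_singleton]
  constructor
  · rintro ⟨z, hz⟩
    obtain ⟨f', g', rfl⟩ := exists_normal k r z
    rw [x_mul_normal] at hz
    obtain ⟨h1, h2⟩ := normal_unique k r _ _ _ _ hz
    exact ⟨⟨f', h1⟩, ⟨g', h2⟩⟩
  · rintro ⟨⟨q, rfl⟩, ⟨q', rfl⟩⟩
    exact ⟨ArSing.xMap k r q + ArSing.xMap k r q' * ArSing.y k r, by rw [x_mul_normal]⟩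

end ring

end Groth.Agent.H76.ArSing
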