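import Mathlib
import Groth.Prelude.Def_W4c1arstab1appArSing
import Groth.Agent.H76.ArSingD

set_option autoImplicit false
universe u

namespace Groth.Agent.H76.ArSing

open MvPowerSeries

section ring

variable (k : Type u) [Field k] (r : ℕ)

local notation "𝒜" => ArSing.ring k r
local notation "P" => PowerSeries k

/-- `A_r` is free (of rank two) over `k[[x]]`, hence flat. -/
theorem xMap_flat : (ArSing.xMap k r).toRingHom.Flat := by
  let _ : Algebra P 𝒜 := (ArSing.xMap k r).toRingHom.toAlgebra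
  show Module.Flat P 𝒜
  have hsmul : ∀ (c : P) (a : 𝒜), c • a = ArSing.xMap k r c * a := fun c a => rfl
  let φ : (P × P) →ₗ[P] 𝒜 :=
    { toFun := fun p => ArSing.xMap k r p.1 + ArSing.xMap k r p.2 * ArSing.y k r
      map_add' := by
        intro p q
        simp only [Prod.fst_add, Prod.snd_add, map_add]
        ring
      map_smul' := by
        intro c p
        simp only [Prod.smul_fst, Prod.smul_snd, smul_eq_mul, map_mul, RingHom.id_apply, hsmul]
        ring }
  have hbij : Function.Bijective φ := by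
    constructor
    · intro p q hpq
      obtain ⟨h1, h2⟩ := normal_unique k r _ _ _ _ hpq
      exact Prod.ext h1 h2
    · intro a
      obtain ⟨f, g, rfl⟩ := exists_normal k r a
      exact ⟨(f, g), rfl⟩
  exact Module.Flat.of_linearEquiv (LinearEquiv.ofBijective φ hbij).symm

theorem map_xMap_maximalIdeal_ne_top :
    Ideal.map (ArSing.xMap k r) (IsLocalRing.maximalIdeal P) ≠ ⊤ := by
  intro h
  apply mI_ne_top k r
  rw [eq_top_iff, ← h, PowerSeries.maximalIdeal_eq_span_X, Ideal.map_span, Ideal.span_le]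
  rintro _ ⟨z, hz, rfl⟩
  rw [Set.mem_singleton_iff] at hz
  rw [hz]
  show ArSing.xMap k r PowerSeries.X ∈ _
  rw [xMap_X]
  exact x_mem_mI k r

/-- length of a quotient of `A_r` onto which `k[[x]]` surjects with kernel `(x^n)`. -/
theorem length_quot_transfer (I : Ideal 𝒜) (n : ℕ)
    (hsurj : ∀ a : 𝒜, ∃ f : P, a - ArSing.xMap k r f ∈ I)
    (hker : ∀ f : P, ArSing.xMap k r f ∈ I ↔ PowerSeries.X ^ n ∣ f) :
    Module.length 𝒜 (𝒜 ⧸ I) = n := by
  let _ : Algebra P 𝒜 := (ArSing.xMap k r).toRingHom.toAlgebra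
  have halg : ∀ c : P, (algebraMap P (𝒜 ⧸ I) : P →+* 𝒜 ⧸ I) c =
      Ideal.Quotient.mk I (ArSing.xMap k r c) := fun c => rfl
  have hs : Function.Surjective (algebraMap P (𝒜 ⧸ I) : P →+* 𝒜 ⧸ I) := by
    intro b
    obtain ⟨a, rfl⟩ := Ideal.Quotient.mk_surjective b
    obtain ⟨f, hf⟩ := hsurj a
    refine ⟨f, ?_⟩
    rw [halg, Eq.comm, Ideal.Quotient.eq]
    exact hf
  have h1 : Module.length 𝒜 (𝒜 ⧸ I) = Module.length (𝒜 ⧸ I) (𝒜 ⧸ I) :=
    Module.length_eq_of_surjective Ideal.Quotient.mk_surjective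
  have h2 : Module.length P (𝒜 ⧸ I) = Module.length (𝒜 ⧸ I) (𝒜 ⧸ I) :=
    Module.length_eq_of_surjective hs
  rw [h1, ← h2]
  let ψ : P →ₗ[P] (𝒜 ⧸ I) := Algebra.linearMap P (𝒜 ⧸ I)
  have hψs : Function.Surjective ψ := hs
  have hk : LinearMap.ker ψ = Ideal.span {(PowerSeries.X : P) ^ n} := by
    ext f
    rw [LinearMap.mem_ker, Ideal.mem_span_singleton]
    show (algebraMap P (𝒜 ⧸ I) : P →+* 𝒜 ⧸ I) f = 0 ↔ _
    rw [halg, Ideal.Quotient.eq_zero_iff_mem]
    exact hker f
  rw [← (LinearMap.quotKerEquivOfSurjective ψ hψs).length_eq, hk]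
  exact length_ps_quot_X_pow k n

theorem length_quot_span_y :
    Module.length 𝒜 (𝒜 ⧸ Ideal.span {ArSing.y k r}) = r + 1 := by
  have := length_quot_transfer k r (Ideal.span {ArSing.y k r}) (r + 1) (by
    intro a
    obtain ⟨f, g, rfl⟩ := exists_normal k r a
    refine ⟨f, ?_⟩
    rw [add_sub_cancel_left]
    exact Ideal.mul_mem_left _ _ (Ideal.mem_span_singleton_self _)) (by
    intro f
    have := mem_span_y_iff k r f 0
    rwa [map_zero, zero_mul, add_zero] at this)
  rw [this]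
  push_cast
  rfl

end ring

end Groth.Agent.H76.ArSing
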