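import Mathlib

set_option autoImplicit false
universe u

namespace Groth.Agent.H76.ArSing

section evenodd

variable (k : Type u) [Field k]

local notation "P" => PowerSeries k

/-- `F ↦ F(X²)` -/
noncomputable def ev : P →ₐ[k] P := PowerSeries.expand 2 two_ne_zero

theorem coeff_ev (F : P) (n : ℕ) :
    PowerSeries.coeff n (ev k F) = if 2 ∣ n then PowerSeries.coeff (n / 2) F else 0 :=
  PowerSeries.coeff_expand 2 two_ne_zero F

theorem ev_X : ev k PowerSeries.X = PowerSeries.X ^ 2 := PowerSeries.expand_X 2 two_ne_zero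

/-- even/odd decomposition, existence -/
theorem evenodd_exists (f : P) : ∃ F F₁ : P, f = ev k F + PowerSeries.X * ev k F₁ := by
  refine ⟨PowerSeries.mk fun n => PowerSeries.coeff (2 * n) f,
    PowerSeries.mk fun n => PowerSeries.coeff (2 * n + 1) f, ?_⟩
  ext n
  rw [map_add, coeff_ev]
  rcases Nat.even_or_odd' n with ⟨m, rfl | rfl⟩
  · rw [if_pos (dvd_mul_right 2 m), Nat.mul_div_cancel_left m (by norm_num), PowerSeries.coeff_mk]
    cases m with
    | zero => simp
    | succ m =>
      have : 2 * (m + 1) = (2 * m + 1) + 1 := by ring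
      rw [this, PowerSeries.coeff_succ_X_mul, coeff_ev, if_neg (by omega), add_zero]
  · rw [if_neg (by omega), zero_add, PowerSeries.coeff_succ_X_mul, coeff_ev,
      if_pos (dvd_mul_right 2 m), Nat.mul_div_cancel_left m (by norm_num), PowerSeries.coeff_mk]

/-- even/odd decomposition, uniqueness -/
theorem evenodd_eq_zero (F F₁ : P) (h : ev k F + PowerSeries.X * ev k F₁ = 0) :
    F = 0 ∧ F₁ = 0 := by
  constructor
  · ext n
    have := congrArg (PowerSeries.coeff (2 * n)) h
    rw [map_add, coeff_ev, if_pos (dvd_mul_right 2 n), Nat.mul_div_cancel_left n (by norm_num),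
      map_zero] at this
    cases n with
    | zero =>
      simpa using this
    | succ n =>
      have e : 2 * (n + 1) = (2 * n + 1) + 1 := by ring
      rw [e, PowerSeries.coeff_succ_X_mul, coeff_ev, if_neg (by omega), add_zero] at this
      rw [this, map_zero]
  · ext n
    have := congrArg (PowerSeries.coeff (2 * n + 1)) h
    rw [map_add, coeff_ev, if_neg (by omega), zero_add, PowerSeries.coeff_succ_X_mul, coeff_ev,
      if_pos (dvd_mul_right 2 n), Nat.mul_div_cancel_left n (by norm_num), map_zero] at this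
    rw [this, map_zero]

theorem evenodd_unique (F F₁ G G₁ : P)
    (h : ev k F + PowerSeries.X * ev k F₁ = ev k G + PowerSeries.X * ev k G₁) :
    F = G ∧ F₁ = G₁ := by
  have := evenodd_eq_zero k (F - G) (F₁ - G₁) (by
    rw [map_sub, map_sub]
    linear_combination h)
  exact ⟨sub_eq_zero.mp this.1, sub_eq_zero.mp this.2⟩

theorem ev_injective : Function.Injective (ev k) := by
  intro F G h
  exact (evenodd_unique k F 0 G 0 (by rw [map_zero, mul_zero, add_zero, add_zero, h])).1

/-- `f ↦ f(-X)` -/
noncomputable def ng : P →ₐ[k] P := PowerSeries.rescaleAlgHom (-1 : k)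

theorem ng_apply (f : P) : ng k f = PowerSeries.rescale (-1 : k) f :=
  DFunLike.congr_fun (PowerSeries.coe_rescaleAlgHom (-1 : k)) f

theorem coeff_ng (f : P) (n : ℕ) :
    PowerSeries.coeff n (ng k f) = (-1) ^ n * PowerSeries.coeff n f := by
  rw [ng_apply, PowerSeries.coeff_rescale]

theorem ng_X : ng k PowerSeries.X = -PowerSeries.X := by
  rw [ng_apply, PowerSeries.rescale_neg_one_X]

theorem ng_ev (F : P) : ng k (ev k F) = ev k F := by
  ext n
  rw [coeff_ng, coeff_ev]
  split_ifs with h
  · obtain ⟨m, rfl⟩ := h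
    rw [pow_mul]
    simp
  · simp

theorem ng_evenodd (F F₁ : P) :
    ng k (ev k F + PowerSeries.X * ev k F₁) = ev k F - PowerSeries.X * ev k F₁ := by
  rw [map_add, map_mul, ng_ev, ng_ev, ng_X]
  ring

variable (h2 : (2 : k) ≠ 0)
include h2

theorem two_mul_eq_zero (g : P) (hg : 2 * g = 0) : g = 0 := by
  have e2 : (2 : P) = PowerSeries.C (2 : k) := (map_ofNat _ 2).symm
  rcases mul_eq_zero.mp hg with h | h
  · rw [e2] at h
    have := congrArg PowerSeries.constantCoeff h
    rw [PowerSeries.constantCoeff_C, map_zero] at this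
    exact absurd this h2
  · exact h

theorem ng_eq_self_iff (f : P) : ng k f = f ↔ ∃ F, f = ev k F := by
  constructor
  · intro h
    obtain ⟨F, F₁, rfl⟩ := evenodd_exists k f
    rw [ng_evenodd] at h
    have h1 : ev k 0 + PowerSeries.X * ev k (2 * F₁) = 0 := by
      rw [map_zero, map_mul, map_ofNat]
      linear_combination -h
    have := (evenodd_eq_zero k _ _ h1).2
    have hF₁ := two_mul_eq_zero k h2 F₁ this
    exact ⟨F, by rw [hF₁, map_zero, mul_zero, add_zero]⟩
  · rintro ⟨F, rfl⟩
    exact ng_ev k F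

theorem ng_eq_neg_iff (f : P) : ng k f = -f ↔ ∃ F₁, f = PowerSeries.X * ev k F₁ := by
  constructor
  · intro h
    obtain ⟨F, F₁, rfl⟩ := evenodd_exists k f
    rw [ng_evenodd] at h
    have h1 : ev k (2 * F) + PowerSeries.X * ev k 0 = 0 := by
      rw [map_zero, map_mul, map_ofNat]
      linear_combination h
    have := (evenodd_eq_zero k _ _ h1).1
    have hF := two_mul_eq_zero k h2 F this
    exact ⟨F₁, by rw [hF, map_zero, zero_add]⟩
  · rintro ⟨F₁, rfl⟩
    have := ng_evenodd k 0 F₁
    rw [map_zero, zero_add, zero_sub] at this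
    exact this

end evenodd

end Groth.Agent.H76.ArSing
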