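import Mathlib
import Groth.Prelude.Def_W4c1arstab1appArSing
import Groth.Agent.H76.ArSingE
import Groth.Agent.H76.ArSingF

set_option autoImplicit false
universe u

namespace Groth.Agent.H76.ArSing

open MvPowerSeries

section general

/-- a ring map making the target free with basis `1, e` is flat -/
theorem flat_of_basis_two {R S : Type*} [CommRing R] [CommRing S] (φ : R →+* S) (e : S)
    (hinj : ∀ a b : R, φ a + φ b * e = 0 → a = 0 ∧ b = 0)
    (hsurj : ∀ s : S, ∃ a b : R, s = φ a + φ b * e) : φ.Flat := by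
  let _ : Algebra R S := φ.toAlgebra
  show Module.Flat R S
  have hsmul : ∀ (c : R) (a : S), c • a = φ c * a := fun c a => rfl
  let ψ : (R × R) →ₗ[R] S :=
    { toFun := fun p => φ p.1 + φ p.2 * e
      map_add' := by
        intro p q
        simp only [Prod.fst_add, Prod.snd_add, map_add]
        ring
      map_smul' := by
        intro c p
        simp only [Prod.smul_fst, Prod.smul_snd, smul_eq_mul, map_mul, RingHom.id_apply, hsmul]
        ring }
  have hbij' : Function.Bijective ψ := by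
    constructor
    · rw [← LinearMap.ker_eq_bot, LinearMap.ker_eq_bot']
      intro p hp
      obtain ⟨h1, h2⟩ := hinj p.1 p.2 hp
      exact Prod.ext h1 h2
    · intro s
      obtain ⟨a, b, rfl⟩ := hsurj s
      exact ⟨(a, b), rfl⟩
  exact Module.Flat.of_linearEquiv (LinearEquiv.ofBijective ψ hbij').symm

/-- an element negated by `σ` lies in the ideal generated by the `σ a - a` (if `2` is invertible) -/
theorem mem_fix_of_neg {k A : Type*} [Field k] [CommRing A] [Algebra k A] (h2 : (2 : k) ≠ 0)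
    (σ : A → A) (z : A) (hz : σ z = -z) :
    z ∈ Ideal.span (Set.range fun a : A => σ a - a) := by
  have hc : algebraMap k A ((-2 : k)⁻¹) * (-2 : A) = 1 := by
    have hm : (-2 : A) = algebraMap k A (-2) := by
      rw [map_neg, map_ofNat]
    rw [hm, ← map_mul, inv_mul_cancel₀ (neg_ne_zero.mpr h2), map_one]
  have e : z = algebraMap k A ((-2 : k)⁻¹) * (σ z - z) := by
    rw [hz]
    linear_combination (-z) * hc
  rw [e]
  exact Ideal.mul_mem_left _ _ (Ideal.subset_span ⟨z, rfl⟩)

end general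

section ring

variable (k : Type u) [Field k] (r : ℕ)

local notation "𝒜" => ArSing.ring k r
local notation "P" => PowerSeries k

theorem isUnit_of_notMem_mI (a : 𝒜) (ha : a ∉ mI k r) : IsUnit a := by
  have := isLocalRing_ring k r
  have h := IsLocalRing.eq_maximalIdeal (mI_isMaximal k r)
  rw [h] at ha
  exact IsLocalRing.notMem_maximalIdeal.mp ha

theorem eq_mI_of_isMaximal (I : Ideal 𝒜) (hI : I.IsMaximal) : I = mI k r := by
  have := isLocalRing_ring k r
  rw [IsLocalRing.eq_maximalIdeal hI, IsLocalRing.eq_maximalIdeal (mI_isMaximal k r)]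

theorem y_notMem_span_x : ArSing.y k r ∉ Ideal.span {ArSing.x k r} := by
  intro h
  have h1 : ArSing.xMap k r 0 + ArSing.xMap k r 1 * ArSing.y k r ∈ Ideal.span {ArSing.x k r} := by
    rw [map_zero, map_one, zero_add, one_mul]
    exact h
  rw [mem_span_x_iff] at h1
  have := h1.2
  rw [PowerSeries.X_dvd_iff] at this
  simp at this

theorem x_notMem_mul (a : 𝒜) (ha : a ∈ mI k r) : ArSing.x k r ≠ ArSing.x k r * a := by
  intro h
  have h1 : ArSing.x k r * (1 - a) = 0 := by linear_combination h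
  have h2 := x_regular k r _ h1
  apply mI_ne_top k r
  rw [Ideal.eq_top_iff_one]
  have : (1 : 𝒜) = a := by linear_combination h2
  rw [this]
  exact ha

theorem x_notMem_span_sq :
    ArSing.x k r ∉ Ideal.span {ArSing.x k r ^ 2, ArSing.x k r * ArSing.y k r} := by
  intro h
  obtain ⟨a, b, hab⟩ := Ideal.mem_span_pair.mp h
  apply x_notMem_mul k r (a * ArSing.x k r + b * ArSing.y k r)
    (Ideal.add_mem _ (Ideal.mul_mem_left _ _ (x_mem_mI k r))
      (Ideal.mul_mem_left _ _ (y_mem_mI k r)))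
  linear_combination -hab

theorem mI_sq_le (hr : 1 ≤ r) :
    mI k r * mI k r ≤ Ideal.span {ArSing.x k r ^ 2, ArSing.x k r * ArSing.y k r} := by
  unfold mI
  rw [Ideal.span_pair_mul_span_pair, Ideal.span_le]
  have hx2 : ArSing.x k r ^ 2 ∈
      Ideal.span {ArSing.x k r ^ 2, ArSing.x k r * ArSing.y k r} := Ideal.subset_span (by simp)
  have hxy : ArSing.x k r * ArSing.y k r ∈
      Ideal.span {ArSing.x k r ^ 2, ArSing.x k r * ArSing.y k r} := Ideal.subset_span (by simp)
  intro z hz
  simp only [Set.mem_insert_iff, Set.mem_singleton_iff] at hz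
  rcases hz with rfl | rfl | rfl | rfl
  · rw [← pow_two]; exact hx2
  · exact hxy
  · rw [mul_comm (ArSing.y k r) (ArSing.x k r)]; exact hxy
  · rw [← pow_two, relation k r]
    obtain ⟨s, rfl⟩ : ∃ s, r = s + 1 := ⟨r - 1, by omega⟩
    have : ArSing.x k (s + 1) ^ (s + 1 + 1) = ArSing.x k (s + 1) ^ s * ArSing.x k (s + 1) ^ 2 := by
      ring
    rw [this]
    exact Ideal.mul_mem_left _ _ hx2

/-- if `σ x = -x` then `σ (f(x)) = f(-x)` -/
theorem sigma_xMap_neg (σ : 𝒜 →ₐ[k] 𝒜) (hx : σ (ArSing.x k r) = -ArSing.x k r) (f : P) :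
    σ (ArSing.xMap k r f) = ArSing.xMap k r (ng k f) :=
  eq_xMap_comp k r (mI k r) (iInf_mI_pow k r) σ ((ArSing.xMap k r).comp (ng k))
    (by rw [AlgHom.comp_apply, ng_X, map_neg, xMap_X, hx])
    (by rw [hx]; exact neg_mem (x_mem_mI k r)) f

/-- if `φ x' = x²` then `φ (F(x')) = F(x²)` -/
theorem phi_xMap_sq (r' : ℕ) (φ : ArSing.ring k r' →ₐ[k] 𝒜)
    (hx : φ (ArSing.x k r') = ArSing.x k r ^ 2) (F : P) :
    φ (ArSing.xMap k r' F) = ArSing.xMap k r (ev k F) :=
  eq_xMap_comp k r' (mI k r) (iInf_mI_pow k r) φ ((ArSing.xMap k r).comp (ev k))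
    (by rw [AlgHom.comp_apply, ev_X, map_pow, xMap_X, hx])
    (by rw [hx, pow_two]; exact Ideal.mul_mem_left _ _ (x_mem_mI k r)) F

theorem X_dvd_ng_sub (f : P) : PowerSeries.X ∣ ng k f - f := by
  rw [PowerSeries.X_dvd_iff, map_sub, ← PowerSeries.coeff_zero_eq_constantCoeff_apply,
    ← PowerSeries.coeff_zero_eq_constantCoeff_apply, coeff_ng]
  simp

theorem length_quot_span_x :
    Module.length 𝒜 (𝒜 ⧸ Ideal.span {ArSing.x k r}) = 2 := by
  have h1 := length_quot_pow_of_regular (ArSing.x k r) (x_regular k r) (r + 1)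
  have h2 := length_quot_pow_of_regular (ArSing.y k r) (y_regular k r) 2
  rw [relation k r, h1, length_quot_span_y] at h2
  have hinj := (ENat.mul_right_strictMono (a := ((r + 1 : ℕ) : ℕ∞)) (by
    exact_mod_cast Nat.succ_ne_zero r) (ENat.natCast_ne_top _)).injective
  apply hinj
  show ((r + 1 : ℕ) : ℕ∞) * _ = ((r + 1 : ℕ) : ℕ∞) * 2
  rw [h2]
  push_cast
  ring

end ring

end Groth.Agent.H76.ArSing
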