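import Mathlib
import Groth.Prelude.Def_W4c1arstab1appArSing
import Groth.Agent.H76.ArSingG

set_option autoImplicit false
universe u

namespace Groth.Agent.H76.ArSing

section general

/-- non-flatness from a relation `φ f₀ * s₀ + φ f₁ * s₁ = 0` which is not trivial -/
theorem not_flat_of_relation {R S : Type*} [CommRing R] [CommRing S] (φ : R →+* S)
    (f₀ f₁ : R) (s₀ s₁ : S) (hrel : φ f₀ * s₀ + φ f₁ * s₁ = 0) (I : Ideal R)
    (hI : ∀ a₀ a₁ : R, f₀ * a₀ + f₁ * a₁ = 0 → a₀ ∈ I) (hs : s₀ ∉ Ideal.map φ I) :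
    ¬ φ.Flat := by
  intro hflat
  let _ : Algebra R S := φ.toAlgebra
  have hfl : Module.Flat R S := hflat
  have hsmul : ∀ (c : R) (a : S), c • a = φ c * a := fun c a => rfl
  obtain ⟨κ, a, y, hx, hrel'⟩ := Module.Flat.isTrivialRelation_of_sum_smul_eq_zero
    (R := R) (M := S) (f := ![f₀, f₁]) (x := ![s₀, s₁]) (by
      rw [Fin.sum_univ_two]
      simp only [Matrix.cons_val_zero, Matrix.cons_val_one, hsmul]
      exact hrel)
  apply hs
  have h0 := hx 0
  simp only [Matrix.cons_val_zero] at h0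
  rw [h0]
  apply Ideal.sum_mem
  intro j _
  rw [hsmul]
  apply Ideal.mul_mem_right
  apply Ideal.mem_map_of_mem
  apply hI (a 0 j) (a 1 j)
  have := hrel' j
  rw [Fin.sum_univ_two] at this
  simpa using this

end general

end Groth.Agent.H76.ArSing
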