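import Mathlib
import Groth.Prelude.Def_W4c1arstab1appArSing
import Groth.Agent.H76.ArSingH

set_option autoImplicit false
universe u

namespace Groth.Agent.H76.ArSing

open MvPowerSeries

section toP

variable (k : Type u) [Field k] (r : ℕ)

local notation "𝒜" => ArSing.ring k r
local notation "P" => PowerSeries k

theorem iInf_span_X_pow : ⨅ n : ℕ, (Ideal.span {(PowerSeries.X : P)}) ^ n = ⊥ := by
  rw [← PowerSeries.maximalIdeal_eq_span_X]
  exact Ideal.iInf_pow_eq_bot_of_isLocalRing _ (IsLocalRing.maximalIdeal.isMaximal _).ne_top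

theorem hasSubst_pair (p₀ p₁ : P) (h₀ : PowerSeries.constantCoeff p₀ = 0)
    (h₁ : PowerSeries.constantCoeff p₁ = 0) :
    MvPowerSeries.HasSubst (![p₀, p₁] : Fin 2 → MvPowerSeries Unit k) := by
  apply hasSubst_of_constantCoeff_zero
  intro s
  fin_cases s
  · exact h₀
  · exact h₁

/-- the `k`-algebra map `A_r → k[[t]]` with `x ↦ p₀`, `y ↦ p₁` -/
noncomputable def toP (p₀ p₁ : P) (h₀ : PowerSeries.constantCoeff p₀ = 0)
    (h₁ : PowerSeries.constantCoeff p₁ = 0) (hrel : p₁ ^ 2 = p₀ ^ (r + 1)) : 𝒜 →ₐ[k] P :=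
  Ideal.Quotient.liftₐ _ (MvPowerSeries.substAlgHom (R := k) (hasSubst_pair k p₀ p₁ h₀ h₁)) (by
    intro a ha
    obtain ⟨c, rfl⟩ := Ideal.mem_span_singleton'.mp ha
    rw [map_mul]
    have : MvPowerSeries.substAlgHom (R := k) (hasSubst_pair k p₀ p₁ h₀ h₁) (ArSing.eqn k r) = 0 := by
      unfold ArSing.eqn
      rw [map_sub, map_pow, map_pow, substAlgHom_X, substAlgHom_X]
      simp only [Matrix.cons_val_zero, Matrix.cons_val_one]
      rw [hrel, sub_self]
    rw [this, mul_zero])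

theorem toP_x (p₀ p₁ : P) (h₀ : PowerSeries.constantCoeff p₀ = 0)
    (h₁ : PowerSeries.constantCoeff p₁ = 0) (hrel : p₁ ^ 2 = p₀ ^ (r + 1)) :
    toP k r p₀ p₁ h₀ h₁ hrel (ArSing.x k r) = p₀ := by
  show MvPowerSeries.substAlgHom (R := k) (hasSubst_pair k p₀ p₁ h₀ h₁) (X 0) = p₀
  rw [substAlgHom_X]
  rfl

theorem toP_y (p₀ p₁ : P) (h₀ : PowerSeries.constantCoeff p₀ = 0)
    (h₁ : PowerSeries.constantCoeff p₁ = 0) (hrel : p₁ ^ 2 = p₀ ^ (r + 1)) :
    toP k r p₀ p₁ h₀ h₁ hrel (ArSing.y k r) = p₁ := by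
  show MvPowerSeries.substAlgHom (R := k) (hasSubst_pair k p₀ p₁ h₀ h₁) (X 1) = p₁
  rw [substAlgHom_X]
  rfl

/-- a `k`-algebra map `A_r → k[[t]]` composed with `xMap` is the substitution of the image of `x`;
here for image `X`. -/
theorem algHom_xMap_of_x_eq_X (β : 𝒜 →ₐ[k] P) (hx : β (ArSing.x k r) = PowerSeries.X) (f : P) :
    β (ArSing.xMap k r f) = f :=
  eq_xMap_comp k r (Ideal.span {(PowerSeries.X : P)}) (iInf_span_X_pow k) β (AlgHom.id k P)
    (by rw [hx]; rfl) (by rw [hx]; exact Ideal.mem_span_singleton_self _) f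

end toP

section node

variable (k : Type u) [Field k]

local notation "𝒩" => ArSing.ring k 1
local notation "P" => PowerSeries k

/-- the branch `y = x` -/
noncomputable def β₁ : 𝒩 →ₐ[k] P :=
  toP k 1 PowerSeries.X PowerSeries.X PowerSeries.constantCoeff_X PowerSeries.constantCoeff_X rfl

/-- the branch `y = -x` -/
noncomputable def β₂ : 𝒩 →ₐ[k] P :=
  toP k 1 PowerSeries.X (-PowerSeries.X) PowerSeries.constantCoeff_X
    (by rw [map_neg, PowerSeries.constantCoeff_X, neg_zero]) (by ring)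

theorem β₁_x : β₁ k (ArSing.x k 1) = PowerSeries.X := toP_x k 1 _ _ _ _ _
theorem β₁_y : β₁ k (ArSing.y k 1) = PowerSeries.X := toP_y k 1 _ _ _ _ _
theorem β₂_x : β₂ k (ArSing.x k 1) = PowerSeries.X := toP_x k 1 _ _ _ _ _
theorem β₂_y : β₂ k (ArSing.y k 1) = -PowerSeries.X := toP_y k 1 _ _ _ _ _

theorem β₁_normal (f g : P) :
    β₁ k (ArSing.xMap k 1 f + ArSing.xMap k 1 g * ArSing.y k 1) = f + g * PowerSeries.X := by
  rw [map_add, map_mul, algHom_xMap_of_x_eq_X k 1 (β₁ k) (β₁_x k),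
    algHom_xMap_of_x_eq_X k 1 (β₁ k) (β₁_x k), β₁_y]

theorem β₂_normal (f g : P) :
    β₂ k (ArSing.xMap k 1 f + ArSing.xMap k 1 g * ArSing.y k 1) = f - g * PowerSeries.X := by
  rw [map_add, map_mul, algHom_xMap_of_x_eq_X k 1 (β₂ k) (β₂_x k),
    algHom_xMap_of_x_eq_X k 1 (β₂ k) (β₂_x k), β₂_y]
  ring

theorem ker_β₁ : RingHom.ker (β₁ k) = Ideal.span {ArSing.y k 1 - ArSing.x k 1} := by
  apply le_antisymm
  · intro a ha
    obtain ⟨f, g, rfl⟩ := exists_normal k 1 a
    rw [RingHom.mem_ker, β₁_normal] at ha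
    have hf : f = -(g * PowerSeries.X) := by linear_combination ha
    rw [Ideal.mem_span_singleton]
    refine ⟨ArSing.xMap k 1 g, ?_⟩
    rw [hf, map_neg, map_mul, xMap_X]
    ring
  · rw [Ideal.span_le, Set.singleton_subset_iff, SetLike.mem_coe, RingHom.mem_ker, map_sub,
      β₁_x, β₁_y, sub_self]

theorem ker_β₂ : RingHom.ker (β₂ k) = Ideal.span {ArSing.x k 1 + ArSing.y k 1} := by
  apply le_antisymm
  · intro a ha
    obtain ⟨f, g, rfl⟩ := exists_normal k 1 a
    rw [RingHom.mem_ker, β₂_normal] at ha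
    have hf : f = g * PowerSeries.X := by linear_combination ha
    rw [Ideal.mem_span_singleton]
    refine ⟨ArSing.xMap k 1 g, ?_⟩
    rw [hf, map_mul, xMap_X]
    ring
  · rw [Ideal.span_le, Set.singleton_subset_iff, SetLike.mem_coe, RingHom.mem_ker, map_add,
      β₂_x, β₂_y, add_neg_cancel]

variable (h2 : (2 : k) ≠ 0)
include h2

/-- the two branches separate points of the node -/
theorem β_injective (a : 𝒩) (h₁ : β₁ k a = 0) (h₂ : β₂ k a = 0) : a = 0 := by
  obtain ⟨f, g, rfl⟩ := exists_normal k 1 a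
  rw [β₁_normal] at h₁
  rw [β₂_normal] at h₂
  have hf : f = 0 := two_mul_eq_zero k h2 f (by linear_combination h₁ + h₂)
  have hg : g * PowerSeries.X = 0 := two_mul_eq_zero k h2 _ (by linear_combination h₁ - h₂)
  have hg' : g = 0 := (mul_eq_zero.mp hg).resolve_right PowerSeries.X_ne_zero
  rw [hf, hg']
  simp

theorem β_ext (a b : 𝒩) (h₁ : β₁ k a = β₁ k b) (h₂ : β₂ k a = β₂ k b) : a = b := by
  have := β_injective k h2 (a - b) (by rw [map_sub, h₁, sub_self]) (by rw [map_sub, h₂, sub_self])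
  exact sub_eq_zero.mp this

/-- the two branches glue: a pair with the same constant term comes from the node -/
theorem β_surjective (p q : P) (h : PowerSeries.constantCoeff p = PowerSeries.constantCoeff q) :
    ∃ a : 𝒩, β₁ k a = p ∧ β₂ k a = q := by
  have hX : PowerSeries.X ∣ p - q := by
    rw [PowerSeries.X_dvd_iff, map_sub, h, sub_self]
  obtain ⟨d, hd⟩ := hX
  have h2' : PowerSeries.C ((2 : k)⁻¹) * (2 : P) = 1 := by
    have e2 : (2 : P) = PowerSeries.C (2 : k) := (map_ofNat _ 2).symm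
    rw [e2, ← map_mul, inv_mul_cancel₀ h2, map_one]
  refine ⟨ArSing.xMap k 1 (PowerSeries.C ((2 : k)⁻¹) * (p + q)) +
    ArSing.xMap k 1 (PowerSeries.C ((2 : k)⁻¹) * d) * ArSing.y k 1, ?_, ?_⟩
  · rw [β₁_normal]
    linear_combination (p) * h2' - PowerSeries.C ((2 : k)⁻¹) * hd
  · rw [β₂_normal]
    linear_combination (q) * h2' + PowerSeries.C ((2 : k)⁻¹) * hd

end node

end Groth.Agent.H76.ArSing
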