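import Mathlib
import Groth.Prelude.Def_W4c1arstab1appArSing
import Groth.Agent.H76.ArSingI

set_option autoImplicit false
universe u

namespace Groth.Agent.H76.ArSing

open MvPowerSeries

section rs

variable (k : Type u) [Field k]

local notation "P" => PowerSeries k

/-- `f ↦ f(cX)` -/
noncomputable def rs (c : k) : P →ₐ[k] P := PowerSeries.rescaleAlgHom c

theorem rs_apply (c : k) (f : P) : rs k c f = PowerSeries.rescale c f :=
  DFunLike.congr_fun (PowerSeries.coe_rescaleAlgHom c) f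

theorem rs_X (c : k) : rs k c PowerSeries.X = PowerSeries.C c * PowerSeries.X := by
  rw [rs_apply, PowerSeries.rescale_X]

theorem rs_rs (c d : k) (f : P) : rs k d (rs k c f) = rs k (c * d) f := by
  rw [rs_apply, rs_apply, rs_apply, PowerSeries.rescale_rescale]

theorem rs_one (f : P) : rs k 1 f = f := by
  rw [rs_apply, PowerSeries.rescale_one]
  rfl

theorem rs_injective (c : k) (hc : c ≠ 0) : Function.Injective (rs k c) := by
  intro f g h
  have := congrArg (rs k c⁻¹) h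
  rwa [rs_rs, rs_rs, mul_inv_cancel₀ hc, rs_one, rs_one] at this

theorem rs_surjective (c : k) (hc : c ≠ 0) : Function.Surjective (rs k c) := by
  intro f
  exact ⟨rs k c⁻¹ f, by rw [rs_rs, inv_mul_cancel₀ hc, rs_one]⟩

theorem constantCoeff_rs (c : k) (f : P) :
    PowerSeries.constantCoeff (rs k c f) = PowerSeries.constantCoeff f := by
  rw [rs_apply, ← PowerSeries.coeff_zero_eq_constantCoeff_apply,
    ← PowerSeries.coeff_zero_eq_constantCoeff_apply, PowerSeries.coeff_rescale, pow_zero, one_mul]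

theorem constantCoeff_ev (f : P) :
    PowerSeries.constantCoeff (ev k f) = PowerSeries.constantCoeff f :=
  PowerSeries.constantCoeff_expand 2 two_ne_zero f

end rs

section node

variable (k : Type u) [Field k]

local notation "𝒩" => ArSing.ring k 1
local notation "P" => PowerSeries k

theorem X_mem_span_X : (PowerSeries.X : P) ∈ Ideal.span {(PowerSeries.X : P)} :=
  Ideal.mem_span_singleton_self _

theorem constantCoeff_β₁_eq (a : 𝒩) :
    PowerSeries.constantCoeff (β₁ k a) = PowerSeries.constantCoeff (β₂ k a) := by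
  obtain ⟨f, g, rfl⟩ := exists_normal k 1 a
  rw [β₁_normal, β₂_normal]
  simp

theorem β₁_swap (σ : 𝒩 →ₐ[k] 𝒩) (hx : σ (ArSing.x k 1) = ArSing.y k 1)
    (hy : σ (ArSing.y k 1) = ArSing.x k 1) (a : 𝒩) : β₁ k (σ a) = β₁ k a := by
  have := algHom_ext_ring k 1 (Ideal.span {(PowerSeries.X : P)}) (iInf_span_X_pow k)
    ((β₁ k).comp σ) (β₁ k)
    (by rw [AlgHom.comp_apply, hx, β₁_x, β₁_y])
    (by rw [AlgHom.comp_apply, hy, β₁_x, β₁_y])
    (by rw [AlgHom.comp_apply, hx, β₁_y]; exact X_mem_span_X k)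
    (by rw [AlgHom.comp_apply, hy, β₁_x]; exact X_mem_span_X k)
  exact DFunLike.congr_fun this a

theorem β₂_swap (σ : 𝒩 →ₐ[k] 𝒩) (hx : σ (ArSing.x k 1) = ArSing.y k 1)
    (hy : σ (ArSing.y k 1) = ArSing.x k 1) (a : 𝒩) : β₂ k (σ a) = ng k (β₂ k a) := by
  have := algHom_ext_ring k 1 (Ideal.span {(PowerSeries.X : P)}) (iInf_span_X_pow k)
    ((β₂ k).comp σ) ((ng k).comp (β₂ k))
    (by rw [AlgHom.comp_apply, AlgHom.comp_apply, hx, β₂_x, β₂_y, ng_X])
    (by rw [AlgHom.comp_apply, AlgHom.comp_apply, hy, β₂_x, β₂_y, map_neg, ng_X, neg_neg])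
    (by rw [AlgHom.comp_apply, hx, β₂_y]; exact neg_mem (X_mem_span_X k))
    (by rw [AlgHom.comp_apply, hy, β₂_x]; exact X_mem_span_X k)
  exact DFunLike.congr_fun this a

variable (h2 : (2 : k) ≠ 0)
include h2

theorem β₁_phi (φ : 𝒩 →ₐ[k] 𝒩)
    (hφu : φ (ArSing.x k 1 + ArSing.y k 1) = ArSing.x k 1 + ArSing.y k 1)
    (hφv : φ (ArSing.y k 1 - ArSing.x k 1) = (ArSing.y k 1 - ArSing.x k 1) ^ 2) (b : 𝒩) :
    β₁ k (φ b) = β₁ k b := by
  have hu := congrArg (β₁ k) hφu
  have hv := congrArg (β₁ k) hφv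
  simp only [map_add, map_sub, map_pow, β₁_x, β₁_y] at hu hv
  have hxx : β₁ k (φ (ArSing.x k 1)) = PowerSeries.X := by
    have := two_mul_eq_zero k h2 (β₁ k (φ (ArSing.x k 1)) - PowerSeries.X) (by
      linear_combination hu - hv)
    exact sub_eq_zero.mp this
  have hyy : β₁ k (φ (ArSing.y k 1)) = PowerSeries.X := by
    have := two_mul_eq_zero k h2 (β₁ k (φ (ArSing.y k 1)) - PowerSeries.X) (by
      linear_combination hu + hv)
    exact sub_eq_zero.mp this
  have := algHom_ext_ring k 1 (Ideal.span {(PowerSeries.X : P)}) (iInf_span_X_pow k)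
    ((β₁ k).comp φ) (β₁ k)
    (by rw [AlgHom.comp_apply, hxx, β₁_x])
    (by rw [AlgHom.comp_apply, hyy, β₁_y])
    (by rw [AlgHom.comp_apply, hxx]; exact X_mem_span_X k)
    (by rw [AlgHom.comp_apply, hyy]; exact X_mem_span_X k)
  exact DFunLike.congr_fun this b

theorem β₂_phi (φ : 𝒩 →ₐ[k] 𝒩)
    (hφu : φ (ArSing.x k 1 + ArSing.y k 1) = ArSing.x k 1 + ArSing.y k 1)
    (hφv : φ (ArSing.y k 1 - ArSing.x k 1) = (ArSing.y k 1 - ArSing.x k 1) ^ 2) (b : 𝒩) :
    β₂ k (φ b) = ev k (rs k (-2) (β₂ k b)) := by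
  have hu := congrArg (β₂ k) hφu
  have hv := congrArg (β₂ k) hφv
  simp only [map_add, map_sub, map_pow, β₂_x, β₂_y] at hu hv
  have hC : (PowerSeries.C (-2 : k) : P) = -2 := by rw [map_neg, map_ofNat]
  have hxx : β₂ k (φ (ArSing.x k 1)) = -2 * PowerSeries.X ^ 2 := by
    have := two_mul_eq_zero k h2 (β₂ k (φ (ArSing.x k 1)) - (-2 * PowerSeries.X ^ 2)) (by
      linear_combination hu - hv)
    exact sub_eq_zero.mp this
  have hyy : β₂ k (φ (ArSing.y k 1)) = 2 * PowerSeries.X ^ 2 := by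
    have := two_mul_eq_zero k h2 (β₂ k (φ (ArSing.y k 1)) - (2 * PowerSeries.X ^ 2)) (by
      linear_combination hu + hv)
    exact sub_eq_zero.mp this
  have hθX : ev k (rs k (-2) PowerSeries.X) = -2 * PowerSeries.X ^ 2 := by
    rw [rs_X, map_mul, ev_X, hC, map_neg, map_ofNat]
  have hmem : (-2 * PowerSeries.X ^ 2 : P) ∈ Ideal.span {(PowerSeries.X : P)} := by
    rw [pow_two, ← mul_assoc]
    exact Ideal.mul_mem_left _ _ (X_mem_span_X k)
  have := algHom_ext_ring k 1 (Ideal.span {(PowerSeries.X : P)}) (iInf_span_X_pow k)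
    ((β₂ k).comp φ) (((ev k).comp (rs k (-2))).comp (β₂ k))
    (by rw [AlgHom.comp_apply, AlgHom.comp_apply, AlgHom.comp_apply, hxx, β₂_x, hθX])
    (by
      rw [AlgHom.comp_apply, AlgHom.comp_apply, AlgHom.comp_apply, hyy, β₂_y, map_neg, map_neg,
        hθX]
      ring)
    (by rw [AlgHom.comp_apply, hxx]; exact hmem)
    (by
      rw [AlgHom.comp_apply, hyy]
      have : (2 * PowerSeries.X ^ 2 : P) = -(-2 * PowerSeries.X ^ 2) := by ring
      rw [this]
      exact neg_mem hmem)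
  exact DFunLike.congr_fun this b

end node

end Groth.Agent.H76.ArSing
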