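import Mathlib
import Groth.Agent.H95.CiAlgClosed
import Groth.Agent.H36.Tougeron

/-!
# Linear subspaces of hypersurfaces smooth along them

If a hypersurface of degree `≥ 2` in `P^n` contains the linear space `P(U)` and is smooth along it,
then `2 dim U ≤ n + 1`.
-/

set_option autoImplicit false
set_option linter.unusedSectionVars false

namespace Groth.Agent.H76.LinSub

open MvPolynomial

variable {k : Type*} [Field k] {σ : Type*} [Fintype σ] [DecidableEq σ]

theorem eval_C_comp (F : MvPolynomial σ k) (a : σ → k) :
    eval (fun i => Polynomial.C (a i)) (map Polynomial.C F) = Polynomial.C (eval a F) := by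
  rw [eval_map]
  have := eval₂_comp_left (Polynomial.C : k →+* Polynomial k) (RingHom.id k) a F
  rw [eval₂_id] at this
  rw [this]
  rfl

/-- If `F` vanishes on the whole line `a + c w`, the derivative of `F` at `a` along `w`
vanishes. -/
theorem dirDeriv_eq_zero [Infinite k] (F : MvPolynomial σ k) (a w : σ → k)
    (h : ∀ c : k, eval (a + c • w) F = 0) : ∑ j, eval a (pderiv j F) * w j = 0 := by
  obtain ⟨r, hr⟩ := Groth.Agent.H36.Tougeron.taylor1 (map Polynomial.C F)
    (fun i => Polynomial.C (a i)) (fun i => Polynomial.C (w i)) (Polynomial.X : Polynomial k)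
  have hP : eval ((fun i => Polynomial.C (a i)) + (Polynomial.X : Polynomial k) •
      (fun i => Polynomial.C (w i))) (map Polynomial.C F) = 0 := by
    apply Polynomial.funext
    intro c
    rw [Polynomial.eval_zero, ← h c]
    show (Polynomial.evalRingHom c) (eval _ (map Polynomial.C F)) = _
    rw [eval_map, eval₂_comp_left]
    have e1 : (Polynomial.evalRingHom c).comp (Polynomial.C : k →+* Polynomial k) =
        RingHom.id k := by
      ext x; simp
    have e2 : (⇑(Polynomial.evalRingHom c) ∘ ((fun i => Polynomial.C (a i)) +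
        (Polynomial.X : Polynomial k) • (fun i => Polynomial.C (w i)))) = a + c • w := by
      ext i
      simp
      ring
    rw [e1, e2, eval₂_id]
  rw [hP, eval_C_comp] at hr
  have hsum : ∑ j, eval (fun i => Polynomial.C (a i)) (pderiv j (map Polynomial.C F)) *
      Polynomial.C (w j) = Polynomial.C (∑ j, eval a (pderiv j F) * w j) := by
    rw [map_sum]
    apply Finset.sum_congr rfl
    intro j _
    rw [pderiv_map, eval_C_comp, map_mul]
  rw [hsum] at hr
  have h1 := congrArg (fun P : Polynomial k => P.coeff 1) hr
  simp only [Polynomial.coeff_zero, Polynomial.coeff_add, Polynomial.coeff_C_succ,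
    Polynomial.coeff_X_mul, Polynomial.coeff_C_zero, zero_add] at h1
  rw [Polynomial.coeff_X_pow_mul', if_neg (by norm_num), add_zero] at h1
  exact h1.symm

theorem main [IsAlgClosed k] (n d : ℕ) (hd : 2 ≤ d) (f : MvPolynomial (Fin (n + 1)) k)
    (hf : f.IsHomogeneous d) (U : Submodule k (Fin (n + 1) → k))
    (hU : ∀ u ∈ U, eval u f = 0)
    (hsm : ∀ u ∈ U, u ≠ 0 → ∃ i : Fin (n + 1), eval u (pderiv i f) ≠ 0) :
    2 * Module.finrank k ↥U ≤ n + 1 := by
  classical
  by_contra hcon
  push Not at hcon
  have : Infinite k := IsAlgClosed.instInfinite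
  obtain ⟨V, hV⟩ := Submodule.exists_isCompl U
  have hdim : Module.finrank k U + Module.finrank k V = n + 1 := by
    have := Submodule.finrank_add_eq_of_isCompl hV
    simpa using this
  set m := Module.finrank k U with hm
  set r := Module.finrank k V with hr
  let bU : Module.Basis (Fin m) k U := Module.finBasis k U
  let bV : Module.Basis (Fin r) k V := Module.finBasis k V
  -- the parametrization of `U`
  let g : Fin (n + 1) → MvPolynomial (Fin m) k :=
    fun i => ∑ l, C ((bU l : Fin (n + 1) → k) i) * X l
  have hg : ∀ i, (g i).IsHomogeneous 1 := fun i =>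
    IsHomogeneous.sum _ _ _ (fun l _ => (isHomogeneous_X _ _).C_mul _)
  let G : Fin r → MvPolynomial (Fin m) k :=
    fun j => ∑ i, C ((bV j : Fin (n + 1) → k) i) * bind₁ g (pderiv i f)
  have hG : ∀ j, (G j).IsHomogeneous (d - 1) := by
    intro j
    refine IsHomogeneous.sum _ _ _ (fun i _ => IsHomogeneous.C_mul ?_ _)
    have := (hf.pderiv (i := i)).aeval g hg
    rwa [one_mul] at this
  obtain ⟨t, ht0, ht⟩ := Groth.Agent.H95.CiAlgClosed.isCi_zero r m G (fun _ => d - 1) hG
    (fun _ => by omega) (by omega)
  -- the point of `U`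
  let u : Fin (n + 1) → k := fun i => eval t (g i)
  have hu : u = ((∑ l, t l • bU l : U) : Fin (n + 1) → k) := by
    ext i
    simp only [u, g, map_sum, map_mul, eval_C, eval_X, Submodule.coe_sum, Submodule.coe_smul,
      Finset.sum_apply, Pi.smul_apply, smul_eq_mul]
    apply Finset.sum_congr rfl
    intro l _
    ring
  have huU : u ∈ U := by
    rw [hu]; exact Submodule.coe_mem _
  have hu0 : u ≠ 0 := by
    intro h0
    apply ht0
    have h1 : (∑ l, t l • bU l : U) = 0 := by
      apply Subtype.ext
      rw [← hu, h0]; rfl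
    have := Fintype.linearIndependent_iff.1 bU.linearIndependent t h1
    exact funext this
  -- the gradient at `u`
  let L : (Fin (n + 1) → k) →ₗ[k] k := ∑ i, eval u (pderiv i f) • LinearMap.proj i
  have hL : ∀ x, L x = ∑ i, eval u (pderiv i f) * x i := by
    intro x
    simp [L, LinearMap.sum_apply]
  have hLU : L.comp U.subtype = 0 := by
    apply bU.ext
    intro l
    rw [LinearMap.comp_apply, LinearMap.zero_apply, Submodule.subtype_apply, hL]
    apply dirDeriv_eq_zero f u (bU l : Fin (n + 1) → k)
    intro c
    exact hU _ (U.add_mem huU (U.smul_mem c (bU l).2))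
  have hLV : L.comp V.subtype = 0 := by
    apply bV.ext
    intro j
    rw [LinearMap.comp_apply, LinearMap.zero_apply, Submodule.subtype_apply, hL]
    have h2 := ht j
    simp only [G, map_sum, map_mul, eval_C] at h2
    rw [← h2]
    apply Finset.sum_congr rfl
    intro i _
    have h3 : eval t (bind₁ g (pderiv i f)) = eval u (pderiv i f) := by
      have := aeval_bind₁ (S := k) t g (pderiv i f)
      simpa [aeval_eq_eval, u] using this
    rw [h3]
    ring
  have hL0 : L = 0 := by
    apply LinearMap.ext
    intro x
    have hx : x ∈ U ⊔ V := by rw [hV.sup_eq_top]; trivial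
    obtain ⟨xU, hxU, xV, hxV, rfl⟩ := Submodule.mem_sup.1 hx
    have h1 : L xU = 0 := DFunLike.congr_fun hLU ⟨xU, hxU⟩
    have h2 : L xV = 0 := DFunLike.congr_fun hLV ⟨xV, hxV⟩
    rw [map_add, h1, h2, add_zero, LinearMap.zero_apply]
  obtain ⟨i, hi⟩ := hsm u huU hu0
  apply hi
  have := hL (Pi.single i 1)
  rw [hL0, LinearMap.zero_apply] at this
  simpa [Pi.single_apply] using this.symm

end Groth.Agent.H76.LinSub
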