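import Mathlib
import Groth.Agent.H91.CubicA
import Groth.Agent.H76.LinSub

/-!
# Lines on a smooth cubic threefold meeting two incident lines
-/

set_option autoImplicit false
set_option linter.unusedSectionVars false

namespace Groth.Agent.H76.CubicLines

open MvPolynomial Groth.Agent.H91.Cubic

variable {K : Type*} [Field K] [CharZero K] {σ : Type*} [Fintype σ]

/-- polarization: vanishing of the cubic at `x, y, x+y, x-y` kills the mixed terms -/
theorem TT_mixed_eq_zero (f : MvPolynomial σ K) (hf : f.IsHomogeneous 3) (x y : σ → K)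
    (hx : eval x f = 0) (hy : eval y f = 0) (hxy : eval (x + y) f = 0)
    (hxy' : eval (x - y) f = 0) :
    TT f x x y = 0 ∧ TT f x y y = 0 := by
  rw [eval_eq_TT hf] at hx hy hxy hxy'
  simp only [map_add, map_sub, LinearMap.add_apply, LinearMap.sub_apply] at hxy hxy'
  have s1 : TT f x y x = TT f x x y := TT_swap23 f x y x
  have s2 : TT f y x x = TT f x x y := by rw [TT_swap12 f y x x, s1]
  have s3 : TT f y x y = TT f x y y := TT_swap12 f y x y
  have s4 : TT f y y x = TT f x y y := by rw [TT_swap23 f y y x, s3]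
  simp only [s1, s2, s3, s4] at hxy hxy'
  have h6 : (6 : K) ≠ 0 := by norm_num
  constructor
  · apply mul_left_cancel₀ h6
    linear_combination hxy - hxy' - 2 * hy
  · apply mul_left_cancel₀ h6
    linear_combination hxy + hxy' - 2 * hx

theorem span_pair_eq {V : Type*} [AddCommGroup V] [Module K V] (L : Submodule K V)
    (hL : Module.finrank K L = 2) (p a : V) (hp : p ∈ L) (ha : a ∈ L) (hp0 : p ≠ 0)
    (hnot : a ∉ Submodule.span K {p}) :
    LinearIndependent K ![p, a] ∧ L = Submodule.span K {p, a} := by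
  have hli : LinearIndependent K ![p, a] := by
    rw [LinearIndependent.pair_iff' hp0]
    intro c hc
    exact hnot (Submodule.mem_span_singleton.2 ⟨c, hc⟩)
  refine ⟨hli, ?_⟩
  symm
  have : Module.Finite K L := Module.finite_of_finrank_pos (by omega)
  apply Submodule.eq_of_le_of_finrank_eq
  · rw [Submodule.span_le]
    rintro x (rfl | rfl)
    exacts [hp, ha]
  · rw [hL]
    have h := finrank_span_eq_card hli
    have hr : Set.range ![p, a] = {p, a} := by
      ext x
      simp only [Matrix.range_cons, Matrix.range_empty, Set.union_empty, Set.mem_union,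
        Set.mem_singleton_iff, Set.mem_insert_iff]
    rw [hr] at h
    simpa using h

theorem main [IsAlgClosed K] (f : MvPolynomial (Fin 5) K) (hf : f.IsHomogeneous 3)
    (hsm : ∀ u : Fin 5 → K, u ≠ 0 → eval u f = 0 → ∃ i : Fin 5, eval u (pderiv i f) ≠ 0)
    (L₁ L₂ : Submodule K (Fin 5 → K)) (h₁ : Module.finrank K ↥L₁ = 2)
    (h₂ : Module.finrank K ↥L₂ = 2)
    (hf₁ : ∀ u ∈ L₁, eval u f = 0) (hf₂ : ∀ u ∈ L₂, eval u f = 0)
    (hne : L₁ ≠ L₂) (hmeet : L₁ ⊓ L₂ ≠ ⊥) :
    ∃ G : Set (Submodule K (Fin 5 → K)), G.Finite ∧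
      (∀ g ∈ G, Module.finrank K ↥g = 1 ∧ g ≤ L₁) ∧
      ∀ L : Submodule K (Fin 5 → K), Module.finrank K ↥L = 2 → (∀ u ∈ L, eval u f = 0) →
        L ⊓ L₁ ≠ ⊥ → L ⊓ L₂ ≠ ⊥ → ∃ g ∈ G, g ≤ L := by
  classical
  have mixed : ∀ (W : Submodule K (Fin 5 → K)), (∀ u ∈ W, eval u f = 0) → ∀ x ∈ W, ∀ y ∈ W,
      TT f x x y = 0 ∧ TT f x y y = 0 := fun W hW x hx y hy =>
    TT_mixed_eq_zero f hf x y (hW x hx) (hW y hy) (hW _ (W.add_mem hx hy))
      (hW _ (W.sub_mem hx hy))
  have s12 := TT_swap12 f
  have s23 := TT_swap23 f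
  obtain ⟨p, hp, hp0⟩ := (Submodule.ne_bot_iff _).1 hmeet
  have hp1 : p ∈ L₁ := hp.1
  have hp2 : p ∈ L₂ := hp.2
  have hfin1 : Module.Finite K L₁ := Module.finite_of_finrank_pos (by omega)
  have hfin2 : Module.Finite K L₂ := Module.finite_of_finrank_pos (by omega)
  have hnle12 : ¬ L₁ ≤ L₂ := fun h =>
    hne (Submodule.eq_of_le_of_finrank_eq h (h₁.trans h₂.symm))
  have hnle21 : ¬ L₂ ≤ L₁ := fun h =>
    hne (Submodule.eq_of_le_of_finrank_eq h (h₂.trans h₁.symm)).symm
  obtain ⟨a, ha1, ha2⟩ := SetLike.not_le_iff_exists.1 hnle12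
  obtain ⟨b, hb2, hb1⟩ := SetLike.not_le_iff_exists.1 hnle21
  have hspan1 : Submodule.span K {p} ≤ L₁ := by
    rw [Submodule.span_singleton_le_iff_mem]; exact hp1
  have hspan2 : Submodule.span K {p} ≤ L₂ := by
    rw [Submodule.span_singleton_le_iff_mem]; exact hp2
  obtain ⟨hli1, hL1⟩ := span_pair_eq L₁ h₁ p a hp1 ha1 hp0 (fun h => ha2 (hspan2 h))
  obtain ⟨hli2, hL2⟩ := span_pair_eq L₂ h₂ p b hp2 hb2 hp0 (fun h => hb1 (hspan1 h))
  -- the basic vanishing
  have zppp : TT f p p p = 0 := by rw [← eval_eq_TT hf]; exact hf₁ p hp1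
  have zaaa : TT f a a a = 0 := by rw [← eval_eq_TT hf]; exact hf₁ a ha1
  have zbbb : TT f b b b = 0 := by rw [← eval_eq_TT hf]; exact hf₂ b hb2
  obtain ⟨zppa, zpaa⟩ := mixed L₁ hf₁ p hp1 a ha1
  obtain ⟨zppb, zpbb⟩ := mixed L₂ hf₂ p hp2 b hb2
  set A := TT f p a b with hA
  set B := TT f a a b with hB
  set Cc := TT f a b b with hC
  -- the second point
  set w : Fin 5 → K := B • p - (2 * A) • a with hw
  have hw1 : w ∈ L₁ := L₁.sub_mem (L₁.smul_mem _ hp1) (L₁.smul_mem _ ha1)
  have hgp : Module.finrank K (Submodule.span K {p}) = 1 := finrank_span_singleton hp0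
  refine ⟨if w = 0 then {Submodule.span K {p}} else {Submodule.span K {p}, Submodule.span K {w}},
    ?_, ?_, ?_⟩
  · split_ifs
    · exact Set.finite_singleton _
    · exact (Set.finite_singleton _).insert _
  · intro g hg
    split_ifs at hg with hw0
    · rw [Set.mem_singleton_iff] at hg
      subst hg
      exact ⟨hgp, hspan1⟩
    · rcases hg with rfl | hg
      · exact ⟨hgp, hspan1⟩
      · rw [Set.mem_singleton_iff] at hg
        subst hg
        exact ⟨finrank_span_singleton hw0, by
          rw [Submodule.span_singleton_le_iff_mem]; exact hw1⟩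
  · intro L hLdim hfL hLL1 hLL2
    have hpG : Submodule.span K {p} ∈
        (if w = 0 then {Submodule.span K {p}} else
          {Submodule.span K {p}, Submodule.span K {w}} : Set (Submodule K (Fin 5 → K))) := by
      split_ifs
      · exact Set.mem_singleton _
      · exact Set.mem_insert _ _
    obtain ⟨u₁, hu₁, hu₁0⟩ := (Submodule.ne_bot_iff _).1 hLL1
    obtain ⟨u₂, hu₂, hu₂0⟩ := (Submodule.ne_bot_iff _).1 hLL2
    have hu₁L : u₁ ∈ L := hu₁.1
    have hu₂L : u₂ ∈ L := hu₂.1
    have hu₁' : u₁ ∈ Submodule.span K {p, a} := hL1 ▸ hu₁.2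
    have hu₂' : u₂ ∈ Submodule.span K {p, b} := hL2 ▸ hu₂.2
    obtain ⟨x₁, y₁, e₁⟩ := Submodule.mem_span_pair.1 hu₁'
    obtain ⟨x₂, z₂, e₂⟩ := Submodule.mem_span_pair.1 hu₂'
    by_cases hy : y₁ = 0
    · -- `u₁` is a multiple of `p`
      refine ⟨_, hpG, ?_⟩
      rw [Submodule.span_singleton_le_iff_mem]
      rw [hy, zero_smul, add_zero] at e₁
      have hx : x₁ ≠ 0 := by
        rintro rfl
        rw [zero_smul] at e₁
        exact hu₁0 e₁.symm
      have : p = x₁⁻¹ • u₁ := by
        rw [← e₁, smul_smul, inv_mul_cancel₀ hx, one_smul]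
      rw [this]
      exact L.smul_mem _ hu₁L
    by_cases hz : z₂ = 0
    · refine ⟨_, hpG, ?_⟩
      rw [Submodule.span_singleton_le_iff_mem]
      rw [hz, zero_smul, add_zero] at e₂
      have hx : x₂ ≠ 0 := by
        rintro rfl
        rw [zero_smul] at e₂
        exact hu₂0 e₂.symm
      have : p = x₂⁻¹ • u₂ := by
        rw [← e₂, smul_smul, inv_mul_cancel₀ hx, one_smul]
      rw [this]
      exact L.smul_mem _ hu₂L
    -- the generic case
    obtain ⟨m1, m2⟩ := mixed L hfL u₁ hu₁L u₂ hu₂L
    have E1 : 2 * x₁ * A + y₁ * B = 0 := by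
      rw [← e₁, ← e₂] at m1
      simp only [map_add, map_smul, LinearMap.add_apply, LinearMap.smul_apply, smul_eq_mul] at m1
      have t1 : TT f p a p = 0 := by rw [s23]; exact zppa
      have t2 : TT f a p p = 0 := by rw [s12, s23]; exact zppa
      have t3 : TT f a a p = 0 := by rw [s23, s12]; exact zpaa
      have t4 : TT f a p b = A := s12 _ _ _
      rw [zppp, zppb, t1, t2, t3, t4] at m1
      have : y₁ * z₂ * (2 * x₁ * A + y₁ * B) = 0 := by linear_combination m1
      rcases mul_eq_zero.1 this with h | h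
      · rcases mul_eq_zero.1 h with h | h
        · exact absurd h hy
        · exact absurd h hz
      · exact h
    have E2 : 2 * x₂ * A + z₂ * Cc = 0 := by
      rw [← e₁, ← e₂] at m2
      simp only [map_add, map_smul, LinearMap.add_apply, LinearMap.smul_apply, smul_eq_mul] at m2
      have t1 : TT f p b p = 0 := by rw [s23]; exact zppb
      have t2 : TT f a p p = 0 := by rw [s12, s23]; exact zppa
      have t3 : TT f a b p = A := by rw [s23, s12]
      have t4 : TT f a p b = A := s12 _ _ _
      rw [zppp, zppb, t1, zpbb, t2, t3, t4] at m2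
      have : y₁ * z₂ * (2 * x₂ * A + z₂ * Cc) = 0 := by linear_combination m2
      rcases mul_eq_zero.1 this with h | h
      · rcases mul_eq_zero.1 h with h | h
        · exact absurd h hy
        · exact absurd h hz
      · exact h
    by_cases hw0 : w = 0
    · -- impossible: a plane inside the smooth cubic
      exfalso
      have hBA : B = 0 ∧ -(2 * A) = 0 := by
        have h := LinearIndependent.pair_iff.1 hli1 B (-(2 * A))
        apply h
        rw [← hw0, hw, neg_smul, sub_eq_add_neg]
      have hB0 : B = 0 := hBA.1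
      have hA0 : A = 0 := by
        have := hBA.2
        have h2 : (2 : K) ≠ 0 := by norm_num
        rcases mul_eq_zero.1 (neg_eq_zero.1 this) with h | h
        · exact absurd h h2
        · exact h
      have hC0 : Cc = 0 := by
        rw [hA0, mul_zero, zero_add] at E2
        rcases mul_eq_zero.1 E2 with h | h
        · exact absurd h hz
        · exact h
      -- the plane
      set P : Submodule K (Fin 5 → K) := L₁ ⊔ Submodule.span K {b} with hP
      have hb0 : b ≠ 0 := fun h => hb1 (h ▸ L₁.zero_mem)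
      have hdisj : L₁ ⊓ Submodule.span K {b} = ⊥ := by
        rw [eq_bot_iff]
        rintro v ⟨hv1, hv2⟩
        obtain ⟨c, rfl⟩ := Submodule.mem_span_singleton.1 hv2
        by_cases hc : c = 0
        · rw [hc, zero_smul]; exact Submodule.zero_mem _
        · exfalso
          apply hb1
          have : b = c⁻¹ • (c • b) := by rw [smul_smul, inv_mul_cancel₀ hc, one_smul]
          rw [this]
          exact L₁.smul_mem _ hv1
      have hPdim : Module.finrank K P = 3 := by
        have h := Submodule.finrank_sup_add_finrank_inf_eq L₁ (Submodule.span K {b})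
        rw [hdisj, finrank_bot, add_zero, h₁, finrank_span_singleton hb0] at h
        exact h
      have hfP : ∀ u ∈ P, eval u f = 0 := by
        intro u hu
        obtain ⟨v, hv, bb, hbb, rfl⟩ := Submodule.mem_sup.1 hu
        obtain ⟨z, rfl⟩ := Submodule.mem_span_singleton.1 hbb
        have hv' : v ∈ Submodule.span K {p, a} := hL1 ▸ hv
        obtain ⟨x, y, rfl⟩ := Submodule.mem_span_pair.1 hv'
        have q0 : TT f (x • p + y • a) (x • p + y • a) (x • p + y • a) = 0 := by
          rw [← eval_eq_TT hf]; exact hf₁ _ hv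
        have q1 : TT f (x • p + y • a) (x • p + y • a) b = 0 := by
          simp only [map_add, map_smul, LinearMap.add_apply, LinearMap.smul_apply, smul_eq_mul]
          have t4 : TT f a p b = A := s12 _ _ _
          rw [zppb, t4, ← hA, ← hB, hA0, hB0]
          ring
        have q2 : TT f (x • p + y • a) b b = 0 := by
          simp only [map_add, map_smul, LinearMap.add_apply, LinearMap.smul_apply, smul_eq_mul]
          rw [zpbb, ← hC, hC0]
          ring
        rw [eval_eq_TT hf]
        generalize x • p + y • a = v at q0 q1 q2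
        simp only [map_add, map_smul, LinearMap.add_apply, LinearMap.smul_apply, smul_eq_mul]
        have r1 : TT f v b v = 0 := by rw [s23]; exact q1
        have r2 : TT f b v v = 0 := by rw [s12, s23]; exact q1
        have r3 : TT f b v b = 0 := by rw [s12]; exact q2
        have r4 : TT f b b v = 0 := by rw [s23, s12]; exact q2
        rw [q0, q1, q2, r1, r2, r3, r4, zbbb]
        ring
      have := Groth.Agent.H76.LinSub.main 4 3 (by norm_num) f hf P hfP
        (fun u hu hu0 => hsm u hu0 (hfP u hu))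
      rw [hPdim] at this
      omega
    · refine ⟨Submodule.span K {w}, ?_, ?_⟩
      · rw [if_neg hw0]
        exact Set.mem_insert_of_mem _ (Set.mem_singleton _)
      · rw [Submodule.span_singleton_le_iff_mem]
        have : w = (y₁⁻¹ * (-(2 * A))) • u₁ := by
          rw [← e₁, hw, smul_add, smul_smul, smul_smul]
          have hB' : B = y₁⁻¹ * (-(2 * A)) * x₁ := by
            field_simp
            linear_combination E1
          have hA' : y₁⁻¹ * (-(2 * A)) * y₁ = -(2 * A) := by
            field_simp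
          rw [hA', ← hB', neg_smul, sub_eq_add_neg]
        rw [this]
        exact L.smul_mem _ hu₁L

end Groth.Agent.H76.CubicLines
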