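import Mathlib
import Groth.Agent.H76.CurveS2
import Groth.Agent.H76.CurveL

/-!
helper76: `h⁰(L) + h⁰(L') ≤ h⁰(L ⊗ L') + 1` for invertible modules with sections on a regular
proper curve over an algebraically closed field (S11352).
-/

set_option autoImplicit false
set_option linter.style.haveILetI false
open CategoryTheory CategoryTheory.Limits AlgebraicGeometry TopologicalSpace Topology FunFld Opposite
universe u

namespace Groth.Agent.H76.Curve

attribute [local instance] Curv2.stalkAlgebra Curv2.resAlgebra

open Groth.Agent.H55 Groth.Agent.H62 Groth.Agent.H62.GD Groth.Agent.H18.STL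

theorem S11352_main (k : Type u) [Field k] [IsAlgClosed k] (X : Scheme.{u})
    [X.Over (Spec (CommRingCat.of k))]
    [IsIntegral X] [IsProper (X ↘ (Spec (CommRingCat.of k)))] (hdim : topologicalKrullDim X = 1)
    (hreg : ∀ x : X, IsRegularLocalRing (X.presheaf.stalk x))
    (L L' : X.Modules) (hL : PicF.IsInvertible L) (hL' : PicF.IsInvertible L')
    (hs : Nontrivial (Coh.HH X L 0)) (hs' : Nontrivial (Coh.HH X L' 0)) :
    Module.finrank k (Coh.HH X L 0) + Module.finrank k (Coh.HH X L' 0) ≤
      Module.finrank k (Coh.HH X (CohB1.tensorMod L L') 0) + 1 := by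
  have hC := gcurve_of_regular_of_isAlgClosed k X hdim hreg
  have hK := hC.isFunctionField
  obtain ⟨D, hD⟩ := exists_isDiv hC hL
  obtain ⟨E, hE⟩ := exists_isDiv hC hL'
  haveI := hD.finite_HH_zero hL
  haveI := hE.finite_HH_zero hL'
  have h1 : 0 < Module.finrank k (Coh.HH X L 0) := Module.finrank_pos
  have h2 : 0 < Module.finrank k (Coh.HH X L' 0) := Module.finrank_pos
  rw [hD.finrank_HH_zero hL] at h1 ⊢
  rw [hE.finrank_HH_zero hL'] at h2 ⊢
  rw [(hD.tensor hC hE).finrank_HH_zero (isInvertible_tensorMod hL hL')]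
  have := ell_add_ell_le hK (ell D) D E rfl ((ell_pos_iff hK D).mp h1) ((ell_pos_iff hK E).mp h2)
  omega

end Groth.Agent.H76.Curve
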