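import Mathlib
import Groth.Agent.H76.CurveS2
import Groth.Agent.H76.CurveM

/-!
helper76: linear stability via invertible subsheaves for `deg L > 2g` (S16966).
-/

set_option autoImplicit false
set_option linter.style.haveILetI false
open CategoryTheory CategoryTheory.Limits AlgebraicGeometry TopologicalSpace Topology FunFld Opposite
universe u

namespace Groth.Agent.H76.Curve

attribute [local instance] Curv2.stalkAlgebra Curv2.resAlgebra

open Groth.Agent.H55 Groth.Agent.H62 Groth.Agent.H62.GD Groth.Agent.H18.STL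

theorem S16966_main (k : Type u) [Field k] [IsAlgClosed k] (X : Scheme.{u})
    [X.Over (Spec (CommRingCat.of k))]
    [IsIntegral X] [IsProper (X ↘ (Spec (CommRingCat.of k)))] (hdim : topologicalKrullDim X = 1)
    (hreg : ∀ x : X, IsRegularLocalRing (X.presheaf.stalk x))
    (hg : 1 ≤ Curv2.genus k X) (L : X.Modules) (hL : PicF.IsInvertible L)
    (hdeg : 2 * (Curv2.genus k X : ℤ) < Curv2.deg k X L 1)
    (M : X.Modules) (hM : PicF.IsInvertible M) (ι : M ⟶ L) [Mono ι] (hι : ¬ IsIso ι)
    (h2 : 2 ≤ Module.finrank k (Coh.HH X M 0)) :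
    Curv2.deg k X L 1 * ((Module.finrank k (Coh.HH X M 0) : ℤ) - 1) <
      Curv2.deg k X M 1 * ((Module.finrank k (Coh.HH X L 0) : ℤ) - 1) := by
  have hC := gcurve_of_regular_of_isAlgClosed k X hdim hreg
  have hK := hC.isFunctionField
  have hlt := deg_lt_of_mono_of_not_isIso hC hM hL ι hι
  have key := S19204_main k X hdim hreg hg (Curv2.deg k X L 1) hdeg M hM
    (Module.finrank k (Coh.HH X M 0) - 1) (by omega) (by omega) hlt.le (Or.inl hlt)
  obtain ⟨D, hD⟩ := exists_isDiv hC hL
  have h0 : (Module.finrank k (Coh.HH X L 0) : ℤ) = Curv2.deg k X L 1 + 1 - Curv2.genus k X := by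
    rw [hD.finrank_HH_zero hL, hD.deg_eq hC hL, hC.genus_eq]
    apply ell_of_deg_ge hK D
    rw [hD.deg_eq hC hL, hC.genus_eq] at hdeg
    omega
  rw [h0]
  have e1 : ((Module.finrank k (Coh.HH X M 0) - 1 : ℕ) : ℤ) =
      (Module.finrank k (Coh.HH X M 0) : ℤ) - 1 := by omega
  rw [e1] at key
  have e2 : Curv2.deg k X L 1 + 1 - (Curv2.genus k X : ℤ) - 1 =
      Curv2.deg k X L 1 - Curv2.genus k X := by ring
  rw [e2]
  exact key

end Groth.Agent.H76.Curve
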