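import Mathlib
import Groth.Agent.H76.CurveS2
import Groth.Agent.H76.CurveO

/-!
helper76: an invertible module on a regular proper curve over an algebraically closed field is
globally generated iff `h⁰(L ⊗ I_P) + 1 = h⁰(L)` for all closed points `P` (S11330).
-/

set_option autoImplicit false
set_option linter.style.haveILetI false
open CategoryTheory CategoryTheory.Limits AlgebraicGeometry TopologicalSpace Topology FunFld Opposite
universe u

namespace Groth.Agent.H76.Curve

attribute [local instance] Curv2.stalkAlgebra Curv2.resAlgebra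

open Groth.Agent.H55 Groth.Agent.H62 Groth.Agent.H62.GD Groth.Agent.H18.STL

variable {k : Type u} [Field k] {C : Scheme.{u}} [C.Over (Spec (CommRingCat.of k))]
  [IsIntegral C]

/-- `h⁰(L ⊗ I_P) = ℓ(D - P)` -/
theorem IsDiv.finrank_HH_zero_tensor_pointIdeal (hC : GCurve k C) {L : C.Modules}
    {D : Divisor k C.functionField}
    (hL : PicF.IsInvertible L) (h : IsDiv hC L D) (P : C) (hP : IsClosed ({P} : Set C)) :
    Module.finrank k (Coh.HH C (CohB1.tensorMod L
      (ClSub.idealMod (Scheme.IdealSheafData.vanishingIdeal ⟨{P}, hP⟩))) 0) =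
      ell (D - Finsupp.single (placeOf hC ⟨P, hP⟩) 1) := by
  rw [(h.tensor hC (isDiv_pointIdeal hC P hP)).finrank_HH_zero
    (isInvertible_tensorMod hL (isInvertible_pointIdeal hC P hP))]
  unfold negPt
  rw [sub_eq_add_neg]

theorem S11330_main (k : Type u) [Field k] [IsAlgClosed k] (X : Scheme.{u})
    [X.Over (Spec (CommRingCat.of k))]
    [IsIntegral X] [IsProper (X ↘ (Spec (CommRingCat.of k)))] (hdim : topologicalKrullDim X = 1)
    (hreg : ∀ x : X, IsRegularLocalRing (X.presheaf.stalk x)) (L : X.Modules)
    (hL : PicF.IsInvertible L) :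
    Curv2.IsGloballyGenerated L ↔
      ∀ (P : X) (hP : IsClosed ({P} : Set X)),
        Module.finrank k (Coh.HH X (CohB1.tensorMod L (ClSub.idealMod
          (Scheme.IdealSheafData.vanishingIdeal ⟨{P}, hP⟩))) 0) + 1 =
          Module.finrank k (Coh.HH X L 0) := by
  have hC := gcurve_of_regular_of_isAlgClosed k X hdim hreg
  have hK := hC.isFunctionField
  obtain ⟨D, hD⟩ := exists_isDiv hC hL
  rw [hD.isGloballyGenerated_iff_ell hC]
  constructor
  · intro h P hP
    rw [hD.finrank_HH_zero_tensor_pointIdeal hC hL P hP, hD.finrank_HH_zero hL]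
    exact ell_sub_single_add_one hK D (Place.deg_eq_one_of_isAlgClosed hK _) (h _)
  · intro h Q
    obtain ⟨⟨x, hx⟩, rfl⟩ := placeOf_surjective hC Q
    have := h x hx
    rw [hD.finrank_HH_zero_tensor_pointIdeal hC hL x hx, hD.finrank_HH_zero hL] at this
    omega

end Groth.Agent.H76.Curve
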