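import Mathlib
import Groth.Prelude.Def_CycDet

/-!
# CycDet basics (helper76)

Basic lemmas on `CycDet.spanBefore`, admissible tuples, the class `cls e` of an admissible tuple in
`CycDet.DetOfLen`, the three relations, the "mixing" lemma and the length count.
-/

set_option autoImplicit false
set_option linter.unusedSectionVars false
universe u v

namespace Groth.Agent.H76.CD
open CycDet IsLocalRing

variable {R : Type u} [CommRing R] [IsLocalRing R] {M : Type v} [AddCommGroup M] [Module R M]

theorem mem_spanBefore_of_lt {l : ℕ} (e : Fin l → M) {j : Fin l} {i : ℕ} (h : (j : ℕ) < i) :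
    e j ∈ spanBefore R M e i := Submodule.subset_span ⟨j, h, rfl⟩

theorem spanBefore_mono {l : ℕ} (e : Fin l → M) {i j : ℕ} (h : i ≤ j) :
    spanBefore R M e i ≤ spanBefore R M e j :=
  Submodule.span_mono (Set.image_mono fun _ hx => lt_of_lt_of_le hx h)

theorem spanBefore_zero {l : ℕ} (e : Fin l → M) : spanBefore R M e 0 = ⊥ := by
  simp [spanBefore]

theorem spanBefore_le_range {l : ℕ} (e : Fin l → M) (i : ℕ) :
    spanBefore R M e i ≤ Submodule.span R (Set.range e) :=
  Submodule.span_mono (Set.image_subset_range _ _)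

theorem spanBefore_of_le {l : ℕ} (e : Fin l → M) {i : ℕ} (h : l ≤ i) :
    spanBefore R M e i = Submodule.span R (Set.range e) := by
  refine le_antisymm (spanBefore_le_range e i) (Submodule.span_le.2 ?_)
  rintro _ ⟨j, rfl⟩
  exact mem_spanBefore_of_lt e (lt_of_lt_of_le j.2 h)

theorem spanBefore_succ {l : ℕ} (e : Fin l → M) (i : Fin l) :
    spanBefore R M e ((i : ℕ) + 1) = spanBefore R M e i ⊔ Submodule.span R {e i} := by
  refine le_antisymm (Submodule.span_le.2 ?_) (sup_le (spanBefore_mono e (Nat.le_succ _)) ?_)
  · rintro _ ⟨j, hj, rfl⟩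
    rcases Nat.lt_succ_iff_lt_or_eq.1 (show (j : ℕ) < (i : ℕ) + 1 from hj) with h | h
    · exact Submodule.mem_sup_left (mem_spanBefore_of_lt e h)
    · have : j = i := Fin.ext h
      subst this
      exact Submodule.mem_sup_right (Submodule.mem_span_singleton_self _)
  · rw [Submodule.span_singleton_le_iff_mem]
    exact mem_spanBefore_of_lt e (Nat.lt_succ_self _)

theorem spanBefore_congr {l : ℕ} {e e' : Fin l → M} {i : ℕ}
    (h : ∀ j : Fin l, (j : ℕ) < i → e j = e' j) : spanBefore R M e i = spanBefore R M e' i := by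
  unfold spanBefore
  congr 1
  ext y
  constructor
  · rintro ⟨j, hj, rfl⟩
    exact ⟨j, hj, (h j hj).symm⟩
  · rintro ⟨j, hj, rfl⟩
    exact ⟨j, hj, h j hj⟩

theorem spanBefore_le_of_forall {l : ℕ} (e : Fin l → M) (i : ℕ) (N : Submodule R M)
    (h : ∀ j : Fin l, (j : ℕ) < i → e j ∈ N) : spanBefore R M e i ≤ N := by
  refine Submodule.span_le.2 ?_
  rintro _ ⟨j, hj, rfl⟩
  exact h j hj

/-- Prefix spans agree when each entry is changed by a unit multiple plus earlier stuff. -/
theorem spanBefore_eq_of_sub_mem {l : ℕ} {e e' : Fin l → M}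
    (h : ∀ j : Fin l, ∃ c : Rˣ, e j - (c : R) • e' j ∈ spanBefore R M e j) (i : ℕ) :
    spanBefore R M e' i = spanBefore R M e i := by
  have key1 : ∀ j : Fin l, e' j ∈ spanBefore R M e ((j : ℕ) + 1) := by
    intro j
    obtain ⟨c, hc⟩ := h j
    have h1 : e' j = (↑c⁻¹ : R) • (e j - (e j - (c : R) • e' j)) := by
      rw [sub_sub_cancel, smul_smul, Units.inv_mul, one_smul]
    rw [h1]
    refine Submodule.smul_mem _ _ (Submodule.sub_mem _ ?_ ?_)
    · exact mem_spanBefore_of_lt e (Nat.lt_succ_self _)
    · exact spanBefore_mono e (Nat.le_succ _) hc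
  have key2 : ∀ n : ℕ, ∀ j : Fin l, (j : ℕ) = n → e j ∈ spanBefore R M e' ((j : ℕ) + 1) := by
    intro n
    induction n using Nat.strong_induction_on with
    | _ n ih =>
      intro j hj
      obtain ⟨c, hc⟩ := h j
      have h1 : e j = (c : R) • e' j + (e j - (c : R) • e' j) := by abel
      rw [h1]
      refine Submodule.add_mem _ (Submodule.smul_mem _ _ ?_) ?_
      · exact mem_spanBefore_of_lt e' (Nat.lt_succ_self _)
      · refine spanBefore_le_of_forall e j _ ?_ hc
        intro t ht
        exact spanBefore_mono e' (by omega) (ih t (by omega) t rfl)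
  refine le_antisymm ?_ ?_
  · refine spanBefore_le_of_forall e' i _ fun j hj => ?_
    exact spanBefore_mono e (by omega) (key1 j)
  · refine spanBefore_le_of_forall e i _ fun j hj => ?_
    exact spanBefore_mono e' (by omega) (key2 j j rfl)

theorem isAdmissible_of_sub_mem {l : ℕ} {e e' : Fin l → M} (he : IsAdmissible R M e)
    (h : ∀ j : Fin l, ∃ c : Rˣ, e j - (c : R) • e' j ∈ spanBefore R M e j) :
    IsAdmissible R M e' := by
  intro i r hr
  rw [spanBefore_eq_of_sub_mem h]
  obtain ⟨c, hc⟩ := h i
  have h1 : r • e' i = (↑c⁻¹ : R) • (r • e i - r • (e i - (c : R) • e' i)) := by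
    rw [← smul_sub, sub_sub_cancel, smul_smul, smul_smul, mul_comm _ r, mul_assoc, Units.inv_mul,
      mul_one]
  rw [h1]
  exact Submodule.smul_mem _ _ (Submodule.sub_mem _ (he i r hr) (Submodule.smul_mem _ _ hc))

/-- The class of an admissible tuple in `DetOfLen`. -/
noncomputable def cls {l : ℕ} (e : Adm R M l) : DetOfLen R M l :=
  Submodule.Quotient.mk (sym R M e)

theorem symbol_eq_cls (e : Adm R M (Module.length R M).toNat) : symbol R M e = cls e := rfl

theorem cls_eq_zero {l : ℕ} (e : Adm R M l) (a : Fin l)
    (h : e.1 a ∈ spanBefore R M e.1 a) : cls e = 0 := by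
  rw [cls, Submodule.Quotient.mk_eq_zero]
  exact Submodule.subset_span (Or.inl (Or.inl ⟨e, a, h, rfl⟩))

theorem cls_eq_smul {l : ℕ} (e e' : Adm R M l) (a : Fin l) (c : Rˣ)
    (h1 : ∀ j, j ≠ a → e.1 j = e'.1 j)
    (h2 : e.1 a - (c : R) • e'.1 a ∈ spanBefore R M e.1 a) :
    cls e = residue R (c : R) • cls e' := by
  rw [← sub_eq_zero, cls, cls, ← Submodule.Quotient.mk_smul, ← Submodule.Quotient.mk_sub,
    Submodule.Quotient.mk_eq_zero]
  exact Submodule.subset_span (Or.inl (Or.inr ⟨e, e', a, c, h1, h2, rfl⟩))

theorem cls_swap {l : ℕ} (e e' : Adm R M l) (a b : Fin l) (hab : (b : ℕ) + 1 = (a : ℕ))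
    (h : ∀ r ∈ maximalIdeal R, r • e.1 a ∈ spanBefore R M e.1 b)
    (he' : e'.1 = e.1 ∘ Equiv.swap a b) : cls e = - cls e' := by
  rw [eq_neg_iff_add_eq_zero, cls, cls, ← Submodule.Quotient.mk_add,
    Submodule.Quotient.mk_eq_zero]
  exact Submodule.subset_span (Or.inr ⟨e, e', a, b, hab, h, he', rfl⟩)

theorem eq_top_of_cls_mem {l : ℕ} (S : Submodule (ResidueField R) (DetOfLen R M l))
    (h : ∀ e : Adm R M l, cls e ∈ S) : S = ⊤ := by
  suffices H : ∀ f : Free R M l,
      (Submodule.Quotient.mk f : DetOfLen R M l) ∈ S by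
    refine eq_top_iff.2 fun w _ => ?_
    obtain ⟨f, rfl⟩ := Submodule.Quotient.mk_surjective _ w
    exact H f
  intro f
  induction f using Finsupp.induction_linear with
  | zero => simp
  | add f g hf hg =>
    rw [Submodule.Quotient.mk_add]
    exact S.add_mem hf hg
  | single e c =>
    have h1 : (Finsupp.single e c : Free R M l) = c • sym R M e := by
      simp [sym]
    rw [h1, Submodule.Quotient.mk_smul]
    exact S.smul_mem _ (h e)

/-- The mixing lemma: changing every entry by earlier stuff does not change the class. -/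
theorem cls_eq_of_sub_mem {l : ℕ} : ∀ (k : ℕ) (e e' : Adm R M l),
    (∀ j : Fin l, e.1 j - e'.1 j ∈ spanBefore R M e.1 j) →
    (∀ j : Fin l, k ≤ (j : ℕ) → e.1 j = e'.1 j) →
    cls e = cls e' := by
  intro k
  induction k with
  | zero =>
    intro e e' _ h2
    have : e = e' := Subtype.ext (funext fun j => h2 j (Nat.zero_le _))
    rw [this]
  | succ k ih =>
    intro e e' h1 h2
    by_cases hk : k < l
    · let a : Fin l := ⟨k, hk⟩
      have hsub : ∀ j : Fin l, ∃ c : Rˣ,
          e.1 j - (c : R) • (Function.update e'.1 a (e.1 a)) j ∈ spanBefore R M e.1 j := by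
        intro j
        refine ⟨1, ?_⟩
        by_cases hj : j = a
        · subst hj
          simp
        · rw [Function.update_of_ne hj]
          simpa using h1 j
      let e'' : Adm R M l := ⟨Function.update e'.1 a (e.1 a), isAdmissible_of_sub_mem e.2 hsub⟩
      have h3 : cls e = cls e'' := by
        refine ih e e'' ?_ ?_
        · intro j
          obtain ⟨c, hc⟩ := hsub j
          by_cases hj : j = a
          · subst hj
            simp [e'']
          · simp only [e'', Function.update_of_ne hj]
            exact h1 j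
        · intro j hj
          by_cases hja : j = a
          · subst hja
            simp [e'']
          · simp only [e'', Function.update_of_ne hja]
            refine h2 j ?_
            have : (j : ℕ) ≠ k := fun h => hja (Fin.ext h)
            omega
      have h4 : cls e'' = residue R ((1 : Rˣ) : R) • cls e' := by
        refine cls_eq_smul e'' e' a 1 ?_ ?_
        · intro j hj
          simp only [e'', Function.update_of_ne hj]
        · have : spanBefore R M e''.1 a = spanBefore R M e.1 a := spanBefore_eq_of_sub_mem hsub a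
          rw [this]
          simpa [e''] using h1 a
      rw [h3, h4]
      simp
    · refine ih e e' h1 fun j _ => h2 j ?_
      have := j.2
      omega

theorem cls_eq_of_sub_mem' {l : ℕ} (e e' : Adm R M l)
    (h : ∀ j : Fin l, e.1 j - e'.1 j ∈ spanBefore R M e.1 j) : cls e = cls e' :=
  cls_eq_of_sub_mem l e e' h fun j hj => absurd j.2 (by omega)

/-- Length count: if the module has length `l` and the `l`-tuple does not generate, some entry lies in
the span of the earlier ones. -/
theorem exists_mem_spanBefore_of_span_ne_top {l : ℕ} (hl : Module.length R M = l) (e : Fin l → M)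
    (h : Submodule.span R (Set.range e) ≠ ⊤) : ∃ a : Fin l, e a ∈ spanBefore R M e a := by
  by_contra hcon
  push Not at hcon
  have hfin : IsFiniteLength R M := by
    rw [← Module.length_ne_top_iff, hl]
    exact ENat.natCast_ne_top l
  obtain ⟨hN, hA⟩ := isFiniteLength_iff_isNoetherian_isArtinian.1 hfin
  have key : ∀ i : ℕ, i ≤ l → (i : ℕ∞) ≤ Module.length R (spanBefore R M e i) := by
    intro i
    induction i with
    | zero => intro _; simp
    | succ i ih =>
      intro hi
      have h1 := ih (by omega)
      have h2 : spanBefore R M e i < spanBefore R M e (i + 1) := by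
        refine lt_of_le_of_ne (spanBefore_mono e (Nat.le_succ _)) fun heq => ?_
        refine hcon ⟨i, by omega⟩ ?_
        change e ⟨i, _⟩ ∈ spanBefore R M e i
        rw [heq]
        exact mem_spanBefore_of_lt e (Nat.lt_succ_self _)
      have h3 : Module.length R (spanBefore R M e i) < Module.length R (spanBefore R M e (i + 1)) := by
        rw [Module.length_submodule, Module.length_submodule]
        exact Submodule.height_strictMono h2
      push_cast
      exact le_trans (add_le_add_left h1 1) (Order.add_one_le_of_lt h3)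
  have h1 := key l le_rfl
  rw [spanBefore_of_le e le_rfl] at h1
  have h2 := Submodule.length_lt h
  rw [hl] at h2
  exact absurd h2 (not_lt.2 h1)

end Groth.Agent.H76.CD
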