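import Mathlib
import Groth.Prelude.Def_CycDet
import Groth.Agent.H76.CycDetA

/-!
# CycDet: concatenation of admissible tuples along a surjection (helper76)

For a surjection `g : L → M` and an admissible tuple `e` of `L` spanning `ker g`, the map
`Theta : DetOfLen R M m → DetOfLen R L (k + m)`, `[f̄] ↦ [e, lifts of f̄]`.
-/

set_option autoImplicit false
set_option linter.unusedSectionVars false
universe u v w

namespace Groth.Agent.H76.CD
open CycDet IsLocalRing

variable {R : Type u} [CommRing R] [IsLocalRing R]
variable {L : Type v} [AddCommGroup L] [Module R L] {M : Type w} [AddCommGroup M] [Module R M]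

theorem spanBefore_append_left {k m : ℕ} (e : Fin k → L) (w : Fin m → L) {i : ℕ} (hi : i ≤ k) :
    spanBefore R L (Fin.append e w) i = spanBefore R L e i := by
  refine le_antisymm ?_ ?_
  · refine spanBefore_le_of_forall _ _ _ fun j hj => ?_
    have hjk : (j : ℕ) < k := lt_of_lt_of_le hj hi
    have : j = Fin.castAdd m ⟨j, hjk⟩ := Fin.ext rfl
    rw [this, Fin.append_left]
    exact mem_spanBefore_of_lt e hj
  · refine spanBefore_le_of_forall _ _ _ fun j hj => ?_
    rw [← Fin.append_left e w j]
    exact mem_spanBefore_of_lt _ (by simpa using hj)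

theorem spanBefore_append_right {k m : ℕ} (e : Fin k → L) (w : Fin m → L) (j : ℕ) :
    spanBefore R L (Fin.append e w) (k + j) =
      Submodule.span R (Set.range e) ⊔ spanBefore R L w j := by
  refine le_antisymm ?_ (sup_le ?_ ?_)
  · refine spanBefore_le_of_forall _ _ _ fun t ht => ?_
    revert ht
    refine Fin.addCases (fun i => ?_) (fun i => ?_) t
    · intro _
      rw [Fin.append_left]
      exact Submodule.mem_sup_left (Submodule.subset_span (R := R) ⟨i, rfl⟩)
    · intro ht
      rw [Fin.append_right]
      refine Submodule.mem_sup_right (mem_spanBefore_of_lt w ?_)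
      simpa using ht
  · rw [Submodule.span_le]
    rintro _ ⟨i, rfl⟩
    rw [← Fin.append_left e w i]
    exact mem_spanBefore_of_lt _ (by simp; omega)
  · refine spanBefore_le_of_forall _ _ _ fun t ht => ?_
    rw [← Fin.append_right e w t]
    exact mem_spanBefore_of_lt _ (by simpa using ht)

theorem map_spanBefore (g : L →ₗ[R] M) {m : ℕ} (w : Fin m → L) (j : ℕ) :
    (spanBefore R L w j).map g = spanBefore R M (g ∘ w) j := by
  unfold spanBefore
  rw [Submodule.map_span, Set.image_image]
  rfl

theorem mem_spanBefore_append_iff (g : L →ₗ[R] M) {k m : ℕ} (e : Fin k → L)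
    (hspan : Submodule.span R (Set.range e) = LinearMap.ker g) (w : Fin m → L) (j : ℕ) (y : L) :
    y ∈ spanBefore R L (Fin.append e w) (k + j) ↔ g y ∈ spanBefore R M (g ∘ w) j := by
  rw [spanBefore_append_right, ← map_spanBefore]
  constructor
  · intro h
    obtain ⟨a, ha, b, hb, rfl⟩ := Submodule.mem_sup.1 h
    rw [hspan] at ha
    rw [map_add, LinearMap.mem_ker.1 ha, zero_add]
    exact Submodule.mem_map_of_mem hb
  · rintro ⟨z, hz, hzy⟩
    have h1 : y - z ∈ LinearMap.ker g := by
      rw [LinearMap.mem_ker, map_sub, hzy, sub_self]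
    rw [← hspan] at h1
    have h2 : y = (y - z) + z := by abel
    rw [h2]
    exact Submodule.add_mem _ (Submodule.mem_sup_left h1) (Submodule.mem_sup_right hz)

theorem isAdmissible_append (g : L →ₗ[R] M) {k m : ℕ} (e : Fin k → L)
    (he : IsAdmissible R L e)
    (hspan : Submodule.span R (Set.range e) = LinearMap.ker g) (w : Fin m → L)
    (hw : IsAdmissible R M (g ∘ w)) : IsAdmissible R L (Fin.append e w) := by
  intro t
  refine Fin.addCases (fun i => ?_) (fun i => ?_) t
  · intro r hr
    rw [Fin.append_left, Fin.val_castAdd, spanBefore_append_left e w i.2.le]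
    exact he i r hr
  · intro r hr
    rw [Fin.append_right, Fin.val_natAdd, mem_spanBefore_append_iff g e hspan, map_smul]
    exact hw i r hr

theorem isAdmissible_of_append (g : L →ₗ[R] M) {k m : ℕ} (e : Fin k → L)
    (hspan : Submodule.span R (Set.range e) = LinearMap.ker g) (w : Fin m → L)
    (h : IsAdmissible R L (Fin.append e w)) : IsAdmissible R M (g ∘ w) := by
  intro i r hr
  have h1 := h (Fin.natAdd k i) r hr
  rw [Fin.append_right, Fin.val_natAdd, mem_spanBefore_append_iff g e hspan, map_smul] at h1
  exact h1

theorem isAdmissible_left_of_append {k m : ℕ} (e : Fin k → L) (w : Fin m → L)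
    (h : IsAdmissible R L (Fin.append e w)) : IsAdmissible R L e := by
  intro i r hr
  have h1 := h (Fin.castAdd m i) r hr
  rw [Fin.append_left, Fin.val_castAdd, spanBefore_append_left e w i.2.le] at h1
  exact h1

theorem append_comp_swap {α : Type*} {k m : ℕ} (e : Fin k → α) (w : Fin m → α) (a b : Fin m) :
    Fin.append e (w ∘ Equiv.swap a b) =
      Fin.append e w ∘ Equiv.swap (Fin.natAdd k a) (Fin.natAdd k b) := by
  funext t
  refine Fin.addCases (fun i => ?_) (fun i => ?_) t
  · rw [Fin.append_left, Function.comp_apply, Equiv.swap_apply_of_ne_of_ne, Fin.append_left]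
    · intro h
      have := congrArg Fin.val h
      simp at this
      omega
    · intro h
      have := congrArg Fin.val h
      simp at this
      omega
  · rw [Fin.append_right, Function.comp_apply, Function.comp_apply,
      (Fin.natAdd_injective m k).swap_apply, Fin.append_right]

theorem comp_surjInv (g : L →ₗ[R] M) (hg : Function.Surjective g) {m : ℕ} (f : Fin m → M) :
    (g ∘ fun j => Function.surjInv hg (f j)) = f :=
  funext fun j => Function.surjInv_eq hg (f j)

/-- Concatenate `e` with the (fixed set-theoretic) lifts of an admissible tuple of `M`. -/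
noncomputable def concat (g : L →ₗ[R] M) (hg : Function.Surjective g) {k : ℕ} (e : Adm R L k)
    (hspan : Submodule.span R (Set.range e.1) = LinearMap.ker g) (m : ℕ) (f : Adm R M m) :
    Adm R L (k + m) :=
  ⟨Fin.append e.1 (fun j => Function.surjInv hg (f.1 j)),
    isAdmissible_append g e.1 e.2 hspan _ (by rw [comp_surjInv]; exact f.2)⟩

theorem concat_val (g : L →ₗ[R] M) (hg : Function.Surjective g) {k : ℕ} (e : Adm R L k)
    (hspan : Submodule.span R (Set.range e.1) = LinearMap.ker g) (m : ℕ) (f : Adm R M m) :
    (concat g hg e hspan m f).1 = Fin.append e.1 (fun j => Function.surjInv hg (f.1 j)) := rfl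

theorem lmapDomain_mem (g : L →ₗ[R] M) (hg : Function.Surjective g) {k : ℕ} (e : Adm R L k)
    (hspan : Submodule.span R (Set.range e.1) = LinearMap.ker g) (m : ℕ) :
    Submodule.span (ResidueField R) (relSet R M m) ≤
      (Submodule.span (ResidueField R) (relSet R L (k + m))).comap
        (Finsupp.lmapDomain (ResidueField R) (ResidueField R) (concat g hg e hspan m)) := by
  rw [Submodule.span_le]
  have hsym : ∀ f : Adm R M m, Finsupp.lmapDomain (ResidueField R) (ResidueField R)
      (concat g hg e hspan m) (sym R M f) = sym R L (concat g hg e hspan m f) := by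
    intro f
    simp [sym, Finsupp.lmapDomain_apply, Finsupp.mapDomain_single]
  rintro x ((⟨f, a, ha, rfl⟩ | ⟨f, f', a, c, h1, h2, rfl⟩) | ⟨f, f', a, b, hab, h, hf', rfl⟩)
  · refine Submodule.subset_span (Or.inl (Or.inl ⟨concat g hg e hspan m f, Fin.natAdd k a, ?_, ?_⟩))
    · rw [concat_val, Fin.append_right, Fin.val_natAdd, mem_spanBefore_append_iff g e.1 hspan,
        comp_surjInv, Function.surjInv_eq hg]
      exact ha
    · exact hsym f
  · refine Submodule.subset_span (Or.inl (Or.inr ⟨concat g hg e hspan m f,
      concat g hg e hspan m f', Fin.natAdd k a, c, ?_, ?_, ?_⟩))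
    · intro t
      refine Fin.addCases (fun i => ?_) (fun i => ?_) t
      · intro _
        rw [concat_val, concat_val, Fin.append_left, Fin.append_left]
      · intro hi
        rw [concat_val, concat_val, Fin.append_right, Fin.append_right, h1 i]
        rintro rfl
        exact hi rfl
    · rw [concat_val, concat_val, Fin.append_right, Fin.append_right, Fin.val_natAdd,
        mem_spanBefore_append_iff g e.1 hspan, comp_surjInv, map_sub, map_smul,
        Function.surjInv_eq hg, Function.surjInv_eq hg]
      exact h2
    · rw [map_sub, map_smul, hsym, hsym]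
  · refine Submodule.subset_span (Or.inr ⟨concat g hg e hspan m f,
      concat g hg e hspan m f', Fin.natAdd k a, Fin.natAdd k b, ?_, ?_, ?_, ?_⟩)
    · rw [Fin.val_natAdd, Fin.val_natAdd, ← hab]
      omega
    · intro r hr
      rw [concat_val, Fin.append_right, Fin.val_natAdd,
        mem_spanBefore_append_iff g e.1 hspan, comp_surjInv, map_smul,
        Function.surjInv_eq hg]
      exact h r hr
    · rw [concat_val, concat_val, ← append_comp_swap, hf']
      rfl
    · rw [map_add, hsym, hsym]

/-- `[f̄] ↦ [e, lifts of f̄]`. -/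
noncomputable def Theta (g : L →ₗ[R] M) (hg : Function.Surjective g) {k : ℕ} (e : Adm R L k)
    (hspan : Submodule.span R (Set.range e.1) = LinearMap.ker g) (m : ℕ) :
    DetOfLen R M m →ₗ[ResidueField R] DetOfLen R L (k + m) :=
  Submodule.mapQ _ _ (Finsupp.lmapDomain (ResidueField R) (ResidueField R) (concat g hg e hspan m))
    (lmapDomain_mem g hg e hspan m)

theorem Theta_cls (g : L →ₗ[R] M) (hg : Function.Surjective g) {k : ℕ} (e : Adm R L k)
    (hspan : Submodule.span R (Set.range e.1) = LinearMap.ker g) (m : ℕ) (f : Adm R M m) :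
    Theta g hg e hspan m (cls f) = cls (concat g hg e hspan m f) := by
  rw [Theta, cls, cls, Submodule.mapQ_apply]
  congr 1
  simp [sym, Finsupp.lmapDomain_apply, Finsupp.mapDomain_single]

/-- `Theta` does not depend on the lifts. -/
theorem Theta_cls' (g : L →ₗ[R] M) (hg : Function.Surjective g) {k : ℕ} (e : Adm R L k)
    (hspan : Submodule.span R (Set.range e.1) = LinearMap.ker g) (m : ℕ) (f : Adm R M m)
    (eL : Adm R L (k + m)) (h1 : ∀ i : Fin k, eL.1 (Fin.castAdd m i) = e.1 i)
    (h2 : ∀ j : Fin m, g (eL.1 (Fin.natAdd k j)) = f.1 j) :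
    Theta g hg e hspan m (cls f) = cls eL := by
  rw [Theta_cls]
  symm
  refine cls_eq_of_sub_mem' _ _ fun t => ?_
  have heL : eL.1 = Fin.append e.1 (fun j => eL.1 (Fin.natAdd k j)) := by
    funext t
    refine Fin.addCases (fun i => ?_) (fun i => ?_) t
    · rw [Fin.append_left, h1]
    · rw [Fin.append_right]
  refine Fin.addCases (fun i => ?_) (fun i => ?_) t
  · rw [concat_val, Fin.append_left, h1, sub_self]
    exact Submodule.zero_mem _
  · rw [concat_val, Fin.append_right, Fin.val_natAdd]
    rw [show spanBefore R L eL.1 (k + (i : ℕ)) =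
      spanBefore R L (Fin.append e.1 fun j => eL.1 (Fin.natAdd k j)) (k + (i : ℕ)) from by
        rw [← heL]]
    rw [mem_spanBefore_append_iff g e.1 hspan, map_sub, h2, Function.surjInv_eq hg, sub_self]
    exact Submodule.zero_mem _

end Groth.Agent.H76.CD
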