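import Mathlib
import Groth.Prelude.Def_CycDet
import Groth.Agent.H76.CycDetA
import Groth.Agent.H76.CycDetB

/-!
# CycDet: `dim det ≤ 1` (helper76)
-/

set_option autoImplicit false
set_option linter.unusedSectionVars false
universe u v

namespace Groth.Agent.H76.CD
open CycDet IsLocalRing

variable {R : Type u} [CommRing R] [IsLocalRing R] {M : Type v} [AddCommGroup M] [Module R M]

/-- Transport of admissible tuples along an equality of lengths. -/
def castAdm {l l' : ℕ} (h : l = l') (e : Adm R M l) : Adm R M l' :=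
  ⟨e.1 ∘ Fin.cast h.symm, by subst h; exact e.2⟩

/-- Transport of `DetOfLen` along an equality of lengths. -/
noncomputable def castDet {l l' : ℕ} (h : l = l') :
    DetOfLen R M l →ₗ[ResidueField R] DetOfLen R M l' := by
  subst h; exact LinearMap.id

theorem castDet_cls {l l' : ℕ} (h : l = l') (e : Adm R M l) :
    castDet h (cls e) = cls (castAdm h e) := by
  subst h; rfl

theorem castAdm_castAdm {l l' : ℕ} (h : l = l') (h' : l' = l) (e : Adm R M l) :
    castAdm h' (castAdm h e) = e := by
  subst h; rfl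

theorem castDet_castDet {l l' : ℕ} (h : l = l') (h' : l' = l) (w : DetOfLen R M l) :
    castDet h' (castDet h w) = w := by
  subst h; rfl

theorem cls_congr {l : ℕ} {e e' : Fin l → M} (h : e = e') (h1 : IsAdmissible R M e)
    (h2 : IsAdmissible R M e') : cls (⟨e, h1⟩ : Adm R M l) = cls (⟨e', h2⟩ : Adm R M l) := by
  subst h; rfl

theorem spanBefore_comp_swap {l : ℕ} (e : Fin l → M) (a b : Fin l) (j : ℕ)
    (h : (a : ℕ) < j ↔ (b : ℕ) < j) :
    spanBefore R M (e ∘ Equiv.swap a b) j = spanBefore R M e j := by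
  have key : ∀ t : Fin l, (t : ℕ) < j → ((Equiv.swap a b t : Fin l) : ℕ) < j := by
    intro t ht
    rw [Equiv.swap_apply_def]
    split_ifs with h1 h2
    · subst h1; exact h.1 ht
    · subst h2; exact h.2 ht
    · exact ht
  refine le_antisymm ?_ ?_
  · refine spanBefore_le_of_forall _ _ _ fun t ht => ?_
    exact mem_spanBefore_of_lt e (key t ht)
  · refine spanBefore_le_of_forall _ _ _ fun t ht => ?_
    have : e t = (e ∘ Equiv.swap a b) (Equiv.swap a b t) := by simp
    rw [this]
    exact mem_spanBefore_of_lt _ (key t ht)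

theorem isAdmissible_swap {l : ℕ} (e : Fin l → M) (he : IsAdmissible R M e) (a b : Fin l)
    (hab : (b : ℕ) + 1 = (a : ℕ)) (h : ∀ r ∈ maximalIdeal R, r • e a ∈ spanBefore R M e b) :
    IsAdmissible R M (e ∘ Equiv.swap a b) := by
  intro i r hr
  by_cases hia : i = a
  · subst hia
    rw [Function.comp_apply, Equiv.swap_apply_left]
    refine spanBefore_mono _ (show (b : ℕ) ≤ i by omega) ?_
    rw [spanBefore_comp_swap e i b b (by omega)]
    exact he b r hr
  · by_cases hib : i = b
    · subst hib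
      rw [Function.comp_apply, Equiv.swap_apply_right, spanBefore_comp_swap e a i i (by omega)]
      exact h r hr
    · rw [Function.comp_apply, Equiv.swap_apply_of_ne_of_ne hia hib,
        spanBefore_comp_swap e a b i ?_]
      · exact he i r hr
      · have h1 : (i : ℕ) ≠ a := fun h => hia (Fin.ext h)
        have h2 : (i : ℕ) ≠ b := fun h => hib (Fin.ext h)
        omega

theorem swap_succAbove {n : ℕ} (a b : Fin (n + 1)) (hab : (b : ℕ) + 1 = (a : ℕ)) (j : Fin n) :
    Equiv.swap a b (b.succAbove j) = a.succAbove j := by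
  rw [Equiv.swap_apply_def]
  simp only [Fin.succAbove, Fin.lt_def, Fin.ext_iff, Fin.val_castSucc]
  split_ifs <;> simp_all <;> omega

theorem cls_move_front {n : ℕ} : ∀ (i : ℕ) (hi : i < n + 1) (e : Adm R M (n + 1)),
    (∀ r ∈ maximalIdeal R, r • e.1 ⟨i, hi⟩ = 0) →
    ∃ h : IsAdmissible R M
        (Fin.cons (e.1 ⟨i, hi⟩) (e.1 ∘ Fin.succAbove ⟨i, hi⟩) : Fin (n + 1) → M),
      cls e = (-1 : ResidueField R) ^ i • cls ⟨_, h⟩ := by
  intro i
  induction i with
  | zero =>
    intro hi e _
    have h0 : (Fin.cons (e.1 ⟨0, hi⟩) (e.1 ∘ Fin.succAbove ⟨0, hi⟩) : Fin (n + 1) → M) = e.1 := by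
      funext t
      refine Fin.cases ?_ (fun j => ?_) t
      · rfl
      · rw [Fin.cons_succ]
        rfl
    have h1 : IsAdmissible R M
        (Fin.cons (e.1 ⟨0, hi⟩) (e.1 ∘ Fin.succAbove ⟨0, hi⟩) : Fin (n + 1) → M) := by
      rw [h0]; exact e.2
    refine ⟨h1, ?_⟩
    rw [pow_zero, one_smul]
    exact congrArg cls (Subtype.ext h0.symm)
  | succ i ih =>
    intro hi e hx
    obtain ⟨a, ha⟩ : ∃ a : Fin (n + 1), a = ⟨i + 1, hi⟩ := ⟨_, rfl⟩
    obtain ⟨b, hb⟩ : ∃ b : Fin (n + 1), b = ⟨i, by omega⟩ := ⟨_, rfl⟩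
    have hab : (b : ℕ) + 1 = (a : ℕ) := by rw [ha, hb]
    rw [← ha] at hx ⊢
    have hcond : ∀ r ∈ maximalIdeal R, r • e.1 a ∈ spanBefore R M e.1 b := by
      intro r hr
      rw [hx r hr]
      exact Submodule.zero_mem _
    have hsw : IsAdmissible R M (e.1 ∘ Equiv.swap a b) :=
      isAdmissible_swap e.1 e.2 a b hab hcond
    have h1 : cls e = - cls (⟨_, hsw⟩ : Adm R M (n + 1)) :=
      cls_swap e ⟨_, hsw⟩ a b hab hcond rfl
    have hx'' : ∀ r ∈ maximalIdeal R, r • (⟨_, hsw⟩ : Adm R M (n + 1)).1 ⟨i, by omega⟩ = 0 := by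
      intro r hr
      rw [← hb]
      simp only [Function.comp_apply, Equiv.swap_apply_right]
      exact hx r hr
    obtain ⟨h2, h3⟩ := ih (by omega) ⟨_, hsw⟩ hx''
    have h4 : (Fin.cons ((⟨_, hsw⟩ : Adm R M (n + 1)).1 ⟨i, by omega⟩)
        ((⟨_, hsw⟩ : Adm R M (n + 1)).1 ∘ Fin.succAbove ⟨i, by omega⟩) : Fin (n + 1) → M) =
        Fin.cons (e.1 a) (e.1 ∘ Fin.succAbove a) := by
      rw [← hb]
      congr 1
      · simp only [Function.comp_apply, Equiv.swap_apply_right]
      · funext j
        simp only [Function.comp_apply]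
        rw [swap_succAbove a b hab j]
    have h5 : IsAdmissible R M (Fin.cons (e.1 a) (e.1 ∘ Fin.succAbove a) : Fin (n + 1) → M) := by
      rw [← h4]; exact h2
    refine ⟨h5, ?_⟩
    rw [h1, h3, pow_succ, mul_neg_one, neg_smul, cls_congr h4 h2 h5]

theorem cls_replace {n : ℕ} (e : Adm R M (n + 1)) (x : M)
    (hx : ∀ r ∈ maximalIdeal R, r • x = 0) (i : Fin (n + 1)) (u : Rˣ)
    (hu : x - (u : R) • e.1 i ∈ spanBefore R M e.1 i) :
    ∃ h : IsAdmissible R M (Fin.cons x (e.1 ∘ Fin.succAbove i) : Fin (n + 1) → M),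
      cls e = (residue R (u : R))⁻¹ • (-1 : ResidueField R) ^ (i : ℕ) • cls ⟨_, h⟩ := by
  have hsub : ∀ j : Fin (n + 1), ∃ c : Rˣ,
      e.1 j - (c : R) • (Function.update e.1 i x) j ∈ spanBefore R M e.1 j := by
    intro j
    by_cases hj : j = i
    · subst hj
      refine ⟨u⁻¹, ?_⟩
      rw [Function.update_self]
      have : e.1 j - (↑u⁻¹ : R) • x = -((↑u⁻¹ : R) • (x - (u : R) • e.1 j)) := by
        rw [smul_sub, smul_smul, Units.inv_mul, one_smul]
        abel
      rw [this]
      exact Submodule.neg_mem _ (Submodule.smul_mem _ _ hu)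
    · refine ⟨1, ?_⟩
      rw [Function.update_of_ne hj]
      simp
  have hadm1 : IsAdmissible R M (Function.update e.1 i x) := isAdmissible_of_sub_mem e.2 hsub
  have h1 : cls (⟨_, hadm1⟩ : Adm R M (n + 1)) = residue R (u : R) • cls e := by
    refine cls_eq_smul ⟨_, hadm1⟩ e i u ?_ ?_
    · intro j hj
      exact Function.update_of_ne hj _ _
    · rw [show spanBefore R M (⟨_, hadm1⟩ : Adm R M (n + 1)).1 i = spanBefore R M e.1 i from
        spanBefore_eq_of_sub_mem hsub i]
      simp only [Function.update_self]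
      exact hu
  have hx1 : ∀ r ∈ maximalIdeal R, r • (⟨_, hadm1⟩ : Adm R M (n + 1)).1 ⟨i, i.2⟩ = 0 := by
    intro r hr
    simp only [Fin.eta, Function.update_self]
    exact hx r hr
  obtain ⟨h2, h3⟩ := cls_move_front (i : ℕ) i.2 ⟨_, hadm1⟩ hx1
  have h4 : (Fin.cons ((⟨_, hadm1⟩ : Adm R M (n + 1)).1 ⟨i, i.2⟩)
      ((⟨_, hadm1⟩ : Adm R M (n + 1)).1 ∘ Fin.succAbove ⟨i, i.2⟩) : Fin (n + 1) → M) =
      Fin.cons x (e.1 ∘ Fin.succAbove i) := by
    simp only [Fin.eta, Function.update_self]
    congr 1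
    funext j
    simp only [Function.comp_apply]
    exact Function.update_of_ne (Fin.succAbove_ne i j) _ _
  have h5 : IsAdmissible R M (Fin.cons x (e.1 ∘ Fin.succAbove i) : Fin (n + 1) → M) := by
    rw [← h4]; exact h2
  refine ⟨h5, ?_⟩
  have hu0 : residue R (u : R) ≠ 0 := by
    have : IsUnit (residue R (u : R)) := (u.isUnit).map (residue R)
    exact this.ne_zero
  have h6 : cls e = (residue R (u : R))⁻¹ • cls (⟨_, hadm1⟩ : Adm R M (n + 1)) := by
    rw [h1, inv_smul_smul₀ hu0]
  rw [h6, h3, cls_congr h4 h2 h5]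

theorem exists_index {n : ℕ} (e : Adm R M (n + 1)) (x : M) (hx0 : x ≠ 0)
    (hxe : x ∈ Submodule.span R (Set.range e.1)) :
    ∃ (i : Fin (n + 1)) (u : Rˣ), x - (u : R) • e.1 i ∈ spanBefore R M e.1 i ∧
      x ∉ spanBefore R M e.1 i := by
  classical
  have hP : ∃ i : ℕ, x ∈ spanBefore R M e.1 (i + 1) :=
    ⟨n, by rw [spanBefore_of_le e.1 le_rfl]; exact hxe⟩
  have hi₀ : Nat.find hP ≤ n :=
    Nat.find_min' hP (by rw [spanBefore_of_le e.1 le_rfl]; exact hxe)
  have hnot : x ∉ spanBefore R M e.1 (Nat.find hP) := by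
    rcases Nat.eq_zero_or_eq_succ_pred (Nat.find hP) with h | h
    · rw [h, spanBefore_zero]
      simpa using hx0
    · rw [h]
      exact Nat.find_min hP (by omega)
  have hspec := Nat.find_spec hP
  obtain ⟨i, hi⟩ : ∃ i : Fin (n + 1), (i : ℕ) = Nat.find hP := ⟨⟨Nat.find hP, by omega⟩, rfl⟩
  rw [← hi] at hnot hspec
  rw [spanBefore_succ] at hspec
  obtain ⟨y, hy, z, hz, hyz⟩ := Submodule.mem_sup.1 hspec
  obtain ⟨r, rfl⟩ := Submodule.mem_span_singleton.1 hz
  have hr : IsUnit r := by
    rw [← notMem_maximalIdeal]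
    intro hr
    refine hnot ?_
    rw [← hyz]
    exact Submodule.add_mem _ hy (e.2 i r hr)
  refine ⟨i, hr.unit, ?_, hnot⟩
  rw [← hyz, IsUnit.unit_spec, add_sub_cancel_right]
  exact hy

theorem exists_socle (hfin : IsFiniteLength R M) [Nontrivial M] :
    ∃ x : M, x ≠ 0 ∧ (∀ r ∈ maximalIdeal R, r • x = 0) ∧
      Module.length R (Submodule.span R {x}) = 1 := by
  obtain ⟨hN, hA⟩ := isFiniteLength_iff_isNoetherian_isArtinian.1 hfin
  have hat : IsAtomic (Submodule R M) :=
    isAtomic_of_orderBot_wellFounded_lt (wellFounded_lt)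
  obtain ⟨N, hN⟩ := IsAtomic.exists_atom (Submodule R M)
  have hsimple : IsSimpleModule R N := isSimpleModule_iff_isAtom.2 hN
  obtain ⟨y, hyN, hy0⟩ := Submodule.exists_mem_ne_zero_of_ne_bot hN.1
  have hspan : Submodule.span R {y} = N := by
    have h1 : Submodule.span R {y} ≤ N := by
      rw [Submodule.span_singleton_le_iff_mem]; exact hyN
    rcases hN.le_iff.1 h1 with h | h
    · exact absurd (Submodule.span_singleton_eq_bot.1 h) hy0
    · exact h
  refine ⟨y, hy0, ?_, ?_⟩
  · intro r hr
    have hy0' : (⟨y, hyN⟩ : N) ≠ 0 := fun h => hy0 (congrArg Subtype.val h)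
    have hmax := IsSimpleModule.ker_toSpanSingleton_isMaximal R hy0'
    rw [← eq_maximalIdeal hmax] at hr
    have := LinearMap.mem_ker.1 hr
    rw [LinearMap.toSpanSingleton_apply] at this
    exact congrArg Subtype.val this
  · rw [hspan]
    exact Module.length_eq_one R N

theorem length_quotient_of_length_one {l : ℕ} (N : Submodule R M)
    (hl : Module.length R M = ((l + 1 : ℕ) : ℕ∞)) (hN : Module.length R N = 1) :
    Module.length R (M ⧸ N) = l := by
  have h := Module.length_eq_add_of_exact N.subtype N.mkQ (Submodule.subtype_injective _)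
    (Submodule.mkQ_surjective _) (LinearMap.exact_subtype_mkQ N)
  rw [hl, hN] at h
  have hne : Module.length R (M ⧸ N) ≠ ⊤ := by
    intro htop
    rw [htop, add_top] at h
    exact ENat.natCast_ne_top _ h
  obtain ⟨y, hy⟩ := ENat.ne_top_iff_exists.1 hne
  rw [← hy] at h ⊢
  have : l + 1 = 1 + y := by exact_mod_cast h
  have : y = l := by omega
  rw [this]

/-- The one-element admissible tuple given by a socle element. -/
def socleAdm (x : M) (hx : ∀ r ∈ maximalIdeal R, r • x = 0) : Adm R M 1 :=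
  ⟨fun _ => x, fun _ r hr => by
    change r • x ∈ _
    rw [hx r hr]; exact Submodule.zero_mem _⟩

theorem socleAdm_span (x : M) (hx : ∀ r ∈ maximalIdeal R, r • x = 0) :
    Submodule.span R (Set.range (socleAdm x hx).1) =
      LinearMap.ker (Submodule.span R {x}).mkQ := by
  rw [Submodule.ker_mkQ]
  congr 1
  ext y
  simp [socleAdm]

theorem exists_generator : ∀ (l : ℕ) (M : Type v) [AddCommGroup M] [Module R M],
    Module.length R M = l →
    ∃ v : DetOfLen R M l, ∀ w : DetOfLen R M l, ∃ c : ResidueField R, w = c • v := by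
  intro l
  induction l with
  | zero =>
    intro M _ _ _
    let e₀ : Adm R M 0 := ⟨fun i => i.elim0, fun i => i.elim0⟩
    refine ⟨cls e₀, fun w => ?_⟩
    have htop : Submodule.span (ResidueField R) {cls e₀} = ⊤ := by
      refine eq_top_of_cls_mem _ fun e => ?_
      have : e = e₀ := Subtype.ext (funext fun i => i.elim0)
      rw [this]
      exact Submodule.mem_span_singleton_self _
    have hw : w ∈ Submodule.span (ResidueField R) {cls e₀} := by rw [htop]; trivial
    obtain ⟨c, hc⟩ := Submodule.mem_span_singleton.1 hw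
    exact ⟨c, hc.symm⟩
  | succ l ih =>
    intro M _ _ hl
    have hfin : IsFiniteLength R M := by
      rw [← Module.length_ne_top_iff, hl]
      exact ENat.natCast_ne_top _
    have hnt : Nontrivial M := by
      rw [← Module.length_pos_iff (R := R), hl]
      exact_mod_cast Nat.succ_pos l
    obtain ⟨x, hx0, hx, hlen1⟩ := exists_socle hfin
    have hlq : Module.length R (M ⧸ Submodule.span R {x}) = l :=
      length_quotient_of_length_one _ hl hlen1
    obtain ⟨vbar, hvbar⟩ := ih (M ⧸ Submodule.span R {x}) hlq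
    let Th : DetOfLen R (M ⧸ Submodule.span R {x}) l →ₗ[ResidueField R] DetOfLen R M (l + 1) :=
      (castDet (Nat.add_comm 1 l)).comp
        (Theta (Submodule.span R {x}).mkQ (Submodule.mkQ_surjective _) (socleAdm x hx)
          (socleAdm_span x hx) l)
    refine ⟨Th vbar, fun w => ?_⟩
    have htop : Submodule.span (ResidueField R) {Th vbar} = ⊤ := by
      refine eq_top_of_cls_mem _ fun e => ?_
      by_cases hgen : Submodule.span R (Set.range e.1) = ⊤
      · have hxe : x ∈ Submodule.span R (Set.range e.1) := by rw [hgen]; trivial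
        obtain ⟨i, u, hu, -⟩ := exists_index e x hx0 hxe
        obtain ⟨hadm, hcls⟩ := cls_replace e x hx i u hu
        rw [hcls]
        refine Submodule.smul_mem _ _ (Submodule.smul_mem _ _ ?_)
        -- the tuple `cons x w` comes from `Theta`
        let eL : Adm R M (1 + l) := castAdm (Nat.add_comm l 1) ⟨_, hadm⟩
        have heL : eL.1 = Fin.append (socleAdm x hx).1 (e.1 ∘ Fin.succAbove i) := by
          rw [Fin.append_left_eq_cons]
          rfl
        have hbar : IsAdmissible R (M ⧸ Submodule.span R {x})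
            ((Submodule.span R {x}).mkQ ∘ (e.1 ∘ Fin.succAbove i)) := by
          refine isAdmissible_of_append _ (socleAdm x hx).1 (socleAdm_span x hx) _ ?_
          rw [← heL]
          exact eL.2
        have h1 : Theta (Submodule.span R {x}).mkQ (Submodule.mkQ_surjective _) (socleAdm x hx)
            (socleAdm_span x hx) l (cls ⟨_, hbar⟩) = cls eL := by
          refine Theta_cls' _ _ _ _ _ _ eL ?_ ?_
          · intro t
            rw [heL, Fin.append_left]
          · intro j
            rw [heL, Fin.append_right]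
            rfl
        have h2 : cls (⟨_, hadm⟩ : Adm R M (l + 1)) = Th (cls ⟨_, hbar⟩) := by
          change _ = castDet _ (Theta _ _ _ _ l (cls ⟨_, hbar⟩))
          rw [h1, castDet_cls, castAdm_castAdm]
        rw [h2]
        obtain ⟨c, hc⟩ := hvbar (cls ⟨_, hbar⟩)
        rw [hc, map_smul]
        exact Submodule.smul_mem _ _ (Submodule.mem_span_singleton_self _)
      · obtain ⟨a, ha⟩ := exists_mem_spanBefore_of_span_ne_top hl e.1 hgen
        rw [cls_eq_zero e a ha]
        exact Submodule.zero_mem _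
    have hw : w ∈ Submodule.span (ResidueField R) {Th vbar} := by rw [htop]; trivial
    obtain ⟨c, hc⟩ := Submodule.mem_span_singleton.1 hw
    exact ⟨c, hc.symm⟩

theorem rank_detOfLen_le_one (l : ℕ) (hl : Module.length R M = l) :
    Module.rank (ResidueField R) (DetOfLen R M l) ≤ 1 := by
  obtain ⟨v, hv⟩ := exists_generator l M hl
  rw [rank_le_one_iff]
  exact ⟨v, fun w => by obtain ⟨c, hc⟩ := hv w; exact ⟨c, hc.symm⟩⟩

end Groth.Agent.H76.CD
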