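import Mathlib
import Groth.Prelude.Def_CycDet
import Groth.Agent.H76.CycDetA
import Groth.Agent.H76.CycDetB
import Groth.Agent.H76.CycDetC

/-!
# CycDet: pivots and the map `psi` (definitions) (helper76)

For `x ∈ M` killed by the maximal ideal and `g : M → M'` with `g x = 0`, we define
`psiFun : Adm R M (n+1) → DetOfLen R M' n`, `e ↦ (-1)^i ū⁻¹ [g e omit i]` where `i` is the pivot index
of `x` in `e`.
-/

set_option autoImplicit false
set_option linter.unusedSectionVars false
universe u v w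

namespace Groth.Agent.H76.CD
open CycDet IsLocalRing

variable {R : Type u} [CommRing R] [IsLocalRing R]
variable {M : Type v} [AddCommGroup M] [Module R M] {M' : Type w} [AddCommGroup M'] [Module R M']

theorem succAbove_val {n : ℕ} (i : Fin (n + 1)) (j : Fin n) :
    (i.succAbove j : ℕ) = if (j : ℕ) < i then (j : ℕ) else j + 1 := by
  simp only [Fin.succAbove, Fin.lt_def, Fin.val_castSucc]
  split_ifs <;> simp

theorem exists_succAbove_of_ne {n : ℕ} (i a : Fin (n + 1)) (h : a ≠ i) :
    ∃ a' : Fin n, i.succAbove a' = a := Fin.exists_succAbove_eq h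

theorem spanBefore_omit {n : ℕ} (v : Fin (n + 1) → M) (i : Fin (n + 1))
    (hv : v i ∈ spanBefore R M v i) (j : ℕ) :
    spanBefore R M (v ∘ i.succAbove) j = spanBefore R M v (if j < i then j else j + 1) := by
  refine le_antisymm ?_ ?_
  · refine spanBefore_le_of_forall _ _ _ fun t ht => ?_
    refine mem_spanBefore_of_lt v ?_
    rw [succAbove_val]
    split_ifs <;> omega
  · refine spanBefore_le_of_forall _ _ _ fun s hs => ?_
    by_cases hsi : s = i
    · subst hsi
      have hj : ¬ j < (s : ℕ) := by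
        intro hj
        rw [if_pos hj] at hs
        omega
      refine spanBefore_le_of_forall _ _ _ (fun t ht => ?_) hv
      have htn : (t : ℕ) < n := by have := s.2; omega
      have h1 : v t = (v ∘ s.succAbove) ⟨t, htn⟩ := by
        rw [Function.comp_apply]
        congr 1
        apply Fin.ext
        rw [succAbove_val]
        simp [ht]
      rw [h1]
      exact mem_spanBefore_of_lt _ (by simp; omega)
    · obtain ⟨s', rfl⟩ := exists_succAbove_of_ne i s hsi
      refine mem_spanBefore_of_lt (v ∘ i.succAbove) ?_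
      rw [succAbove_val] at hs
      split_ifs at hs <;> omega

theorem spanBefore_omit' {n : ℕ} (v : Fin (n + 1) → M) (i : Fin (n + 1))
    (hv : v i ∈ spanBefore R M v i) (j : Fin n) :
    spanBefore R M (v ∘ i.succAbove) j = spanBefore R M v (i.succAbove j : ℕ) := by
  rw [spanBefore_omit v i hv, succAbove_val]

theorem isAdmissible_omit {n : ℕ} (v : Fin (n + 1) → M) (hadm : IsAdmissible R M v)
    (i : Fin (n + 1)) (hv : v i ∈ spanBefore R M v i) : IsAdmissible R M (v ∘ i.succAbove) := by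
  intro j r hr
  rw [spanBefore_omit' v i hv]
  exact hadm _ r hr

theorem isAdmissible_map (g : M →ₗ[R] M') {l : ℕ} (e : Fin l → M) (he : IsAdmissible R M e) :
    IsAdmissible R M' (g ∘ e) := by
  intro i r hr
  rw [← map_spanBefore, Function.comp_apply, ← map_smul]
  exact Submodule.mem_map_of_mem (he i r hr)

/-- `(i, u)` is a pivot for `x` in the tuple `e`: `x ≡ u e_i` modulo earlier entries, and `x` is not
in the span of the earlier entries. -/
def IsPivot (x : M) {n : ℕ} (e : Fin n → M) (i : Fin n) (u : Rˣ) : Prop :=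
  x - (u : R) • e i ∈ spanBefore R M e i ∧ x ∉ spanBefore R M e i

theorem IsPivot.mem_succ {x : M} {n : ℕ} {e : Fin n → M} {i : Fin n} {u : Rˣ}
    (h : IsPivot x e i u) : x ∈ spanBefore R M e ((i : ℕ) + 1) := by
  have h1 : x = (x - (u : R) • e i) + (u : R) • e i := by abel
  rw [h1]
  exact Submodule.add_mem _ (spanBefore_mono e (Nat.le_succ _) h.1)
    (Submodule.smul_mem _ _ (mem_spanBefore_of_lt e (Nat.lt_succ_self _)))

theorem IsPivot.index_unique {x : M} {n : ℕ} {e : Fin n → M} {i i' : Fin n} {u u' : Rˣ}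
    (h : IsPivot x e i u) (h' : IsPivot x e i' u') : i = i' := by
  rcases lt_trichotomy (i : ℕ) i' with hlt | heq | hgt
  · exact absurd (spanBefore_mono e (by omega) h.mem_succ) h'.2
  · exact Fin.ext heq
  · exact absurd (spanBefore_mono e (by omega) h'.mem_succ) h.2

theorem IsPivot.residue_unique {x : M} {n : ℕ} {e : Fin n → M} {i : Fin n} {u u' : Rˣ}
    (h : IsPivot x e i u) (h' : IsPivot x e i u') : residue R (u : R) = residue R (u' : R) := by
  rw [← sub_eq_zero, ← map_sub, residue_eq_zero_iff]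
  by_contra hcon
  rw [notMem_maximalIdeal] at hcon
  have h1 : ((u : R) - u') • e i ∈ spanBefore R M e i := by
    have : ((u : R) - u') • e i = (x - (u' : R) • e i) - (x - (u : R) • e i) := by
      rw [sub_smul]; abel
    rw [this]
    exact Submodule.sub_mem _ h'.1 h.1
  have h2 : e i ∈ spanBefore R M e i := by
    obtain ⟨d, hd⟩ := hcon
    rw [← hd] at h1
    have : e i = (↑d⁻¹ : R) • ((d : R) • e i) := by
      rw [smul_smul, Units.inv_mul, one_smul]
    rw [this]
    exact Submodule.smul_mem _ _ h1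
  refine h.2 ?_
  have h3 : x = (x - (u : R) • e i) + (u : R) • e i := by abel
  rw [h3]
  exact Submodule.add_mem _ h.1 (Submodule.smul_mem _ _ h2)

theorem exists_pivot_iff {n : ℕ} (e : Adm R M (n + 1)) (x : M) :
    (∃ (i : Fin (n + 1)) (u : Rˣ), IsPivot x e.1 i u) ↔
      x ∈ Submodule.span R (Set.range e.1) ∧ x ≠ 0 := by
  constructor
  · rintro ⟨i, u, h⟩
    refine ⟨spanBefore_le_range e.1 _ h.mem_succ, ?_⟩
    rintro rfl
    exact h.2 (Submodule.zero_mem _)
  · rintro ⟨h1, h2⟩
    obtain ⟨i, u, h3, h4⟩ := exists_index e x h2 h1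
    exact ⟨i, u, h3, h4⟩

/-- The image of the pivot entry lies in the span of the earlier images. -/
theorem IsPivot.map_mem {x : M} {n : ℕ} {e : Fin n → M} {i : Fin n} {u : Rˣ}
    (h : IsPivot x e i u) (g : M →ₗ[R] M') (hgx : g x = 0) :
    (g ∘ e) i ∈ spanBefore R M' (g ∘ e) i := by
  have h1 : (g ∘ e) i = -((↑u⁻¹ : R) • g (x - (u : R) • e i)) := by
    rw [map_sub, hgx, map_smul, zero_sub, smul_neg, smul_smul, Units.inv_mul, one_smul, neg_neg,
      Function.comp_apply]
  rw [h1, ← map_spanBefore]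
  exact Submodule.neg_mem _ (Submodule.smul_mem _ _ (Submodule.mem_map_of_mem h.1))

theorem IsPivot.isAdmissible_omit {x : M} {n : ℕ} {e : Fin (n + 1) → M} {i : Fin (n + 1)} {u : Rˣ}
    (h : IsPivot x e i u) (he : IsAdmissible R M e) (g : M →ₗ[R] M') (hgx : g x = 0) :
    IsAdmissible R M' (g ∘ e ∘ i.succAbove) :=
  Groth.Agent.H76.CD.isAdmissible_omit (g ∘ e) (isAdmissible_map g e he) i (h.map_mem g hgx)

/-- Membership in the spans of the omitted image tuple. -/
theorem IsPivot.mem_omit {x : M} {n : ℕ} {e : Fin (n + 1) → M} {i : Fin (n + 1)} {u : Rˣ}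
    (h : IsPivot x e i u) (g : M →ₗ[R] M') (hgx : g x = 0) (a' : Fin n) {y : M}
    (hy : y ∈ spanBefore R M e (i.succAbove a' : ℕ)) :
    g y ∈ spanBefore R M' (g ∘ e ∘ i.succAbove) a' := by
  have := spanBefore_omit' (g ∘ e) i (h.map_mem g hgx) a'
  rw [show g ∘ e ∘ i.succAbove = (g ∘ e) ∘ i.succAbove from rfl, this, ← map_spanBefore]
  exact Submodule.mem_map_of_mem hy

/-- The value of `psi` on `e` computed with the pivot `(i, u)`. -/
noncomputable def psiVal (g : M →ₗ[R] M') (x : M) (hgx : g x = 0) {n : ℕ} (e : Adm R M (n + 1))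
    (i : Fin (n + 1)) (u : Rˣ) (h : IsPivot x e.1 i u) : DetOfLen R M' n :=
  ((-1 : ResidueField R) ^ (i : ℕ) * (residue R (u : R))⁻¹) •
    cls (⟨g ∘ e.1 ∘ i.succAbove, h.isAdmissible_omit e.2 g hgx⟩ : Adm R M' n)

theorem psiVal_congr (g : M →ₗ[R] M') (x : M) (hgx : g x = 0) {n : ℕ} (e : Adm R M (n + 1))
    (i i' : Fin (n + 1)) (u u' : Rˣ) (h : IsPivot x e.1 i u) (h' : IsPivot x e.1 i' u') :
    psiVal g x hgx e i u h = psiVal g x hgx e i' u' h' := by
  have hi := h.index_unique h'
  subst hi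
  have hu := h.residue_unique h'
  unfold psiVal
  rw [hu]

open Classical in
/-- The function `e ↦ (-1)^i ū⁻¹ [g e omit i]` (zero if there is no pivot). -/
noncomputable def psiFun (g : M →ₗ[R] M') (x : M) (hgx : g x = 0) (n : ℕ) (e : Adm R M (n + 1)) :
    DetOfLen R M' n :=
  if h : ∃ (i : Fin (n + 1)) (u : Rˣ), IsPivot x e.1 i u then
    psiVal g x hgx e h.choose h.choose_spec.choose h.choose_spec.choose_spec
  else 0

theorem psiFun_eq (g : M →ₗ[R] M') (x : M) (hgx : g x = 0) {n : ℕ} (e : Adm R M (n + 1))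
    (i : Fin (n + 1)) (u : Rˣ) (h : IsPivot x e.1 i u) :
    psiFun g x hgx n e = psiVal g x hgx e i u h := by
  have hex : ∃ (i : Fin (n + 1)) (u : Rˣ), IsPivot x e.1 i u := ⟨i, u, h⟩
  rw [psiFun, dif_pos hex]
  exact psiVal_congr g x hgx e _ _ _ _ _ h

theorem psiFun_eq_zero (g : M →ₗ[R] M') (x : M) (hgx : g x = 0) {n : ℕ} (e : Adm R M (n + 1))
    (h : ¬ ∃ (i : Fin (n + 1)) (u : Rˣ), IsPivot x e.1 i u) :
    psiFun g x hgx n e = 0 := by
  rw [psiFun, dif_neg h]

end Groth.Agent.H76.CD
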