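import Mathlib
import Groth.Prelude.Def_CycDet
import Groth.Agent.H76.CycDetA
import Groth.Agent.H76.CycDetB
import Groth.Agent.H76.CycDetC
import Groth.Agent.H76.CycDetD

/-!
# CycDet: `psiFun` kills the admissible relations (helper76)
-/

set_option autoImplicit false
set_option linter.unusedSectionVars false
set_option linter.unusedVariables false
universe u v w

namespace Groth.Agent.H76.CD
open CycDet IsLocalRing

variable {R : Type u} [CommRing R] [IsLocalRing R]
variable {M : Type v} [AddCommGroup M] [Module R M] {M' : Type w} [AddCommGroup M'] [Module R M']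

/-- The omitted image tuple as an admissible tuple. -/
noncomputable def omitAdm (g : M →ₗ[R] M') (x : M) (hgx : g x = 0) {n : ℕ} (e : Adm R M (n + 1))
    (i : Fin (n + 1)) (u : Rˣ) (h : IsPivot x e.1 i u) : Adm R M' n :=
  ⟨g ∘ e.1 ∘ i.succAbove, h.isAdmissible_omit e.2 g hgx⟩

theorem psiVal_def (g : M →ₗ[R] M') (x : M) (hgx : g x = 0) {n : ℕ} (e : Adm R M (n + 1))
    (i : Fin (n + 1)) (u : Rˣ) (h : IsPivot x e.1 i u) :
    psiVal g x hgx e i u h = ((-1 : ResidueField R) ^ (i : ℕ) * (residue R (u : R))⁻¹) •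
      cls (omitAdm g x hgx e i u h) := rfl

theorem omitAdm_val (g : M →ₗ[R] M') (x : M) (hgx : g x = 0) {n : ℕ} (e : Adm R M (n + 1))
    (i : Fin (n + 1)) (u : Rˣ) (h : IsPivot x e.1 i u) (j : Fin n) :
    (omitAdm g x hgx e i u h).1 j = g (e.1 (i.succAbove j)) := rfl

theorem cls_congr' {l : ℕ} {e₁ e₂ : Adm R M l} (h : e₁.1 = e₂.1) : cls e₁ = cls e₂ :=
  congrArg cls (Subtype.ext h)

theorem residue_unit_ne_zero (u : Rˣ) : residue R (u : R) ≠ 0 :=
  ((u.isUnit).map (residue R)).ne_zero

theorem solve_unit (r : Rˣ) (p q : M') (h : q + (r : R) • p = 0) : p = -((↑r⁻¹ : R) • q) := by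
  have h1 : (r : R) • p = -q := by
    rw [eq_neg_iff_add_eq_zero, add_comm]; exact h
  have h2 : p = (↑r⁻¹ : R) • ((r : R) • p) := by
    rw [smul_smul, Units.inv_mul, one_smul]
  rw [h2, h1, smul_neg]

theorem psiFun_rel_a (g : M →ₗ[R] M') (x : M) (hgx : g x = 0) {n : ℕ} (e : Adm R M (n + 1))
    (a : Fin (n + 1)) (ha : e.1 a ∈ spanBefore R M e.1 a) : psiFun g x hgx n e = 0 := by
  by_cases hex : ∃ (i : Fin (n + 1)) (u : Rˣ), IsPivot x e.1 i u
  · obtain ⟨i, u, hp⟩ := hex
    rw [psiFun_eq g x hgx e i u hp, psiVal_def]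
    have hia : a ≠ i := by
      rintro rfl
      refine hp.2 ?_
      have h3 : x = (x - (u : R) • e.1 a) + (u : R) • e.1 a := by abel
      rw [h3]
      exact Submodule.add_mem _ hp.1 (Submodule.smul_mem _ _ ha)
    obtain ⟨a', ha'⟩ := exists_succAbove_of_ne i a hia
    rw [cls_eq_zero _ a' ?_, smul_zero]
    rw [omitAdm_val, ha']
    refine hp.mem_omit g hgx a' ?_
    rw [ha']
    exact ha
  · exact psiFun_eq_zero g x hgx e hex

theorem psiFun_rel_b (g : M →ₗ[R] M') (x : M) (hgx : g x = 0) {n : ℕ} (e e' : Adm R M (n + 1))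
    (a : Fin (n + 1)) (c : Rˣ) (h1 : ∀ j, j ≠ a → e.1 j = e'.1 j)
    (h2 : e.1 a - (c : R) • e'.1 a ∈ spanBefore R M e.1 a) :
    psiFun g x hgx n e = residue R (c : R) • psiFun g x hgx n e' := by
  have hsub : ∀ j : Fin (n + 1), ∃ d : Rˣ,
      e.1 j - (d : R) • e'.1 j ∈ spanBefore R M e.1 j := by
    intro j
    by_cases hj : j = a
    · subst hj; exact ⟨c, h2⟩
    · exact ⟨1, by rw [h1 j hj]; simp⟩
  have hsp : ∀ j : ℕ, spanBefore R M e'.1 j = spanBefore R M e.1 j :=
    spanBefore_eq_of_sub_mem hsub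
  by_cases hex : ∃ (i : Fin (n + 1)) (u : Rˣ), IsPivot x e.1 i u
  · obtain ⟨i, u, hp⟩ := hex
    by_cases hia : i = a
    · subst hia
      have hp' : IsPivot x e'.1 i (u * c) := by
        refine ⟨?_, by rw [hsp]; exact hp.2⟩
        rw [hsp]
        have : x - ((u * c : Rˣ) : R) • e'.1 i =
            (x - (u : R) • e.1 i) + (u : R) • (e.1 i - (c : R) • e'.1 i) := by
          rw [Units.val_mul, smul_sub, smul_smul]; abel
        rw [this]
        exact Submodule.add_mem _ hp.1 (Submodule.smul_mem _ _ h2)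
      rw [psiFun_eq g x hgx e i u hp, psiFun_eq g x hgx e' i (u * c) hp', psiVal_def, psiVal_def]
      have htup : (omitAdm g x hgx e i u hp).1 = (omitAdm g x hgx e' i (u * c) hp').1 := by
        funext j
        rw [omitAdm_val, omitAdm_val, h1 _ (Fin.succAbove_ne i j)]
      rw [cls_congr' htup, smul_smul]
      congr 1
      rw [Units.val_mul, map_mul]
      have hc0 := residue_unit_ne_zero c
      have hu0 := residue_unit_ne_zero u
      field_simp
    · have hp' : IsPivot x e'.1 i u := by
        refine ⟨?_, by rw [hsp]; exact hp.2⟩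
        rw [hsp, ← h1 i hia]; exact hp.1
      obtain ⟨a', ha'⟩ := exists_succAbove_of_ne i a (Ne.symm hia)
      rw [psiFun_eq g x hgx e i u hp, psiFun_eq g x hgx e' i u hp', psiVal_def, psiVal_def]
      rw [cls_eq_smul (omitAdm g x hgx e i u hp) (omitAdm g x hgx e' i u hp') a' c ?_ ?_]
      · rw [smul_smul, smul_smul, mul_comm]
      · intro j hj
        rw [omitAdm_val, omitAdm_val, h1]
        intro h
        rw [← ha'] at h
        exact hj (Fin.succAbove_right_injective h)
      · rw [omitAdm_val, omitAdm_val, ha', ← map_smul, ← map_sub]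
        refine hp.mem_omit g hgx a' ?_
        rw [ha']
        exact h2
  · have hex' : ¬ ∃ (i : Fin (n + 1)) (u : Rˣ), IsPivot x e'.1 i u := by
      rw [exists_pivot_iff] at hex ⊢
      rwa [← spanBefore_of_le e'.1 le_rfl, hsp, spanBefore_of_le e.1 le_rfl]
    rw [psiFun_eq_zero g x hgx e hex, psiFun_eq_zero g x hgx e' hex', smul_zero]

section relc

variable (g : M →ₗ[R] M') (x : M) (hgx : g x = 0)
variable {n : ℕ} (e e' : Adm R M (n + 1)) (a b : Fin (n + 1)) (hab : (b : ℕ) + 1 = (a : ℕ))
  (h : ∀ r ∈ maximalIdeal R, r • e.1 a ∈ spanBefore R M e.1 b)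
  (he' : e'.1 = e.1 ∘ Equiv.swap a b)

include hab he'

theorem c_e'a : e'.1 a = e.1 b := by rw [he']; simp

theorem c_e'b : e'.1 b = e.1 a := by rw [he']; simp

theorem c_e'other (j : Fin (n + 1)) (hja : j ≠ a) (hjb : j ≠ b) : e'.1 j = e.1 j := by
  rw [he', Function.comp_apply, Equiv.swap_apply_of_ne_of_ne hja hjb]

theorem c_sp (j : ℕ) (hj : j ≠ (a : ℕ)) : spanBefore R M e'.1 j = spanBefore R M e.1 j := by
  rw [he']
  exact spanBefore_comp_swap e.1 a b j (by omega)

theorem c_spa : spanBefore R M e.1 a = spanBefore R M e.1 b ⊔ Submodule.span R {e.1 b} := by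
  rw [← hab, spanBefore_succ]

theorem c_spa' : spanBefore R M e'.1 a = spanBefore R M e.1 b ⊔ Submodule.span R {e.1 a} := by
  rw [← hab, spanBefore_succ, c_sp e e' a b hab he' b (by omega), c_e'b e e' a b hab he']

theorem c_ne : a ≠ b := by
  intro h
  rw [h] at hab
  omega

theorem c_swap_succAbove_a (j : Fin n) : Equiv.swap a b (a.succAbove j) = b.succAbove j := by
  rw [← swap_succAbove a b hab j, Equiv.swap_apply_self]

theorem c_b_lt : (b : ℕ) < n := by
  have := a.2
  omega

theorem c_succAbove_b : b.succAbove ⟨b, c_b_lt e e' a b hab he'⟩ = a := by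
  apply Fin.ext
  rw [succAbove_val]
  simp [hab]

theorem c_succAbove_a : a.succAbove ⟨b, c_b_lt e e' a b hab he'⟩ = b := by
  apply Fin.ext
  rw [succAbove_val]
  have : (b : ℕ) < a := by omega
  simp [this]

include h

theorem psiFun_rel_c_caseA (i : Fin (n + 1)) (u : Rˣ) (hp : IsPivot x e.1 i u) (hia : i ≠ a)
    (hib : i ≠ b) : psiFun g x hgx n e + psiFun g x hgx n e' = 0 := by
  have hia' : (i : ℕ) ≠ a := fun hh => hia (Fin.ext hh)
  have hib' : (i : ℕ) ≠ b := fun hh => hib (Fin.ext hh)
  have hp' : IsPivot x e'.1 i u := by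
    refine ⟨?_, ?_⟩
    · rw [c_sp e e' a b hab he' i hia', c_e'other e e' a b hab he' i hia hib]
      exact hp.1
    · rw [c_sp e e' a b hab he' i hia']
      exact hp.2
  obtain ⟨a', ha'⟩ := exists_succAbove_of_ne i a (Ne.symm hia)
  obtain ⟨b', hb'⟩ := exists_succAbove_of_ne i b (Ne.symm hib)
  have hab' : (b' : ℕ) + 1 = (a' : ℕ) := by
    have h1 := congrArg Fin.val ha'
    have h2 := congrArg Fin.val hb'
    rw [succAbove_val] at h1 h2
    split_ifs at h1 h2 <;> omega
  rw [psiFun_eq g x hgx e i u hp, psiFun_eq g x hgx e' i u hp', psiVal_def, psiVal_def]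
  have htup : (omitAdm g x hgx e' i u hp').1 =
      (omitAdm g x hgx e i u hp).1 ∘ Equiv.swap a' b' := by
    funext j
    rw [Function.comp_apply, omitAdm_val, omitAdm_val, he', Function.comp_apply, ← ha', ← hb',
      (Fin.succAbove_right_injective (p := i)).swap_apply]
  have hcond : ∀ r ∈ maximalIdeal R, r • (omitAdm g x hgx e i u hp).1 a' ∈
      spanBefore R M' (omitAdm g x hgx e i u hp).1 b' := by
    intro r hr
    rw [omitAdm_val, ha', ← map_smul]
    refine hp.mem_omit g hgx b' ?_
    rw [hb']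
    exact h r hr
  rw [cls_swap (omitAdm g x hgx e i u hp) (omitAdm g x hgx e' i u hp') a' b' hab' hcond htup,
    smul_neg, neg_add_cancel]

theorem psiFun_rel_c_caseB (u : Rˣ) (hp : IsPivot x e.1 b u) :
    psiFun g x hgx n e + psiFun g x hgx n e' = 0 := by
  have hspb : spanBefore R M e'.1 b = spanBefore R M e.1 b :=
    c_sp e e' a b hab he' b (by omega)
  by_cases hxa : x ∈ spanBefore R M e'.1 a
  · -- case β : both classes vanish
    rw [c_spa' e e' a b hab he'] at hxa
    obtain ⟨z, hz, t, ht, hzt⟩ := Submodule.mem_sup.1 hxa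
    obtain ⟨r, rfl⟩ := Submodule.mem_span_singleton.1 ht
    have hr : IsUnit r := by
      rw [← notMem_maximalIdeal]
      intro hr
      refine hp.2 ?_
      rw [← hzt]
      exact Submodule.add_mem _ hz (h r hr)
    obtain ⟨rr, rfl⟩ := hr
    have hp' : IsPivot x e'.1 b rr := by
      refine ⟨?_, by rw [hspb]; exact hp.2⟩
      rw [hspb, c_e'b e e' a b hab he', ← hzt, add_sub_cancel_right]
      exact hz
    rw [psiFun_eq g x hgx e b u hp, psiFun_eq g x hgx e' b rr hp', psiVal_def, psiVal_def]
    have h1 : cls (omitAdm g x hgx e b u hp) = 0 := by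
      refine cls_eq_zero _ ⟨b, c_b_lt e e' a b hab he'⟩ ?_
      rw [omitAdm_val, c_succAbove_b e e' a b hab he']
      have hgz : g z + (rr : R) • g (e.1 a) = 0 := by
        rw [← map_smul, ← map_add, hzt, hgx]
      rw [solve_unit rr _ _ hgz]
      refine Submodule.neg_mem _ (Submodule.smul_mem _ _ ?_)
      refine hp.mem_omit g hgx _ ?_
      rw [c_succAbove_b e e' a b hab he']
      exact spanBefore_mono e.1 (by omega) hz
    have h2 : cls (omitAdm g x hgx e' b rr hp') = 0 := by
      refine cls_eq_zero _ ⟨b, c_b_lt e e' a b hab he'⟩ ?_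
      rw [omitAdm_val, c_succAbove_b e e' a b hab he', c_e'a e e' a b hab he']
      have hgy : g (x - (u : R) • e.1 b) + (u : R) • g (e.1 b) = 0 := by
        rw [← map_smul, ← map_add, sub_add_cancel, hgx]
      rw [solve_unit u _ _ hgy]
      refine Submodule.neg_mem _ (Submodule.smul_mem _ _ ?_)
      refine hp'.mem_omit g hgx _ ?_
      rw [c_succAbove_b e e' a b hab he']
      refine spanBefore_mono e'.1 (show (b : ℕ) ≤ a by omega) ?_
      rw [hspb]
      exact hp.1
    rw [h1, h2, smul_zero, smul_zero, add_zero]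
  · -- case α : pivot of e' is (a, u), same omitted tuple
    have hp' : IsPivot x e'.1 a u := by
      refine ⟨?_, hxa⟩
      rw [c_e'a e e' a b hab he']
      refine spanBefore_mono e'.1 (show (b : ℕ) ≤ a by omega) ?_
      rw [hspb]
      exact hp.1
    rw [psiFun_eq g x hgx e b u hp, psiFun_eq g x hgx e' a u hp', psiVal_def, psiVal_def]
    have htup : (omitAdm g x hgx e' a u hp').1 = (omitAdm g x hgx e b u hp).1 := by
      funext j
      rw [omitAdm_val, omitAdm_val, he', Function.comp_apply,
        c_swap_succAbove_a e e' a b hab he']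
    rw [cls_congr' htup, ← add_smul, ← hab, pow_succ]
    have : ((-1 : ResidueField R) ^ (b : ℕ) * (residue R (u : R))⁻¹ +
        (-1 : ResidueField R) ^ (b : ℕ) * -1 * (residue R (u : R))⁻¹) = 0 := by ring
    rw [this, zero_smul]

theorem psiFun_rel_c_caseC (u : Rˣ) (hp : IsPivot x e.1 a u) :
    psiFun g x hgx n e + psiFun g x hgx n e' = 0 := by
  have hspb : spanBefore R M e'.1 b = spanBefore R M e.1 b :=
    c_sp e e' a b hab he' b (by omega)
  have hba : spanBefore R M e.1 b ≤ spanBefore R M e.1 a := spanBefore_mono e.1 (by omega)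
  by_cases hxa : x ∈ spanBefore R M e'.1 a
  · -- case β' : pivot of e' is (b, r), same omitted tuple
    have hxa' := hxa
    rw [c_spa' e e' a b hab he'] at hxa
    obtain ⟨z, hz, t, ht, hzt⟩ := Submodule.mem_sup.1 hxa
    obtain ⟨r, rfl⟩ := Submodule.mem_span_singleton.1 ht
    have hr : IsUnit r := by
      rw [← notMem_maximalIdeal]
      intro hr
      refine hp.2 (hba ?_)
      rw [← hzt]
      exact Submodule.add_mem _ hz (h r hr)
    obtain ⟨rr, rfl⟩ := hr
    have hp1 : IsPivot x e.1 a rr := by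
      refine ⟨?_, hp.2⟩
      rw [← hzt, add_sub_cancel_right]
      exact hba hz
    have hp' : IsPivot x e'.1 b rr := by
      refine ⟨?_, ?_⟩
      · rw [hspb, c_e'b e e' a b hab he', ← hzt, add_sub_cancel_right]
        exact hz
      · rw [hspb]
        exact fun hh => hp.2 (hba hh)
    rw [psiFun_eq g x hgx e a rr hp1, psiFun_eq g x hgx e' b rr hp', psiVal_def, psiVal_def]
    have htup : (omitAdm g x hgx e' b rr hp').1 = (omitAdm g x hgx e a rr hp1).1 := by
      funext j
      rw [omitAdm_val, omitAdm_val, he', Function.comp_apply, swap_succAbove a b hab]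
    rw [cls_congr' htup, ← add_smul, ← hab, pow_succ]
    have : ((-1 : ResidueField R) ^ (b : ℕ) * -1 * (residue R (rr : R))⁻¹ +
        (-1 : ResidueField R) ^ (b : ℕ) * (residue R (rr : R))⁻¹) = 0 := by ring
    rw [this, zero_smul]
  · -- case α' : pivot of e' is (a, r) with x = u e_a + r e_b + z
    have hy := hp.1
    rw [c_spa e e' a b hab he'] at hy
    obtain ⟨z, hz, t, ht, hzt⟩ := Submodule.mem_sup.1 hy
    obtain ⟨r, rfl⟩ := Submodule.mem_span_singleton.1 ht
    have hxeq : x = z + r • e.1 b + (u : R) • e.1 a := by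
      rw [hzt]; abel
    have hr : IsUnit r := by
      rw [← notMem_maximalIdeal]
      intro hr
      refine hxa ?_
      rw [c_spa' e e' a b hab he', hxeq]
      refine Submodule.add_mem _ (Submodule.mem_sup_left ?_)
        (Submodule.mem_sup_right (Submodule.smul_mem _ _ (Submodule.mem_span_singleton_self _)))
      exact Submodule.add_mem _ hz (e.2 b r hr)
    obtain ⟨rr, rfl⟩ := hr
    have hp' : IsPivot x e'.1 a rr := by
      refine ⟨?_, hxa⟩
      rw [c_spa' e e' a b hab he', c_e'a e e' a b hab he', hxeq]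
      have : z + (rr : R) • e.1 b + (u : R) • e.1 a - (rr : R) • e.1 b = z + (u : R) • e.1 a := by
        abel
      rw [this]
      exact Submodule.add_mem _ (Submodule.mem_sup_left hz)
        (Submodule.mem_sup_right (Submodule.smul_mem _ _ (Submodule.mem_span_singleton_self _)))
    rw [psiFun_eq g x hgx e a u hp, psiFun_eq g x hgx e' a rr hp', psiVal_def, psiVal_def]
    -- the two omitted tuples differ only at position b
    have hcls : cls (omitAdm g x hgx e' a rr hp') =
        residue R ((-(u⁻¹ * rr) : Rˣ) : R) • cls (omitAdm g x hgx e a u hp) := by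
      refine cls_eq_smul _ _ ⟨b, c_b_lt e e' a b hab he'⟩ (-(u⁻¹ * rr)) ?_ ?_
      · intro j hj
        rw [omitAdm_val, omitAdm_val]
        congr 1
        refine c_e'other e e' a b hab he' _ (Fin.succAbove_ne a j) ?_
        intro hh
        rw [← c_succAbove_a e e' a b hab he'] at hh
        exact hj (Fin.succAbove_right_injective hh)
      · rw [omitAdm_val, omitAdm_val, c_succAbove_a e e' a b hab he', c_e'b e e' a b hab he']
        have hgz : g z + (u : R) • (g (e.1 a) - ((-(u⁻¹ * rr) : Rˣ) : R) • g (e.1 b)) = 0 := by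
          have h0 : g x = 0 := hgx
          rw [hxeq, map_add, map_add, map_smul, map_smul] at h0
          rw [Units.val_neg, Units.val_mul, smul_sub, smul_smul, mul_neg, ← mul_assoc,
            Units.mul_inv, one_mul, neg_smul, sub_neg_eq_add]
          rw [← h0]
          abel
        rw [solve_unit u _ _ hgz]
        refine Submodule.neg_mem _ (Submodule.smul_mem _ _ ?_)
        refine hp'.mem_omit g hgx _ ?_
        rw [c_succAbove_a e e' a b hab he', hspb]
        exact hz
    rw [hcls, smul_smul, ← add_smul]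
    have hu0 := residue_unit_ne_zero u
    have hr0 := residue_unit_ne_zero rr
    have : ((-1 : ResidueField R) ^ (a : ℕ) * (residue R (u : R))⁻¹ +
        (-1 : ResidueField R) ^ (a : ℕ) * (residue R (rr : R))⁻¹ *
          residue R ((-(u⁻¹ * rr) : Rˣ) : R)) = 0 := by
      rw [Units.val_neg, Units.val_mul, map_neg, map_mul]
      have hinv : residue R ((u⁻¹ : Rˣ) : R) = (residue R (u : R))⁻¹ :=
        eq_inv_of_mul_eq_one_left (by rw [← map_mul, Units.inv_mul, map_one])
      rw [hinv]
      field_simp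
      ring
    rw [this, zero_smul]

theorem psiFun_rel_c : psiFun g x hgx n e + psiFun g x hgx n e' = 0 := by
  by_cases hex : ∃ (i : Fin (n + 1)) (u : Rˣ), IsPivot x e.1 i u
  · obtain ⟨i, u, hp⟩ := hex
    by_cases hia : i = a
    · subst hia
      exact psiFun_rel_c_caseC g x hgx e e' i b hab h he' u hp
    · by_cases hib : i = b
      · subst hib
        exact psiFun_rel_c_caseB g x hgx e e' a i hab h he' u hp
      · exact psiFun_rel_c_caseA g x hgx e e' a b hab h he' i u hp hia hib
  · have hex' : ¬ ∃ (i : Fin (n + 1)) (u : Rˣ), IsPivot x e'.1 i u := by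
      rw [exists_pivot_iff] at hex ⊢
      have : Set.range e'.1 = Set.range e.1 := by
        rw [he']
        exact (Equiv.swap a b).surjective.range_comp _
      rwa [this]
    rw [psiFun_eq_zero g x hgx e hex, psiFun_eq_zero g x hgx e' hex', add_zero]

end relc

end Groth.Agent.H76.CD
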