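import Mathlib
import Groth.Prelude.Def_CycDet
import Groth.Agent.H76.CycDetA
import Groth.Agent.H76.CycDetB
import Groth.Agent.H76.CycDetC
import Groth.Agent.H76.CycDetD
import Groth.Agent.H76.CycDetE

/-!
# CycDet: the map `psi` and nonvanishing of generating symbols (helper76)
-/

set_option autoImplicit false
set_option linter.unusedSectionVars false
universe u v w

namespace Groth.Agent.H76.CD
open CycDet IsLocalRing

variable {R : Type u} [CommRing R] [IsLocalRing R]
variable {M : Type v} [AddCommGroup M] [Module R M] {M' : Type w} [AddCommGroup M'] [Module R M']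

/-- `psi` on the free module. -/
noncomputable def psiFree (g : M →ₗ[R] M') (x : M) (hgx : g x = 0) (n : ℕ) :
    Free R M (n + 1) →ₗ[ResidueField R] DetOfLen R M' n :=
  Finsupp.linearCombination (ResidueField R) (psiFun g x hgx n)

theorem psiFree_sym (g : M →ₗ[R] M') (x : M) (hgx : g x = 0) (n : ℕ) (e : Adm R M (n + 1)) :
    psiFree g x hgx n (sym R M e) = psiFun g x hgx n e := by
  simp [psiFree, sym]

theorem psiFree_relSet (g : M →ₗ[R] M') (x : M) (hgx : g x = 0) (n : ℕ) :
    Submodule.span (ResidueField R) (relSet R M (n + 1)) ≤ LinearMap.ker (psiFree g x hgx n) := by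
  rw [Submodule.span_le]
  rintro y ((⟨e, a, ha, rfl⟩ | ⟨e, e', a, c, h1, h2, rfl⟩) | ⟨e, e', a, b, hab, h, he', rfl⟩)
  · rw [SetLike.mem_coe, LinearMap.mem_ker, psiFree_sym]
    exact psiFun_rel_a g x hgx e a ha
  · rw [SetLike.mem_coe, LinearMap.mem_ker, map_sub, map_smul, psiFree_sym, psiFree_sym,
      psiFun_rel_b g x hgx e e' a c h1 h2, sub_self]
  · rw [SetLike.mem_coe, LinearMap.mem_ker, map_add, psiFree_sym, psiFree_sym]
    exact psiFun_rel_c g x hgx e e' a b hab h he'

/-- The map `psi : DetOfLen R M (n+1) → DetOfLen R M' n`. -/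
noncomputable def psi (g : M →ₗ[R] M') (x : M) (hgx : g x = 0) (n : ℕ) :
    DetOfLen R M (n + 1) →ₗ[ResidueField R] DetOfLen R M' n :=
  Submodule.liftQ _ (psiFree g x hgx n) (psiFree_relSet g x hgx n)

theorem psi_cls (g : M →ₗ[R] M') (x : M) (hgx : g x = 0) (n : ℕ) (e : Adm R M (n + 1)) :
    psi g x hgx n (cls e) = psiFun g x hgx n e := by
  rw [psi, cls, Submodule.liftQ_apply, psiFree_sym]

theorem relSet_zero : relSet R M 0 = ∅ := by
  ext y
  simp only [relSet, Set.mem_union, Set.mem_ofPred_eq, Set.mem_empty_iff_false, iff_false]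
  rintro ((⟨e, a, -⟩ | ⟨e, e', a, -⟩) | ⟨e, e', a, -⟩) <;> exact a.elim0

theorem cls_ne_zero_of_zero (e : Adm R M 0) : cls e ≠ 0 := by
  intro h
  rw [cls, Submodule.Quotient.mk_eq_zero, relSet_zero, Submodule.span_empty,
    Submodule.mem_bot] at h
  have := Finsupp.single_eq_zero.1 h
  exact one_ne_zero this

theorem span_range_omit {x : M} {n : ℕ} {e : Fin (n + 1) → M} {i : Fin (n + 1)} {u : Rˣ}
    (h : IsPivot x e i u) (g : M →ₗ[R] M') (hgx : g x = 0) (hg : Function.Surjective g)
    (he : Submodule.span R (Set.range e) = ⊤) :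
    Submodule.span R (Set.range (g ∘ e ∘ i.succAbove)) = ⊤ := by
  rw [← spanBefore_of_le (g ∘ e ∘ i.succAbove) le_rfl,
    show g ∘ e ∘ i.succAbove = (g ∘ e) ∘ i.succAbove from rfl,
    spanBefore_omit (g ∘ e) i (h.map_mem g hgx) n]
  have hi : ¬ n < (i : ℕ) := by have := i.2; omega
  rw [if_neg hi, spanBefore_of_le (g ∘ e) le_rfl, Set.range_comp, ← Submodule.map_span, he,
    Submodule.map_top, LinearMap.range_eq_top.2 hg]

theorem cls_ne_zero : ∀ (l : ℕ) (M : Type v) [AddCommGroup M] [Module R M],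
    Module.length R M = l → ∀ e : Adm R M l, Submodule.span R (Set.range e.1) = ⊤ →
    cls e ≠ 0 := by
  intro l
  induction l with
  | zero =>
    intro M _ _ _ e _
    exact cls_ne_zero_of_zero e
  | succ l ih =>
    intro M _ _ hl e he
    have hfin : IsFiniteLength R M := by
      rw [← Module.length_ne_top_iff, hl]
      exact ENat.natCast_ne_top _
    have hnt : Nontrivial M := by
      rw [← Module.length_pos_iff (R := R), hl]
      exact_mod_cast Nat.succ_pos l
    obtain ⟨x, hx0, hx, hlen1⟩ := exists_socle hfin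
    have hlq : Module.length R (M ⧸ Submodule.span R {x}) = l :=
      length_quotient_of_length_one _ hl hlen1
    have hgx : (Submodule.span R {x}).mkQ x = 0 := by
      rw [Submodule.mkQ_apply, Submodule.Quotient.mk_eq_zero]
      exact Submodule.mem_span_singleton_self x
    obtain ⟨i, u, hp⟩ := (exists_pivot_iff e x).2 ⟨by rw [he]; trivial, hx0⟩
    intro hzero
    have h1 : psi (Submodule.span R {x}).mkQ x hgx l (cls e) = 0 := by rw [hzero, map_zero]
    rw [psi_cls, psiFun_eq _ x hgx e i u hp, psiVal_def, smul_eq_zero] at h1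
    rcases h1 with h1 | h1
    · have hu0 := residue_unit_ne_zero u
      have hpow : (-1 : ResidueField R) ^ (i : ℕ) ≠ 0 := pow_ne_zero _ (neg_ne_zero.2 one_ne_zero)
      exact mul_ne_zero hpow (inv_ne_zero hu0) h1
    · refine ih (M ⧸ Submodule.span R {x}) hlq _ ?_ h1
      exact span_range_omit hp _ hgx (Submodule.mkQ_surjective _) he

end Groth.Agent.H76.CD
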