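import Mathlib
import Groth.Prelude.Def_CycDet
import Groth.Agent.H76.CycDetA
import Groth.Agent.H76.CycDetB
import Groth.Agent.H76.CycDetC
import Groth.Agent.H76.CycDetD
import Groth.Agent.H76.CycDetE
import Groth.Agent.H76.CycDetF

/-!
# CycDet: the isomorphism `γ : det K ⊗ det M ≅ det L` for a short exact sequence (helper76)
-/

set_option autoImplicit false
set_option linter.unusedSectionVars false
set_option linter.unusedVariables false
universe u v w w'

namespace Groth.Agent.H76.CD
open CycDet IsLocalRing TensorProduct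

variable {R : Type u} [CommRing R] [IsLocalRing R]
variable {K : Type v} [AddCommGroup K] [Module R K] {L : Type w} [AddCommGroup L] [Module R L]
variable {M : Type w'} [AddCommGroup M] [Module R M]

theorem append_comp_swap_left {α : Type*} {k m : ℕ} (e : Fin k → α) (w : Fin m → α) (a b : Fin k) :
    Fin.append (e ∘ Equiv.swap a b) w =
      Fin.append e w ∘ Equiv.swap (Fin.castAdd m a) (Fin.castAdd m b) := by
  funext t
  refine Fin.addCases (fun i => ?_) (fun i => ?_) t
  · rw [Fin.append_left, Function.comp_apply, Function.comp_apply,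
      (Fin.castAdd_injective k m).swap_apply, Fin.append_left]
  · rw [Fin.append_right, Function.comp_apply, Equiv.swap_apply_of_ne_of_ne, Fin.append_right]
    · intro h
      have := congrArg Fin.val h
      simp at this
      omega
    · intro h
      have := congrArg Fin.val h
      simp at this
      omega

theorem span_range_comp (f : K →ₗ[R] L) (g : L →ₗ[R] M) (hfg : LinearMap.range f = LinearMap.ker g)
    {k : ℕ} (e : Fin k → K) (he : Submodule.span R (Set.range e) = ⊤) :
    Submodule.span R (Set.range (f ∘ e)) = LinearMap.ker g := by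
  rw [Set.range_comp, ← Submodule.map_span, he, Submodule.map_top, hfg]

theorem mem_spanBefore_append_left (f : K →ₗ[R] L) {k m : ℕ} (e : Fin k → K) (w : Fin m → L)
    {i : ℕ} (hi : i ≤ k) {y : K} (hy : y ∈ spanBefore R K e i) :
    f y ∈ spanBefore R L (Fin.append (f ∘ e) w) i := by
  rw [spanBefore_append_left _ _ hi, ← map_spanBefore]
  exact Submodule.mem_map_of_mem hy

theorem span_range_append_eq_top (g : L →ₗ[R] M) {k m : ℕ} (e : Fin k → L)
    (hspan : Submodule.span R (Set.range e) = LinearMap.ker g) (w : Fin m → L)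
    (hw : Submodule.span R (Set.range (g ∘ w)) = ⊤) :
    Submodule.span R (Set.range (Fin.append e w)) = ⊤ := by
  rw [eq_top_iff]
  intro y _
  rw [← spanBefore_of_le (Fin.append e w) le_rfl, mem_spanBefore_append_iff g e hspan,
    spanBefore_of_le (g ∘ w) le_rfl, hw]
  trivial

section xi

variable (f : K →ₗ[R] L) (g : L →ₗ[R] M) (hfg : LinearMap.range f = LinearMap.ker g)
variable {k m : ℕ} (w : Fin m → L) (hw : IsAdmissible R M (g ∘ w))

/-- The appended tuple `(f e, w)` for a generating admissible tuple `e` of `K`. -/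
noncomputable def appAdm (e : Adm R K k) (h : Submodule.span R (Set.range e.1) = ⊤) :
    Adm R L (k + m) :=
  ⟨Fin.append (f ∘ e.1) w, isAdmissible_append g (f ∘ e.1) (isAdmissible_map f e.1 e.2)
    (span_range_comp f g hfg e.1 h) w hw⟩

theorem appAdm_val (e : Adm R K k) (h : Submodule.span R (Set.range e.1) = ⊤) :
    (appAdm f g hfg w hw e h).1 = Fin.append (f ∘ e.1) w := rfl

open Classical in
/-- `e ↦ [f e, w]` for generating `e`, zero otherwise. -/
noncomputable def xiFun (e : Adm R K k) : DetOfLen R L (k + m) :=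
  if h : Submodule.span R (Set.range e.1) = ⊤ then cls (appAdm f g hfg w hw e h) else 0

theorem xiFun_pos (e : Adm R K k) (h : Submodule.span R (Set.range e.1) = ⊤) :
    xiFun f g hfg w hw e = cls (appAdm f g hfg w hw e h) := by
  rw [xiFun, dif_pos h]

theorem xiFun_neg (e : Adm R K k) (h : ¬ Submodule.span R (Set.range e.1) = ⊤) :
    xiFun f g hfg w hw e = 0 := by
  rw [xiFun, dif_neg h]

theorem xiFun_rel_a (e : Adm R K k) (a : Fin k) (ha : e.1 a ∈ spanBefore R K e.1 a) :
    xiFun f g hfg w hw e = 0 := by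
  by_cases hgen : Submodule.span R (Set.range e.1) = ⊤
  · rw [xiFun_pos f g hfg w hw e hgen]
    refine cls_eq_zero _ (Fin.castAdd m a) ?_
    rw [appAdm_val, Fin.append_left, Fin.val_castAdd]
    exact mem_spanBefore_append_left f e.1 w a.2.le ha
  · exact xiFun_neg f g hfg w hw e hgen

theorem xiFun_rel_b (e e' : Adm R K k) (a : Fin k) (c : Rˣ) (h1 : ∀ j, j ≠ a → e.1 j = e'.1 j)
    (h2 : e.1 a - (c : R) • e'.1 a ∈ spanBefore R K e.1 a) :
    xiFun f g hfg w hw e = residue R (c : R) • xiFun f g hfg w hw e' := by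
  have hsub : ∀ j : Fin k, ∃ d : Rˣ, e.1 j - (d : R) • e'.1 j ∈ spanBefore R K e.1 j := by
    intro j
    by_cases hj : j = a
    · subst hj; exact ⟨c, h2⟩
    · exact ⟨1, by rw [h1 j hj]; simp⟩
  have hsp : Submodule.span R (Set.range e'.1) = Submodule.span R (Set.range e.1) := by
    rw [← spanBefore_of_le e'.1 le_rfl, ← spanBefore_of_le e.1 le_rfl]
    exact spanBefore_eq_of_sub_mem hsub k
  by_cases hgen : Submodule.span R (Set.range e.1) = ⊤
  · have hgen' : Submodule.span R (Set.range e'.1) = ⊤ := by rw [hsp]; exact hgen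
    rw [xiFun_pos f g hfg w hw e hgen, xiFun_pos f g hfg w hw e' hgen']
    refine cls_eq_smul _ _ (Fin.castAdd m a) c ?_ ?_
    · intro t
      refine Fin.addCases (fun i => ?_) (fun i => ?_) t
      · intro hi
        rw [appAdm_val, appAdm_val, Fin.append_left, Fin.append_left, Function.comp_apply,
          Function.comp_apply, h1 i]
        rintro rfl
        exact hi rfl
      · intro _
        rw [appAdm_val, appAdm_val, Fin.append_right, Fin.append_right]
    · rw [appAdm_val, appAdm_val, Fin.append_left, Fin.append_left, Fin.val_castAdd,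
        Function.comp_apply, Function.comp_apply, ← map_smul, ← map_sub]
      exact mem_spanBefore_append_left f e.1 w a.2.le h2
  · have hgen' : ¬ Submodule.span R (Set.range e'.1) = ⊤ := by rw [hsp]; exact hgen
    rw [xiFun_neg f g hfg w hw e hgen, xiFun_neg f g hfg w hw e' hgen', smul_zero]

theorem xiFun_rel_c (e e' : Adm R K k) (a b : Fin k) (hab : (b : ℕ) + 1 = (a : ℕ))
    (h : ∀ r ∈ maximalIdeal R, r • e.1 a ∈ spanBefore R K e.1 b)
    (he' : e'.1 = e.1 ∘ Equiv.swap a b) :
    xiFun f g hfg w hw e + xiFun f g hfg w hw e' = 0 := by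
  have hsp : Submodule.span R (Set.range e'.1) = Submodule.span R (Set.range e.1) := by
    rw [he', (Equiv.swap a b).surjective.range_comp]
  by_cases hgen : Submodule.span R (Set.range e.1) = ⊤
  · have hgen' : Submodule.span R (Set.range e'.1) = ⊤ := by rw [hsp]; exact hgen
    rw [xiFun_pos f g hfg w hw e hgen, xiFun_pos f g hfg w hw e' hgen']
    rw [cls_swap (appAdm f g hfg w hw e hgen) (appAdm f g hfg w hw e' hgen') (Fin.castAdd m a)
      (Fin.castAdd m b) ?_ ?_ ?_, neg_add_cancel]
    · rw [Fin.val_castAdd, Fin.val_castAdd]; exact hab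
    · intro r hr
      rw [appAdm_val, Fin.append_left, Fin.val_castAdd, Function.comp_apply, ← map_smul]
      exact mem_spanBefore_append_left f e.1 w b.2.le (h r hr)
    · rw [appAdm_val, appAdm_val, ← append_comp_swap_left, he']
      rfl
  · have hgen' : ¬ Submodule.span R (Set.range e'.1) = ⊤ := by rw [hsp]; exact hgen
    rw [xiFun_neg f g hfg w hw e hgen, xiFun_neg f g hfg w hw e' hgen', add_zero]

/-- `Xi` on the free module. -/
noncomputable def xiFree : Free R K k →ₗ[ResidueField R] DetOfLen R L (k + m) :=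
  Finsupp.linearCombination (ResidueField R) (xiFun f g hfg w hw)

theorem xiFree_sym (e : Adm R K k) :
    xiFree f g hfg w hw (sym R K e) = xiFun f g hfg w hw e := by
  simp [xiFree, sym]

theorem xiFree_relSet :
    Submodule.span (ResidueField R) (relSet R K k) ≤ LinearMap.ker (xiFree f g hfg w hw) := by
  rw [Submodule.span_le]
  rintro y ((⟨e, a, ha, rfl⟩ | ⟨e, e', a, c, h1, h2, rfl⟩) | ⟨e, e', a, b, hab, h, he', rfl⟩)
  · rw [SetLike.mem_coe, LinearMap.mem_ker, xiFree_sym]
    exact xiFun_rel_a f g hfg w hw e a ha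
  · rw [SetLike.mem_coe, LinearMap.mem_ker, map_sub, map_smul, xiFree_sym, xiFree_sym,
      xiFun_rel_b f g hfg w hw e e' a c h1 h2, sub_self]
  · rw [SetLike.mem_coe, LinearMap.mem_ker, map_add, xiFree_sym, xiFree_sym]
    exact xiFun_rel_c f g hfg w hw e e' a b hab h he'

/-- `Xi_w : det K → det L`, `[e] ↦ [f e, w]` for generating `e`. -/
noncomputable def Xi : DetOfLen R K k →ₗ[ResidueField R] DetOfLen R L (k + m) :=
  Submodule.liftQ _ (xiFree f g hfg w hw) (xiFree_relSet f g hfg w hw)

theorem Xi_cls (e : Adm R K k) (h : Submodule.span R (Set.range e.1) = ⊤) :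
    Xi f g hfg w hw (cls e) = cls (appAdm f g hfg w hw e h) := by
  rw [Xi, cls, Submodule.liftQ_apply, xiFree_sym, xiFun_pos f g hfg w hw e h]

end xi

/-- Existence of generating admissible tuples of the right length. -/
theorem exists_generating : ∀ (l : ℕ) (M : Type w') [AddCommGroup M] [Module R M],
    Module.length R M = l → ∃ e : Adm R M l, Submodule.span R (Set.range e.1) = ⊤ := by
  intro l
  induction l with
  | zero =>
    intro M _ _ hl
    have hsub : Subsingleton M := Module.length_eq_zero_iff.1 (by simpa using hl)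
    refine ⟨⟨fun i => i.elim0, fun i => i.elim0⟩, ?_⟩
    exact Subsingleton.elim _ _
  | succ l ih =>
    intro M _ _ hl
    have hfin : IsFiniteLength R M := by
      rw [← Module.length_ne_top_iff, hl]
      exact ENat.natCast_ne_top _
    have hnt : Nontrivial M := by
      rw [← Module.length_pos_iff (R := R), hl]
      exact_mod_cast Nat.succ_pos l
    obtain ⟨x, hx0, hx, hlen1⟩ := exists_socle hfin
    have hlq : Module.length R (M ⧸ Submodule.span R {x}) = l :=
      length_quotient_of_length_one _ hl hlen1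
    obtain ⟨fbar, hfbar⟩ := ih (M ⧸ Submodule.span R {x}) hlq
    refine ⟨castAdm (Nat.add_comm 1 l) (concat (Submodule.span R {x}).mkQ
      (Submodule.mkQ_surjective _) (socleAdm x hx) (socleAdm_span x hx) l fbar), ?_⟩
    have h1 : Submodule.span R (Set.range (concat (Submodule.span R {x}).mkQ
        (Submodule.mkQ_surjective _) (socleAdm x hx) (socleAdm_span x hx) l fbar).1) = ⊤ := by
      rw [concat_val]
      refine span_range_append_eq_top _ _ (socleAdm_span x hx) _ ?_
      rw [comp_surjInv]
      exact hfbar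
    rw [← h1]
    congr 1
    ext y
    constructor
    · rintro ⟨i, rfl⟩
      exact ⟨Fin.cast _ i, rfl⟩
    · rintro ⟨i, rfl⟩
      exact ⟨Fin.cast (Nat.add_comm 1 l) i, rfl⟩

theorem bijective_of_generators {V W : Type*} [AddCommGroup V] [AddCommGroup W]
    {κ : Type*} [Field κ] [Module κ V] [Module κ W] (φ : V →ₗ[κ] W) (v : V)
    (hv : ∀ a : V, ∃ c : κ, a = c • v) (w : W) (hw : ∀ b : W, ∃ c : κ, b = c • w)
    (hφ : φ v ≠ 0) : Function.Bijective φ := by
  constructor
  · rw [← LinearMap.ker_eq_bot, LinearMap.ker_eq_bot']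
    intro a ha
    obtain ⟨c, rfl⟩ := hv a
    rw [map_smul, smul_eq_zero] at ha
    rcases ha with ha | ha
    · rw [ha, zero_smul]
    · exact absurd ha hφ
  · intro b
    obtain ⟨c₀, hc₀⟩ := hw (φ v)
    have hc₀0 : c₀ ≠ 0 := by
      rintro rfl
      rw [zero_smul] at hc₀
      exact hφ hc₀
    obtain ⟨c, rfl⟩ := hw b
    refine ⟨(c * c₀⁻¹) • v, ?_⟩
    rw [map_smul, hc₀, smul_smul, mul_assoc, inv_mul_cancel₀ hc₀0, mul_one]

theorem tensor_generator {V W : Type*} [AddCommGroup V] [AddCommGroup W]
    {κ : Type*} [Field κ] [Module κ V] [Module κ W] (v : V)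
    (hv : ∀ a : V, ∃ c : κ, a = c • v) (w : W) (hw : ∀ b : W, ∃ c : κ, b = c • w)
    (t : V ⊗[κ] W) : ∃ c : κ, t = c • (v ⊗ₜ[κ] w) := by
  induction t using TensorProduct.induction_on with
  | zero => exact ⟨0, by rw [zero_smul]⟩
  | tmul a b =>
    obtain ⟨c, rfl⟩ := hv a
    obtain ⟨d, rfl⟩ := hw b
    exact ⟨c * d, by rw [TensorProduct.smul_tmul_smul]⟩
  | add s t hs ht =>
    obtain ⟨c, rfl⟩ := hs
    obtain ⟨d, rfl⟩ := ht
    exact ⟨c + d, by rw [add_smul]⟩

/-- Any generating class generates `DetOfLen`. -/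
theorem generator_of_generating {l : ℕ} (hl : Module.length R M = l) (e : Adm R M l)
    (he : Submodule.span R (Set.range e.1) = ⊤) (a : DetOfLen R M l) :
    ∃ c : ResidueField R, a = c • cls e := by
  obtain ⟨v, hv⟩ := exists_generator l M hl
  obtain ⟨c₀, hc₀⟩ := hv (cls e)
  have hne := cls_ne_zero l M hl e he
  have hc₀0 : c₀ ≠ 0 := by
    rintro rfl
    rw [zero_smul] at hc₀
    exact hne hc₀
  obtain ⟨c, rfl⟩ := hv a
  exact ⟨c * c₀⁻¹, by rw [hc₀, smul_smul, mul_assoc, inv_mul_cancel₀ hc₀0, mul_one]⟩

/-- The coordinate isomorphism `κ ≃ DetOfLen` attached to a generating tuple. -/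
noncomputable def coordEquiv {l : ℕ} (hl : Module.length R M = l) (e : Adm R M l)
    (he : Submodule.span R (Set.range e.1) = ⊤) :
    ResidueField R ≃ₗ[ResidueField R] DetOfLen R M l :=
  LinearEquiv.ofBijective (LinearMap.toSpanSingleton (ResidueField R) (DetOfLen R M l) (cls e))
    ⟨by
      rw [← LinearMap.ker_eq_bot, LinearMap.ker_eq_bot']
      intro c hc
      rw [LinearMap.toSpanSingleton_apply, smul_eq_zero] at hc
      exact hc.resolve_right (cls_ne_zero l M hl e he),
     by
      intro a
      obtain ⟨c, hc⟩ := generator_of_generating hl e he a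
      exact ⟨c, by rw [LinearMap.toSpanSingleton_apply, hc]⟩⟩

theorem coordEquiv_symm_smul {l : ℕ} (hl : Module.length R M = l) (e : Adm R M l)
    (he : Submodule.span R (Set.range e.1) = ⊤) (a : DetOfLen R M l) :
    (coordEquiv hl e he).symm a • cls e = a := by
  have := (coordEquiv hl e he).apply_symm_apply a
  rwa [coordEquiv, LinearEquiv.ofBijective_apply, LinearMap.toSpanSingleton_apply] at this

section gamma

variable (f : K →ₗ[R] L) (g : L →ₗ[R] M) (hf : Function.Injective f)
  (hg : Function.Surjective g) (hfg : LinearMap.range f = LinearMap.ker g)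
variable {k m : ℕ} (hk : Module.length R K = k) (hm : Module.length R M = m)

/-- `f ∘ e` as an admissible tuple of `L`. -/
noncomputable def leftAdm (e : Adm R K k) : Adm R L k := ⟨f ∘ e.1, isAdmissible_map f e.1 e.2⟩

include hf hg hfg hk hm in
theorem exists_gamma0 :
    ∃ γ₀ : (DetOfLen R K k ⊗[ResidueField R] DetOfLen R M m) →ₗ[ResidueField R]
        DetOfLen R L (k + m), Function.Bijective γ₀ ∧
      ∀ (eK : Adm R K k) (eM : Adm R M m) (eL : Adm R L (k + m)),
        Submodule.span R (Set.range eK.1) = ⊤ →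
        (∀ i : Fin k, eL.1 (Fin.castAdd m i) = f (eK.1 i)) →
        (∀ j : Fin m, g (eL.1 (Fin.natAdd k j)) = eM.1 j) →
        γ₀ (cls eK ⊗ₜ cls eM) = cls eL := by
  obtain ⟨e0, he0⟩ := exists_generating k K hk
  obtain ⟨f0, hf0⟩ := exists_generating m M hm
  have hL : Module.length R L = ((k + m : ℕ) : ℕ∞) := by
    rw [Module.length_eq_add_of_exact f g hf hg (LinearMap.exact_iff.2 hfg.symm), hk, hm]
    push_cast
    rfl
  -- Theta for the fixed generating tuple
  have hspan0 : Submodule.span R (Set.range (leftAdm f e0).1) = LinearMap.ker g :=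
    span_range_comp f g hfg e0.1 he0
  let Th0 := Theta g hg (leftAdm f e0) hspan0 m
  let β : DetOfLen R K k →ₗ[ResidueField R] DetOfLen R M m →ₗ[ResidueField R]
      DetOfLen R L (k + m) :=
    LinearMap.smulRight (coordEquiv hk e0 he0).symm.toLinearMap Th0
  have hβ : ∀ a b, β a b = (coordEquiv hk e0 he0).symm a • Th0 b := fun a b => rfl
  -- the key formula
  have key : ∀ (eK : Adm R K k) (eM : Adm R M m) (eL : Adm R L (k + m)),
      Submodule.span R (Set.range eK.1) = ⊤ →
      (∀ i : Fin k, eL.1 (Fin.castAdd m i) = f (eK.1 i)) →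
      (∀ j : Fin m, g (eL.1 (Fin.natAdd k j)) = eM.1 j) →
      β (cls eK) (cls eM) = cls eL := by
    intro eK eM eL hgen h1 h2
    have hw : IsAdmissible R M (g ∘ fun j => Function.surjInv hg (eM.1 j)) := by
      rw [comp_surjInv]; exact eM.2
    have hspanK : Submodule.span R (Set.range (leftAdm f eK).1) = LinearMap.ker g :=
      span_range_comp f g hfg eK.1 hgen
    -- Theta_{f e0}(cls eM) = Xi_w (cls e0)
    have hA : Th0 (cls eM) = Xi f g hfg _ hw (cls e0) := by
      rw [Xi_cls f g hfg _ hw e0 he0]
      exact Theta_cls g hg (leftAdm f e0) hspan0 m eM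
    -- Xi_w (cls eK) = Theta_{f eK}(cls eM) = cls eL
    have hB : Xi f g hfg _ hw (cls eK) = cls eL := by
      rw [Xi_cls f g hfg _ hw eK hgen]
      have h3 : Theta g hg (leftAdm f eK) hspanK m (cls eM) = cls eL :=
        Theta_cls' g hg (leftAdm f eK) hspanK m eM eL h1 h2
      rw [← h3]
      exact (Theta_cls g hg (leftAdm f eK) hspanK m eM).symm
    rw [hβ, hA, ← map_smul, coordEquiv_symm_smul, hB]
  refine ⟨TensorProduct.lift β, ?_, ?_⟩
  · -- bijectivity
    let eL0 : Adm R L (k + m) := concat g hg (leftAdm f e0) hspan0 m f0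
    have hgenL : Submodule.span R (Set.range eL0.1) = ⊤ := by
      rw [show eL0 = concat g hg (leftAdm f e0) hspan0 m f0 from rfl, concat_val]
      refine span_range_append_eq_top g _ hspan0 _ ?_
      rw [comp_surjInv]
      exact hf0
    have hval : TensorProduct.lift β (cls e0 ⊗ₜ cls f0) = cls eL0 := by
      rw [TensorProduct.lift.tmul]
      refine key e0 f0 eL0 he0 ?_ ?_
      · intro i
        rw [concat_val, Fin.append_left]
        rfl
      · intro j
        rw [concat_val, Fin.append_right, Function.surjInv_eq hg]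
    refine bijective_of_generators _ (cls e0 ⊗ₜ cls f0)
      (tensor_generator _ (generator_of_generating hk e0 he0) _
        (generator_of_generating hm f0 hf0)) (cls eL0)
      (generator_of_generating hL eL0 hgenL) ?_
    rw [hval]
    exact cls_ne_zero _ L hL eL0 hgenL
  · intro eK eM eL hgen h1 h2
    rw [TensorProduct.lift.tmul]
    exact key eK eM eL hgen h1 h2

end gamma

/-- `castDet` as a linear equivalence. -/
noncomputable def castDetEquiv {l l' : ℕ} (h : l = l') :
    DetOfLen R M l ≃ₗ[ResidueField R] DetOfLen R M l' :=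
  { castDet h with
    invFun := castDet h.symm
    left_inv := fun w => castDet_castDet h h.symm w
    right_inv := fun w => castDet_castDet h.symm h w }

theorem castDetEquiv_apply {l l' : ℕ} (h : l = l') (w : DetOfLen R M l) :
    castDetEquiv h w = castDet h w := rfl

theorem span_eq_top_of_cls_ne_zero {l : ℕ} (hl : Module.length R M = l) (e : Adm R M l)
    (h : cls e ≠ 0) : Submodule.span R (Set.range e.1) = ⊤ := by
  by_contra hcon
  obtain ⟨a, ha⟩ := exists_mem_spanBefore_of_span_ne_top hl e.1 hcon
  exact h (cls_eq_zero e a ha)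

end Groth.Agent.H76.CD
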