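import Mathlib
import Groth.Prelude.Def_CycDet
import Groth.Agent.H76.CycDetA
import Groth.Agent.H76.CycDetB
import Groth.Agent.H76.CycDetC

/-!
# CycDet: the vector space case `det M ≅ ⋀^l M` (helper76)
-/

set_option autoImplicit false
set_option linter.unusedSectionVars false
universe u v

namespace Groth.Agent.H76.CD
open CycDet IsLocalRing

variable {R : Type u} [CommRing R] [IsLocalRing R] {M : Type v} [AddCommGroup M] [Module R M]
variable [Module (ResidueField R) M] [IsScalarTower R (ResidueField R) M]

theorem residue_smul (r : R) (y : M) : (residue R r) • y = r • y := by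
  rw [← IsLocalRing.ResidueField.algebraMap_eq, algebraMap_smul]

theorem isAdmissible_of_vectorSpace {l : ℕ} (e : Fin l → M) : IsAdmissible R M e := by
  intro i r hr
  rw [← residue_smul, (residue_eq_zero_iff r).2 hr, zero_smul]
  exact Submodule.zero_mem _

theorem span_le_span_residue (s : Set M) (y : M) (hy : y ∈ Submodule.span R s) :
    y ∈ Submodule.span (ResidueField R) s :=
  Submodule.span_le_restrictScalars R (ResidueField R) s hy

/-- An alternating map vanishes when one entry is in the span of the others. -/
theorem alt_update_eq_zero {N : Type*} [AddCommGroup N] [Module (ResidueField R) N] {l : ℕ}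
    (f : M [⋀^Fin l]→ₗ[ResidueField R] N) (v : Fin l → M) (a : Fin l) (y : M)
    (hy : y ∈ Submodule.span (ResidueField R) (v '' {j | j ≠ a})) :
    f (Function.update v a y) = 0 := by
  induction hy using Submodule.span_induction with
  | mem y hy =>
    obtain ⟨j, hj, rfl⟩ := hy
    refine f.map_eq_zero_of_eq _ (i := a) (j := j) ?_ (Ne.symm hj)
    rw [Function.update_self, Function.update_of_ne hj]
  | zero => exact f.map_update_zero v a
  | add x y _ _ hx hy => rw [f.map_update_add, hx, hy, add_zero]
  | smul c x _ hx => rw [f.map_update_smul, hx, smul_zero]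

theorem spanBefore_le_span_ne {l : ℕ} (v : Fin l → M) (a : Fin l) (y : M)
    (hy : y ∈ spanBefore R M v a) :
    y ∈ Submodule.span (ResidueField R) (v '' {j | j ≠ a}) := by
  refine span_le_span_residue _ y (Submodule.span_mono (Set.image_mono ?_) hy)
  intro j hj
  have : (j : ℕ) < a := hj
  exact fun h => by rw [h] at this; exact lt_irrefl _ this

variable (R M) in
/-- The map `Free → ⋀^l M`. -/
noncomputable def PhiFree (l : ℕ) : Free R M l →ₗ[ResidueField R] ⋀[ResidueField R]^l M :=
  Finsupp.linearCombination (ResidueField R)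
    (fun e : Adm R M l => exteriorPower.ιMulti (ResidueField R) l e.1)

theorem PhiFree_sym (l : ℕ) (e : Adm R M l) :
    PhiFree R M l (sym R M e) = exteriorPower.ιMulti (ResidueField R) l e.1 := by
  simp [PhiFree, sym]

theorem PhiFree_relSet (l : ℕ) :
    Submodule.span (ResidueField R) (relSet R M l) ≤ LinearMap.ker (PhiFree R M l) := by
  rw [Submodule.span_le]
  rintro x ((⟨e, a, ha, rfl⟩ | ⟨e, e', a, c, h1, h2, rfl⟩) | ⟨e, e', a, b, hab, h, he', rfl⟩)
  · rw [SetLike.mem_coe, LinearMap.mem_ker, PhiFree_sym]
    have := alt_update_eq_zero (exteriorPower.ιMulti (ResidueField R) l) e.1 a (e.1 a)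
      (spanBefore_le_span_ne e.1 a _ ha)
    rwa [Function.update_eq_self] at this
  · rw [SetLike.mem_coe, LinearMap.mem_ker, map_sub, map_smul, PhiFree_sym, PhiFree_sym]
    have hsp : spanBefore R M e.1 a = spanBefore R M e'.1 a := by
      refine spanBefore_congr fun j hj => h1 j fun h => ?_
      rw [h] at hj; exact lt_irrefl _ hj
    rw [hsp] at h2
    have h3 : e.1 = Function.update e'.1 a
        (residue R (c : R) • e'.1 a + (e.1 a - (c : R) • e'.1 a)) := by
      funext j
      by_cases hj : j = a
      · subst hj
        rw [Function.update_self, residue_smul]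
        abel
      · rw [Function.update_of_ne hj, h1 j hj]
    rw [h3, AlternatingMap.map_update_add, AlternatingMap.map_update_smul,
      Function.update_eq_self,
      alt_update_eq_zero _ e'.1 a _ (spanBefore_le_span_ne e'.1 a _ h2), add_zero, sub_self]
  · rw [SetLike.mem_coe, LinearMap.mem_ker, map_add, PhiFree_sym, PhiFree_sym, he']
    have hne : a ≠ b := by
      intro h
      rw [h] at hab
      omega
    rw [AlternatingMap.map_swap _ _ hne, add_neg_cancel]

variable (R M) in
/-- The map `DetOfLen → ⋀^l M`. -/
noncomputable def PhiDet (l : ℕ) : DetOfLen R M l →ₗ[ResidueField R] ⋀[ResidueField R]^l M :=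
  Submodule.liftQ _ (PhiFree R M l) (PhiFree_relSet l)

theorem PhiDet_cls (l : ℕ) (e : Adm R M l) :
    PhiDet R M l (cls e) = exteriorPower.ιMulti (ResidueField R) l e.1 := by
  rw [PhiDet, cls, Submodule.liftQ_apply, PhiFree_sym]

theorem PhiDet_surjective (l : ℕ) : Function.Surjective (PhiDet R M l) := by
  rw [← LinearMap.range_eq_top, eq_top_iff, ← exteriorPower.ιMulti_span, Submodule.span_le]
  rintro _ ⟨v, rfl⟩
  exact ⟨cls ⟨v, isAdmissible_of_vectorSpace v⟩, PhiDet_cls l _⟩

theorem length_eq_finrank [Module.Finite (ResidueField R) M] :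
    Module.length R M = Module.finrank (ResidueField R) M := by
  rw [Module.length_eq_of_surjective (S := R) (R := ResidueField R) (M := M)
    (by rw [IsLocalRing.ResidueField.algebraMap_eq]; exact residue_surjective),
    Module.length_eq_finrank]

theorem PhiDet_injective [Module.Finite (ResidueField R) M] (l : ℕ)
    (hl : Module.length R M = l) : Function.Injective (PhiDet R M l) := by
  have hfr : Module.finrank (ResidueField R) M = l := by
    have := length_eq_finrank (R := R) (M := M)
    rw [hl] at this
    exact_mod_cast this.symm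
  have h1 : Module.finrank (ResidueField R) (⋀[ResidueField R]^l M) = 1 := by
    rw [exteriorPower.finrank_eq, hfr, Nat.choose_self]
  have hnt : Nontrivial (⋀[ResidueField R]^l M) :=
    Module.nontrivial_of_finrank_pos (R := ResidueField R) (by rw [h1]; exact Nat.one_pos)
  obtain ⟨v, hv⟩ := exists_generator l M hl
  rw [← LinearMap.ker_eq_bot, LinearMap.ker_eq_bot']
  intro w hw
  obtain ⟨c, rfl⟩ := hv w
  by_cases hc : c = 0
  · rw [hc, zero_smul]
  · rw [map_smul, smul_eq_zero] at hw
    have hv0 : PhiDet R M l v = 0 := hw.resolve_left hc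
    exfalso
    obtain ⟨y, hy⟩ := exists_ne (0 : ⋀[ResidueField R]^l M)
    obtain ⟨w', rfl⟩ := PhiDet_surjective (R := R) (M := M) l y
    obtain ⟨c', rfl⟩ := hv w'
    rw [map_smul, hv0, smul_zero] at hy
    exact hy rfl

end Groth.Agent.H76.CD
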