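import Mathlib

set_option autoImplicit false
universe u v
open TensorProduct DirectSum

namespace Groth.Agent.H76

/-- Over a domain, if `a ∣ q` and `q ≠ 0` then `Hom(R/(a), R/(q)) ≃ R/(a)`. -/
theorem nonempty_hom_cyclic_equiv {R : Type u} [CommRing R] [IsDomain R] (a q : R) (hq : q ≠ 0)
    (haq : a ∣ q) :
    Nonempty (((R ⧸ Submodule.span R {a}) →ₗ[R] (R ⧸ Submodule.span R {q})) ≃ₗ[R]
      (R ⧸ Submodule.span R {a})) := by
  obtain ⟨c, rfl⟩ := haq
  have ha : a ≠ 0 := left_ne_zero_of_mul hq
  have hc : c ≠ 0 := right_ne_zero_of_mul hq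
  -- the basic map ψ : R/(a) → R/(ac), [x] ↦ [c x]
  let ψ : (R ⧸ Submodule.span R {a}) →ₗ[R] (R ⧸ Submodule.span R {a * c}) :=
    Submodule.liftQ _ (c • (Submodule.span R {a * c}).mkQ) (by
      rw [Submodule.span_le]
      intro x hx
      rw [Set.mem_singleton_iff.1 hx]
      change (c • (Submodule.span R {a * c}).mkQ) a = 0
      rw [LinearMap.smul_apply, ← map_smul, Submodule.mkQ_apply, Submodule.Quotient.mk_eq_zero,
        smul_eq_mul, mul_comm]
      exact Submodule.subset_span rfl)
  have hψ : ∀ x : R, ψ (Submodule.Quotient.mk x) = Submodule.Quotient.mk (c * x) := by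
    intro x
    change (c • (Submodule.span R {a * c}).mkQ) x = _
    rw [LinearMap.smul_apply, ← map_smul, Submodule.mkQ_apply, smul_eq_mul]
  let Θ : R →ₗ[R] ((R ⧸ Submodule.span R {a}) →ₗ[R] (R ⧸ Submodule.span R {a * c})) :=
    LinearMap.toSpanSingleton R _ ψ
  have hΘ : ∀ r, Θ r = r • ψ := fun r => rfl
  have hker : LinearMap.ker Θ = Submodule.span R {a} := by
    ext r
    rw [LinearMap.mem_ker, hΘ, Submodule.mem_span_singleton]
    constructor
    · intro h
      have h1 := LinearMap.congr_fun h (Submodule.Quotient.mk 1)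
      rw [LinearMap.smul_apply, hψ, LinearMap.zero_apply, ← Submodule.Quotient.mk_smul,
        Submodule.Quotient.mk_eq_zero, Submodule.mem_span_singleton] at h1
      obtain ⟨d, hd⟩ := h1
      refine ⟨d, ?_⟩
      apply mul_right_cancel₀ hc
      simp only [smul_eq_mul, mul_one] at hd ⊢
      linear_combination hd
    · rintro ⟨d, rfl⟩
      apply Submodule.linearMap_qext
      apply LinearMap.ext_ring
      simp only [LinearMap.comp_apply, Submodule.mkQ_apply, LinearMap.smul_apply, hψ,
        LinearMap.zero_apply]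
      rw [← Submodule.Quotient.mk_smul, Submodule.Quotient.mk_eq_zero,
        Submodule.mem_span_singleton]
      exact ⟨d, by simp only [smul_eq_mul]; ring⟩
  have hsurj : Function.Surjective Θ := by
    intro φ
    obtain ⟨t, ht⟩ := Submodule.Quotient.mk_surjective _ (φ (Submodule.Quotient.mk 1))
    have h1 : (Submodule.Quotient.mk (a * t) : R ⧸ Submodule.span R {a * c}) = 0 := by
      have h2 : φ (a • Submodule.Quotient.mk 1) = 0 := by
        rw [← Submodule.Quotient.mk_smul, smul_eq_mul, mul_one]
        have : (Submodule.Quotient.mk a : R ⧸ Submodule.span R {a}) = 0 := by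
          rw [Submodule.Quotient.mk_eq_zero]; exact Submodule.subset_span rfl
        rw [this, map_zero]
      rw [map_smul, ← ht, ← Submodule.Quotient.mk_smul, smul_eq_mul] at h2
      exact h2
    rw [Submodule.Quotient.mk_eq_zero, Submodule.mem_span_singleton] at h1
    obtain ⟨d, hd⟩ := h1
    have htd : t = c * d := by
      apply mul_left_cancel₀ ha
      simp only [smul_eq_mul] at hd
      linear_combination -hd
    refine ⟨d, ?_⟩
    rw [hΘ]
    apply Submodule.linearMap_qext
    apply LinearMap.ext_ring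
    simp only [LinearMap.comp_apply, Submodule.mkQ_apply, LinearMap.smul_apply, hψ]
    rw [← ht, htd, ← Submodule.Quotient.mk_smul, smul_eq_mul, mul_one]
    exact congrArg _ (mul_comm _ _)
  exact ⟨((Submodule.quotEquivOfEq _ _ hker.symm).trans
    (LinearMap.quotKerEquivOfSurjective Θ hsurj)).symm⟩

end Groth.Agent.H76
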