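import Mathlib

set_option autoImplicit false
universe u
open CategoryTheory CategoryTheory.Limits AlgebraicGeometry TopologicalSpace

namespace Groth.Agent.H76

/-- Restriction from an affine open to a basic open is essentially of finite type. -/
theorem essFT_res_basicOpen {X : Scheme.{u}} {U : X.Opens} (hU : IsAffineOpen U) (a : Γ(X, U))
    {V : X.Opens} (hV : V = X.basicOpen a) (i : V ⟶ U) :
    (X.presheaf.map i.op).hom.EssFiniteType := by
  have hloc := hU.isLocalization_of_eq_basicOpen a i hV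
  let := (X.presheaf.map i.op).hom.toAlgebra
  have := RingHom.EssFiniteType.holdsForLocalization (R := Γ(X, U)) Γ(X, V) (Submonoid.powers a)
  rwa [RingHom.algebraMap_toAlgebra] at this

/-- The pointwise form of "locally essentially of finite type over the affine open `U`". -/
def LocEssAt {X Y : Scheme.{u}} (f : X ⟶ Y) (U : Y.Opens) : Prop :=
  ∀ x : X, f x ∈ U → ∃ V : X.affineOpens, x ∈ (V : X.Opens) ∧
    ∃ e : (V : X.Opens) ≤ f ⁻¹ᵁ U, (f.appLE U (V : X.Opens) e).hom.EssFiniteType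

theorem locEssAt_iff_exists_cover {X Y : Scheme.{u}} (f : X ⟶ Y) (U : Y.Opens) :
    LocEssAt f U ↔
      ∃ T : Set X.affineOpens, (⋃ V ∈ T, ((V : X.Opens) : Set ↥X)) = ((f ⁻¹ᵁ U) : Set ↥X) ∧
        ∀ V ∈ T, ∃ e : (V : X.Opens) ≤ f ⁻¹ᵁ U, (f.appLE U (V : X.Opens) e).hom.EssFiniteType := by
  constructor
  · intro h
    refine ⟨{V | ∃ e : (V : X.Opens) ≤ f ⁻¹ᵁ U, (f.appLE U (V : X.Opens) e).hom.EssFiniteType}, ?_,
      fun V hV => hV⟩
    ext x
    simp only [Set.mem_iUnion, exists_prop, SetLike.mem_coe, Set.mem_ofPred_eq]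
    constructor
    · rintro ⟨V, ⟨e, -⟩, hx⟩
      exact e hx
    · intro hx
      obtain ⟨V, hxV, e, he⟩ := h x hx
      exact ⟨V, ⟨e, he⟩, hxV⟩
  · rintro ⟨T, hT, hT'⟩ x hx
    have : x ∈ ((f ⁻¹ᵁ U) : Set ↥X) := hx
    rw [← hT] at this
    simp only [Set.mem_iUnion, exists_prop, SetLike.mem_coe] at this
    obtain ⟨V, hV, hxV⟩ := this
    exact ⟨V, hxV, hT' V hV⟩

/-- Key step of the affine communication lemma: if the property holds over the affine open `U'`, then
near any point over `U ⊓ U'` it holds over the affine open `U`. -/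
theorem locEssAt_transfer {X Y : Scheme.{u}} (f : X ⟶ Y) {U U' : Y.Opens}
    (hU : IsAffineOpen U) (hU' : IsAffineOpen U') (h : LocEssAt f U')
    (x : X) (hxU : f x ∈ U) (hxU' : f x ∈ U') :
    ∃ V : X.affineOpens, x ∈ (V : X.Opens) ∧
      ∃ e : (V : X.Opens) ≤ f ⁻¹ᵁ U, (f.appLE U (V : X.Opens) e).hom.EssFiniteType := by
  obtain ⟨V, hxV, e, he⟩ := h x hxU'
  obtain ⟨a, b, hab, hxa⟩ := exists_basicOpen_le_affine_inter hU hU' (f x) ⟨hxU, hxU'⟩
  -- the basic open of V cut out by b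
  set b' : Γ(X, (V : X.Opens)) := f.appLE U' (V : X.Opens) e b with hb'
  have hV'eq : X.basicOpen b' = (V : X.Opens) ⊓ f ⁻¹ᵁ (Y.basicOpen b) :=
    Scheme.basicOpen_appLE f _ _ e b
  set V' : X.affineOpens := X.affineBasicOpen b' with hV'
  have hV'le : (V' : X.Opens) ≤ (V : X.Opens) := X.basicOpen_le b'
  have hxV' : x ∈ (V' : X.Opens) := by
    show x ∈ X.basicOpen b'
    rw [hV'eq]
    refine ⟨hxV, ?_⟩
    show f x ∈ Y.basicOpen b
    rw [← hab]; exact hxa
  have hDU : Y.basicOpen a ≤ U := Y.basicOpen_le a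
  have hDU' : Y.basicOpen a ≤ U' := by rw [hab]; exact Y.basicOpen_le b
  have eD : (V' : X.Opens) ≤ f ⁻¹ᵁ (Y.basicOpen a) := by
    intro z hz
    have : z ∈ X.basicOpen b' := hz
    rw [hV'eq] at this
    show f z ∈ Y.basicOpen a
    rw [hab]; exact this.2
  have eU : (V' : X.Opens) ≤ f ⁻¹ᵁ U := eD.trans (fun z hz => hDU hz)
  refine ⟨V', hxV', eU, ?_⟩
  -- Γ(U') → Γ(V) → Γ(V') is essentially of finite type
  have h1 : (f.appLE U' (V' : X.Opens) (hV'le.trans e)).hom.EssFiniteType := by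
    rw [← Scheme.Hom.appLE_map f e (homOfLE hV'le).op, CommRingCat.hom_comp]
    exact he.comp (essFT_res_basicOpen V.2 b' rfl (homOfLE hV'le))
  -- it factors as Γ(U') → Γ(D) → Γ(V')
  have h2 : (f.appLE (Y.basicOpen a) (V' : X.Opens) eD).hom.EssFiniteType := by
    have hfac : Y.presheaf.map (homOfLE hDU').op ≫ f.appLE (Y.basicOpen a) (V' : X.Opens) eD
        = f.appLE U' (V' : X.Opens) (hV'le.trans e) := Scheme.Hom.map_appLE f eD (homOfLE hDU').op
    rw [← hfac, CommRingCat.hom_comp] at h1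
    exact RingHom.EssFiniteType.of_comp _ h1
  -- Γ(U) → Γ(D) → Γ(V')
  have hfac' : Y.presheaf.map (homOfLE hDU).op ≫ f.appLE (Y.basicOpen a) (V' : X.Opens) eD
      = f.appLE U (V' : X.Opens) eU := Scheme.Hom.map_appLE f eD (homOfLE hDU).op
  rw [← hfac', CommRingCat.hom_comp]
  exact (essFT_res_basicOpen hU a rfl (homOfLE hDU)).comp h2

/-- Essential finiteness of type is stable under base change of affine schemes (second projection). -/
theorem essFT_pullback_snd_appTop {X Y S : Scheme.{u}} [IsAffine X] [IsAffine Y] [IsAffine S]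
    (f : X ⟶ S) (g : Y ⟶ S) (H : f.appTop.hom.EssFiniteType) :
    (pullback.snd f g).appTop.hom.EssFiniteType := by
  have h1 : (pullback.fst g f).appTop.hom.EssFiniteType :=
    RingHom.IsStableUnderBaseChange.pullback_fst_appTop _
      RingHom.EssFiniteType.isStableUnderBaseChange RingHom.EssFiniteType.respectsIso g f H
  have h2 : pullback.snd f g = (pullbackSymmetry f g).hom ≫ pullback.fst g f := by simp
  have : IsIso (Scheme.Hom.appTop (pullbackSymmetry f g).hom) :=
    (inferInstance : IsIso (Scheme.Γ.map (pullbackSymmetry f g).hom.op))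
  rw [h2, Scheme.Hom.comp_appTop, CommRingCat.hom_comp,
    RingHom.EssFiniteType.respectsIso.cancel_right_isIso]
  exact h1

/-- If `f` is locally essentially of finite type over every affine open of `Y`, then its base change is
locally essentially of finite type over every affine open of `Y'`. -/
theorem locEssAt_pullback_snd {X Y Y' : Scheme.{u}} (f : X ⟶ Y) (g : Y' ⟶ Y)
    (hf : ∀ W : Y.affineOpens, LocEssAt f (W : Y.Opens)) (U : Y'.affineOpens) :
    LocEssAt (pullback.snd f g) (U : Y'.Opens) := by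
  intro z hz
  -- an affine open of Y around the image point
  obtain ⟨W, hW, hyW, -⟩ := exists_isAffineOpen_mem_and_subset (X := Y)
    (x := g (pullback.snd f g z)) (U := ⊤) trivial
  have hfz : f (pullback.fst f g z) = g (pullback.snd f g z) := by
    rw [← Scheme.Hom.comp_apply, ← Scheme.Hom.comp_apply, pullback.condition]
  obtain ⟨V, hxV, eV, hV⟩ := hf ⟨W, hW⟩ (pullback.fst f g z) (by rw [hfz]; exact hyW)
  -- a basic open of U inside g⁻¹ W
  obtain ⟨a, ha₁, ha₂⟩ := U.2.exists_basicOpen_le (V := g ⁻¹ᵁ W ⊓ (U : Y'.Opens))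
    ⟨pullback.snd f g z, ⟨hyW, hz⟩⟩ hz
  set U₁ : Y'.Opens := Y'.basicOpen a with hU₁
  have hU₁aff : IsAffineOpen U₁ := U.2.basicOpen a
  have eU₁ : U₁ ≤ g ⁻¹ᵁ W := ha₁.trans inf_le_left
  have hU₁U : U₁ ≤ (U : Y'.Opens) := Y'.basicOpen_le a
  -- the affine open of the pullback
  set O : (pullback f g).Opens := pullback.fst f g ⁻¹ᵁ (V : X.Opens) ⊓ pullback.snd f g ⁻¹ᵁ U₁ with hO
  have hpb := Scheme.Hom.isPullback_resLE (IsPullback.of_hasPullback f g) (US := W) (UT := U₁)
    (UX := (V : X.Opens)) eU₁ eV (UY := O) rfl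
  have : IsAffine (W : Scheme) := hW
  have : IsAffine ((V : X.Opens) : Scheme) := V.2
  have : IsAffine (U₁ : Scheme) := hU₁aff
  have hOaff : IsAffineOpen O := by
    show IsAffine (O : Scheme)
    exact IsAffine.of_isIso hpb.isoPullback.hom
  have hzO : z ∈ O := ⟨hxV, ha₂⟩
  have eO₁ : O ≤ pullback.snd f g ⁻¹ᵁ U₁ := inf_le_right
  have eO : O ≤ pullback.snd f g ⁻¹ᵁ (U : Y'.Opens) := eO₁.trans (fun w hw => hU₁U hw)
  refine ⟨⟨O, hOaff⟩, hzO, eO, ?_⟩
  -- Γ(U₁) → Γ(O) is essentially of finite type by base change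
  have h1 : ((f.resLE W (V : X.Opens) eV).appTop).hom.EssFiniteType :=
    (RingHom.EssFiniteType.respectsIso.arrow_mk_iso_iff (arrowResLEAppIso f W _ eV)).mpr hV
  have h2 := essFT_pullback_snd_appTop (f.resLE W (V : X.Opens) eV) (g.resLE W U₁ eU₁) h1
  have h3 : ((pullback.snd f g).resLE U₁ O eO₁).appTop.hom.EssFiniteType := by
    have : (pullback.snd f g).resLE U₁ O eO₁
        = hpb.isoPullback.hom ≫ pullback.snd (f.resLE W (V : X.Opens) eV) (g.resLE W U₁ eU₁) := by
      rw [IsPullback.isoPullback_hom_snd]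
    have hiso : IsIso (Scheme.Hom.appTop hpb.isoPullback.hom) :=
      (inferInstance : IsIso (Scheme.Γ.map hpb.isoPullback.hom.op))
    rw [this, Scheme.Hom.comp_appTop, CommRingCat.hom_comp,
      RingHom.EssFiniteType.respectsIso.cancel_right_isIso]
    exact h2
  have h4 : ((pullback.snd f g).appLE U₁ O eO₁).hom.EssFiniteType :=
    (RingHom.EssFiniteType.respectsIso.arrow_mk_iso_iff
      (arrowResLEAppIso (pullback.snd f g) U₁ O eO₁)).mp h3
  have hfac : Y'.presheaf.map (homOfLE hU₁U).op ≫ (pullback.snd f g).appLE U₁ O eO₁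
      = (pullback.snd f g).appLE (U : Y'.Opens) O eO :=
    Scheme.Hom.map_appLE (pullback.snd f g) eO₁ (homOfLE hU₁U).op
  rw [← hfac, CommRingCat.hom_comp]
  exact (essFT_res_basicOpen U.2 a rfl (homOfLE hU₁U)).comp h4

end Groth.Agent.H76
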