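import Mathlib

/-!
# Derivations and determinants (helper76)

Product rule for finite products, derivative of a determinant, the Piola identity
(divergence of the cofactor row of a matrix with closed rows vanishes), and the consequence
that a determinant with one gradient row and all other rows closed is a sum of partial derivatives.
-/

namespace Groth.Agent.H76.FrobJac

open Matrix Finset

variable {k A : Type*} [CommRing k] [CommRing A] [Algebra k A]

lemma leibniz_prod {ι : Type*} [DecidableEq ι] (D : Derivation k A A) (s : Finset ι) (g : ι → A) :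
    D (∏ i ∈ s, g i) = ∑ i0 ∈ s, ∏ i ∈ s, (if i = i0 then D (g i) else g i) := by
  induction s using Finset.induction_on with
  | empty => simp
  | insert a s ha ih =>
    rw [Finset.prod_insert ha, D.leibniz, ih, Finset.sum_insert ha, Finset.prod_insert ha, add_comm]
    congr 1
    · rw [if_pos rfl, smul_eq_mul, mul_comm]
      congr 1
      apply Finset.prod_congr rfl
      intro i hi
      rw [if_neg]
      rintro rfl
      exact ha hi
    · rw [smul_eq_mul, Finset.mul_sum]
      apply Finset.sum_congr rfl
      intro i0 hi0
      rw [Finset.prod_insert ha, if_neg]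
      rintro rfl
      exact ha hi0

lemma deriv_det {ι : Type*} [DecidableEq ι] [Fintype ι] (D : Derivation k A A)
    (X : Matrix ι ι A) :
    D X.det = ∑ r, (X.updateRow r (fun l => D (X r l))).det := by
  simp only [Matrix.det_apply, map_sum]
  rw [Finset.sum_comm]
  apply Finset.sum_congr rfl
  intro σ _
  rw [Units.smul_def, map_zsmul, leibniz_prod, ← Finset.smul_sum, ← Units.smul_def]
  congr 1
  refine Fintype.sum_equiv σ _ _ (fun i0 => ?_)
  apply Finset.prod_congr rfl
  intro i _
  rw [Matrix.updateRow_apply]
  by_cases h : i = i0
  · subst h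
    simp
  · rw [if_neg h, if_neg]
    intro h'
    exact h (σ.injective h')

lemma det_updateRow_sum' {ι κ : Type*} [DecidableEq ι] [Fintype ι] (M : Matrix ι ι A) (r : ι)
    (s : Finset κ) (c : κ → A) (v : κ → ι → A) :
    (M.updateRow r (∑ x ∈ s, c x • v x)).det = ∑ x ∈ s, c x * (M.updateRow r (v x)).det := by
  classical
  induction s using Finset.induction_on with
  | empty =>
    simp only [Finset.sum_empty]
    exact Matrix.det_eq_zero_of_row_eq_zero r (fun j => by simp)
  | insert a s ha ih =>
    rw [Finset.sum_insert ha, Finset.sum_insert ha, Matrix.det_updateRow_add,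
      Matrix.det_updateRow_smul, ih]

/-- symmetric coefficients against an alternating array sum to zero (any characteristic) -/
lemma sum_symm_mul_alt {ι : Type*} [DecidableEq ι] [Fintype ι] (c G : ι → ι → A)
    (hc : ∀ j l, c j l = c l j) (hG0 : ∀ j, G j j = 0) (hG : ∀ j l, G j l = - G l j) :
    ∑ j, ∑ l, c j l * G j l = 0 := by
  rw [← Finset.sum_product']
  apply Finset.sum_involution (fun x _ => (x.2, x.1))
  · rintro ⟨j, l⟩ _
    simp only
    rw [hc l j, hG l j]
    ring
  · rintro ⟨j, l⟩ _ hne heq
    simp only [Prod.mk.injEq] at heq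
    apply hne
    obtain ⟨rfl, -⟩ := heq
    simp [hG0]
  · intro x _
    simp
  · intro x _
    simp

lemma det_update_swap {ι : Type*} [DecidableEq ι] [Fintype ι] (N : Matrix ι ι A) {a r : ι}
    (har : a ≠ r) (u v : ι → A) :
    ((N.updateRow a u).updateRow r v).det = - ((N.updateRow a v).updateRow r u).det := by
  have h := Matrix.det_permute (Equiv.swap a r) ((N.updateRow a v).updateRow r u)
  rw [Equiv.Perm.sign_swap har] at h
  have hM : ((N.updateRow a u).updateRow r v) =
      ((N.updateRow a v).updateRow r u).submatrix (Equiv.swap a r) id := by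
    ext i j
    simp only [Matrix.submatrix_apply, id, Matrix.updateRow_apply]
    by_cases hi : i = a
    · subst hi
      simp [har, Equiv.swap_apply_left]
    · by_cases hi' : i = r
      · subst hi'
        simp [har, har.symm, Equiv.swap_apply_right]
      · simp [hi, hi', Equiv.swap_apply_of_ne_of_ne hi hi']
  rw [hM]
  change _ = - ((N.updateRow a v).updateRow r u).det
  have h2 : (((N.updateRow a v).updateRow r u).submatrix (Equiv.swap a r) id).det =
      -((N.updateRow a v).updateRow r u).det := by
    have := h
    simpa using this
  exact h2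

/-- Piola identity: if all rows of `N` other than row `a` are closed, the cofactors of row `a`
have zero divergence. -/
lemma piola {ι : Type*} [DecidableEq ι] [Fintype ι] (d : ι → Derivation k A A)
    (N : Matrix ι ι A) (a : ι)
    (hcl : ∀ i, i ≠ a → ∀ j l, d l (N i j) = d j (N i l)) :
    ∑ j, d j (N.adjugate j a) = 0 := by
  simp_rw [Matrix.adjugate_apply, deriv_det]
  rw [Finset.sum_comm]
  apply Finset.sum_eq_zero
  intro r _
  by_cases hr : r = a
  · subst hr
    apply Finset.sum_eq_zero
    intro j _
    apply Matrix.det_eq_zero_of_row_eq_zero r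
    intro l
    rw [Matrix.updateRow_self, Matrix.updateRow_self]
    by_cases hl : l = j
    · subst hl
      simp
    · simp [Pi.single_apply, hl]
  · have har : a ≠ r := fun h => hr h.symm
    -- rewrite the rows
    have h1 : ∀ j, ((N.updateRow a (Pi.single j 1)).updateRow r
        (fun l => d j ((N.updateRow a (Pi.single j 1)) r l))).det =
        ∑ l, d j (N r l) * ((N.updateRow a (Pi.single j 1)).updateRow r (Pi.single l 1)).det := by
      intro j
      have hrow : (fun l => d j ((N.updateRow a (Pi.single j 1)) r l)) =
          ∑ l, d j (N r l) • (Pi.single l (1 : A) : ι → A) := by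
        ext l
        rw [Matrix.updateRow_ne hr]
        simp [Finset.sum_apply, Pi.single_apply]
      rw [hrow, det_updateRow_sum']
    simp_rw [h1]
    apply sum_symm_mul_alt (fun j l => d j (N r l))
      (fun j l => ((N.updateRow a (Pi.single j 1)).updateRow r (Pi.single l 1)).det)
    · intro j l
      exact hcl r hr l j
    · intro j
      apply Matrix.det_zero_of_row_eq har
      rw [Matrix.updateRow_self, Matrix.updateRow_ne har, Matrix.updateRow_self]
    · intro j l
      exact det_update_swap N har _ _

/-- A determinant whose row `a` is a gradient and whose other rows are closed is a divergence. -/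
lemma det_eq_divergence {ι : Type*} [DecidableEq ι] [Fintype ι] (d : ι → Derivation k A A)
    (N : Matrix ι ι A) (a : ι) (f : A) (hrow : ∀ j, N a j = d j f)
    (hcl : ∀ i, i ≠ a → ∀ j l, d l (N i j) = d j (N i l)) :
    N.det = ∑ j, d j (f * N.adjugate j a) := by
  have hp := piola d N a hcl
  rw [Matrix.det_eq_sum_mul_adjugate_row N a]
  simp_rw [hrow, Derivation.leibniz, smul_eq_mul]
  rw [Finset.sum_add_distrib, ← Finset.mul_sum, hp, mul_zero, zero_add]
  apply Finset.sum_congr rfl
  intro j _
  ring

lemma map_det_eq_zero {ι : Type*} [DecidableEq ι] [Fintype ι] (d : ι → Derivation k A A)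
    (Λ : A →+ A) (hΛ : ∀ j x, Λ (d j x) = 0)
    (N : Matrix ι ι A) (a : ι) (f : A) (hrow : ∀ j, N a j = d j f)
    (hcl : ∀ i, i ≠ a → ∀ j l, d l (N i j) = d j (N i l)) :
    Λ N.det = 0 := by
  rw [det_eq_divergence d N a f hrow hcl, map_sum]
  exact Finset.sum_eq_zero fun j _ => hΛ j _

end Groth.Agent.H76.FrobJac
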