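import Mathlib
import Groth.Agent.H76.FrobJacA

/-!
# The functional `∏ ∂_j^{p-1}` and the determinant `det (δ_ij t_i^{p-1} + ∂_j f_i)` (helper76)
-/

namespace Groth.Agent.H76.FrobJac

open Matrix Finset

variable {k A : Type*} [CommRing k] [CommRing A] [Algebra k A]

/-- General Leibniz rule for iterates of a derivation. -/
theorem iterate_apply_mul (D : Derivation k A A) (n : ℕ) (a b : A) :
    D^[n] (a * b) = ∑ ij ∈ antidiagonal n, n.choose ij.1 • (D^[ij.1] a * D^[ij.2] b) := by
  induction n with
  | zero => simp
  | succ n ih =>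
    rw [Finset.sum_antidiagonal_choose_succ_nsmul (fun i j => D^[i] a * D^[j] b) n]
    simp only [Function.iterate_succ_apply', ih, map_sum, map_nsmul, Derivation.leibniz,
      smul_eq_mul, nsmul_add, sum_add_distrib]
    congr 1
    apply sum_congr rfl
    rintro ⟨i, j⟩ hij
    rw [Finset.HasAntidiagonal.mem_antidiagonal] at hij
    rw [Nat.choose_symm_of_eq_add hij.symm, mul_comm]

/-- In characteristic `p` the `p`-th iterate of a derivation obeys the Leibniz rule. -/
theorem iterate_prime_apply_mul (p : ℕ) [hp : Fact p.Prime] (hpA : (p : A) = 0)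
    (D : Derivation k A A) (a b : A) :
    D^[p] (a * b) = a * D^[p] b + b * D^[p] a := by
  obtain ⟨q, rfl⟩ : ∃ q, p = q + 1 := ⟨p - 1, by have := hp.out.pos; omega⟩
  rw [iterate_apply_mul, Finset.Nat.sum_antidiagonal_eq_sum_range_succ
    (fun i j => (q + 1).choose i • (D^[i] a * D^[j] b)) (q + 1), Finset.sum_range_succ,
    Finset.sum_range_succ']
  simp only [Nat.choose_zero_right, one_smul, Function.iterate_zero, id, Nat.sub_zero,
    Nat.choose_self, Nat.sub_self]
  rw [Finset.sum_eq_zero, zero_add, mul_comm (D^[q + 1] a) b]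
  intro i hi
  rw [Finset.mem_range] at hi
  have hdvd : (q + 1) ∣ (q + 1).choose (i + 1) :=
    hp.out.dvd_choose_self (Nat.succ_ne_zero i) (by omega)
  obtain ⟨c, hc⟩ := hdvd
  rw [hc, ← Nat.cast_smul_eq_nsmul A, Nat.cast_mul, hpA, zero_mul, zero_smul]

/-- the `p`-th power of a derivation in characteristic `p`, as a derivation -/
noncomputable def powP (p : ℕ) [Fact p.Prime] (hpA : (p : A) = 0) (D : Derivation k A A) :
    Derivation k A A :=
  Derivation.mk' ((D : A →ₗ[k] A) ^ p) (by
    intro a b
    rw [Module.End.pow_apply, Module.End.pow_apply, Module.End.pow_apply]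
    exact iterate_prime_apply_mul p hpA D a b)

lemma powP_apply (p : ℕ) [Fact p.Prime] (hpA : (p : A) = 0) (D : Derivation k A A) (x : A) :
    powP p hpA D x = D^[p] x := by
  change ((D : A →ₗ[k] A) ^ p) x = _
  rw [Module.End.pow_apply]
  rfl

variable {ι : Type*}

/-- the composite of the `(p-1)`-st powers of the derivations along a list -/
noncomputable def Lam (d : ι → Derivation k A A) (p : ℕ) (l : List ι) : Module.End k A :=
  (l.map fun j => ((d j : Derivation k A A) : A →ₗ[k] A) ^ (p - 1)).prod

lemma Lam_nil (d : ι → Derivation k A A) (p : ℕ) : Lam d p [] = 1 := rfl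

lemma Lam_cons (d : ι → Derivation k A A) (p : ℕ) (i : ι) (l : List ι) :
    Lam d p (i :: l) = ((d i : Derivation k A A) : A →ₗ[k] A) ^ (p - 1) * Lam d p l := by
  simp [Lam]

lemma Lam_comm (d : ι → Derivation k A A) (p : ℕ)
    (hcomm : ∀ i j x, d i (d j x) = d j (d i x)) (l : List ι) (j : ι) (x : A) :
    Lam d p l (d j x) = d j (Lam d p l x) := by
  induction l generalizing x with
  | nil => simp [Lam_nil]
  | cons i l ih =>
    rw [Lam_cons, Module.End.mul_apply, Module.End.mul_apply, ih]
    -- commute `d j` past the power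
    have : ∀ (m : ℕ) (y : A), (((d i : Derivation k A A) : A →ₗ[k] A) ^ m) (d j y) =
        d j ((((d i : Derivation k A A) : A →ₗ[k] A) ^ m) y) := by
      intro m
      induction m with
      | zero => intro y; simp
      | succ m ihm =>
        intro y
        rw [pow_succ, Module.End.mul_apply, Module.End.mul_apply]
        change ((d i : A →ₗ[k] A) ^ m) (d i (d j y)) = _
        rw [hcomm i j, ihm]
        rfl
    exact this _ _

lemma Lam_comp_eq_zero (d : ι → Derivation k A A) (p : ℕ) (hp1 : 1 ≤ p)
    (hcomm : ∀ i j x, d i (d j x) = d j (d i x))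
    (hpow : ∀ j x, (d j)^[p] x = 0) {l : List ι} {j : ι} (hj : j ∈ l) (x : A) :
    Lam d p l (d j x) = 0 := by
  induction l with
  | nil => simp at hj
  | cons i l ih =>
    rw [Lam_cons, Module.End.mul_apply]
    rcases List.mem_cons.mp hj with rfl | h
    · rw [Lam_comm d p hcomm]
      have : (((d j : Derivation k A A) : A →ₗ[k] A) ^ (p - 1)) (d j (Lam d p l x)) =
          (d j)^[p] (Lam d p l x) := by
        rw [Module.End.pow_apply]
        change (d j)^[p - 1] (d j (Lam d p l x)) = _
        rw [← Function.iterate_succ_apply]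
        congr 1
        omega
      rw [this, hpow]
    · rw [ih h, map_zero]

lemma pow_apply_const_mul (D : Derivation k A A) (c : A) (hc : D c = 0) (m : ℕ) (x : A) :
    ((D : A →ₗ[k] A) ^ m) (c * x) = c * ((D : A →ₗ[k] A) ^ m) x := by
  induction m generalizing x with
  | zero => simp
  | succ m ih =>
    rw [pow_succ, Module.End.mul_apply, Module.End.mul_apply]
    change ((D : A →ₗ[k] A) ^ m) (D (c * x)) = c * ((D : A →ₗ[k] A) ^ m) (D x)
    rw [D.leibniz, hc, smul_zero, add_zero, smul_eq_mul, ih]

lemma Lam_const_mul (d : ι → Derivation k A A) (p : ℕ) (l : List ι) (c : A)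
    (hc : ∀ j ∈ l, d j c = 0) (x : A) :
    Lam d p l (c * x) = c * Lam d p l x := by
  induction l generalizing x with
  | nil => simp [Lam_nil]
  | cons i l ih =>
    rw [Lam_cons, Module.End.mul_apply, Module.End.mul_apply,
      ih (fun j hj => hc j (List.mem_cons_of_mem _ hj)),
      pow_apply_const_mul (d i) c (hc i List.mem_cons_self)]

lemma pow_apply_pow_mul (D : Derivation k A A) (t : A) (ht : D t = 1) (m : ℕ) :
    ∀ c : A, D c = 0 → ((D : A →ₗ[k] A) ^ m) (t ^ m * c) = (m.factorial : A) * c := by
  induction m with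
  | zero => intro c _; simp
  | succ m ih =>
    intro c hc
    rw [pow_succ, Module.End.mul_apply]
    change ((D : A →ₗ[k] A) ^ m) (D (t ^ (m + 1) * c)) = _
    have h1 : D (t ^ (m + 1) * c) = t ^ m * (((m + 1 : ℕ) : A) * c) := by
      rw [D.leibniz, hc, smul_zero, zero_add, D.leibniz_pow, ht]
      simp only [Nat.add_sub_cancel, smul_eq_mul, mul_one, nsmul_eq_mul]
      ring
    rw [h1, ih]
    · rw [Nat.factorial_succ]
      push_cast
      ring
    · rw [D.leibniz, hc, smul_zero, zero_add]
      simp

lemma Lam_prod (d : ι → Derivation k A A) (p : ℕ) [DecidableEq ι] (t : ι → A)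
    (hdt : ∀ i j, d j (t i) = if i = j then 1 else 0) (l : List ι) (hl : l.Nodup) :
    Lam d p l ((l.map fun i => t i ^ (p - 1)).prod) = (((p - 1).factorial : A)) ^ l.length := by
  induction l with
  | nil => simp [Lam_nil]
  | cons i l ih =>
    rw [List.nodup_cons] at hl
    rw [Lam_cons, Module.End.mul_apply, List.map_cons, List.prod_cons, Lam_const_mul, ih hl.2]
    · rw [List.length_cons, pow_succ']
      have := pow_apply_pow_mul (d i) (t i) (by rw [hdt]; simp) (p - 1)
        ((((p - 1).factorial : A)) ^ l.length) (by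
          rw [← Nat.cast_pow]
          simp)
      exact this
    · intro j hj
      have hij : i ≠ j := by
        rintro rfl
        exact hl.1 hj
      rw [Derivation.leibniz_pow, hdt, if_neg hij]
      simp

/-- The key computation: any additive functional killing all partial derivatives takes the same
value on `det (δ_ij t_i^{p-1} + ∂_j f_i)` and on `∏ t_i^{p-1}`. -/
theorem map_det_eq [DecidableEq ι] [Fintype ι] (d : ι → Derivation k A A) (p : ℕ)
    (t f : ι → A)
    (hdt : ∀ i j, d j (t i) = if i = j then 1 else 0)
    (hcomm : ∀ i j x, d i (d j x) = d j (d i x))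
    (Λ : A →+ A) (hΛ : ∀ j x, Λ (d j x) = 0) :
    Λ ((Matrix.of fun i j : ι => (if i = j then t i ^ (p - 1) else 0) + d j (f i)).det) =
      Λ (∏ i, t i ^ (p - 1)) := by
  classical
  -- interpolating matrices
  let Ms : Finset ι → Matrix ι ι A := fun s =>
    Matrix.of fun i j => (if i = j then t i ^ (p - 1) else 0) + (if i ∈ s then 0 else d j (f i))
  have hclosed : ∀ (s : Finset ι) (i j l : ι), d l (Ms s i j) = d j (Ms s i l) := by
    intro s i j l
    simp only [Ms, Matrix.of_apply, map_add]
    congr 1
    · by_cases hij : i = j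
      · by_cases hil : i = l
        · rw [← hij, ← hil]
        · rw [if_pos hij, if_neg hil, map_zero, Derivation.leibniz_pow, hdt, if_neg hil]
          simp
      · by_cases hil : i = l
        · rw [if_neg hij, if_pos hil, map_zero, Derivation.leibniz_pow, hdt, if_neg hij]
          simp
        · rw [if_neg hij, if_neg hil]
          simp
    · by_cases his : i ∈ s
      · simp [his]
      · simp only [his, if_false]
        exact hcomm l j (f i)
  have hstep : ∀ (s : Finset ι) (a : ι), a ∉ s →
      Λ (Ms s).det = Λ (Ms (insert a s)).det := by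
    intro s a ha
    have h1 : Ms s = (Ms (insert a s)).updateRow a
        ((Ms (insert a s)) a + fun j => d j (f a)) := by
      ext i j
      rw [Matrix.updateRow_apply]
      by_cases hia : i = a
      · subst hia
        simp [Ms, ha]
      · have : (i ∈ insert a s) ↔ i ∈ s := by
          simp [hia]
        simp only [hia, if_false, Ms, Matrix.of_apply, this]
    rw [h1, Matrix.det_updateRow_add, map_add, Matrix.updateRow_eq_self]
    have h0 : Λ ((Ms (insert a s)).updateRow a (fun j => d j (f a))).det = 0 := by
      apply map_det_eq_zero d Λ hΛ _ a (f a)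
      · intro j
        rw [Matrix.updateRow_self]
      · intro i hia j l
        rw [Matrix.updateRow_ne hia]
        exact hclosed _ i j l
    rw [h0, add_zero]
  have hall : ∀ s : Finset ι, Λ (Ms ∅).det = Λ (Ms s).det := by
    intro s
    induction s using Finset.induction_on with
    | empty => rfl
    | insert a s ha ih => rw [ih, hstep s a ha]
  have h0 : Ms ∅ = Matrix.of fun i j : ι => (if i = j then t i ^ (p - 1) else 0) + d j (f i) := by
    ext i j
    simp [Ms]
  have h1 : Ms Finset.univ = Matrix.diagonal fun i => t i ^ (p - 1) := by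
    ext i j
    simp [Ms, Matrix.diagonal_apply]
  rw [← h0, hall Finset.univ, h1, Matrix.det_diagonal]

end Groth.Agent.H76.FrobJac
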