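import Mathlib
import Groth.Agent.H76.FrobJacB

/-!
# Étale coordinates: `det (δ_ij t_i^{p-1} + ∂f_i/∂t_j) ≠ 0` in characteristic `p` (helper76)
-/

namespace Groth.Agent.H76.FrobJac

open Matrix Finset

variable {k A : Type*} [CommRing k] [CommRing A] [Algebra k A]

/-- the partial derivative dual to the `j`-th basis differential -/
noncomputable def dd {n : ℕ} (b : Module.Basis (Fin n) A (KaehlerDifferential k A)) (j : Fin n) :
    Derivation k A A :=
  (b.coord j).compDer (KaehlerDifferential.D k A)

lemma dd_apply {n : ℕ} (b : Module.Basis (Fin n) A (KaehlerDifferential k A)) (j : Fin n) (x : A) :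
    dd b j x = b.coord j (KaehlerDifferential.D k A x) := rfl

lemma der_eq_zero {n : ℕ} (t : Fin n → A) (b : Module.Basis (Fin n) A (KaehlerDifferential k A))
    (hb : ∀ i, b i = KaehlerDifferential.D k A (t i)) (δ : Derivation k A A)
    (h : ∀ i, δ (t i) = 0) (x : A) : δ x = 0 := by
  have h0 : δ.liftKaehlerDifferential = 0 := by
    apply b.ext
    intro i
    rw [hb, Derivation.liftKaehlerDifferential_comp_D, h]
    simp
  rw [← Derivation.liftKaehlerDifferential_comp_D δ x, h0]
  simp

lemma dd_t {n : ℕ} (t : Fin n → A) (b : Module.Basis (Fin n) A (KaehlerDifferential k A))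
    (hb : ∀ i, b i = KaehlerDifferential.D k A (t i)) (i j : Fin n) :
    dd b j (t i) = if i = j then 1 else 0 := by
  rw [dd_apply, ← hb, Module.Basis.coord_apply, Module.Basis.repr_self, Finsupp.single_apply]

lemma dd_comm {n : ℕ} (t : Fin n → A) (b : Module.Basis (Fin n) A (KaehlerDifferential k A))
    (hb : ∀ i, b i = KaehlerDifferential.D k A (t i)) (i j : Fin n) (x : A) :
    dd b i (dd b j x) = dd b j (dd b i x) := by
  have := der_eq_zero t b hb ⁅dd b i, dd b j⁆ (by
    intro l
    rw [Derivation.commutator_apply, dd_t t b hb, dd_t t b hb]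
    split_ifs <;> simp) x
  rw [Derivation.commutator_apply, sub_eq_zero] at this
  exact this

lemma dd_pow {n : ℕ} (p : ℕ) [Fact p.Prime] (hpA : (p : A) = 0) (t : Fin n → A)
    (b : Module.Basis (Fin n) A (KaehlerDifferential k A))
    (hb : ∀ i, b i = KaehlerDifferential.D k A (t i)) (j : Fin n) (x : A) :
    (dd b j)^[p] x = 0 := by
  rw [← powP_apply p hpA]
  apply der_eq_zero t b hb
  intro l
  rw [powP_apply]
  obtain ⟨q, hq⟩ : ∃ q, p = q + 2 := ⟨p - 2, by have := (Fact.out : p.Prime).two_le; omega⟩
  rw [hq, Function.iterate_succ_apply, Function.iterate_succ_apply, dd_t t b hb]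
  have : dd b j (if l = j then (1 : A) else 0) = 0 := by
    split_ifs <;> simp
  rw [this]
  exact iterate_map_zero _ _

theorem main (p : ℕ) [Fact p.Prime] (k : Type*) [Field k] [CharP k p]
    (A : Type*) [CommRing A] [IsDomain A] [Algebra k A]
    {n : ℕ} (t : Fin n → A) (b : Module.Basis (Fin n) A (KaehlerDifferential k A))
    (hb : ∀ i, b i = KaehlerDifferential.D k A (t i)) (f : Fin n → A) :
    (Matrix.of fun i j : Fin n =>
        (if i = j then t i ^ (p - 1) else 0) +
          b.coord j (KaehlerDifferential.D k A (f i))).det ≠ 0 := by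
  have hp : p.Prime := Fact.out
  haveI : CharP A p := charP_of_injective_algebraMap (algebraMap k A).injective p
  have hpA : (p : A) = 0 := CharP.cast_eq_zero A p
  have hfac : (((p - 1).factorial : ℕ) : A) ≠ 0 := by
    rw [Ne, CharP.cast_eq_zero_iff A p, hp.dvd_factorial]
    have := hp.pos
    omega
  set Λ : A →+ A := (Lam (dd b) p (List.finRange n)).toAddMonoidHom with hΛdef
  have hΛ : ∀ j x, Λ (dd b j x) = 0 := by
    intro j x
    exact Lam_comp_eq_zero (dd b) p hp.one_le (dd_comm t b hb) (dd_pow p hpA t b hb)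
      (List.mem_finRange j) x
  have key := map_det_eq (dd b) p t f (dd_t t b hb) (dd_comm t b hb) Λ hΛ
  have hprod : Λ (∏ i, t i ^ (p - 1)) = (((p - 1).factorial : ℕ) : A) ^ n := by
    have h1 : (∏ i, t i ^ (p - 1)) = ((List.finRange n).map fun i => t i ^ (p - 1)).prod := by
      rw [← List.ofFn_eq_map, List.prod_ofFn]
    rw [h1]
    have := Lam_prod (dd b) p t (dd_t t b hb) (List.finRange n) (List.nodup_finRange n)
    rw [List.length_finRange] at this
    exact this
  intro hdet
  have hmat : (Matrix.of fun i j : Fin n =>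
        (if i = j then t i ^ (p - 1) else 0) +
          b.coord j (KaehlerDifferential.D k A (f i))) =
      (Matrix.of fun i j : Fin n => (if i = j then t i ^ (p - 1) else 0) + dd b j (f i)) := rfl
  rw [hmat] at hdet
  rw [hdet, map_zero, hprod] at key
  exact pow_ne_zero n hfac key.symm

end Groth.Agent.H76.FrobJac
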