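import Mathlib
import Groth.Agent.H94.Hypersurface

/-!
# Jacobian criterion for a plane curve `k[x,y]/(F)`
-/

set_option autoImplicit false
set_option linter.unusedSectionVars false
universe u

namespace Groth.Agent.H76.Hirz

open TensorProduct KaehlerDifferential

variable (k : Type u) [Field k]

local notation "𝔸" => MvPolynomial (Fin 2) k

/-- `1 ⊗ dF ≠ 0` in `κ(q) ⊗ Ω` iff some partial derivative is not in `q`. -/
theorem one_tmul_D_ne_zero_iff (F : 𝔸) (q : Ideal 𝔸) [q.IsPrime] :
    (1 : q.ResidueField) ⊗ₜ[𝔸] KaehlerDifferential.D k 𝔸 F ≠ 0 ↔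
      ∃ i, MvPolynomial.pderiv i F ∉ q := by
  classical
  let b := (KaehlerDifferential.mvPolynomialBasis k (Fin 2)).baseChange q.ResidueField
  have hrepr : ∀ i, b.repr ((1 : q.ResidueField) ⊗ₜ[𝔸] KaehlerDifferential.D k 𝔸 F) i =
      algebraMap 𝔸 q.ResidueField (MvPolynomial.pderiv i F) := by
    intro i
    rw [Module.Basis.baseChange_repr_tmul, KaehlerDifferential.mvPolynomialBasis_repr_apply,
      Algebra.smul_def, mul_one]
  have hmem : ∀ x : 𝔸, algebraMap 𝔸 q.ResidueField x = 0 ↔ x ∈ q := by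
    intro x
    rw [← RingHom.mem_ker, Ideal.ker_algebraMap_residueField]
  constructor
  · intro h
    by_contra hcon
    push_neg at hcon
    apply h
    apply b.repr.injective
    ext i
    rw [hrepr, map_zero, Finsupp.zero_apply, hmem]
    exact hcon i
  · rintro ⟨i, hi⟩ h0
    apply hi
    rw [← hmem, ← hrepr, h0, map_zero, Finsupp.zero_apply]

theorem smooth_quotient_iff (F : 𝔸) (hF : F ≠ 0) :
    Algebra.Smooth k (𝔸 ⧸ Ideal.span {F}) ↔
      ∀ q : Ideal 𝔸, q.IsPrime → F ∈ q → ∃ i, MvPolynomial.pderiv i F ∉ q := by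
  classical
  haveI : Algebra.FinitePresentation k (𝔸 ⧸ Ideal.span {F}) :=
    Algebra.FinitePresentation.quotient ⟨{F}, by simp⟩
  have hloc : ∀ (P : Ideal (𝔸 ⧸ Ideal.span {F})) [P.IsPrime] (q : Ideal 𝔸) [q.IsPrime]
      (hq : q = P.comap (Ideal.Quotient.mk (Ideal.span {F}))),
      Algebra.IsSmoothAt k P ↔ ∃ i, MvPolynomial.pderiv i F ∉ q := by
    intro P _ q _ hq
    haveI : Algebra.IsSmoothAt k q := by
      haveI : Algebra.FormallySmooth 𝔸 (Localization.AtPrime q) :=
        Algebra.FormallySmooth.of_isLocalization q.primeCompl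
      exact Algebra.FormallySmooth.comp k 𝔸 (Localization.AtPrime q)
    rw [Groth.Agent.H94.Hypersurface.isSmoothAt_iff_aux k F _ rfl P q hq,
      one_tmul_D_ne_zero_iff]
    have hinj : Function.Injective (algebraMap 𝔸 (Localization.AtPrime q)) :=
      IsLocalization.injective _ q.primeCompl_le_nonZeroDivisors
    constructor
    · rintro (h | h)
      · exact absurd ((map_eq_zero_iff _ hinj).1 h) hF
      · exact h
    · exact fun h => Or.inr h
  constructor
  · intro hs q hq hFq
    haveI := hq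
    have hqmap : (q.map (Ideal.Quotient.mk (Ideal.span {F}))).IsPrime := by
      apply Ideal.map_isPrime_of_surjective Ideal.Quotient.mk_surjective
      rw [Ideal.mk_ker, Ideal.span_le, Set.singleton_subset_iff]
      exact hFq
    haveI := hqmap
    have hcomap : q = (q.map (Ideal.Quotient.mk (Ideal.span {F}))).comap
        (Ideal.Quotient.mk (Ideal.span {F})) := by
      rw [Ideal.comap_map_of_surjective _ Ideal.Quotient.mk_surjective]
      symm
      apply sup_eq_left.2
      rw [← RingHom.ker_eq_comap_bot, Ideal.mk_ker, Ideal.span_le, Set.singleton_subset_iff]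
      exact hFq
    rw [← hloc _ q hcomap]
    haveI := hs.formallySmooth
    have := (Algebra.smoothLocus_eq_univ_iff (R := k) (A := 𝔸 ⧸ Ideal.span {F})).2 inferInstance
    have hmem : (⟨q.map (Ideal.Quotient.mk (Ideal.span {F})), hqmap⟩ :
        PrimeSpectrum (𝔸 ⧸ Ideal.span {F})) ∈ Algebra.smoothLocus k (𝔸 ⧸ Ideal.span {F}) := by
      rw [this]; trivial
    exact hmem
  · intro h
    refine ⟨?_, inferInstance⟩
    rw [← Algebra.smoothLocus_eq_univ_iff]
    ext P
    simp only [Set.mem_univ, iff_true]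
    show Algebra.IsSmoothAt k P.asIdeal
    haveI : (P.asIdeal.comap (Ideal.Quotient.mk (Ideal.span {F}))).IsPrime :=
      Ideal.comap_isPrime _ _
    rw [hloc P.asIdeal _ rfl]
    apply h _ inferInstance
    rw [Ideal.mem_comap]
    have h0 : (Ideal.Quotient.mk (Ideal.span {F})) F = 0 :=
      Ideal.Quotient.eq_zero_iff_mem.2 (Ideal.subset_span rfl)
    rw [h0]
    exact zero_mem _

end Groth.Agent.H76.Hirz
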