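import Mathlib
import Groth.Agent.H76.HirzA

/-!
# Smoothness of the two fibre charts `a + b w = 0`, `a w + b = 0`
-/

set_option autoImplicit false
set_option linter.unusedSectionVars false
universe u

namespace Groth.Agent.H76.Hirz

variable (k : Type u) [Field k]

local notation "𝔸" => MvPolynomial (Fin 2) k

/-- a one-variable polynomial as a polynomial in `X 0` -/
noncomputable def pe (p : Polynomial k) : 𝔸 := Polynomial.aeval (MvPolynomial.X 0 : 𝔸) p

theorem pe_add (p q : Polynomial k) : pe k (p + q) = pe k p + pe k q := map_add _ _ _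
theorem pe_mul (p q : Polynomial k) : pe k (p * q) = pe k p * pe k q := map_mul _ _ _
theorem pe_one : pe k 1 = 1 := map_one _

theorem pderiv_pe (i : Fin 2) (p : Polynomial k) :
    MvPolynomial.pderiv i (pe k p) =
      pe k (Polynomial.derivative p) * ((Pi.single i (1 : 𝔸) : Fin 2 → 𝔸) 0) := by
  rw [pe, Derivation.map_aeval, MvPolynomial.pderiv_X, smul_eq_mul, pe]

theorem pderiv_zero_pe (p : Polynomial k) :
    MvPolynomial.pderiv 0 (pe k p) = pe k (Polynomial.derivative p) := by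
  rw [pderiv_pe, Pi.single_eq_same, mul_one]

theorem pderiv_one_pe (p : Polynomial k) : MvPolynomial.pderiv 1 (pe k p) = 0 := by
  rw [pderiv_pe, Pi.single_eq_of_ne (by decide), mul_zero]

/-- chart `a + b w` -/
noncomputable def F₁ (a b : Polynomial k) : 𝔸 := pe k a + pe k b * MvPolynomial.X 1
/-- chart `a w + b` -/
noncomputable def F₂ (a b : Polynomial k) : 𝔸 := pe k a * MvPolynomial.X 1 + pe k b

theorem pderiv_zero_F₁ (a b : Polynomial k) : MvPolynomial.pderiv 0 (F₁ k a b) =
    pe k (Polynomial.derivative a) + pe k (Polynomial.derivative b) * MvPolynomial.X 1 := by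
  rw [F₁, map_add, Derivation.leibniz, pderiv_zero_pe, pderiv_zero_pe, MvPolynomial.pderiv_X,
    Pi.single_eq_of_ne (by decide), smul_zero, zero_add, smul_eq_mul, mul_comm]

theorem pderiv_one_F₁ (a b : Polynomial k) : MvPolynomial.pderiv 1 (F₁ k a b) = pe k b := by
  rw [F₁, map_add, Derivation.leibniz, pderiv_one_pe, pderiv_one_pe, MvPolynomial.pderiv_X,
    Pi.single_eq_same]
  simp

theorem pderiv_zero_F₂ (a b : Polynomial k) : MvPolynomial.pderiv 0 (F₂ k a b) =
    pe k (Polynomial.derivative a) * MvPolynomial.X 1 + pe k (Polynomial.derivative b) := by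
  rw [F₂, map_add, Derivation.leibniz, pderiv_zero_pe, pderiv_zero_pe, MvPolynomial.pderiv_X,
    Pi.single_eq_of_ne (by decide), smul_zero, zero_add, smul_eq_mul, mul_comm]

theorem pderiv_one_F₂ (a b : Polynomial k) : MvPolynomial.pderiv 1 (F₂ k a b) = pe k a := by
  rw [F₂, map_add, Derivation.leibniz, pderiv_one_pe, pderiv_one_pe, MvPolynomial.pderiv_X,
    Pi.single_eq_same]
  simp

section ev

variable {κ : Type*} [CommRing κ] [Algebra k κ]

/-- evaluation at a point `(t, w)` -/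
noncomputable def ev (t w : κ) : 𝔸 →ₐ[k] κ := MvPolynomial.aeval (R := k) (![t, w] : Fin 2 → κ)

theorem ev_X0 (t w : κ) : ev k t w (MvPolynomial.X 0) = t := by
  rw [ev, MvPolynomial.aeval_X]; rfl

theorem ev_X1 (t w : κ) : ev k t w (MvPolynomial.X 1) = w := by
  rw [ev, MvPolynomial.aeval_X]; rfl

theorem ev_pe (t w : κ) (p : Polynomial k) : ev k t w (pe k p) = Polynomial.aeval t p := by
  rw [pe, ← Polynomial.aeval_algHom_apply, ev_X0]

theorem ev_F₁ (t w : κ) (a b : Polynomial k) :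
    ev k t w (F₁ k a b) = Polynomial.aeval t a + Polynomial.aeval t b * w := by
  rw [F₁, map_add, map_mul, ev_pe, ev_pe, ev_X1]

theorem ev_F₂ (t w : κ) (a b : Polynomial k) :
    ev k t w (F₂ k a b) = Polynomial.aeval t a * w + Polynomial.aeval t b := by
  rw [F₂, map_add, map_mul, ev_pe, ev_pe, ev_X1]

end ev

theorem F_ne_zero (a b : Polynomial k) (hab : a ≠ 0 ∨ b ≠ 0) : F₁ k a b ≠ 0 ∧ F₂ k a b ≠ 0 := by
  have key : ∀ w : k, ev k (κ := Polynomial k) Polynomial.X (Polynomial.C w) (F₁ k a b) =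
      a + b * Polynomial.C w := by
    intro w
    rw [ev_F₁, Polynomial.aeval_X_left_apply, Polynomial.aeval_X_left_apply]
  have key2 : ∀ w : k, ev k (κ := Polynomial k) Polynomial.X (Polynomial.C w) (F₂ k a b) =
      a * Polynomial.C w + b := by
    intro w
    rw [ev_F₂, Polynomial.aeval_X_left_apply, Polynomial.aeval_X_left_apply]
  constructor
  · intro h0
    have h1 := key 0
    have h2 := key 1
    rw [h0, map_zero, map_zero, mul_zero, add_zero] at h1
    rw [h0, map_zero, map_one, mul_one, ← h1, zero_add] at h2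
    rcases hab with h | h
    · exact h h1.symm
    · exact h h2.symm
  · intro h0
    have h1 := key2 0
    have h2 := key2 1
    rw [h0, map_zero, map_zero, mul_zero, zero_add] at h1
    rw [h0, map_zero, map_one, mul_one, ← h1, add_zero] at h2
    rcases hab with h | h
    · exact h h2.symm
    · exact h h1.symm

theorem smooth_of_isCoprime (a b : Polynomial k) (hab : a ≠ 0 ∨ b ≠ 0) (h : IsCoprime a b) :
    Algebra.Smooth k (𝔸 ⧸ Ideal.span {F₁ k a b}) ∧ Algebra.Smooth k (𝔸 ⧸ Ideal.span {F₂ k a b}) := by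
  obtain ⟨u, v, huv⟩ := h
  have h1 : pe k u * pe k a + pe k v * pe k b = 1 := by
    rw [← pe_mul, ← pe_mul, ← pe_add, huv, pe_one]
  obtain ⟨hF1, hF2⟩ := F_ne_zero k a b hab
  constructor
  · rw [smooth_quotient_iff k _ hF1]
    intro q hq hFq
    by_contra hcon
    push_neg at hcon
    have hb : pe k b ∈ q := by rw [← pderiv_one_F₁ k a b]; exact hcon 1
    have ha : pe k a ∈ q := by
      have : pe k a = F₁ k a b - pe k b * MvPolynomial.X 1 := by rw [F₁]; ring
      rw [this]
      exact sub_mem hFq (Ideal.mul_mem_right _ _ hb)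
    apply hq.ne_top
    rw [Ideal.eq_top_iff_one, ← h1]
    exact add_mem (Ideal.mul_mem_left _ _ ha) (Ideal.mul_mem_left _ _ hb)
  · rw [smooth_quotient_iff k _ hF2]
    intro q hq hFq
    by_contra hcon
    push_neg at hcon
    have ha : pe k a ∈ q := by rw [← pderiv_one_F₂ k a b]; exact hcon 1
    have hb : pe k b ∈ q := by
      have : pe k b = F₂ k a b - pe k a * MvPolynomial.X 1 := by rw [F₂]; ring
      rw [this]
      exact sub_mem hFq (Ideal.mul_mem_right _ _ ha)
    apply hq.ne_top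
    rw [Ideal.eq_top_iff_one, ← h1]
    exact add_mem (Ideal.mul_mem_left _ _ ha) (Ideal.mul_mem_left _ _ hb)

theorem isCoprime_of_smooth (a b : Polynomial k) (hab : a ≠ 0 ∨ b ≠ 0)
    (h1 : Algebra.Smooth k (𝔸 ⧸ Ideal.span {F₁ k a b}))
    (h2 : Algebra.Smooth k (𝔸 ⧸ Ideal.span {F₂ k a b})) : IsCoprime a b := by
  classical
  obtain ⟨hF1, hF2⟩ := F_ne_zero k a b hab
  rw [smooth_quotient_iff k _ hF1] at h1
  rw [smooth_quotient_iff k _ hF2] at h2
  by_contra hnc
  have hne : Ideal.span {a, b} ≠ ⊤ := by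
    intro htop
    apply hnc
    have h1' : (1 : Polynomial k) ∈ Ideal.span {a, b} := by rw [htop]; trivial
    obtain ⟨u, v, huv⟩ := Ideal.mem_span_pair.1 h1'
    exact ⟨u, v, huv⟩
  obtain ⟨𝔭, h𝔭, hle⟩ := Ideal.exists_le_maximal _ hne
  haveI := h𝔭
  letI : Field (Polynomial k ⧸ 𝔭) := Ideal.Quotient.field 𝔭
  set t : Polynomial k ⧸ 𝔭 := Ideal.Quotient.mk 𝔭 Polynomial.X with ht
  have haev : ∀ p : Polynomial k, Polynomial.aeval t p = Ideal.Quotient.mk 𝔭 p := by
    intro p
    have := Polynomial.aeval_algHom_apply (Ideal.Quotient.mkₐ k 𝔭) Polynomial.X p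
    rw [Polynomial.aeval_X_left_apply] at this
    exact this
  have ha0 : Polynomial.aeval t a = 0 := by
    rw [haev, Ideal.Quotient.eq_zero_iff_mem]
    exact hle (Ideal.subset_span (by simp))
  have hb0 : Polynomial.aeval t b = 0 := by
    rw [haev, Ideal.Quotient.eq_zero_iff_mem]
    exact hle (Ideal.subset_span (by simp))
  set α := Polynomial.aeval t (Polynomial.derivative a) with hα
  set β := Polynomial.aeval t (Polynomial.derivative b) with hβ
  -- chart 1 at `w`
  have c1 : ∀ w : Polynomial k ⧸ 𝔭, α + β * w ≠ 0 := by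
    intro w h0
    obtain ⟨i, hi⟩ := h1 (RingHom.ker (ev k t w)) (RingHom.ker_isPrime _)
      (by rw [RingHom.mem_ker, ev_F₁, ha0, hb0, zero_mul, add_zero])
    apply hi
    rw [RingHom.mem_ker]
    fin_cases i
    · show ev k t w (MvPolynomial.pderiv 0 (F₁ k a b)) = 0
      rw [pderiv_zero_F₁, map_add, map_mul, ev_pe, ev_pe, ev_X1]
      exact h0
    · show ev k t w (MvPolynomial.pderiv 1 (F₁ k a b)) = 0
      rw [pderiv_one_F₁, ev_pe, hb0]
  have hβ0 : β = 0 := by
    by_contra hβne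
    apply c1 (-α / β)
    field_simp
    ring
  -- chart 2 at `w = 0`
  obtain ⟨i, hi⟩ := h2 (RingHom.ker (ev k t 0)) (RingHom.ker_isPrime _)
    (by rw [RingHom.mem_ker, ev_F₂, ha0, hb0, zero_mul, add_zero])
  apply hi
  rw [RingHom.mem_ker]
  fin_cases i
  · show ev k t 0 (MvPolynomial.pderiv 0 (F₂ k a b)) = 0
    rw [pderiv_zero_F₂, map_add, map_mul, ev_pe, ev_pe, ev_X1, mul_zero, zero_add]
    exact hβ0
  · show ev k t 0 (MvPolynomial.pderiv 1 (F₂ k a b)) = 0
    rw [pderiv_one_F₂, ev_pe, ha0]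

theorem smooth_iff_isCoprime (a b : Polynomial k) (hab : a ≠ 0 ∨ b ≠ 0) :
    (Algebra.Smooth k (𝔸 ⧸ Ideal.span {F₁ k a b}) ∧
      Algebra.Smooth k (𝔸 ⧸ Ideal.span {F₂ k a b})) ↔ IsCoprime a b :=
  ⟨fun h => isCoprime_of_smooth k a b hab h.1 h.2, smooth_of_isCoprime k a b hab⟩

end Groth.Agent.H76.Hirz
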