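import Mathlib

/-!
# Resultants with prescribed sizes over a field, and reflected polynomials
-/

set_option autoImplicit false
set_option linter.unusedSectionVars false
universe u

namespace Groth.Agent.H76.Hirz

open Polynomial

variable {K : Type u} [Field K]

/-- nonvanishing of the resultant of sizes `(m, n)` -/
theorem resultant_ne_zero_iff (f g : K[X]) (m n : ℕ) (hm : 0 < m) (hn : 0 < n)
    (hf : f.natDegree ≤ m) (hg : g.natDegree ≤ n) :
    resultant f g m n ≠ 0 ↔ IsCoprime f g ∧ (f.coeff m ≠ 0 ∨ g.coeff n ≠ 0) := by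
  by_cases h1 : f.coeff m ≠ 0
  · have hfd : f.natDegree = m := natDegree_eq_of_le_of_coeff_ne_zero hf h1
    have hf0 : f ≠ 0 := by
      rintro rfl
      exact h1 (coeff_zero _)
    obtain ⟨k, hk⟩ := Nat.exists_eq_add_of_le hg
    have e : resultant f g m n = f.coeff m ^ k * resultant f g := by
      rw [hk, resultant_add_right_deg f g m g.natDegree k le_rfl, hfd]
    rw [e, mul_ne_zero_iff, Ne, Ne, resultant_eq_zero_iff]
    constructor
    · rintro ⟨-, h⟩
      refine ⟨?_, Or.inl h1⟩
      by_contra hc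
      exact h ⟨Or.inl hf0, hc⟩
    · rintro ⟨hc, -⟩
      exact ⟨pow_ne_zero _ h1, fun h => h.2 hc⟩
  · rw [not_not] at h1
    by_cases h2 : g.coeff n ≠ 0
    · have hgd : g.natDegree = n := natDegree_eq_of_le_of_coeff_ne_zero hg h2
      have hg0 : g ≠ 0 := by
        rintro rfl
        exact h2 (coeff_zero _)
      obtain ⟨k, hk⟩ := Nat.exists_eq_add_of_le hf
      have e : resultant f g m n = (-1) ^ (n * k) * g.coeff n ^ k * resultant f g := by
        rw [hk, resultant_add_left_deg f g f.natDegree n k le_rfl, hgd]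
      rw [e, mul_ne_zero_iff, Ne, Ne, resultant_eq_zero_iff]
      constructor
      · rintro ⟨-, h⟩
        refine ⟨?_, Or.inr h2⟩
        by_contra hc
        exact h ⟨Or.inr hg0, hc⟩
      · rintro ⟨hc, -⟩
        refine ⟨mul_ne_zero (pow_ne_zero _ (by norm_num)) (pow_ne_zero _ h2), fun h => h.2 hc⟩
    · rw [not_not] at h2
      have hlt : ∀ (p : K[X]) (N : ℕ), 0 < N → p.natDegree ≤ N → p.coeff N = 0 → p.natDegree < N := by
        intro p N hN hp hc
        refine lt_of_le_of_ne hp ?_
        intro he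
        rw [← he, coeff_natDegree, leadingCoeff_eq_zero] at hc
        rw [hc, natDegree_zero] at he
        omega
      have e : resultant f g m n = 0 :=
        resultant_eq_zero_of_lt_lt f g m n (hlt f m hm hf h1) (hlt g n hn hg h2)
      constructor
      · intro h
        exact absurd e h
      · rintro ⟨-, h | h⟩
        · exact absurd h1 h
        · exact absurd h2 h

/-- coprimality of the reflected polynomials -/
theorem isCoprime_reflect_iff (f g : K[X]) (m n : ℕ) (hf : f.natDegree ≤ m) (hg : g.natDegree ≤ n)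
    (hfg : IsCoprime f g) :
    IsCoprime (reflect m f) (reflect n g) ↔ (f.coeff m ≠ 0 ∨ g.coeff n ≠ 0) := by
  classical
  constructor
  · intro h
    by_contra hc
    push_neg at hc
    have h1 : (X : K[X]) ∣ reflect m f := by
      rw [X_dvd_iff, coeff_reflect, revAt_le (Nat.zero_le m), Nat.sub_zero]
      exact hc.1
    have h2 : (X : K[X]) ∣ reflect n g := by
      rw [X_dvd_iff, coeff_reflect, revAt_le (Nat.zero_le n), Nat.sub_zero]
      exact hc.2
    exact not_isUnit_X (h.isUnit_of_dvd' h1 h2)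
  · intro hc
    by_contra hnc
    have hne : Ideal.span {reflect m f, reflect n g} ≠ ⊤ := by
      intro htop
      apply hnc
      have h1' : (1 : K[X]) ∈ Ideal.span {reflect m f, reflect n g} := by rw [htop]; trivial
      obtain ⟨u, v, huv⟩ := Ideal.mem_span_pair.1 h1'
      exact ⟨u, v, huv⟩
    obtain ⟨𝔭, h𝔭, hle⟩ := Ideal.exists_le_maximal _ hne
    haveI := h𝔭
    letI : Field (K[X] ⧸ 𝔭) := Ideal.Quotient.field 𝔭
    set t : K[X] ⧸ 𝔭 := Ideal.Quotient.mk 𝔭 X with ht
    set i : K →+* (K[X] ⧸ 𝔭) := algebraMap K (K[X] ⧸ 𝔭) with hi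
    have hev : ∀ p : K[X], eval₂ i t p = Ideal.Quotient.mk 𝔭 p := by
      intro p
      have h1 := Polynomial.aeval_algHom_apply (Ideal.Quotient.mkₐ K 𝔭) X p
      rw [Polynomial.aeval_X_left_apply] at h1
      exact h1
    have hf0 : eval₂ i t (reflect m f) = 0 := by
      rw [hev, Ideal.Quotient.eq_zero_iff_mem]
      exact hle (Ideal.subset_span (by simp))
    have hg0 : eval₂ i t (reflect n g) = 0 := by
      rw [hev, Ideal.Quotient.eq_zero_iff_mem]
      exact hle (Ideal.subset_span (by simp))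
    by_cases ht0 : t = 0
    · rw [ht0, eval₂_at_zero, coeff_reflect, revAt_le (Nat.zero_le m), Nat.sub_zero,
        map_eq_zero] at hf0
      rw [ht0, eval₂_at_zero, coeff_reflect, revAt_le (Nat.zero_le n), Nat.sub_zero,
        map_eq_zero] at hg0
      rcases hc with h | h
      · exact h hf0
      · exact h hg0
    · haveI : Invertible (t⁻¹) := invertibleOfNonzero (inv_ne_zero ht0)
      have hinv : ⅟(t⁻¹) = t := by rw [invOf_eq_inv, inv_inv]
      have hf1 : eval₂ i t⁻¹ f = 0 := by
        rw [← eval₂_reflect_eq_zero_iff i t⁻¹ m f hf, hinv]; exact hf0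
      have hg1 : eval₂ i t⁻¹ g = 0 := by
        rw [← eval₂_reflect_eq_zero_iff i t⁻¹ n g hg, hinv]; exact hg0
      obtain ⟨u, v, huv⟩ := hfg
      have := congrArg (eval₂ i t⁻¹) huv
      rw [eval₂_add, eval₂_mul, eval₂_mul, hf1, hg1, mul_zero, mul_zero, add_zero, eval₂_one] at this
      exact zero_ne_one this

/-- the polynomial with prescribed coefficients -/
noncomputable def ofCoeffs {N : ℕ} (c : Fin (N + 1) → K) : K[X] := ∑ j : Fin (N + 1), C (c j) * X ^ (j : ℕ)

theorem natDegree_ofCoeffs_le {N : ℕ} (c : Fin (N + 1) → K) : (ofCoeffs c).natDegree ≤ N := by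
  apply natDegree_sum_le_of_forall_le
  intro j _
  exact (natDegree_C_mul_X_pow_le _ _).trans (Nat.lt_succ_iff.1 j.2)

theorem coeff_ofCoeffs {N : ℕ} (c : Fin (N + 1) → K) (j : Fin (N + 1)) :
    (ofCoeffs c).coeff j = c j := by
  classical
  rw [ofCoeffs, finsetSum_coeff, Finset.sum_eq_single j]
  · rw [coeff_C_mul_X_pow, if_pos rfl]
  · intro b _ hb
    rw [coeff_C_mul_X_pow, if_neg]
    intro h
    exact hb (Fin.ext h.symm)
  · intro h
    exact absurd (Finset.mem_univ j) h

theorem ofCoeffs_eq_zero_iff {N : ℕ} (c : Fin (N + 1) → K) : ofCoeffs c = 0 ↔ c = 0 := by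
  constructor
  · intro h
    funext j
    have := coeff_ofCoeffs c j
    rw [h, coeff_zero] at this
    rw [← this, Pi.zero_apply]
  · rintro rfl
    simp [ofCoeffs]

theorem reflect_sum {ι : Type*} (s : Finset ι) (N : ℕ) (h : ι → K[X]) :
    reflect N (∑ j ∈ s, h j) = ∑ j ∈ s, reflect N (h j) := by
  classical
  induction s using Finset.induction_on with
  | empty => simp
  | insert a s ha ih => rw [Finset.sum_insert ha, Finset.sum_insert ha, reflect_add, ih]

theorem reflect_ofCoeffs {N : ℕ} (c : Fin (N + 1) → K) :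
    reflect N (ofCoeffs c) = ∑ j : Fin (N + 1), C (c j) * X ^ (N - (j : ℕ)) := by
  rw [ofCoeffs, reflect_sum]
  refine Finset.sum_congr rfl fun j _ => ?_
  rw [reflect_C_mul_X_pow, revAt_le (Nat.lt_succ_iff.1 j.2)]

end Groth.Agent.H76.Hirz
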