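import Mathlib
import Groth.Agent.H76.HirzB
import Groth.Agent.H76.HirzC

/-!
# The four charts of a section of `O(2) ⊕ O(n)` on a Hirzebruch surface
-/

set_option autoImplicit false
set_option linter.unusedSectionVars false
universe u

namespace Groth.Agent.H76.Hirz

variable (k : Type u) [Field k]

local notation "𝔸" => MvPolynomial (Fin 2) k

theorem pe_ofCoeffs {N : ℕ} (c : Fin (N + 1) → k) :
    pe k (ofCoeffs c) =
      ∑ j : Fin (N + 1), MvPolynomial.C (c j) * (MvPolynomial.X 0 : 𝔸) ^ (j : ℕ) := by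
  rw [ofCoeffs, pe, map_sum]
  refine Finset.sum_congr rfl fun j _ => ?_
  rw [map_mul, map_pow, Polynomial.aeval_C, Polynomial.aeval_X, MvPolynomial.algebraMap_eq]

theorem pe_reflect_ofCoeffs {N : ℕ} (c : Fin (N + 1) → k) :
    pe k (Polynomial.reflect N (ofCoeffs c)) =
      ∑ j : Fin (N + 1), MvPolynomial.C (c j) * (MvPolynomial.X 0 : 𝔸) ^ (N - (j : ℕ)) := by
  rw [reflect_ofCoeffs, pe, map_sum]
  refine Finset.sum_congr rfl fun j _ => ?_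
  rw [map_mul, map_pow, Polynomial.aeval_C, Polynomial.aeval_X, MvPolynomial.algebraMap_eq]

theorem main (n : ℕ) (hn : 3 ≤ n) (q : Fin 3 → k) (ξ : Fin (n + 1) → k) (hqξ : q ≠ 0 ∨ ξ ≠ 0) :
    (Algebra.Smooth k (𝔸 ⧸ Ideal.span {F₁ k (ofCoeffs (N := 2) q) (ofCoeffs ξ)}) ∧
      Algebra.Smooth k (𝔸 ⧸ Ideal.span {F₂ k (ofCoeffs (N := 2) q) (ofCoeffs ξ)}) ∧
      Algebra.Smooth k (𝔸 ⧸ Ideal.span {F₁ k (Polynomial.reflect 2 (ofCoeffs (N := 2) q))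
        (Polynomial.reflect n (ofCoeffs ξ))}) ∧
      Algebra.Smooth k (𝔸 ⧸ Ideal.span {F₂ k (Polynomial.reflect 2 (ofCoeffs (N := 2) q))
        (Polynomial.reflect n (ofCoeffs ξ))})) ↔
    Polynomial.resultant (ofCoeffs (N := 2) q) (ofCoeffs ξ) 2 n ≠ 0 := by
  have hab : ofCoeffs (N := 2) q ≠ 0 ∨ ofCoeffs ξ ≠ 0 := by
    rcases hqξ with h | h
    · exact Or.inl fun h0 => h ((ofCoeffs_eq_zero_iff (N := 2) q).1 h0)
    · exact Or.inr fun h0 => h ((ofCoeffs_eq_zero_iff ξ).1 h0)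
  have hab' : Polynomial.reflect 2 (ofCoeffs (N := 2) q) ≠ 0 ∨
      Polynomial.reflect n (ofCoeffs ξ) ≠ 0 := by
    rcases hab with h | h
    · exact Or.inl fun h0 => h ((Polynomial.reflect_eq_zero_iff).1 h0)
    · exact Or.inr fun h0 => h ((Polynomial.reflect_eq_zero_iff).1 h0)
  have hf := natDegree_ofCoeffs_le (N := 2) q
  have hg := natDegree_ofCoeffs_le ξ
  rw [← and_assoc, smooth_iff_isCoprime k _ _ hab, smooth_iff_isCoprime k _ _ hab',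
    resultant_ne_zero_iff _ _ 2 n (by norm_num) (by omega) hf hg]
  constructor
  · rintro ⟨h1, h2⟩
    exact ⟨h1, (isCoprime_reflect_iff _ _ 2 n hf hg h1).1 h2⟩
  · rintro ⟨h1, h2⟩
    exact ⟨h1, (isCoprime_reflect_iff _ _ 2 n hf hg h1).2 h2⟩

end Groth.Agent.H76.Hirz

namespace Groth.Agent.H76.Hirz

theorem main' (k : Type u) [Field k] (n : ℕ) (hn : 3 ≤ n)
    (q : Fin 3 → k) (ξ : Fin (n + 1) → k) (hqξ : q ≠ 0 ∨ ξ ≠ 0) :
    (Algebra.Smooth k (MvPolynomial (Fin 2) k ⧸ Ideal.span ({(∑ i : Fin 3, MvPolynomial.C (q i) * MvPolynomial.X 0 ^ (i : ℕ)) + (∑ j : Fin (n + 1), MvPolynomial.C (ξ j) * MvPolynomial.X 0 ^ (j : ℕ)) * MvPolynomial.X 1} : Set (MvPolynomial (Fin 2) k))) ∧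
      Algebra.Smooth k (MvPolynomial (Fin 2) k ⧸ Ideal.span ({(∑ i : Fin 3, MvPolynomial.C (q i) * MvPolynomial.X 0 ^ (i : ℕ)) * MvPolynomial.X 1 + (∑ j : Fin (n + 1), MvPolynomial.C (ξ j) * MvPolynomial.X 0 ^ (j : ℕ))} : Set (MvPolynomial (Fin 2) k))) ∧
      Algebra.Smooth k (MvPolynomial (Fin 2) k ⧸ Ideal.span ({(∑ i : Fin 3, MvPolynomial.C (q i) * MvPolynomial.X 0 ^ (2 - (i : ℕ))) + (∑ j : Fin (n + 1), MvPolynomial.C (ξ j) * MvPolynomial.X 0 ^ (n - (j : ℕ))) * MvPolynomial.X 1} : Set (MvPolynomial (Fin 2) k))) ∧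
      Algebra.Smooth k (MvPolynomial (Fin 2) k ⧸ Ideal.span ({(∑ i : Fin 3, MvPolynomial.C (q i) * MvPolynomial.X 0 ^ (2 - (i : ℕ))) * MvPolynomial.X 1 + (∑ j : Fin (n + 1), MvPolynomial.C (ξ j) * MvPolynomial.X 0 ^ (n - (j : ℕ)))} : Set (MvPolynomial (Fin 2) k)))) ↔
    Polynomial.resultant (∑ i : Fin 3, Polynomial.C (q i) * Polynomial.X ^ (i : ℕ))
      (∑ j : Fin (n + 1), Polynomial.C (ξ j) * Polynomial.X ^ (j : ℕ)) 2 n ≠ 0 := by
  have e1 : (∑ i : Fin 3, MvPolynomial.C (q i) * (MvPolynomial.X 0 : MvPolynomial (Fin 2) k) ^ (i : ℕ)) =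
      pe k (ofCoeffs (N := 2) q) := (pe_ofCoeffs k (N := 2) q).symm
  have e2 : (∑ j : Fin (n + 1), MvPolynomial.C (ξ j) * (MvPolynomial.X 0 : MvPolynomial (Fin 2) k) ^ (j : ℕ)) =
      pe k (ofCoeffs ξ) := (pe_ofCoeffs k ξ).symm
  have e3 : (∑ i : Fin 3, MvPolynomial.C (q i) * (MvPolynomial.X 0 : MvPolynomial (Fin 2) k) ^ (2 - (i : ℕ))) =
      pe k (Polynomial.reflect 2 (ofCoeffs (N := 2) q)) := (pe_reflect_ofCoeffs k (N := 2) q).symm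
  have e4 : (∑ j : Fin (n + 1), MvPolynomial.C (ξ j) * (MvPolynomial.X 0 : MvPolynomial (Fin 2) k) ^ (n - (j : ℕ))) =
      pe k (Polynomial.reflect n (ofCoeffs ξ)) := (pe_reflect_ofCoeffs k ξ).symm
  rw [e1, e2, e3, e4]
  exact main k n hn q ξ hqξ

end Groth.Agent.H76.Hirz
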