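import Mathlib
import Groth.Agent.H92.LocFreeRank
import Groth.Agent.H38.ModStalk
import Groth.Agent.S9514
import Groth.Agent.H67.TorsionFreeLocFree
import Groth.Agent.H67.FreeNearFinite
import Groth.Agent.H71.QCoh.LocFreeRank
import Groth.Agent.H71.QCoh.PushOpen

/-!
helper76, vector bundles on regular curves, part 1: local structure.
* stalk maps of monomorphisms are injective;
* finite locally free modules are coherent, have a well defined rank on an irreducible scheme,
  the rank is the dimension of the generic stalk, ranks are additive on short exact sequences;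
* on a regular integral locally Noetherian scheme of dimension `≤ 1`, a coherent submodule of a
  finite locally free module is finite locally free of some rank; in particular kernels and images
  of morphisms of vector bundles are vector bundles.
-/

set_option autoImplicit false
set_option linter.style.haveILetI false
universe u
open CategoryTheory CategoryTheory.Limits AlgebraicGeometry TopologicalSpace Opposite

namespace Groth.Agent.H76.VB

open Groth.Agent.H38.ModStalk

variable {X : Scheme.{u}}

/-- a monomorphism of `O_X`-modules is injective on stalks -/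
theorem stalkMap_injective_of_mono {M N : X.Modules} (φ : M ⟶ N) [Mono φ] (x : X) :
    Function.Injective (stalkMap φ x) := by
  rw [injective_iff_map_eq_zero]
  intro a ha
  obtain ⟨W, hxW, s, rfl⟩ := TopCat.Presheaf.exists_germ_eq M.presheaf a
  rw [stalkMap_germ] at ha
  have ha' : N.presheaf.germ W x hxW (φ.app W s) = N.presheaf.germ W x hxW 0 := by
    rw [ha, map_zero]
  obtain ⟨W', hxW', i, i', hW'⟩ := TopCat.Presheaf.germ_eq N.presheaf x hxW hxW _ _ ha'
  rw [map_zero] at hW'
  have hnat : φ.app W' (M.presheaf.map i.op s) = N.presheaf.map i.op (φ.app W s) := by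
    have := φ.mapPresheaf.naturality i.op
    exact congr($(this) s)
  have hinj := (Groth.Agent.H92.LocFreeRank.mono_iff_app_injective φ).1 inferInstance W'
  have h0 : M.presheaf.map i.op s = 0 := by
    apply hinj
    rw [hnat, hW', map_zero]
  rw [← TopCat.Presheaf.germ_res_apply M.presheaf i x hxW' s, h0, map_zero]

theorem stalkMapₗ_injective_of_mono {M N : X.Modules} (φ : M ⟶ N) [Mono φ] (x : X) :
    Function.Injective (stalkMapₗ φ x) := stalkMap_injective_of_mono φ x

theorem stalkMapₗ_surjective_of_epi {M N : X.Modules} (φ : M ⟶ N) [Epi φ] (x : X) :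
    Function.Surjective (stalkMapₗ φ x) := stalkMap_surjective_of_epi φ x

theorem stalkMapₗ_exact (S : ShortComplex X.Modules) (hS : S.ShortExact) (x : X) :
    Function.Exact (stalkMapₗ S.f x) (stalkMapₗ S.g x) := stalkMap_exact S hS x

/-- finite locally free of rank `r` implies finite locally free -/
theorem isFinLocFree_of_rank {r : ℕ} {E : X.Modules} (hE : FlatMod.IsFinLocFreeOfRank r E) :
    FlatMod.IsFinLocFree E := Groth.Agent.H67.FreeNearFinite.isFinLocFree_of_rank hE

theorem isQCoh_of_rank {r : ℕ} {E : X.Modules} (hE : FlatMod.IsFinLocFreeOfRank r E) :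
    E.IsQuasicoherent :=
  Groth.Agent.H67.FreeNearFinite.isQuasicoherent_of_isFinLocFree E (isFinLocFree_of_rank hE)

/-- finite locally free modules are coherent -/
theorem isCoh_of_isFinLocFree {E : X.Modules} (hE : FlatMod.IsFinLocFree E) : Coh.IsCoh E := by
  haveI : E.IsQuasicoherent := Groth.Agent.H67.FreeNearFinite.isQuasicoherent_of_isFinLocFree E hE
  exact ⟨inferInstance, Groth.Agent.H71.QCoh.isFiniteType_of_isFinLocFree E hE⟩

theorem isCoh_of_rank {r : ℕ} {E : X.Modules} (hE : FlatMod.IsFinLocFreeOfRank r E) :
    Coh.IsCoh E := isCoh_of_isFinLocFree (isFinLocFree_of_rank hE)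

/-- on an irreducible scheme a finite locally free module has a constant rank -/
theorem exists_rank [IrreducibleSpace X] {F : X.Modules} (h : FlatMod.IsFinLocFree F) :
    ∃ r : ℕ, FlatMod.IsFinLocFreeOfRank r F := by
  obtain ⟨U0, n0, hx0, ⟨e0⟩⟩ := h (genericPoint X)
  refine ⟨n0, fun x => ?_⟩
  obtain ⟨U, n, hxU, ⟨e⟩⟩ := h x
  have hη : genericPoint X ∈ U :=
    ((genericPoint_spec X).mem_open_set_iff U.isOpen).mpr ⟨x, Set.mem_univ x, hxU⟩
  have hn : n = n0 := by
    let W : X.Opens := U ⊓ U0
    haveI : Nonempty (W : Scheme.{u}) := ⟨⟨genericPoint X, hη, hx0⟩⟩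
    let i1 := Groth.Agent.H92.LocFreeRank.restrictTriv (inf_le_left : W ≤ U) n e
    let i2 := Groth.Agent.H92.LocFreeRank.restrictTriv (inf_le_right : W ≤ U0) n0 e0
    have h1 := Groth.Agent.H92.LocFreeRank.le_of_mono_free n n0 (i1.symm ≪≫ i2).hom
    have h2 := Groth.Agent.H92.LocFreeRank.le_of_mono_free n0 n (i2.symm ≪≫ i1).hom
    omega
  subst hn
  exact ⟨U, hxU, ⟨e⟩⟩

/-- the stalks of a locally free module of rank `e` are free of rank `e`
(light-import copy of `H67.K0Tensor.nonempty_basis_stalk`) -/
theorem nonempty_basis_stalk {e : ℕ} (E : X.Modules) (hE : FlatMod.IsFinLocFreeOfRank e E) (x : X) :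
    Nonempty (Module.Basis (Fin e) (X.presheaf.stalk x) (E.presheaf.stalk x)) := by
  haveI : E.IsQuasicoherent := isQCoh_of_rank hE
  obtain ⟨U, hxU, ⟨i⟩⟩ := hE x
  obtain ⟨_, ⟨V, hV, rfl⟩, hxV, hVU⟩ :=
    X.isBasis_affineOpens.exists_subset_of_mem_open hxU U.2
  obtain ⟨b⟩ := Groth.Agent.H44.nonempty_basis_of_iso_freeMod E hV hVU i
  letI := Groth.Agent.H8.stalkModule E hxV
  letI : Algebra Γ(X, V) (X.presheaf.stalk x) :=
    TopCat.Presheaf.algebra_section_stalk X.presheaf ⟨x, hxV⟩
  haveI : IsScalarTower Γ(X, V) (X.presheaf.stalk x) (E.presheaf.stalk x) :=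
    IsScalarTower.of_algebraMap_smul (fun r m => rfl)
  haveI := hV.isLocalization_stalk ⟨x, hxV⟩
  haveI := Groth.Agent.H8.isLocalizedModule_germₗ E hV hxV
  exact ⟨b.ofIsLocalizedModule (X.presheaf.stalk x)
    (hV.primeIdealOf ⟨x, hxV⟩).asIdeal.primeCompl (Groth.Agent.H8.germₗ E hxV)⟩

section Generic

variable [IsIntegral X]

/-- the function field structure on the generic stalk -/
noncomputable abbrev genField : Field (X.presheaf.stalk (genericPoint X)) :=
  inferInstanceAs (Field X.functionField)

/-- the generic rank of a module: the dimension of the generic stalk over the function field -/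
noncomputable def grank (F : X.Modules) : ℕ :=
  Module.finrank (X.presheaf.stalk (genericPoint X)) (F.presheaf.stalk (genericPoint X))

theorem grank_of_rank {r : ℕ} {E : X.Modules} (hE : FlatMod.IsFinLocFreeOfRank r E) :
    grank E = r := by
  obtain ⟨b⟩ := nonempty_basis_stalk E hE (genericPoint X)
  unfold grank
  rw [Module.finrank_eq_card_basis b, Fintype.card_fin]

theorem finite_genericStalk_of_rank {r : ℕ} {E : X.Modules}
    (hE : FlatMod.IsFinLocFreeOfRank r E) :
    Module.Finite (X.presheaf.stalk (genericPoint X)) (E.presheaf.stalk (genericPoint X)) := by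
  obtain ⟨b⟩ := nonempty_basis_stalk E hE (genericPoint X)
  exact Module.Finite.of_basis b

/-- the rank of a finite locally free module is unique -/
theorem rank_unique {r r' : ℕ} {E : X.Modules} (hE : FlatMod.IsFinLocFreeOfRank r E)
    (hE' : FlatMod.IsFinLocFreeOfRank r' E) : r = r' := by
  rw [← grank_of_rank hE, ← grank_of_rank hE']

/-- generic ranks are additive on short exact sequences with finite generic stalks -/
theorem grank_add (S : ShortComplex X.Modules) (hS : S.ShortExact)
    (h2 : Module.Finite (X.presheaf.stalk (genericPoint X))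
      (S.X₂.presheaf.stalk (genericPoint X))) :
    grank S.X₂ = grank S.X₁ + grank S.X₃ := by
  letI : Field (X.presheaf.stalk (genericPoint X)) := genField
  haveI := hS.mono_f
  haveI := hS.epi_g
  have hf := stalkMapₗ_injective_of_mono S.f (genericPoint X)
  have hg := stalkMapₗ_surjective_of_epi S.g (genericPoint X)
  have hex := stalkMapₗ_exact S hS (genericPoint X)
  unfold grank
  have h := LinearMap.finrank_range_add_finrank_ker (stalkMapₗ S.g (genericPoint X))
  rw [LinearMap.range_eq_top.2 hg, finrank_top, LinearMap.exact_iff.1 hex,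
    LinearMap.finrank_range_of_inj hf] at h
  omega

theorem rank_add (S : ShortComplex X.Modules) (hS : S.ShortExact) {a b c : ℕ}
    (h₁ : FlatMod.IsFinLocFreeOfRank a S.X₁) (h₂ : FlatMod.IsFinLocFreeOfRank b S.X₂)
    (h₃ : FlatMod.IsFinLocFreeOfRank c S.X₃) : b = a + c := by
  have := grank_add S hS (finite_genericStalk_of_rank h₂)
  rwa [grank_of_rank h₁, grank_of_rank h₂, grank_of_rank h₃] at this

end Generic

/-- a module which is finite locally free of rank `0` is zero -/
theorem isZero_of_rank_zero {E : X.Modules} (hE : FlatMod.IsFinLocFreeOfRank 0 E) : IsZero E := by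
  refine Groth.Agent.H71.QCoh.isZero_of_subsingleton_sections E (fun W => ?_)
  refine Groth.Agent.H71.QCoh.subsingleton_sections_of_stalks E W (fun x _ => ?_)
  obtain ⟨b⟩ := nonempty_basis_stalk E hE x
  exact b.repr.toEquiv.subsingleton

end Groth.Agent.H76.VB
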