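import Mathlib
import Groth.Agent.H76.VB1
import Groth.Agent.H86.GV.Main
import Groth.Agent.H38.EulerAdd
import Groth.Agent.H18.HH0Sections
import Groth.Agent.H71.QCoh.SupportProper
import Groth.Agent.H62.GD1

/-!
helper76, vector bundles on regular curves, part 2: cohomology on a proper regular curve.
Everything is conditional on the finiteness theorem for coherent cohomology (the exact shape of
`Groth.Agent.S0002.result k X`), packaged as the field `fin` of `VCurve`.
-/

set_option autoImplicit false
set_option linter.style.haveILetI false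
universe u
open CategoryTheory CategoryTheory.Limits AlgebraicGeometry TopologicalSpace Opposite

namespace Groth.Agent.H76.VB

variable (k : Type u) [Field k] (X : Scheme.{u}) [X.Over (Spec (CommRingCat.of k))] [IsIntegral X]

/-- a proper regular integral curve over `k` on which coherent cohomology is finite dimensional -/
structure VCurve : Prop where
  proper : IsProper (X ↘ Spec (CommRingCat.of k))
  regular : ∀ x : X, IsRegularLocalRing (X.presheaf.stalk x)
  dim : topologicalKrullDim X = 1
  fin : ∀ (M : X.Modules), Coh.IsCoh M → ∀ n : ℕ, Module.Finite k (Coh.HH X M n)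

variable {k X}

theorem VCurve.of_smooth [IsProper (X ↘ Spec (CommRingCat.of k))]
    [Smooth (X ↘ Spec (CommRingCat.of k))] (hdim : topologicalKrullDim X = 1)
    (hfin : ∀ (M : X.Modules), Coh.IsCoh M → ∀ n : ℕ, Module.Finite k (Coh.HH X M n)) :
    VCurve k X where
  proper := inferInstance
  regular x := Groth.Agent.H53.isRegularLocalRing_stalk_of_smooth_field k
    (X ↘ Spec (CommRingCat.of k)) x
  dim := hdim
  fin := hfin

section basics

variable (hX : VCurve k X)
include hX

/-- the underlying `PCurve` of helper62's dictionary -/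
theorem VCurve.pcurve : Groth.Agent.H62.GD.PCurve k X where
  proper := hX.proper
  dim := hX.dim
  dvr x hx := by
    haveI := hX.proper
    haveI : LocallyOfFiniteType (X ↘ Spec (CommRingCat.of k)) := inferInstance
    haveI := hX.regular x
    apply Groth.Agent.H62.GD.isDiscreteValuationRing_of_isRegularLocalRing
    rw [← Groth.Agent.S1617.result k X x hx,
      ← Groth.Agent.H17.Chev.topologicalKrullDim_eq_localDim_of_irreducible k
        (X ↘ Spec (CommRingCat.of k)) x, hX.dim]

theorem VCurve.isLocallyNoetherian : IsLocallyNoetherian X :=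
  haveI := hX.proper
  LocallyOfFiniteType.isLocallyNoetherian (X ↘ Spec (CommRingCat.of k))

theorem VCurve.compactSpace : CompactSpace X := hX.pcurve.compactSpace

theorem VCurve.isNoetherian : IsNoetherian X :=
  haveI := hX.isLocallyNoetherian
  haveI := hX.compactSpace
  {}

theorem VCurve.noetherianSpace : NoetherianSpace X :=
  haveI := hX.isNoetherian
  inferInstance

/-- every point other than the generic point is closed -/
theorem VCurve.isClosed_or_eq_genericPoint (x : X) :
    IsClosed ({x} : Set X) ∨ x = genericPoint X := hX.pcurve.isClosed_or_eq_genericPoint x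

/-- Grothendieck vanishing: no cohomology above degree one -/
theorem VCurve.HH_subsingleton_of_two_le (F : X.Modules) (n : ℕ) (hn : 2 ≤ n) :
    Subsingleton (Coh.HH X F n) := by
  haveI : NoetherianSpace ↑X.toTopCat := hX.noetherianSpace
  have h : topologicalKrullDim X.toTopCat = 1 := hX.dim
  exact Groth.Agent.H86.GV.grothendieck_vanishing X.toTopCat (Coh.toAb F) n (by
    rw [h]
    exact_mod_cast hn)

/-- the Euler characteristic is `h⁰ - h¹` -/
theorem VCurve.euler_eq (F : X.Modules) :
    Curv2.euler k X F = (Module.finrank k (Coh.HH X F 0) : ℤ) - Module.finrank k (Coh.HH X F 1) := by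
  rw [Groth.Agent.H38.EulerAdd.euler_eq_sum k X F 1
    (fun n hn => hX.HH_subsingleton_of_two_le F n hn)]
  simp [Finset.sum_range_succ]
  ring

/-- additivity of the Euler characteristic on short exact sequences of coherent modules -/
theorem VCurve.euler_add (S : ShortComplex X.Modules) (hS : S.ShortExact)
    (h₁ : Coh.IsCoh S.X₁) (h₂ : Coh.IsCoh S.X₂) (h₃ : Coh.IsCoh S.X₃) :
    Curv2.euler k X S.X₂ = Curv2.euler k X S.X₁ + Curv2.euler k X S.X₃ := by
  haveI := hX.compactSpace
  haveI := hX.isLocallyNoetherian
  exact Groth.Agent.H38.EulerAdd.euler_additive_of_finite_qcqs k X S hS h₁.1 h₂.1 h₃.1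
    (hX.fin _ h₁) (hX.fin _ h₂) (hX.fin _ h₃)

end basics

section gluing

omit [X.Over (Spec (CommRingCat.of k))] [IsIntegral X] in
/-- a section over a neighbourhood of a closed point whose germs vanish away from the point
extends (with the same germ) to a global section -/
theorem exists_global_section_of_germ (T : X.Modules) (x : X) (hx : IsClosed ({x} : Set X))
    (U : X.Opens) (hxU : x ∈ U) (s : Γ(T, U))
    (hs : ∀ (y : X) (hy : y ∈ U), y ≠ x → T.presheaf.germ U y hy s = 0) :
    ∃ σ : Γ(T, ⊤), T.presheaf.germ ⊤ x (Opens.mem_top _) σ = T.presheaf.germ U x hxU s := by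
  classical
  let V : X.Opens := ⟨{x}ᶜ, hx.isOpen_compl⟩
  let F : TopCat.Sheaf Ab X.toTopCat := ⟨T.presheaf, T.isSheaf⟩
  let ι : Type u := {W : X.Opens // W = U ∨ W = V}
  let W : ι → X.Opens := fun i => i.1
  let sf : ∀ i : ι, ToType (F.1.obj (op (W i))) := fun i =>
    if h : i.1 ≤ U then T.presheaf.map (homOfLE h).op s else 0
  have hV : ∀ i : ι, ¬ i.1 ≤ U → i.1 = V := fun i hi => by
    rcases i.2 with h | h
    · exact absurd (le_of_eq h) hi
    · exact h
  have hzero : ∀ (W' : X.Opens) (h1 : W' ≤ U), W' ≤ V → T.presheaf.map (homOfLE h1).op s = 0 := by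
    intro W' h1 h2
    refine TopCat.Presheaf.section_ext F W' _ _ (fun y hy => ?_)
    have hyx : y ≠ x := fun h => (h2 hy) (by rw [h]; rfl)
    rw [map_zero]
    exact (TopCat.Presheaf.germ_res_apply T.presheaf (homOfLE h1) y hy s).trans (hs y (h1 hy) hyx)
  have hcompat : TopCat.Presheaf.IsCompatible F.1 W sf := by
    intro i j
    by_cases hi : i.1 ≤ U
    · by_cases hj : j.1 ≤ U
      · simp only [sf, dif_pos hi, dif_pos hj]
        change T.presheaf.map _ (T.presheaf.map _ s) = T.presheaf.map _ (T.presheaf.map _ s)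
        rw [← ConcreteCategory.comp_apply, ← ConcreteCategory.comp_apply, ← T.presheaf.map_comp,
          ← T.presheaf.map_comp]
        rfl
      · simp only [sf, dif_pos hi, dif_neg hj]
        change T.presheaf.map _ (T.presheaf.map _ s) = T.presheaf.map _ 0
        rw [map_zero, ← ConcreteCategory.comp_apply, ← T.presheaf.map_comp]
        exact hzero _ (inf_le_left.trans hi) (inf_le_right.trans (le_of_eq (hV j hj)))
    · by_cases hj : j.1 ≤ U
      · simp only [sf, dif_neg hi, dif_pos hj]
        change T.presheaf.map _ 0 = T.presheaf.map _ (T.presheaf.map _ s)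
        rw [map_zero, ← ConcreteCategory.comp_apply, ← T.presheaf.map_comp]
        exact (hzero _ (inf_le_right.trans hj) (inf_le_left.trans (le_of_eq (hV i hi)))).symm
      · simp only [sf, dif_neg hi, dif_neg hj]
        change T.presheaf.map _ 0 = T.presheaf.map _ 0
        rw [map_zero, map_zero]
  obtain ⟨σ, hσ, -⟩ := F.existsUnique_gluing' W ⊤ (fun i => homOfLE le_top)
    (fun y _ => by
      by_cases hy : y = x
      · exact Opens.mem_iSup.mpr ⟨⟨U, Or.inl rfl⟩, hy ▸ hxU⟩
      · exact Opens.mem_iSup.mpr ⟨⟨V, Or.inr rfl⟩, hy⟩) sf hcompat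
  refine ⟨σ, ?_⟩
  have h1 := hσ ⟨U, Or.inl rfl⟩
  simp only [sf, dif_pos (le_refl U)] at h1
  have h2 : T.presheaf.map (homOfLE (le_refl U)).op s = s := by
    have : (homOfLE (le_refl U)).op = 𝟙 (op U) := rfl
    rw [this, T.presheaf.map_id]
    rfl
  rw [h2] at h1
  rw [← h1]
  exact (TopCat.Presheaf.germ_res_apply T.presheaf (homOfLE (le_top : U ≤ ⊤)) x hxU σ).symm

end gluing

section torsion

variable (hX : VCurve k X)
include hX

/-- a coherent module with vanishing generic stalk has no higher cohomology -/
theorem VCurve.HH_subsingleton_of_torsion (T : X.Modules) (hT : Coh.IsCoh T)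
    (hη : Subsingleton (T.presheaf.stalk (genericPoint X))) (p : ℕ) (hp : 1 ≤ p) :
    Subsingleton (Coh.HH X T p) := by
  haveI := hX.noetherianSpace
  haveI : T.IsQuasicoherent := hT.1
  haveI : SheafOfModules.IsFiniteType (R := X.ringCatSheaf) T := hT.2
  have hcl : IsClosed (CohB1.support T) := Groth.Agent.H71.QCoh.isClosed_support T
  have hne : CohB1.support T ≠ Set.univ := by
    intro h
    have : genericPoint X ∈ CohB1.support T := h ▸ Set.mem_univ _
    exact this hη
  have hdim : topologicalKrullDim (CohB1.support T) < ((1 : ℕ) : WithBot ℕ∞) :=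
    Groth.Agent.H86.GV.dim_lt_of_proper_closed (Y := X) _ hcl hne 1 (by
      rw [hX.dim]; exact_mod_cast (by norm_num : (1 : ℕ) < 2))
  haveI : NoetherianSpace ↑(TopCat.of ↑(CohB1.support T)) :=
    inferInstanceAs (NoetherianSpace ↥(CohB1.support T))
  refine Groth.Agent.H86.GV.H_subsingleton_of_supp (Y := X.toTopCat) (CohB1.support T) hcl
    (Groth.Agent.H86.GV.grothendieck_vanishing _) (Coh.toAb T) (fun x hx => ?_) p
    (lt_of_lt_of_le hdim (by exact_mod_cast hp))
  have hs : Subsingleton (T.presheaf.stalk x) := not_not.1 hx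
  haveI : Subsingleton ↑(CohTop.stalk (Coh.toAb T) x) := hs
  exact AddCommGrpCat.isZero_of_subsingleton _

/-- a coherent module with vanishing generic stalk and no global sections is zero -/
theorem VCurve.isZero_of_torsion (T : X.Modules) (hT : Coh.IsCoh T)
    (hη : Subsingleton (T.presheaf.stalk (genericPoint X)))
    (h0 : Subsingleton (Coh.HH X T 0)) : IsZero T := by
  haveI := hX.noetherianSpace
  haveI : T.IsQuasicoherent := hT.1
  haveI : SheafOfModules.IsFiniteType (R := X.ringCatSheaf) T := hT.2
  have hcl : IsClosed (CohB1.support T) := Groth.Agent.H71.QCoh.isClosed_support T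
  have hηZ : genericPoint X ∉ CohB1.support T := fun h => h hη
  have hZcl : ∀ z ∈ CohB1.support T, IsClosed ({z} : Set X) := fun z hz =>
    (hX.isClosed_or_eq_genericPoint z).resolve_right (fun h => hηZ (h ▸ hz))
  have hfin : (CohB1.support T).Finite :=
    Groth.Agent.H22.CurveFibres.finite_of_isClosed_of_forall_isClosed_singleton hcl hZcl
  refine Groth.Agent.H71.QCoh.isZero_of_subsingleton_sections T (fun W => ?_)
  refine Groth.Agent.H71.QCoh.subsingleton_sections_of_stalks T W (fun x _ => ?_)
  by_contra hx
  have hxZ : x ∈ CohB1.support T := hx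
  haveI : Nontrivial (T.presheaf.stalk x) := not_subsingleton_iff_nontrivial.1 hx
  obtain ⟨t, ht⟩ := exists_ne (0 : T.presheaf.stalk x)
  obtain ⟨U0, hxU0, s0, rfl⟩ := TopCat.Presheaf.exists_germ_eq T.presheaf t
  have hZ'cl : IsClosed (CohB1.support T \ {x}) := by
    have h1 : (CohB1.support T \ {x}) = ⋃ z ∈ (CohB1.support T \ {x}), ({z} : Set X) := by
      rw [Set.biUnion_of_singleton]
    rw [h1]
    exact (hfin.subset Set.sdiff_subset).isClosed_biUnion (fun z hz => hZcl z hz.1)
  let U1 : X.Opens := ⟨(CohB1.support T \ {x})ᶜ, hZ'cl.isOpen_compl⟩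
  let U : X.Opens := U0 ⊓ U1
  have hxU : x ∈ U := ⟨hxU0, fun h => h.2 rfl⟩
  obtain ⟨σ, hσ⟩ := exists_global_section_of_germ T x (hZcl x hxZ) U hxU
    (T.presheaf.map (homOfLE (inf_le_left : U ≤ U0)).op s0) (fun y hy hyx => by
      have hyZ : y ∉ CohB1.support T := fun h => hy.2 ⟨h, hyx⟩
      haveI : Subsingleton (T.presheaf.stalk y) := not_not.1 hyZ
      exact Subsingleton.elim _ _)
  have hσ0 : σ = 0 := by
    haveI : Subsingleton Γ(T, ⊤) := (Groth.Agent.H18.HH0.equiv T).symm.toEquiv.subsingleton
    exact Subsingleton.elim _ _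
  apply ht
  rw [← TopCat.Presheaf.germ_res_apply T.presheaf (homOfLE (inf_le_left : U ≤ U0)) x hxU s0,
    ← hσ, hσ0, map_zero]

/-- the Euler characteristic of a torsion coherent module is the dimension of its global
sections -/
theorem VCurve.euler_torsion (T : X.Modules) (hT : Coh.IsCoh T)
    (hη : Subsingleton (T.presheaf.stalk (genericPoint X))) :
    Curv2.euler k X T = (Module.finrank k (Coh.HH X T 0) : ℤ) := by
  rw [hX.euler_eq]
  haveI := hX.HH_subsingleton_of_torsion T hT hη 1 le_rfl
  have h1 : Module.finrank k (Coh.HH X T 1) = 0 := Module.finrank_zero_of_subsingleton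
  rw [h1]
  simp

theorem VCurve.euler_torsion_nonneg (T : X.Modules) (hT : Coh.IsCoh T)
    (hη : Subsingleton (T.presheaf.stalk (genericPoint X))) : 0 ≤ Curv2.euler k X T := by
  rw [hX.euler_torsion T hT hη]
  positivity

theorem VCurve.isZero_of_torsion_of_euler (T : X.Modules) (hT : Coh.IsCoh T)
    (hη : Subsingleton (T.presheaf.stalk (genericPoint X))) (he : Curv2.euler k X T = 0) :
    IsZero T := by
  refine hX.isZero_of_torsion T hT hη ?_
  rw [hX.euler_torsion T hT hη] at he
  haveI := hX.fin T hT 0
  have h0 : Module.finrank k (Coh.HH X T 0) = 0 := by exact_mod_cast he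
  exact Module.finrank_zero_iff.1 h0

end torsion

end Groth.Agent.H76.VB
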