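import Mathlib
import Groth.Agent.H76.VB2

/-!
helper76, vector bundles on regular curves, part 3: sub-bundles, kernels and images, degrees.
-/

set_option autoImplicit false
set_option linter.style.haveILetI false
universe u
open CategoryTheory CategoryTheory.Limits AlgebraicGeometry TopologicalSpace Opposite

namespace Groth.Agent.H76.VB

open Groth.Agent.H38.ModStalk

section abelian

variable {C : Type*} [Category C] [Abelian C] {A B : C} (f : A ⟶ B)

/-- `0 → ker f → A → im f → 0` -/
noncomputable def kerSC : ShortComplex C :=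
  ShortComplex.mk (kernel.ι f) (Abelian.factorThruImage f) (by
    rw [← cancel_mono (Abelian.image.ι f), Category.assoc, Abelian.image.fac, kernel.condition,
      zero_comp])

theorem kerSC_shortExact : (kerSC f).ShortExact := by
  have hex : (kerSC f).Exact :=
    ShortComplex.exact_of_f_is_kernel _
      (isKernelOfComp (Abelian.image.ι f) f (kernelIsKernel f) _ (Abelian.image.fac f))
  exact ShortComplex.ShortExact.mk' hex (inferInstanceAs (Mono (kernel.ι f)))
    (inferInstanceAs (Epi (Abelian.factorThruImage f)))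

/-- `0 → im f → B → coker f → 0` -/
noncomputable def cokerSC : ShortComplex C :=
  ShortComplex.mk (Abelian.image.ι f) (cokernel.π f) (kernel.condition _)

theorem cokerSC_shortExact : (cokerSC f).ShortExact := by
  have hex : (cokerSC f).Exact := ShortComplex.exact_kernel (cokernel.π f)
  exact ShortComplex.ShortExact.mk' hex (inferInstanceAs (Mono (kernel.ι (cokernel.π f))))
    (inferInstanceAs (Epi (cokernel.π f)))

/-- `0 → A → B → coker f → 0` for a monomorphism `f` -/
noncomputable def monoSC : ShortComplex C :=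
  ShortComplex.mk f (cokernel.π f) (cokernel.condition f)

theorem monoSC_shortExact [Mono f] : (monoSC f).ShortExact :=
  ShortComplex.ShortExact.mk' (ShortComplex.exact_cokernel f) ‹Mono f›
    (inferInstanceAs (Epi (cokernel.π f)))

theorem image_ne_zero (hf : f ≠ 0) : ¬ IsZero (Abelian.image f) := by
  intro h
  apply hf
  rw [← Abelian.image.fac f, h.eq_of_tgt (Abelian.factorThruImage f) 0, zero_comp]

theorem isIso_factorThruImage_of_isZero_kernel (h : IsZero (kernel f)) :
    IsIso (Abelian.factorThruImage f) := by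
  haveI : Mono (Abelian.factorThruImage f) := by
    haveI : Mono f := Preadditive.mono_of_kernel_zero (h.eq_of_src _ _)
    exact mono_of_mono_fac (Abelian.image.fac f)
  exact isIso_of_mono_of_epi _

end abelian

section sub

variable {X : Scheme.{u}} [IsIntegral X] [IsLocallyNoetherian X]
  (hreg : ∀ x : X, IsRegularLocalRing (X.presheaf.stalk x)) (hdim : topologicalKrullDim X ≤ 1)

include hreg hdim

/-- a coherent submodule of a finite locally free module is finite locally free -/
theorem exists_rank_of_mono {F E : X.Modules} (i : F ⟶ E) [Mono i] (hF : Coh.IsCoh F) {r : ℕ}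
    (hE : FlatMod.IsFinLocFreeOfRank r E) : ∃ r' : ℕ, FlatMod.IsFinLocFreeOfRank r' F := by
  apply exists_rank
  apply Groth.Agent.H67.TorsionFreeLocFree.isFinLocFree_of_torsionFree hreg hdim F hF
  intro x
  haveI := Groth.Agent.H67.TorsionFreeLocFree.torsionFree_of_isFinLocFree hreg E
    (isCoh_of_rank hE) (isFinLocFree_of_rank hE) x
  exact Function.Injective.noZeroSMulDivisors (stalkMapₗ i x) (stalkMapₗ_injective_of_mono i x)
    (map_zero _) (fun c m => map_smul _ c m)

theorem exists_rank_kernel {E F : X.Modules} (f : E ⟶ F) {r s : ℕ}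
    (hE : FlatMod.IsFinLocFreeOfRank r E) (hF : FlatMod.IsFinLocFreeOfRank s F) :
    ∃ r' : ℕ, FlatMod.IsFinLocFreeOfRank r' (kernel f) :=
  exists_rank_of_mono hreg hdim (kernel.ι f)
    (Groth.Agent.S9514.result X (isCoh_of_rank hE) (isCoh_of_rank hF) f).1 hE

theorem exists_rank_image {E F : X.Modules} (f : E ⟶ F) {r s : ℕ}
    (hE : FlatMod.IsFinLocFreeOfRank r E) (hF : FlatMod.IsFinLocFreeOfRank s F) :
    ∃ r' : ℕ, FlatMod.IsFinLocFreeOfRank r' (Abelian.image f) :=
  exists_rank_of_mono hreg hdim (Abelian.image.ι f)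
    (Groth.Agent.S9514.result X (isCoh_of_rank hF)
      (Groth.Agent.S9514.result X (isCoh_of_rank hE) (isCoh_of_rank hF) f).2 (cokernel.π f)).1 hF

end sub

section iso

variable {X : Scheme.{u}}

theorem rank_of_iso {M N : X.Modules} (e : M ≅ N) {r : ℕ} (h : FlatMod.IsFinLocFreeOfRank r M) :
    FlatMod.IsFinLocFreeOfRank r N := by
  intro x
  obtain ⟨U, hx, ⟨i⟩⟩ := h x
  exact ⟨U, hx, ⟨(Scheme.Modules.restrictFunctor U.ι).mapIso e.symm ≪≫ i⟩⟩

theorem isCoh_of_iso {M N : X.Modules} (e : M ≅ N) (h : Coh.IsCoh M) : Coh.IsCoh N := by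
  haveI : M.IsQuasicoherent := h.1
  haveI : SheafOfModules.IsFiniteType (R := X.ringCatSheaf) M := h.2
  haveI : N.IsQuasicoherent := Groth.Agent.H12.QCohAbelian.isQuasicoherent_of_iso e
  exact ⟨inferInstance, Groth.Agent.H71.QCoh.isFiniteType_of_epi e.hom⟩

theorem HH_subsingleton_of_isZero (M : X.Modules) (h : IsZero M) (n : ℕ) :
    Subsingleton (Coh.HH X M n) := by
  refine ⟨fun a b => ?_⟩
  suffices H : ∀ c : Coh.HH X M n, c = 0 by rw [H a, H b]
  intro c
  have h1 : 𝟙 M = 0 := h.eq_of_src _ _
  have h3 : (𝟙 (Coh.toAb M)) = 0 := by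
    have e1 : (SheafOfModules.toSheaf X.ringCatSheaf).map (𝟙 M) = 𝟙 _ :=
      CategoryTheory.Functor.map_id _ _
    have e2 : (SheafOfModules.toSheaf X.ringCatSheaf).map (0 : M ⟶ M) = 0 :=
      CategoryTheory.Functor.map_zero _ _ _
    exact e1.symm.trans ((congrArg _ h1).trans e2)
  have h2 := Sheaf.H.map_id_apply (F := Coh.toAb M) c
  rw [← h2, h3, Sheaf.H.map_apply, Abelian.Ext.mk₀_zero, Abelian.Ext.comp_zero]

variable (k : Type u) [Field k] [X.Over (Spec (CommRingCat.of k))]

theorem euler_of_isZero (M : X.Modules) (h : IsZero M) : Curv2.euler k X M = 0 := by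
  unfold Curv2.euler
  refine finsum_eq_zero_of_forall_eq_zero (fun i => ?_)
  haveI := HH_subsingleton_of_isZero M h i
  rw [Module.finrank_zero_of_subsingleton]
  simp

open Groth.Agent.Lead.FiniteLES in
/-- isomorphic modules have linearly equivalent cohomology -/
noncomputable def HHequivOfIso {M N : X.Modules} (e : M ≅ N) (n : ℕ) :
    Coh.HH X M n ≃ₗ[k] Coh.HH X N n :=
  LinearEquiv.ofLinearMap (toA k (HHmap e.hom n)) (toA k (HHmap e.inv n))
    (by
      ext x
      change HHmap e.hom n (HHmap e.inv n x) = x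
      rw [← LinearMap.comp_apply, ← HHmap_comp, e.inv_hom_id, HHmap_id]; rfl)
    (by
      ext x
      change HHmap e.inv n (HHmap e.hom n x) = x
      rw [← LinearMap.comp_apply, ← HHmap_comp, e.hom_inv_id, HHmap_id]; rfl)

theorem euler_of_iso {M N : X.Modules} (e : M ≅ N) : Curv2.euler k X M = Curv2.euler k X N := by
  unfold Curv2.euler
  refine finsum_congr (fun i => ?_)
  rw [(HHequivOfIso k e i).finrank_eq]

theorem deg_of_iso {M N : X.Modules} (e : M ≅ N) (r : ℕ) :
    Curv2.deg k X M r = Curv2.deg k X N r := by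
  unfold Curv2.deg
  rw [euler_of_iso k e]

theorem deg_zero_of_isZero (M : X.Modules) (h : IsZero M) : Curv2.deg k X M 0 = 0 := by
  unfold Curv2.deg
  rw [euler_of_isZero k M h]
  simp

end iso

section degree

variable {k : Type u} [Field k] {X : Scheme.{u}} [X.Over (Spec (CommRingCat.of k))] [IsIntegral X]
  (hX : VCurve k X)
include hX

theorem VCurve.exists_rank_of_mono {F E : X.Modules} (i : F ⟶ E) [Mono i] (hF : Coh.IsCoh F)
    {r : ℕ} (hE : FlatMod.IsFinLocFreeOfRank r E) : ∃ r' : ℕ, FlatMod.IsFinLocFreeOfRank r' F :=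
  haveI := hX.isLocallyNoetherian
  VB.exists_rank_of_mono hX.regular hX.dim.le i hF hE

theorem VCurve.isCoh_kernel {E F : X.Modules} (f : E ⟶ F) (hE : Coh.IsCoh E) (hF : Coh.IsCoh F) :
    Coh.IsCoh (kernel f) :=
  haveI := hX.isLocallyNoetherian
  (Groth.Agent.S9514.result X hE hF f).1

theorem VCurve.isCoh_cokernel {E F : X.Modules} (f : E ⟶ F) (hE : Coh.IsCoh E)
    (hF : Coh.IsCoh F) : Coh.IsCoh (cokernel f) :=
  haveI := hX.isLocallyNoetherian
  (Groth.Agent.S9514.result X hE hF f).2

theorem VCurve.isCoh_image {E F : X.Modules} (f : E ⟶ F) (hE : Coh.IsCoh E) (hF : Coh.IsCoh F) :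
    Coh.IsCoh (Abelian.image f) :=
  hX.isCoh_kernel (cokernel.π f) hF (hX.isCoh_cokernel f hE hF)

/-- the degree is additive on short exact sequences of vector bundles -/
theorem VCurve.deg_add (S : ShortComplex X.Modules) (hS : S.ShortExact) {a b c : ℕ}
    (h₁ : FlatMod.IsFinLocFreeOfRank a S.X₁) (h₂ : FlatMod.IsFinLocFreeOfRank b S.X₂)
    (h₃ : FlatMod.IsFinLocFreeOfRank c S.X₃) :
    Curv2.deg k X S.X₂ b = Curv2.deg k X S.X₁ a + Curv2.deg k X S.X₃ c := by
  have hr := rank_add S hS h₁ h₂ h₃
  unfold Curv2.deg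
  rw [hX.euler_add S hS (isCoh_of_rank h₁) (isCoh_of_rank h₂) (isCoh_of_rank h₃), hr]
  push_cast
  ring

omit [Field k] [X.Over (Spec (CommRingCat.of k))] hX in
/-- the cokernel of a monomorphism between vector bundles of the same rank is torsion -/
theorem subsingleton_genericStalk_cokernel {F E : X.Modules} (i : F ⟶ E) [Mono i] {r : ℕ}
    (hF : FlatMod.IsFinLocFreeOfRank r F) (hE : FlatMod.IsFinLocFreeOfRank r E) :
    Subsingleton ((cokernel i).presheaf.stalk (genericPoint X)) := by
  letI : Field (X.presheaf.stalk (genericPoint X)) := genField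
  have h := grank_add (monoSC i) (monoSC_shortExact i) (finite_genericStalk_of_rank hE)
  change grank E = grank F + grank (cokernel i) at h
  rw [grank_of_rank hE, grank_of_rank hF] at h
  have h0 : grank (cokernel i) = 0 := by omega
  haveI : Module.Finite (X.presheaf.stalk (genericPoint X))
      ((cokernel i).presheaf.stalk (genericPoint X)) := by
    haveI := finite_genericStalk_of_rank hE
    exact Module.Finite.of_surjective (stalkMapₗ (cokernel.π i) (genericPoint X))
      (stalkMapₗ_surjective_of_epi _ _)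
  exact Module.finrank_zero_iff.1 h0

/-- a subsheaf of the same rank has smaller degree -/
theorem VCurve.deg_le_of_mono {F E : X.Modules} (i : F ⟶ E) [Mono i] {r : ℕ}
    (hF : FlatMod.IsFinLocFreeOfRank r F) (hE : FlatMod.IsFinLocFreeOfRank r E) :
    Curv2.deg k X F r ≤ Curv2.deg k X E r := by
  have hT : Coh.IsCoh (cokernel i) := hX.isCoh_cokernel i (isCoh_of_rank hF) (isCoh_of_rank hE)
  have hη := subsingleton_genericStalk_cokernel i hF hE
  have h1 := hX.euler_add (monoSC i) (monoSC_shortExact i) (isCoh_of_rank hF) (isCoh_of_rank hE) hT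
  change Curv2.euler k X E = Curv2.euler k X F + Curv2.euler k X (cokernel i) at h1
  have h2 := hX.euler_torsion_nonneg (cokernel i) hT hη
  unfold Curv2.deg
  linarith

/-- a monomorphism between vector bundles of the same rank and degree is an isomorphism -/
theorem VCurve.isIso_of_mono_of_deg_eq {F E : X.Modules} (i : F ⟶ E) [Mono i] {r : ℕ}
    (hF : FlatMod.IsFinLocFreeOfRank r F) (hE : FlatMod.IsFinLocFreeOfRank r E)
    (hd : Curv2.deg k X F r = Curv2.deg k X E r) : IsIso i := by
  have hT : Coh.IsCoh (cokernel i) := hX.isCoh_cokernel i (isCoh_of_rank hF) (isCoh_of_rank hE)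
  have hη := subsingleton_genericStalk_cokernel i hF hE
  have h1 := hX.euler_add (monoSC i) (monoSC_shortExact i) (isCoh_of_rank hF) (isCoh_of_rank hE) hT
  change Curv2.euler k X E = Curv2.euler k X F + Curv2.euler k X (cokernel i) at h1
  have h0 : Curv2.euler k X (cokernel i) = 0 := by
    unfold Curv2.deg at hd
    linarith
  have hz := hX.isZero_of_torsion_of_euler (cokernel i) hT hη h0
  haveI : Epi i := Preadditive.epi_of_cokernel_zero (hz.eq_of_tgt _ _)
  exact isIso_of_mono_of_epi i

/-- kernel/image decomposition of a morphism of vector bundles -/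
theorem VCurve.exists_kernel_image {E F : X.Modules} (f : E ⟶ F) {r s : ℕ}
    (hE : FlatMod.IsFinLocFreeOfRank r E) (hF : FlatMod.IsFinLocFreeOfRank s F) :
    ∃ a b : ℕ, FlatMod.IsFinLocFreeOfRank a (kernel f) ∧
      FlatMod.IsFinLocFreeOfRank b (Abelian.image f) ∧ r = a + b ∧
      Curv2.deg k X E r = Curv2.deg k X (kernel f) a + Curv2.deg k X (Abelian.image f) b := by
  haveI := hX.isLocallyNoetherian
  obtain ⟨a, ha⟩ := exists_rank_kernel hX.regular hX.dim.le f hE hF
  obtain ⟨b, hb⟩ := exists_rank_image hX.regular hX.dim.le f hE hF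
  exact ⟨a, b, ha, hb, rank_add (kerSC f) (kerSC_shortExact f) ha hE hb,
    hX.deg_add (kerSC f) (kerSC_shortExact f) ha hE hb⟩

end degree

end Groth.Agent.H76.VB
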