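import Mathlib
import Groth.Agent.H76.VB3

/-!
helper76: integral proper curves over a field, without regularity (`ICurve`): cohomology of
torsion coherent modules, degrees of sub-modules with torsion quotient.
-/

set_option autoImplicit false
set_option linter.style.haveILetI false
universe u
open CategoryTheory CategoryTheory.Limits AlgebraicGeometry TopologicalSpace Opposite

namespace Groth.Agent.H76.VB

open Groth.Agent.H38.ModStalk

variable (k : Type u) [Field k] (X : Scheme.{u}) [X.Over (Spec (CommRingCat.of k))] [IsIntegral X]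

/-- an integral proper curve over `k` on which coherent cohomology is finite dimensional -/
structure ICurve : Prop where
  proper : IsProper (X ↘ Spec (CommRingCat.of k))
  dim : topologicalKrullDim X = 1
  fin : ∀ (M : X.Modules), Coh.IsCoh M → ∀ n : ℕ, Module.Finite k (Coh.HH X M n)

variable {k X}

theorem VCurve.icurve (hX : VCurve k X) : ICurve k X := ⟨hX.proper, hX.dim, hX.fin⟩

section basics

variable (hX : ICurve k X)
include hX

theorem ICurve.locallyOfFiniteType : LocallyOfFiniteType (X ↘ Spec (CommRingCat.of k)) :=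
  haveI := hX.proper
  inferInstance

theorem ICurve.isLocallyNoetherian : IsLocallyNoetherian X :=
  haveI := hX.proper
  LocallyOfFiniteType.isLocallyNoetherian (X ↘ Spec (CommRingCat.of k))

theorem ICurve.compactSpace : CompactSpace X :=
  haveI := hX.proper
  QuasiCompact.compactSpace_of_compactSpace (X ↘ Spec (CommRingCat.of k))

theorem ICurve.isNoetherian : IsNoetherian X :=
  haveI := hX.isLocallyNoetherian
  haveI := hX.compactSpace
  {}

theorem ICurve.noetherianSpace : NoetherianSpace X :=
  haveI := hX.isNoetherian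
  inferInstance

theorem ICurve.ringKrullDim_stalk (x : X) (hx : IsClosed ({x} : Set X)) :
    ringKrullDim (X.presheaf.stalk x) = 1 := by
  haveI := hX.locallyOfFiniteType
  rw [← Groth.Agent.S1617.result k X x hx,
    ← Groth.Agent.H17.Chev.topologicalKrullDim_eq_localDim_of_irreducible k
      (X ↘ Spec (CommRingCat.of k)) x, hX.dim]

/-- every point other than the generic point is closed -/
theorem ICurve.isClosed_or_eq_genericPoint (x : X) :
    IsClosed ({x} : Set X) ∨ x = genericPoint X :=
  haveI := hX.compactSpace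
  Groth.Agent.H22.CurveFibres.isClosed_or_eq_genericPoint
    (fun y hy => hX.ringKrullDim_stalk y hy) x

/-- Grothendieck vanishing: no cohomology above degree one -/
theorem ICurve.HH_subsingleton_of_two_le (F : X.Modules) (n : ℕ) (hn : 2 ≤ n) :
    Subsingleton (Coh.HH X F n) := by
  haveI : NoetherianSpace ↑X.toTopCat := hX.noetherianSpace
  have h : topologicalKrullDim X.toTopCat = 1 := hX.dim
  exact Groth.Agent.H86.GV.grothendieck_vanishing X.toTopCat (Coh.toAb F) n (by
    rw [h]
    exact_mod_cast hn)

theorem ICurve.euler_eq (F : X.Modules) :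
    Curv2.euler k X F = (Module.finrank k (Coh.HH X F 0) : ℤ) - Module.finrank k (Coh.HH X F 1) := by
  rw [Groth.Agent.H38.EulerAdd.euler_eq_sum k X F 1
    (fun n hn => hX.HH_subsingleton_of_two_le F n hn)]
  simp [Finset.sum_range_succ]
  ring

theorem ICurve.euler_add (S : ShortComplex X.Modules) (hS : S.ShortExact)
    (h₁ : Coh.IsCoh S.X₁) (h₂ : Coh.IsCoh S.X₂) (h₃ : Coh.IsCoh S.X₃) :
    Curv2.euler k X S.X₂ = Curv2.euler k X S.X₁ + Curv2.euler k X S.X₃ := by
  haveI := hX.compactSpace
  haveI := hX.isLocallyNoetherian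
  exact Groth.Agent.H38.EulerAdd.euler_additive_of_finite_qcqs k X S hS h₁.1 h₂.1 h₃.1
    (hX.fin _ h₁) (hX.fin _ h₂) (hX.fin _ h₃)

theorem ICurve.isCoh_kernel {E F : X.Modules} (f : E ⟶ F) (hE : Coh.IsCoh E) (hF : Coh.IsCoh F) :
    Coh.IsCoh (kernel f) :=
  haveI := hX.isLocallyNoetherian
  (Groth.Agent.S9514.result X hE hF f).1

theorem ICurve.isCoh_cokernel {E F : X.Modules} (f : E ⟶ F) (hE : Coh.IsCoh E)
    (hF : Coh.IsCoh F) : Coh.IsCoh (cokernel f) :=
  haveI := hX.isLocallyNoetherian
  (Groth.Agent.S9514.result X hE hF f).2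

theorem ICurve.isCoh_image {E F : X.Modules} (f : E ⟶ F) (hE : Coh.IsCoh E) (hF : Coh.IsCoh F) :
    Coh.IsCoh (Abelian.image f) :=
  hX.isCoh_kernel (cokernel.π f) hF (hX.isCoh_cokernel f hE hF)

/-- a coherent module with vanishing generic stalk has no higher cohomology -/
theorem ICurve.HH_subsingleton_of_torsion (T : X.Modules) (hT : Coh.IsCoh T)
    (hη : Subsingleton (T.presheaf.stalk (genericPoint X))) (p : ℕ) (hp : 1 ≤ p) :
    Subsingleton (Coh.HH X T p) := by
  haveI := hX.noetherianSpace
  haveI : T.IsQuasicoherent := hT.1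
  haveI : SheafOfModules.IsFiniteType (R := X.ringCatSheaf) T := hT.2
  have hcl : IsClosed (CohB1.support T) := Groth.Agent.H71.QCoh.isClosed_support T
  have hne : CohB1.support T ≠ Set.univ := by
    intro h
    have : genericPoint X ∈ CohB1.support T := h ▸ Set.mem_univ _
    exact this hη
  have hdim : topologicalKrullDim (CohB1.support T) < ((1 : ℕ) : WithBot ℕ∞) :=
    Groth.Agent.H86.GV.dim_lt_of_proper_closed (Y := X) _ hcl hne 1 (by
      rw [hX.dim]; exact_mod_cast (by norm_num : (1 : ℕ) < 2))
  haveI : NoetherianSpace ↑(TopCat.of ↑(CohB1.support T)) :=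
    inferInstanceAs (NoetherianSpace ↥(CohB1.support T))
  refine Groth.Agent.H86.GV.H_subsingleton_of_supp (Y := X.toTopCat) (CohB1.support T) hcl
    (Groth.Agent.H86.GV.grothendieck_vanishing _) (Coh.toAb T) (fun x hx => ?_) p
    (lt_of_lt_of_le hdim (by exact_mod_cast hp))
  have hs : Subsingleton (T.presheaf.stalk x) := not_not.1 hx
  haveI : Subsingleton ↑(CohTop.stalk (Coh.toAb T) x) := hs
  exact AddCommGrpCat.isZero_of_subsingleton _

/-- a coherent module with vanishing generic stalk and no global sections is zero -/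
theorem ICurve.isZero_of_torsion (T : X.Modules) (hT : Coh.IsCoh T)
    (hη : Subsingleton (T.presheaf.stalk (genericPoint X)))
    (h0 : Subsingleton (Coh.HH X T 0)) : IsZero T := by
  haveI := hX.noetherianSpace
  haveI : T.IsQuasicoherent := hT.1
  haveI : SheafOfModules.IsFiniteType (R := X.ringCatSheaf) T := hT.2
  have hcl : IsClosed (CohB1.support T) := Groth.Agent.H71.QCoh.isClosed_support T
  have hηZ : genericPoint X ∉ CohB1.support T := fun h => h hη
  have hZcl : ∀ z ∈ CohB1.support T, IsClosed ({z} : Set X) := fun z hz =>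
    (hX.isClosed_or_eq_genericPoint z).resolve_right (fun h => hηZ (h ▸ hz))
  have hfin : (CohB1.support T).Finite :=
    Groth.Agent.H22.CurveFibres.finite_of_isClosed_of_forall_isClosed_singleton hcl hZcl
  refine Groth.Agent.H71.QCoh.isZero_of_subsingleton_sections T (fun W => ?_)
  refine Groth.Agent.H71.QCoh.subsingleton_sections_of_stalks T W (fun x _ => ?_)
  by_contra hx
  have hxZ : x ∈ CohB1.support T := hx
  haveI : Nontrivial (T.presheaf.stalk x) := not_subsingleton_iff_nontrivial.1 hx
  obtain ⟨t, ht⟩ := exists_ne (0 : T.presheaf.stalk x)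
  obtain ⟨U0, hxU0, s0, rfl⟩ := TopCat.Presheaf.exists_germ_eq T.presheaf t
  have hZ'cl : IsClosed (CohB1.support T \ {x}) := by
    have h1 : (CohB1.support T \ {x}) = ⋃ z ∈ (CohB1.support T \ {x}), ({z} : Set X) := by
      rw [Set.biUnion_of_singleton]
    rw [h1]
    exact (hfin.subset Set.sdiff_subset).isClosed_biUnion (fun z hz => hZcl z hz.1)
  let U1 : X.Opens := ⟨(CohB1.support T \ {x})ᶜ, hZ'cl.isOpen_compl⟩
  let U : X.Opens := U0 ⊓ U1
  have hxU : x ∈ U := ⟨hxU0, fun h => h.2 rfl⟩
  obtain ⟨σ, hσ⟩ := exists_global_section_of_germ T x (hZcl x hxZ) U hxU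
    (T.presheaf.map (homOfLE (inf_le_left : U ≤ U0)).op s0) (fun y hy hyx => by
      have hyZ : y ∉ CohB1.support T := fun h => hy.2 ⟨h, hyx⟩
      haveI : Subsingleton (T.presheaf.stalk y) := not_not.1 hyZ
      exact Subsingleton.elim _ _)
  have hσ0 : σ = 0 := by
    haveI : Subsingleton Γ(T, ⊤) := (Groth.Agent.H18.HH0.equiv T).symm.toEquiv.subsingleton
    exact Subsingleton.elim _ _
  apply ht
  rw [← TopCat.Presheaf.germ_res_apply T.presheaf (homOfLE (inf_le_left : U ≤ U0)) x hxU s0,
    ← hσ, hσ0, map_zero]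

/-- the Euler characteristic of a torsion coherent module is the dimension of its global
sections -/
theorem ICurve.euler_torsion (T : X.Modules) (hT : Coh.IsCoh T)
    (hη : Subsingleton (T.presheaf.stalk (genericPoint X))) :
    Curv2.euler k X T = (Module.finrank k (Coh.HH X T 0) : ℤ) := by
  rw [hX.euler_eq]
  haveI := hX.HH_subsingleton_of_torsion T hT hη 1 le_rfl
  have h1 : Module.finrank k (Coh.HH X T 1) = 0 := Module.finrank_zero_of_subsingleton
  rw [h1]
  simp

theorem ICurve.euler_torsion_nonneg (T : X.Modules) (hT : Coh.IsCoh T)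
    (hη : Subsingleton (T.presheaf.stalk (genericPoint X))) : 0 ≤ Curv2.euler k X T := by
  rw [hX.euler_torsion T hT hη]
  positivity

theorem ICurve.isZero_of_torsion_of_euler (T : X.Modules) (hT : Coh.IsCoh T)
    (hη : Subsingleton (T.presheaf.stalk (genericPoint X))) (he : Curv2.euler k X T = 0) :
    IsZero T := by
  refine hX.isZero_of_torsion T hT hη ?_
  rw [hX.euler_torsion T hT hη] at he
  haveI := hX.fin T hT 0
  have h0 : Module.finrank k (Coh.HH X T 0) = 0 := by exact_mod_cast he
  exact Module.finrank_zero_iff.1 h0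

/-- a monomorphism of coherent modules with torsion cokernel: the Euler characteristic grows, and
is constant exactly for isomorphisms -/
theorem ICurve.euler_le_of_mono_torsion {E F : X.Modules} (f : E ⟶ F) [Mono f]
    (hE : Coh.IsCoh E) (hF : Coh.IsCoh F)
    (hη : Subsingleton ((cokernel f).presheaf.stalk (genericPoint X))) :
    Curv2.euler k X E ≤ Curv2.euler k X F ∧ (Curv2.euler k X E = Curv2.euler k X F ↔ IsIso f) := by
  have hT : Coh.IsCoh (cokernel f) := hX.isCoh_cokernel f hE hF
  have h1 := hX.euler_add (monoSC f) (monoSC_shortExact f) hE hF hT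
  change Curv2.euler k X F = Curv2.euler k X E + Curv2.euler k X (cokernel f) at h1
  have h2 := hX.euler_torsion_nonneg (cokernel f) hT hη
  refine ⟨by linarith, ⟨fun he => ?_, fun hiso => ?_⟩⟩
  · have hz := hX.isZero_of_torsion_of_euler (cokernel f) hT hη (by linarith)
    haveI : Epi f := Preadditive.epi_of_cokernel_zero (hz.eq_of_tgt _ _)
    exact isIso_of_mono_of_epi f
  · haveI := hiso
    have hz : IsZero (cokernel f) := isZero_cokernel_of_epi f
    have := euler_of_isZero k (cokernel f) hz
    linarith

end basics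

end Groth.Agent.H76.VB
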