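import Mathlib
import Groth.Agent.H76.IC1
import Groth.Agent.H8.QCohStalk
import Groth.Agent.H18.SectionHom
import Groth.Agent.H76.CurveH
import Groth.Agent.H67.InvertibleNearFibre

/-!
helper76: integral proper curves over a field, without regularity, part 2: maps between
invertible modules.
-/

set_option autoImplicit false
set_option linter.style.haveILetI false
universe u
open CategoryTheory CategoryTheory.Limits AlgebraicGeometry TopologicalSpace Opposite

namespace Groth.Agent.H76.VB

open Groth.Agent.H38.ModStalk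

section general

variable {X : Scheme.{u}} [IsIntegral X]

/-- the stalks of a finite locally free module on an integral scheme are torsion free -/
theorem noZeroSMulDivisors_stalk_of_rank {e : ℕ} {E : X.Modules}
    (hE : FlatMod.IsFinLocFreeOfRank e E) (x : X) :
    NoZeroSMulDivisors (X.presheaf.stalk x) (E.presheaf.stalk x) := by
  obtain ⟨b⟩ := nonempty_basis_stalk E hE x
  refine ⟨fun {a m} h => ?_⟩
  by_cases ha : a = 0
  · exact Or.inl ha
  right
  apply b.repr.injective
  rw [map_zero]
  ext i
  have h1 : b.repr (a • m) i = 0 := by rw [h, map_zero]; rfl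
  rw [map_smul, Finsupp.smul_apply, smul_eq_mul] at h1
  rcases mul_eq_zero.1 h1 with h2 | h2
  · exact absurd h2 ha
  · simpa using h2

/-- a quasi-coherent submodule, with vanishing generic stalk, of a module with torsion free
stalks is zero -/
theorem isZero_of_mono_of_torsion {T L : X.Modules} (i : T ⟶ L) [Mono i]
    (hT : T.IsQuasicoherent)
    (htf : ∀ x : X, NoZeroSMulDivisors (X.presheaf.stalk x) (L.presheaf.stalk x))
    (hη : Subsingleton (T.presheaf.stalk (genericPoint X))) : IsZero T := by
  haveI := hT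
  refine Groth.Agent.H71.QCoh.isZero_of_subsingleton_sections T (fun W => ?_)
  refine Groth.Agent.H71.QCoh.subsingleton_sections_of_stalks T W (fun x _ => ?_)
  refine ⟨fun a b => ?_⟩
  suffices H : ∀ t : T.presheaf.stalk x, t = 0 by rw [H a, H b]
  intro t
  obtain ⟨U, hxU, s, rfl⟩ := TopCat.Presheaf.exists_germ_eq T.presheaf t
  obtain ⟨_, ⟨V, hV, rfl⟩, hxV, hVU⟩ :=
    X.isBasis_affineOpens.exists_subset_of_mem_open hxU U.2
  have hV' : IsAffineOpen V := hV
  have hs' : T.presheaf.germ V x hxV (T.presheaf.map (homOfLE hVU).op s) =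
      T.presheaf.germ U x hxU s := TopCat.Presheaf.germ_res_apply T.presheaf (homOfLE hVU) x hxV s
  have hηV : genericPoint X ∈ V :=
    ((genericPoint_spec X).mem_open_set_iff V.2).2 ⟨x, trivial, hxV⟩
  haveI := Groth.Agent.H8.isLocalizedModule_germₗ T hV' hηV
  letI := Groth.Agent.H8.stalkModule T hηV
  obtain ⟨c, hc⟩ := IsLocalizedModule.exists_of_eq
    (S := (hV'.primeIdealOf ⟨genericPoint X, hηV⟩).asIdeal.primeCompl)
    (f := Groth.Agent.H8.germₗ T hηV) (x₁ := T.presheaf.map (homOfLE hVU).op s) (x₂ := 0)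
    (Subsingleton.elim _ _)
  rw [smul_zero] at hc
  have hc' : (c : Γ(X, V)) • T.presheaf.map (homOfLE hVU).op s = 0 := hc
  have hcne : (c : Γ(X, V)) ≠ 0 := by
    intro h0
    exact c.2 (h0 ▸ Ideal.zero_mem _)
  have hgc : X.presheaf.germ V x hxV (c : Γ(X, V)) ≠ 0 := fun h =>
    hcne (germ_injective_of_isIntegral X x hxV (h.trans (map_zero _).symm))
  have h1 : X.presheaf.germ V x hxV (c : Γ(X, V)) •
      T.presheaf.germ V x hxV (T.presheaf.map (homOfLE hVU).op s) = 0 := by
    rw [← Groth.Agent.H8.germ_smul T hxV, hc', map_zero]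
  have h2 : X.presheaf.germ V x hxV (c : Γ(X, V)) •
      stalkMapₗ i x (T.presheaf.germ V x hxV (T.presheaf.map (homOfLE hVU).op s)) = 0 := by
    rw [← map_smul, h1, map_zero]
  haveI := htf x
  have h3 := (eq_zero_or_eq_zero_of_smul_eq_zero h2).resolve_left hgc
  rw [← hs']
  exact stalkMapₗ_injective_of_mono i x (h3.trans (map_zero _).symm)

end general

section curve

variable {X : Scheme.{u}} [IsIntegral X]
variable {k : Type u} [Field k] [X.Over (Spec (CommRingCat.of k))] (hX : ICurve k X)
include hX

/-- a nonzero map between invertible modules on an integral curve is a monomorphism -/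
theorem ICurve.mono_of_ne_zero {N L : X.Modules} (hN : FlatMod.IsFinLocFreeOfRank 1 N)
    (hL : FlatMod.IsFinLocFreeOfRank 1 L) (φ : N ⟶ L) (hφ : φ ≠ 0) : Mono φ := by
  letI : Field (X.presheaf.stalk (genericPoint X)) := genField
  have hNc := isCoh_of_rank hN
  have hLc := isCoh_of_rank hL
  haveI hfinN := finite_genericStalk_of_rank hN
  have hg := grank_add (kerSC φ) (kerSC_shortExact φ) hfinN
  change grank N = grank (kernel φ) + grank (Abelian.image φ) at hg
  rw [grank_of_rank hN] at hg
  -- the image has positive generic rank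
  haveI hfinI : Module.Finite (X.presheaf.stalk (genericPoint X))
      ((Abelian.image φ).presheaf.stalk (genericPoint X)) :=
    Module.Finite.of_surjective (stalkMapₗ (Abelian.factorThruImage φ) (genericPoint X))
      (stalkMapₗ_surjective_of_epi _ _)
  have hI : 0 < grank (Abelian.image φ) := by
    rcases Nat.eq_zero_or_pos (grank (Abelian.image φ)) with h | h
    · exfalso
      have hsub : Subsingleton ((Abelian.image φ).presheaf.stalk (genericPoint X)) :=
        Module.finrank_zero_iff.1 h
      exact image_ne_zero φ hφ (isZero_of_mono_of_torsion (Abelian.image.ι φ)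
        (hX.isCoh_image φ hNc hLc).1 (fun x => noZeroSMulDivisors_stalk_of_rank hL x) hsub)
    · exact h
  have hK0 : grank (kernel φ) = 0 := by omega
  haveI hfinK : Module.Finite (X.presheaf.stalk (genericPoint X))
      ((kernel φ).presheaf.stalk (genericPoint X)) :=
    Module.Finite.of_injective (stalkMapₗ (kernel.ι φ) (genericPoint X))
      (stalkMapₗ_injective_of_mono _ _)
  have hsubK : Subsingleton ((kernel φ).presheaf.stalk (genericPoint X)) :=
    Module.finrank_zero_iff.1 hK0
  have hz := isZero_of_mono_of_torsion (kernel.ι φ) (hX.isCoh_kernel φ hNc hLc).1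
    (fun x => noZeroSMulDivisors_stalk_of_rank hN x) hsubK
  exact Preadditive.mono_of_kernel_zero (hz.eq_of_src _ _)

/-- core of S1521 -/
theorem ICurve.deg_le_of_ne_zero {N L : X.Modules} (hN : FlatMod.IsFinLocFreeOfRank 1 N)
    (hL : FlatMod.IsFinLocFreeOfRank 1 L) (φ : N ⟶ L) (hφ : φ ≠ 0) :
    Curv2.deg k X N 1 ≤ Curv2.deg k X L 1 ∧
      (Curv2.deg k X N 1 = Curv2.deg k X L 1 → IsIso φ) := by
  haveI := hX.mono_of_ne_zero hN hL φ hφ
  have hη := subsingleton_genericStalk_cokernel φ hN hL
  obtain ⟨h1, h2⟩ := hX.euler_le_of_mono_torsion φ (isCoh_of_rank hN) (isCoh_of_rank hL) hη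
  unfold Curv2.deg
  refine ⟨by linarith, fun h => h2.1 (by linarith)⟩

/-- core of S6540 -/
theorem ICurve.iso_structure_of_genus_zero
    (h0 : Module.finrank k (Coh.HH X (Coh.structureModule X) 0) = 1)
    (hg : Curv2.genus k X = 0) {L : X.Modules} (hL : FlatMod.IsFinLocFreeOfRank 1 L)
    (hdeg : Curv2.deg k X L 1 = 0) : Nonempty (L ≅ Coh.structureModule X) := by
  have hO : FlatMod.IsFinLocFreeOfRank 1 (Coh.structureModule X) :=
    Groth.Agent.H67.InvertibleNearFibre.isFinLocFreeOfRank_one _
      Groth.Agent.H76.Curve.isInvertible_structureModule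
  have hχO : Curv2.euler k X (Coh.structureModule X) = 1 := by
    rw [hX.euler_eq, h0]
    have : Module.finrank k (Coh.HH X (Coh.structureModule X) 1) = 0 := hg
    rw [this]
    norm_num
  have hχL : Curv2.euler k X L = 1 := by
    unfold Curv2.deg at hdeg
    rw [hχO] at hdeg
    push_cast at hdeg
    linarith
  rw [hX.euler_eq] at hχL
  have hpos : 0 < Module.finrank k (Coh.HH X L 0) := by
    have : (0 : ℤ) ≤ Module.finrank k (Coh.HH X L 1) := by positivity
    have h : (0 : ℤ) < Module.finrank k (Coh.HH X L 0) := by linarith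
    exact_mod_cast h
  haveI := hX.fin L (isCoh_of_rank hL) 0
  obtain ⟨c, hc⟩ := Module.finrank_pos_iff_exists_ne_zero.1 hpos
  let σ : Γ(L, ⊤) := Groth.Agent.H18.HH0.equiv L c
  have hσ : σ ≠ 0 := fun h => hc ((Groth.Agent.H18.HH0.equiv L).injective
    (h.trans (map_zero _).symm))
  have hφ : Groth.Agent.H18.sectionHom L σ ≠ 0 := by
    intro h
    apply hσ
    have h1 := Groth.Agent.H18.sectionHom_app_one L σ ⊤
    rw [Groth.Agent.H18.mres_self, h] at h1
    exact h1.symm
  have hdO : Curv2.deg k X (Coh.structureModule X) 1 = 0 := by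
    unfold Curv2.deg
    push_cast
    ring
  haveI := (hX.deg_le_of_ne_zero hO hL _ hφ).2 (by rw [hdO, hdeg])
  exact ⟨(asIso (Groth.Agent.H18.sectionHom L σ)).symm⟩

end curve

end Groth.Agent.H76.VB
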