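import Mathlib
import Groth.Agent.S0002
import Groth.Agent.H76.IC2

/-!
helper76: integral proper curves over a field: statement-level consequences (through `S0002`).
-/

set_option autoImplicit false
set_option linter.style.haveILetI false
universe u
open CategoryTheory CategoryTheory.Limits AlgebraicGeometry TopologicalSpace Opposite

namespace Groth.Agent.H76.VB

variable (k : Type u) [Field k] (X : Scheme.{u}) [X.Over (Spec (CommRingCat.of k))]

/-- an integral proper curve over a field is an `ICurve` -/
theorem icurve_of_proper [IsIntegral X] [IsProper (X ↘ Spec (CommRingCat.of k))]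
    (hdim : topologicalKrullDim X = 1) : ICurve k X :=
  ⟨inferInstance, hdim, fun M hM n => Groth.Agent.S0002.result k X M hM n⟩

section integral

variable [IsIntegral X] [IsProper (X ↘ Spec (CommRingCat.of k))]
  (hdim : topologicalKrullDim X = 1)
include hdim

open Groth.Agent.H67.InvertibleNearFibre in
theorem S1521_main (N L : X.Modules) (hN : PicF.IsInvertible N) (hL : PicF.IsInvertible L)
    (φ : N ⟶ L) (hφ : φ ≠ 0) :
    Curv2.deg k X N 1 ≤ Curv2.deg k X L 1 ∧
      (Curv2.deg k X N 1 = Curv2.deg k X L 1 → IsIso φ) :=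
  (icurve_of_proper k X hdim).deg_le_of_ne_zero (isFinLocFreeOfRank_one _ hN)
    (isFinLocFreeOfRank_one _ hL) φ hφ

theorem S15028_main (E F : X.Modules) (hEc : Coh.IsCoh E) (hFc : Coh.IsCoh F) (n : ℕ)
    (f : E ⟶ F) [Mono f]
    (hgen : Subsingleton ((cokernel f).presheaf.stalk (genericPoint X))) :
    Curv2.deg k X E n ≤ Curv2.deg k X F n ∧
      (Curv2.deg k X E n = Curv2.deg k X F n ↔ IsIso f) := by
  obtain ⟨h1, h2⟩ := (icurve_of_proper k X hdim).euler_le_of_mono_torsion f hEc hFc hgen
  unfold Curv2.deg
  refine ⟨by linarith, ⟨fun h => h2.1 (by linarith), fun h => ?_⟩⟩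
  have := h2.2 h
  linarith

open Groth.Agent.H67.InvertibleNearFibre in
theorem S6540_main (h0 : Module.finrank k (Coh.HH X (Coh.structureModule X) 0) = 1)
    (hg : Curv2.genus k X = 0) (L : X.Modules) (hL : PicF.IsInvertible L)
    (hdeg : Curv2.deg k X L 1 = 0) : Nonempty (L ≅ Coh.structureModule X) :=
  (icurve_of_proper k X hdim).iso_structure_of_genus_zero h0 hg (isFinLocFreeOfRank_one _ hL) hdeg

end integral

end Groth.Agent.H76.VB
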