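import Mathlib

set_option autoImplicit false
universe u v

/-!
# Surjectivity of endomorphisms of complete local algebras; automorphisms of `k[[t]]`
-/

namespace Groth.Agent.H76.Inv

section surj

variable {k : Type u} {R : Type v} [Field k] [CommRing R] [Algebra k R]

theorem map_pow_le (I : Ideal R) (φ : R →ₐ[k] R) (h3 : Ideal.map φ I ≤ I) (n : ℕ) :
    Ideal.map φ (I ^ n) ≤ I ^ n := by
  rw [Ideal.map_pow]
  exact Ideal.pow_right_mono h3 n

theorem le_map_pow (I : Ideal R) (φ : R →ₐ[k] R) (h2 : I ≤ Ideal.map φ I) (n : ℕ) :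
    I ^ n ≤ Ideal.map φ (I ^ n) := by
  rw [Ideal.map_pow]
  exact Ideal.pow_right_mono h2 n

theorem apply_mem_pow (I : Ideal R) (φ : R →ₐ[k] R) (h3 : Ideal.map φ I ≤ I) (n : ℕ) (b : R)
    (hb : b ∈ I ^ n) : φ b ∈ I ^ n :=
  map_pow_le I φ h3 n (Ideal.mem_map_of_mem _ hb)

/-- one approximation step. -/
theorem step (I : Ideal R) (φ : R →ₐ[k] R)
    (h1 : ∀ r : R, ∃ c : k, r - algebraMap k R c ∈ I) (h2 : I ≤ Ideal.map φ I)
    (h3 : Ideal.map φ I ≤ I) (n : ℕ) (a : R) (ha : a ∈ I ^ n) :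
    ∃ b ∈ I ^ n, a - φ b ∈ I ^ (n + 1) := by
  have ha' : a ∈ Ideal.map φ (I ^ n) := le_map_pow I φ h2 n ha
  unfold Ideal.map at ha'
  induction ha' using Submodule.span_induction with
  | mem x hx =>
    obtain ⟨μ, hμ, rfl⟩ := hx
    exact ⟨μ, hμ, by rw [sub_self]; exact Ideal.zero_mem _⟩
  | zero => exact ⟨0, Ideal.zero_mem _, by rw [map_zero, sub_self]; exact Ideal.zero_mem _⟩
  | add x y hx hy ihx ihy =>
    have hxn : x ∈ I ^ n := map_pow_le I φ h3 n hx
    have hyn : y ∈ I ^ n := map_pow_le I φ h3 n hy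
    obtain ⟨b₁, hb₁, h₁⟩ := ihx hxn
    obtain ⟨b₂, hb₂, h₂⟩ := ihy hyn
    refine ⟨b₁ + b₂, Ideal.add_mem _ hb₁ hb₂, ?_⟩
    have : x + y - φ (b₁ + b₂) = (x - φ b₁) + (y - φ b₂) := by rw [map_add]; ring
    rw [this]
    exact Ideal.add_mem _ h₁ h₂
  | smul r x hx ihx =>
    have hxn : x ∈ I ^ n := map_pow_le I φ h3 n hx
    obtain ⟨b, hb, h⟩ := ihx hxn
    obtain ⟨c, hc⟩ := h1 r
    refine ⟨c • b, Submodule.smul_of_tower_mem _ c hb, ?_⟩
    have : r • x - φ (c • b) = algebraMap k R c * (x - φ b) + (r - algebraMap k R c) * x := by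
      rw [map_smul, smul_eq_mul, Algebra.smul_def]
      ring
    rw [this]
    refine Ideal.add_mem _ (Ideal.mul_mem_left _ _ h) ?_
    rw [pow_succ']
    exact Ideal.mul_mem_mul hc hxn

theorem surjective_of_complete (I : Ideal R) [IsAdicComplete I R] (φ : R →ₐ[k] R)
    (h1 : ∀ r : R, ∃ c : k, r - algebraMap k R c ∈ I) (h2 : I ≤ Ideal.map φ I)
    (h3 : Ideal.map φ I ≤ I) : Function.Surjective φ := by
  intro a
  -- the approximating sequence
  have stepc : ∀ (n : ℕ) (b : {b : R // a - φ b ∈ I ^ n}),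
      ∃ b' : {b : R // a - φ b ∈ I ^ (n + 1)}, b'.1 - b.1 ∈ I ^ n := by
    intro n b
    obtain ⟨d, hd, hd'⟩ := step I φ h1 h2 h3 n (a - φ b.1) b.2
    refine ⟨⟨b.1 + d, ?_⟩, ?_⟩
    · have : a - φ (b.1 + d) = a - φ b.1 - φ d := by rw [map_add]; ring
      rw [this]
      exact hd'
    · show b.1 + d - b.1 ∈ I ^ n
      rw [add_sub_cancel_left]
      exact hd
  choose nxt hnxt using stepc
  let seq : (n : ℕ) → {b : R // a - φ b ∈ I ^ n} := fun n =>
    Nat.rec (motive := fun n => {b : R // a - φ b ∈ I ^ n})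
      ⟨0, by rw [pow_zero, Ideal.one_eq_top]; trivial⟩ (fun n b => nxt n b) n
  have hseq : ∀ n, (seq (n + 1)).1 - (seq n).1 ∈ I ^ n := fun n => hnxt n (seq n)
  have hcauchy : ∀ m n, m ≤ n → (seq n).1 - (seq m).1 ∈ I ^ m := by
    intro m n hmn
    induction n, hmn using Nat.le_induction with
    | base => rw [sub_self]; exact Ideal.zero_mem _
    | succ n hmn ih =>
      have : (seq (n + 1)).1 - (seq m).1 = ((seq (n + 1)).1 - (seq n).1) + ((seq n).1 - (seq m).1) := by
        ring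
      rw [this]
      exact Ideal.add_mem _ (Ideal.pow_le_pow_right hmn (hseq n)) ih
  obtain ⟨L, hL⟩ := IsPrecomplete.prec (I := I) (M := R) inferInstance (f := fun n => (seq n).1) (by
    intro m n hmn
    rw [SModEq.sub_mem, smul_eq_mul, Ideal.mul_top]
    have := hcauchy m n hmn
    have h' : (seq m).1 - (seq n).1 = -((seq n).1 - (seq m).1) := by ring
    rw [h']
    exact neg_mem this)
  refine ⟨L, ?_⟩
  have hz : a - φ L = 0 := by
    apply IsHausdorff.haus (I := I) (M := R) inferInstance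
    intro n
    rw [SModEq.sub_mem, smul_eq_mul, Ideal.mul_top, sub_zero]
    have hLn : (seq n).1 - L ∈ I ^ n := by
      have := hL n
      rw [SModEq.sub_mem, smul_eq_mul, Ideal.mul_top] at this
      exact this
    have : a - φ L = (a - φ (seq n).1) + φ ((seq n).1 - L) := by rw [map_sub]; ring
    rw [this]
    exact Ideal.add_mem _ (seq n).2 (apply_mem_pow I φ h3 n _ hLn)
  exact (sub_eq_zero.mp hz).symm

end surj

end Groth.Agent.H76.Inv
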