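import Mathlib
import Groth.Agent.H76.InvA
import Groth.Agent.H76.ArSingA

set_option autoImplicit false
universe u

/-!
# Automorphisms of `k[[t]]` by substitution, and linearization of involutions
-/

namespace Groth.Agent.H76.Inv

open PowerSeries Groth.Agent.H76

section psaut

variable (k : Type u) [Field k]

local notation "P" => PowerSeries k

/-- substitution `X ↦ u`. -/
noncomputable def sb (u : P) (hu : constantCoeff u = 0) : P →ₐ[k] P :=
  substAlgHom (HasSubst.of_constantCoeff_zero' hu)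

theorem sb_X (u : P) (hu : constantCoeff u = 0) : sb k u hu X = u :=
  substAlgHom_X _

theorem iInf_span_X_pow : ⨅ n : ℕ, (Ideal.span {(X : P)}) ^ n = ⊥ :=
  Ideal.iInf_pow_eq_bot_of_isLocalRing _ (by
    rw [← maximalIdeal_eq_span_X]
    exact (IsLocalRing.maximalIdeal.isMaximal _).ne_top)

/-- `k`-algebra endomorphisms of `k[[t]]` with `X ↦ (X)` are determined by the image of `X`. -/
theorem algHom_ext_X (ψ₁ ψ₂ : P →ₐ[k] P) (h : ψ₁ X = ψ₂ X) (hX : constantCoeff (ψ₁ X) = 0) :
    ψ₁ = ψ₂ :=
  ArSing.ps_algHom_ext (Ideal.span {(X : P)}) (iInf_span_X_pow k) ψ₁ ψ₂ h (by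
    rw [Ideal.mem_span_singleton, X_dvd_iff]
    exact hX)

theorem exists_eq_X_mul (u : P) (hu : constantCoeff u = 0) :
    ∃ w : P, u = X * w ∧ constantCoeff w = coeff 1 u := by
  obtain ⟨w, hw⟩ := X_dvd_iff.mpr hu
  refine ⟨w, hw, ?_⟩
  rw [hw, show (1 : ℕ) = 0 + 1 from rfl, coeff_succ_X_mul, coeff_zero_eq_constantCoeff_apply]

theorem sb_injective (u : P) (hu : constantCoeff u = 0) (hu0 : u ≠ 0) :
    Function.Injective (sb k u hu) := by
  rw [injective_iff_map_eq_zero]
  intro f hf
  by_contra hf0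
  have h1 : X ^ f.order.toNat * divXPowOrder f = f := X_pow_order_mul_divXPowOrder
  have h2 : IsUnit (divXPowOrder f) := isUnit_divided_by_X_pow_order hf0
  rw [← h1, map_mul, map_pow, sb_X] at hf
  rcases mul_eq_zero.mp hf with h | h
  · exact hu0 (pow_eq_zero_iff (by
      intro h0
      rw [h0, pow_zero] at h
      exact one_ne_zero h) |>.mp h)
  · exact (h2.map (sb k u hu)).ne_zero h

theorem sb_surjective (u : P) (hu : constantCoeff u = 0) (hu1 : coeff 1 u ≠ 0) :
    Function.Surjective (sb k u hu) := by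
  obtain ⟨w, hw, hw0⟩ := exists_eq_X_mul k u hu
  have hwu : IsUnit w := by
    rw [isUnit_iff_constantCoeff, hw0]
    exact IsUnit.mk0 _ hu1
  have hmap : Ideal.map (sb k u hu) (Ideal.span {(X : P)}) = Ideal.span {u} := by
    rw [Ideal.map_span, Set.image_singleton]
    congr 2
    exact sb_X k u hu
  have hspan : Ideal.span {u} = Ideal.span {(X : P)} := by
    rw [hw]
    exact Ideal.span_singleton_mul_right_unit hwu _
  apply surjective_of_complete (Ideal.span {(X : P)}) (sb k u hu)
  · intro r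
    refine ⟨constantCoeff r, ?_⟩
    rw [Ideal.mem_span_singleton, X_dvd_iff, map_sub]
    have : (algebraMap k P) (constantCoeff r) = C (constantCoeff r) := rfl
    rw [this, constantCoeff_C, sub_self]
  · rw [hmap, hspan]
  · rw [hmap, hspan]

/-- the automorphism `X ↦ u` of `k[[t]]`. -/
noncomputable def psAut (u : P) (hu : constantCoeff u = 0) (hu1 : coeff 1 u ≠ 0) : P ≃ₐ[k] P :=
  AlgEquiv.ofBijective (sb k u hu) ⟨sb_injective k u hu (by
    rintro rfl
    exact hu1 (by simp)), sb_surjective k u hu hu1⟩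

theorem psAut_X (u : P) (hu : constantCoeff u = 0) (hu1 : coeff 1 u ≠ 0) :
    psAut k u hu hu1 X = u := sb_X k u hu

end psaut

end Groth.Agent.H76.Inv
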