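import Mathlib
import Groth.Agent.H76.InvB
import Groth.Agent.H76.ArSingJ

set_option autoImplicit false
universe u

/-!
# Endomorphisms of `k[[t]]`: constant terms, linear terms, linearization of involutions
-/

namespace Groth.Agent.H76.Inv

open PowerSeries Groth.Agent.H76

section lin

variable (k : Type u) [Field k]

local notation "P" => PowerSeries k

theorem algebraMap_eq_C (c : k) : (algebraMap k P) c = C c := rfl

theorem constantCoeff_apply_X (ψ : P →ₐ[k] P) : constantCoeff (ψ X) = 0 := by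
  by_contra hc
  set c := constantCoeff (ψ X) with hcdef
  have hu : IsUnit ((X : P) - C c) := by
    rw [isUnit_iff_constantCoeff, map_sub, constantCoeff_X, constantCoeff_C, zero_sub]
    exact (IsUnit.mk0 _ hc).neg
  have hu' := hu.map ψ
  rw [map_sub, ← algebraMap_eq_C, AlgHom.commutes, algebraMap_eq_C, isUnit_iff_constantCoeff,
    map_sub, constantCoeff_C, ← hcdef, sub_self] at hu'
  exact not_isUnit_zero hu'

/-- the constant coefficient as an algebra map. -/
noncomputable def ccₐ : P →ₐ[k] k :=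
  { (constantCoeff : P →+* k) with
    commutes' := fun c => by
      show constantCoeff ((algebraMap k P) c) = c
      rw [algebraMap_eq_C, constantCoeff_C] }

theorem ccₐ_apply (p : P) : ccₐ k p = constantCoeff p := rfl

theorem constantCoeff_apply (ψ : P →ₐ[k] P) (p : P) : constantCoeff (ψ p) = constantCoeff p := by
  have h := ArSing.ps_algHom_ext (⊥ : Ideal k)
    (eq_bot_iff.mpr (iInf_le_of_le 1 (by rw [pow_one]))) ((ccₐ k).comp ψ) (ccₐ k)
    (by
      rw [AlgHom.comp_apply, ccₐ_apply, ccₐ_apply, constantCoeff_apply_X, constantCoeff_X])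
    (by
      rw [AlgHom.comp_apply, ccₐ_apply, constantCoeff_apply_X]
      exact Ideal.zero_mem _)
  have := DFunLike.congr_fun h p
  rw [AlgHom.comp_apply, ccₐ_apply, ccₐ_apply] at this
  exact this

theorem constantCoeff_apply_X' (ρ : P ≃ₐ[k] P) : constantCoeff (ρ X) = 0 :=
  constantCoeff_apply_X k (ρ : P →ₐ[k] P)

theorem constantCoeff_apply' (ρ : P ≃ₐ[k] P) (p : P) : constantCoeff (ρ p) = constantCoeff p :=
  constantCoeff_apply k (ρ : P →ₐ[k] P) p

theorem coeff_one_mul (p q : P) (hp : constantCoeff p = 0) :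
    coeff 1 (p * q) = coeff 1 p * constantCoeff q := by
  rw [coeff_mul, Finset.Nat.antidiagonal_succ, Finset.sum_cons]
  simp only [Finset.Nat.antidiagonal_zero, Finset.map_singleton, Finset.sum_singleton,
    Function.Embedding.coe_prodMap, Function.Embedding.coeFn_mk, Prod.map_apply,
    Function.Embedding.refl_apply, Nat.succ_eq_add_one, zero_add]
  rw [coeff_zero_eq_constantCoeff_apply, coeff_zero_eq_constantCoeff_apply, hp, zero_mul, zero_add]

theorem coeff_one_apply_X_ne_zero (ρ : P ≃ₐ[k] P) : coeff 1 (ρ X) ≠ 0 := by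
  intro h0
  obtain ⟨f, hf⟩ := ρ.surjective X
  obtain ⟨f₁, hf₁⟩ := ArSing.ps_decomp f
  have h1 : (X : P) = C (constantCoeff f) + ρ X * ρ f₁ := by
    conv_lhs => rw [← hf, hf₁]
    rw [map_add, map_mul, ← algebraMap_eq_C, AlgEquiv.commutes]
  have hcc : constantCoeff f = 0 := by
    have := congrArg constantCoeff h1
    rw [constantCoeff_X, map_add, constantCoeff_C, map_mul,
      constantCoeff_apply_X' k ρ, zero_mul, add_zero] at this
    exact this.symm
  rw [hcc, map_zero, zero_add] at h1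
  have h2 := congrArg (coeff 1) h1
  rw [coeff_one_X, coeff_one_mul k _ _ (constantCoeff_apply_X' k ρ), h0, zero_mul] at h2
  exact one_ne_zero h2

/-- **Linearization of involutions of `k[[t]]`.** -/
theorem linearize (h2 : (2 : k) ≠ 0) (ρ : P ≃ₐ[k] P) (hρ : ∀ p, ρ (ρ p) = p) :
    ∃ (c : k) (τ : P ≃ₐ[k] P), c * c = 1 ∧ c = coeff 1 (ρ X) ∧
      τ X = (X + C c * ρ X) * C (2⁻¹ : k) ∧ ∀ p, ρ (τ p) = τ (ArSing.rs k c p) := by
  set c := coeff 1 (ρ X) with hc
  have hcc0 : constantCoeff (ρ X) = 0 := constantCoeff_apply_X' k ρ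
  obtain ⟨w, hw, hw0⟩ := exists_eq_X_mul k (ρ X) hcc0
  have hcc : c * c = 1 := by
    have h1 : (X : P) * (w * ρ w) = X * 1 := by
      have := hρ X
      rw [hw, map_mul, hw] at this
      rw [mul_one]
      linear_combination this
    have h3 : w * ρ w = 1 := mul_left_cancel₀ X_ne_zero h1
    have := congrArg constantCoeff h3
    rw [map_mul, constantCoeff_apply' k ρ, hw0, map_one] at this
    exact this
  obtain ⟨u, hu⟩ : ∃ u : P, u = (X + C c * ρ X) * C (2⁻¹ : k) := ⟨_, rfl⟩
  have hu0 : constantCoeff u = 0 := by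
    rw [hu, map_mul, map_add, map_mul, constantCoeff_X, hcc0, mul_zero, add_zero, zero_mul]
  have hu1 : coeff 1 u = 1 := by
    rw [hu, mul_comm, coeff_C_mul, map_add, coeff_one_X, coeff_C_mul, ← hc, hcc]
    field_simp
    norm_num
  have hρu : ρ u = C c * u := by
    rw [hu, map_mul, map_add, map_mul, hρ, ← algebraMap_eq_C, ← algebraMap_eq_C, AlgEquiv.commutes,
      AlgEquiv.commutes, algebraMap_eq_C, algebraMap_eq_C]
    have : (C c : P) * C c = 1 := by rw [← map_mul, hcc, map_one]
    linear_combination (-(ρ X) * C (2⁻¹ : k)) * this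
  have hu1' : coeff 1 u ≠ 0 := by rw [hu1]; exact one_ne_zero
  have hτX : psAut k u hu0 hu1' X = u := psAut_X k u hu0 hu1'
  refine ⟨c, psAut k u hu0 hu1', hcc, rfl, by rw [hτX, hu], ?_⟩
  intro p
  have hext : ((ρ : P →ₐ[k] P).comp (psAut k u hu0 hu1' : P →ₐ[k] P)) =
      ((psAut k u hu0 hu1' : P →ₐ[k] P).comp (ArSing.rs k c)) := by
    apply algHom_ext_X
    · rw [AlgHom.comp_apply, AlgHom.comp_apply, ArSing.rs_X]
      show ρ (psAut k u hu0 hu1' X) = psAut k u hu0 hu1' (C c * X)
      rw [hτX, hρu, map_mul, hτX, ← algebraMap_eq_C, AlgEquiv.commutes]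
    · rw [AlgHom.comp_apply]
      show constantCoeff (ρ (psAut k u hu0 hu1' X)) = 0
      rw [hτX, hρu, map_mul, hu0, mul_zero]
  exact DFunLike.congr_fun hext p

end lin

end Groth.Agent.H76.Inv
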