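import Mathlib
import Groth.Agent.H76.InvC
import Groth.Agent.H76.ArSingJ

set_option autoImplicit false
universe u

/-!
# The two branches of `A_r = k[[x,y]]/(y^2 - x^(2N))`
-/

namespace Groth.Agent.H76.Inv

open PowerSeries Groth.Agent.H76

section branches

variable (k : Type u) [Field k] (r N : ℕ) (hN : r + 1 = 2 * N)

local notation "𝒜" => ArSing.ring k r
local notation "P" => PowerSeries k

include hN in
theorem N_pos : 0 < N := by omega

include hN in
theorem cc_X_pow : constantCoeff ((X : P) ^ N) = 0 := by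
  rw [map_pow, constantCoeff_X, zero_pow (N_pos r N hN).ne']

/-- the branch `y = x^N` -/
noncomputable def b₁ : 𝒜 →ₐ[k] P :=
  ArSing.toP k r X (X ^ N) constantCoeff_X (cc_X_pow k r N hN)
    (by rw [← pow_mul, mul_comm, hN])

/-- the branch `y = -x^N` -/
noncomputable def b₂ : 𝒜 →ₐ[k] P :=
  ArSing.toP k r X (-(X ^ N)) constantCoeff_X
    (by rw [map_neg, cc_X_pow k r N hN, neg_zero])
    (by rw [neg_sq, ← pow_mul, mul_comm, hN])

theorem b₁_x : b₁ k r N hN (ArSing.x k r) = X := ArSing.toP_x k r _ _ _ _ _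
theorem b₁_y : b₁ k r N hN (ArSing.y k r) = X ^ N := ArSing.toP_y k r _ _ _ _ _
theorem b₂_x : b₂ k r N hN (ArSing.x k r) = X := ArSing.toP_x k r _ _ _ _ _
theorem b₂_y : b₂ k r N hN (ArSing.y k r) = -(X ^ N) := ArSing.toP_y k r _ _ _ _ _

theorem b₁_xMap (f : P) : b₁ k r N hN (ArSing.xMap k r f) = f :=
  ArSing.algHom_xMap_of_x_eq_X k r _ (b₁_x k r N hN) f

theorem b₂_xMap (f : P) : b₂ k r N hN (ArSing.xMap k r f) = f :=
  ArSing.algHom_xMap_of_x_eq_X k r _ (b₂_x k r N hN) f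

theorem b₁_normal (f g : P) :
    b₁ k r N hN (ArSing.xMap k r f + ArSing.xMap k r g * ArSing.y k r) = f + g * X ^ N := by
  rw [map_add, map_mul, b₁_xMap, b₁_xMap, b₁_y]

theorem b₂_normal (f g : P) :
    b₂ k r N hN (ArSing.xMap k r f + ArSing.xMap k r g * ArSing.y k r) = f - g * X ^ N := by
  rw [map_add, map_mul, b₂_xMap, b₂_xMap, b₂_y]
  ring

theorem b₁_surjective : Function.Surjective (b₁ k r N hN) :=
  fun p => ⟨_, b₁_xMap k r N hN p⟩

theorem b₂_surjective : Function.Surjective (b₂ k r N hN) :=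
  fun p => ⟨_, b₂_xMap k r N hN p⟩

/-- the two branches are congruent modulo `X^N` -/
theorem b_dvd (a : 𝒜) : (X : P) ^ N ∣ b₁ k r N hN a - b₂ k r N hN a := by
  obtain ⟨f, g, rfl⟩ := ArSing.exists_normal k r a
  rw [b₁_normal, b₂_normal]
  exact ⟨2 * g, by ring⟩

theorem two_unit : PowerSeries.C ((2 : k)⁻¹) * (2 : P) = 1 ↔ (2 : k) ≠ 0 := by
  have e2 : (2 : P) = PowerSeries.C (2 : k) := (map_ofNat _ 2).symm
  rw [e2, ← map_mul]
  constructor
  · intro h h0
    rw [h0, mul_zero, map_zero] at h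
    exact zero_ne_one h
  · intro h
    rw [inv_mul_cancel₀ h, map_one]

variable (h2 : (2 : k) ≠ 0)
include h2

/-- the two branches separate points -/
theorem b_injective (a : 𝒜) (h₁ : b₁ k r N hN a = 0) (h₂ : b₂ k r N hN a = 0) : a = 0 := by
  obtain ⟨f, g, rfl⟩ := ArSing.exists_normal k r a
  rw [b₁_normal] at h₁
  rw [b₂_normal] at h₂
  have hf : f = 0 := ArSing.two_mul_eq_zero k h2 f (by linear_combination h₁ + h₂)
  have hg : g * X ^ N = 0 := ArSing.two_mul_eq_zero k h2 _ (by linear_combination h₁ - h₂)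
  have hg' : g = 0 := (mul_eq_zero.mp hg).resolve_right (pow_ne_zero _ X_ne_zero)
  rw [hf, hg']
  simp

theorem b_ext (a b : 𝒜) (h₁ : b₁ k r N hN a = b₁ k r N hN b)
    (h₂ : b₂ k r N hN a = b₂ k r N hN b) : a = b := by
  have := b_injective k r N hN h2 (a - b) (by rw [map_sub, h₁, sub_self])
    (by rw [map_sub, h₂, sub_self])
  exact sub_eq_zero.mp this

/-- the two branches glue: a pair congruent modulo `X^N` comes from `A_r` -/
theorem b_surj (p q : P) (h : (X : P) ^ N ∣ p - q) :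
    ∃ a : 𝒜, b₁ k r N hN a = p ∧ b₂ k r N hN a = q := by
  obtain ⟨d, hd⟩ := h
  have h2' : PowerSeries.C ((2 : k)⁻¹) * (2 : P) = 1 := (two_unit k).mpr h2
  refine ⟨ArSing.xMap k r (PowerSeries.C ((2 : k)⁻¹) * (p + q)) +
    ArSing.xMap k r (PowerSeries.C ((2 : k)⁻¹) * d) * ArSing.y k r, ?_, ?_⟩
  · rw [b₁_normal]
    linear_combination (p) * h2' - PowerSeries.C ((2 : k)⁻¹) * hd
  · rw [b₂_normal]
    linear_combination (q) * h2' + PowerSeries.C ((2 : k)⁻¹) * hd

omit h2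

include hN in
/-- a map from `A_r` to a domain kills one of the two branches -/
theorem branch_dichotomy (ψ : 𝒜 →ₐ[k] P) :
    ψ (ArSing.y k r) = ψ (ArSing.x k r) ^ N ∨ ψ (ArSing.y k r) = -(ψ (ArSing.x k r) ^ N) := by
  have hrel := congrArg ψ (ArSing.relation k r)
  rw [map_pow, map_pow, hN] at hrel
  have : (ψ (ArSing.y k r) - ψ (ArSing.x k r) ^ N) * (ψ (ArSing.y k r) + ψ (ArSing.x k r) ^ N) = 0 := by
    rw [pow_mul'] at hrel
    linear_combination hrel
  rcases mul_eq_zero.mp this with h | h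
  · left; exact sub_eq_zero.mp h
  · right; exact eq_neg_of_add_eq_zero_left h

theorem factor₁ (ψ : 𝒜 →ₐ[k] P) (h : ψ (ArSing.y k r) = ψ (ArSing.x k r) ^ N) (a : 𝒜) :
    ψ a = ψ (ArSing.xMap k r (b₁ k r N hN a)) := by
  obtain ⟨f, g, rfl⟩ := ArSing.exists_normal k r a
  rw [b₁_normal, map_add, map_mul, map_add, map_mul, map_pow, ArSing.xMap_X, map_add, map_mul,
    map_pow, h]

theorem factor₂ (ψ : 𝒜 →ₐ[k] P) (h : ψ (ArSing.y k r) = -(ψ (ArSing.x k r) ^ N)) (a : 𝒜) :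
    ψ a = ψ (ArSing.xMap k r (b₂ k r N hN a)) := by
  obtain ⟨f, g, rfl⟩ := ArSing.exists_normal k r a
  rw [b₂_normal, map_add, map_mul, map_sub, map_mul, map_pow, ArSing.xMap_X, map_sub, map_mul,
    map_pow, h]
  ring

end branches

end Groth.Agent.H76.Inv
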