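import Mathlib
import Groth.Agent.H76.InvD

set_option autoImplicit false
universe u

/-!
# Automorphisms of `A_r` from pairs of automorphisms of `k[[t]]`
-/

namespace Groth.Agent.H76.Inv

open PowerSeries Groth.Agent.H76

section cong

variable (k : Type u) [Field k]

local notation "P" => PowerSeries k

theorem X_dvd_apply_X (ψ : P →ₐ[k] P) : (X : P) ∣ ψ X := by
  rw [X_dvd_iff]
  exact constantCoeff_apply_X k ψ

theorem X_pow_dvd_apply (ψ : P →ₐ[k] P) (n : ℕ) (p : P) (h : (X : P) ^ n ∣ p) :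
    (X : P) ^ n ∣ ψ p := by
  obtain ⟨d, rfl⟩ := h
  rw [map_mul, map_pow]
  exact Dvd.dvd.mul_right (pow_dvd_pow_of_dvd (X_dvd_apply_X k ψ) n) _

/-- two endomorphisms of `k[[t]]` congruent modulo `t^n` at `t` are congruent modulo `t^n`. -/
theorem cong_of_cong_X (ψ₁ ψ₂ : P →ₐ[k] P) (n : ℕ) (h : (X : P) ^ n ∣ ψ₁ X - ψ₂ X) (q : P) :
    (X : P) ^ n ∣ ψ₁ q - ψ₂ q := by
  set I : Ideal P := Ideal.span {(X : P) ^ n} with hI
  set J : Ideal (P ⧸ I) := Ideal.map (Ideal.Quotient.mk I) (Ideal.span {(X : P)}) with hJ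
  have hJn : ⨅ m : ℕ, J ^ m = ⊥ := by
    rw [eq_bot_iff]
    refine iInf_le_of_le n ?_
    rw [hJ, ← Ideal.map_pow, Ideal.span_singleton_pow, ← hI, Ideal.map_quotient_self]
  have := ArSing.ps_algHom_ext J hJn ((Ideal.Quotient.mkₐ k I).comp ψ₁)
    ((Ideal.Quotient.mkₐ k I).comp ψ₂) (by
      rw [AlgHom.comp_apply, AlgHom.comp_apply, Ideal.Quotient.mkₐ_eq_mk, Ideal.Quotient.eq, hI,
        Ideal.mem_span_singleton]
      exact h) (by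
      rw [AlgHom.comp_apply, Ideal.Quotient.mkₐ_eq_mk]
      apply Ideal.mem_map_of_mem
      rw [Ideal.mem_span_singleton]
      exact X_dvd_apply_X k ψ₁)
  have hq := DFunLike.congr_fun this q
  rw [AlgHom.comp_apply, AlgHom.comp_apply, Ideal.Quotient.mkₐ_eq_mk, Ideal.Quotient.eq, hI,
    Ideal.mem_span_singleton] at hq
  exact hq

/-- the congruence passes to inverses -/
theorem cong_symm (τ₁ τ₂ : P ≃ₐ[k] P) (n : ℕ) (h : (X : P) ^ n ∣ τ₁ X - τ₂ X) :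
    (X : P) ^ n ∣ τ₁.symm X - τ₂.symm X := by
  have h1 := cong_of_cong_X k (τ₁ : P →ₐ[k] P) (τ₂ : P →ₐ[k] P) n h (τ₂.symm X)
  have h1' : (X : P) ^ n ∣ τ₁ (τ₂.symm X) - X := by
    have e : ((τ₂ : P →ₐ[k] P) (τ₂.symm X)) = X := τ₂.apply_symm_apply X
    rw [e] at h1
    exact h1
  have h2 := X_pow_dvd_apply k (τ₁.symm : P →ₐ[k] P) n _ h1'
  have e2 : (τ₁.symm : P →ₐ[k] P) (τ₁ (τ₂.symm X) - X) = τ₂.symm X - τ₁.symm X := by
    show τ₁.symm (τ₁ (τ₂.symm X) - X) = _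
    rw [map_sub, τ₁.symm_apply_apply]
  rw [e2] at h2
  have : τ₁.symm X - τ₂.symm X = -(τ₂.symm X - τ₁.symm X) := by ring
  rw [this]
  exact (dvd_neg).mpr h2

end cong

section lift

variable (k : Type u) [Field k] (r N : ℕ) (hN : r + 1 = 2 * N) (h2 : (2 : k) ≠ 0)

local notation "𝒜" => ArSing.ring k r
local notation "P" => PowerSeries k

include h2

/-- **Lifting to `A_r`**: a pair of maps to `k[[t]]` congruent modulo `t^N` comes from a map to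
`A_r`. -/
theorem exists_lift {B : Type*} [CommRing B] [Algebra k B] (f₁ f₂ : B →ₐ[k] P)
    (h : ∀ b, (X : P) ^ N ∣ f₁ b - f₂ b) :
    ∃ Φ : B →ₐ[k] 𝒜, (∀ b, b₁ k r N hN (Φ b) = f₁ b) ∧ (∀ b, b₂ k r N hN (Φ b) = f₂ b) := by
  choose F hF₁ hF₂ using fun b => b_surj k r N hN h2 (f₁ b) (f₂ b) (h b)
  refine ⟨{ toFun := F
            map_one' := ?_
            map_mul' := ?_
            map_zero' := ?_
            map_add' := ?_
            commutes' := ?_ }, hF₁, hF₂⟩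
  · apply b_ext k r N hN h2
    · rw [hF₁, map_one, map_one]
    · rw [hF₂, map_one, map_one]
  · intro a b
    apply b_ext k r N hN h2
    · rw [hF₁, map_mul, map_mul, hF₁, hF₁]
    · rw [hF₂, map_mul, map_mul, hF₂, hF₂]
  · apply b_ext k r N hN h2
    · rw [hF₁, map_zero, map_zero]
    · rw [hF₂, map_zero, map_zero]
  · intro a b
    apply b_ext k r N hN h2
    · rw [hF₁, map_add, map_add, hF₁, hF₁]
    · rw [hF₂, map_add, map_add, hF₂, hF₂]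
  · intro c
    apply b_ext k r N hN h2
    · rw [hF₁, AlgHom.commutes, AlgHom.commutes]
    · rw [hF₂, AlgHom.commutes, AlgHom.commutes]

/-- the automorphism of `A_r` induced by a pair of congruent automorphisms of the branches -/
theorem exists_aut (τ₁ τ₂ : P ≃ₐ[k] P) (h : (X : P) ^ N ∣ τ₁ X - τ₂ X) :
    ∃ φ : 𝒜 ≃ₐ[k] 𝒜, (∀ a, b₁ k r N hN (φ a) = τ₁ (b₁ k r N hN a)) ∧
      (∀ a, b₂ k r N hN (φ a) = τ₂ (b₂ k r N hN a)) ∧
      (∀ a, b₁ k r N hN (φ.symm a) = τ₁.symm (b₁ k r N hN a)) ∧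
      (∀ a, b₂ k r N hN (φ.symm a) = τ₂.symm (b₂ k r N hN a)) := by
  have key : ∀ (τ₁ τ₂ : P ≃ₐ[k] P) (_ : (X : P) ^ N ∣ τ₁ X - τ₂ X) (a : 𝒜),
      (X : P) ^ N ∣ ((τ₁ : P →ₐ[k] P).comp (b₁ k r N hN)) a -
        ((τ₂ : P →ₐ[k] P).comp (b₂ k r N hN)) a := by
    intro τ₁ τ₂ h a
    rw [AlgHom.comp_apply, AlgHom.comp_apply]
    have e1 := X_pow_dvd_apply k (τ₁ : P →ₐ[k] P) N _ (b_dvd k r N hN a)
    have e2 := cong_of_cong_X k (τ₁ : P →ₐ[k] P) (τ₂ : P →ₐ[k] P) N h (b₂ k r N hN a)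
    have := dvd_add e1 e2
    rw [map_sub] at this
    convert this using 1
    ring
  obtain ⟨Φ, hΦ₁, hΦ₂⟩ := exists_lift k r N hN h2 _ _ (key τ₁ τ₂ h)
  obtain ⟨Ψ, hΨ₁, hΨ₂⟩ := exists_lift k r N hN h2 _ _ (key τ₁.symm τ₂.symm (cong_symm k τ₁ τ₂ N h))
  have hΦΨ : Φ.comp Ψ = AlgHom.id k 𝒜 := by
    ext a
    apply b_ext k r N hN h2
    · rw [AlgHom.comp_apply, hΦ₁, AlgHom.comp_apply, hΨ₁, AlgHom.comp_apply]
      exact τ₁.apply_symm_apply _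
    · rw [AlgHom.comp_apply, hΦ₂, AlgHom.comp_apply, hΨ₂, AlgHom.comp_apply]
      exact τ₂.apply_symm_apply _
  have hΨΦ : Ψ.comp Φ = AlgHom.id k 𝒜 := by
    ext a
    apply b_ext k r N hN h2
    · rw [AlgHom.comp_apply, hΨ₁, AlgHom.comp_apply, hΦ₁, AlgHom.comp_apply]
      exact τ₁.symm_apply_apply _
    · rw [AlgHom.comp_apply, hΨ₂, AlgHom.comp_apply, hΦ₂, AlgHom.comp_apply]
      exact τ₂.symm_apply_apply _
  exact ⟨AlgEquiv.ofAlgHom Φ Ψ hΦΨ hΨΦ, hΦ₁, hΦ₂, hΨ₁, hΨ₂⟩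

/-- the automorphism `(x, y) ↦ (x, -y)` exchanging the two branches -/
theorem exists_swap :
    ∃ s : 𝒜 ≃ₐ[k] 𝒜, (∀ a, b₁ k r N hN (s a) = b₂ k r N hN a) ∧
      (∀ a, b₂ k r N hN (s a) = b₁ k r N hN a) ∧
      (∀ a, b₁ k r N hN (s.symm a) = b₂ k r N hN a) ∧
      (∀ a, b₂ k r N hN (s.symm a) = b₁ k r N hN a) := by
  obtain ⟨Φ, hΦ₁, hΦ₂⟩ := exists_lift k r N hN h2 (b₂ k r N hN) (b₁ k r N hN) (by
    intro a
    have := b_dvd k r N hN a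
    have e : b₂ k r N hN a - b₁ k r N hN a = -(b₁ k r N hN a - b₂ k r N hN a) := by ring
    rw [e]
    exact (dvd_neg).mpr this)
  have hΦΦ : Φ.comp Φ = AlgHom.id k 𝒜 := by
    ext a
    apply b_ext k r N hN h2
    · rw [AlgHom.comp_apply, hΦ₁, hΦ₂]; rfl
    · rw [AlgHom.comp_apply, hΦ₂, hΦ₁]; rfl
  exact ⟨AlgEquiv.ofAlgHom Φ Φ hΦΦ hΦΦ, hΦ₁, hΦ₂, hΦ₁, hΦ₂⟩

end lift

end Groth.Agent.H76.Inv
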