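import Mathlib
import Groth.Agent.H76.InvE

set_option autoImplicit false
universe u

/-!
# Involutions of `A_r`, `r` odd: conjugation to the linear models on the two branches
-/

namespace Groth.Agent.H76.Inv

open PowerSeries Groth.Agent.H76

section aux

variable (k : Type u) [Field k]

local notation "P" => PowerSeries k

theorem coeff_one_apply (ψ : P →ₐ[k] P) (p : P) (hp : constantCoeff p = 0) :
    coeff 1 (ψ p) = coeff 1 (ψ X) * coeff 1 p := by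
  obtain ⟨w, hw, hw0⟩ := exists_eq_X_mul k p hp
  rw [hw, map_mul, coeff_one_mul k _ _ (constantCoeff_apply_X k ψ), constantCoeff_apply,
    coeff_one_mul k _ _ constantCoeff_X, coeff_one_X, one_mul]

theorem coeff_one_eq_of_dvd (n : ℕ) (hn : 2 ≤ n) (p q : P) (h : (X : P) ^ n ∣ p - q) :
    coeff 1 p = coeff 1 q := by
  have := (X_pow_dvd_iff.mp h) 1 (by omega)
  rw [map_sub, sub_eq_zero] at this
  exact this

theorem X_pow_one_dvd (p : P) (hp : constantCoeff p = 0) : (X : P) ^ 1 ∣ p := by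
  rw [pow_one, X_dvd_iff]
  exact hp

theorem C_mul_C_eq_one (c : k) (hc : c * c = 1) : (C c : P) * C c = 1 := by
  rw [← map_mul, hc, map_one]

end aux

section auto

variable (k : Type u) [Field k] (r N : ℕ) (hN : r + 1 = 2 * N) (h2 : (2 : k) ≠ 0)

local notation "𝒜" => ArSing.ring k r
local notation "P" => PowerSeries k

include h2

/-- an automorphism of `A_r` preserves or exchanges the two branches -/
theorem aut_dichotomy (σ : 𝒜 ≃ₐ[k] 𝒜) :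
    (∃ ρ₁ ρ₂ : P →ₐ[k] P, (∀ a, b₁ k r N hN (σ a) = ρ₁ (b₁ k r N hN a)) ∧
      (∀ a, b₂ k r N hN (σ a) = ρ₂ (b₂ k r N hN a))) ∨
    (∃ ρ₁ ρ₂ : P →ₐ[k] P, (∀ a, b₁ k r N hN (σ a) = ρ₁ (b₂ k r N hN a)) ∧
      (∀ a, b₂ k r N hN (σ a) = ρ₂ (b₁ k r N hN a))) := by
  obtain ⟨ψ₁, hψ₁⟩ : ∃ ψ₁ : 𝒜 →ₐ[k] P, ψ₁ = (b₁ k r N hN).comp (σ : 𝒜 →ₐ[k] 𝒜) := ⟨_, rfl⟩
  obtain ⟨ψ₂, hψ₂⟩ : ∃ ψ₂ : 𝒜 →ₐ[k] P, ψ₂ = (b₂ k r N hN).comp (σ : 𝒜 →ₐ[k] 𝒜) := ⟨_, rfl⟩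
  have e₁ : ∀ a, b₁ k r N hN (σ a) = ψ₁ a := fun a => by rw [hψ₁]; rfl
  have e₂ : ∀ a, b₂ k r N hN (σ a) = ψ₂ a := fun a => by rw [hψ₂]; rfl
  have hXN : (X : P) ^ N ≠ 0 := pow_ne_zero N X_ne_zero
  rcases branch_dichotomy k r N hN ψ₁ with h₁ | h₁ <;>
    rcases branch_dichotomy k r N hN ψ₂ with h₂ | h₂
  · exfalso
    have ha : b₁ k r N hN (ArSing.y k r - ArSing.x k r ^ N) = 0 := by
      rw [map_sub, map_pow, b₁_x, b₁_y, sub_self]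
    have e1 : b₁ k r N hN (σ (ArSing.y k r - ArSing.x k r ^ N)) = 0 := by
      rw [e₁, factor₁ k r N hN ψ₁ h₁, ha, map_zero, map_zero]
    have e2 : b₂ k r N hN (σ (ArSing.y k r - ArSing.x k r ^ N)) = 0 := by
      rw [e₂, factor₁ k r N hN ψ₂ h₂, ha, map_zero, map_zero]
    have h0 := b_injective k r N hN h2 _ e1 e2
    have h0' : ArSing.y k r - ArSing.x k r ^ N = 0 := σ.injective (by rw [h0, map_zero])
    have h3 := congrArg (b₂ k r N hN) h0'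
    rw [map_sub, map_pow, b₂_x, b₂_y, map_zero] at h3
    exact hXN (ArSing.two_mul_eq_zero k h2 _ (by linear_combination -h3))
  · left
    exact ⟨ψ₁.comp (ArSing.xMap k r), ψ₂.comp (ArSing.xMap k r),
      fun a => by rw [e₁, factor₁ k r N hN ψ₁ h₁]; rfl,
      fun a => by rw [e₂, factor₂ k r N hN ψ₂ h₂]; rfl⟩
  · right
    exact ⟨ψ₁.comp (ArSing.xMap k r), ψ₂.comp (ArSing.xMap k r),
      fun a => by rw [e₁, factor₂ k r N hN ψ₁ h₁]; rfl,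
      fun a => by rw [e₂, factor₁ k r N hN ψ₂ h₂]; rfl⟩
  · exfalso
    have ha : b₂ k r N hN (ArSing.y k r + ArSing.x k r ^ N) = 0 := by
      rw [map_add, map_pow, b₂_x, b₂_y, neg_add_cancel]
    have e1 : b₁ k r N hN (σ (ArSing.y k r + ArSing.x k r ^ N)) = 0 := by
      rw [e₁, factor₂ k r N hN ψ₁ h₁, ha, map_zero, map_zero]
    have e2 : b₂ k r N hN (σ (ArSing.y k r + ArSing.x k r ^ N)) = 0 := by
      rw [e₂, factor₂ k r N hN ψ₂ h₂, ha, map_zero, map_zero]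
    have h0 := b_injective k r N hN h2 _ e1 e2
    have h0' : ArSing.y k r + ArSing.x k r ^ N = 0 := σ.injective (by rw [h0, map_zero])
    have h3 := congrArg (b₁ k r N hN) h0'
    rw [map_add, map_pow, b₁_x, b₁_y, map_zero] at h3
    exact hXN (ArSing.two_mul_eq_zero k h2 _ (by linear_combination h3))

/-- **Branch-preserving involutions** are conjugate to a pair of linear involutions. -/
theorem conj_preserve (σ : 𝒜 ≃ₐ[k] 𝒜) (hσ : ∀ a, σ (σ a) = a) (ρ₁ ρ₂ : P →ₐ[k] P)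
    (h₁ : ∀ a, b₁ k r N hN (σ a) = ρ₁ (b₁ k r N hN a))
    (h₂ : ∀ a, b₂ k r N hN (σ a) = ρ₂ (b₂ k r N hN a)) :
    ∃ (c₁ c₂ : k) (φ : 𝒜 ≃ₐ[k] 𝒜), c₁ * c₁ = 1 ∧ c₂ * c₂ = 1 ∧ (2 ≤ N → c₁ = c₂) ∧
      (∀ a, b₁ k r N hN (φ.symm (σ (φ a))) = ArSing.rs k c₁ (b₁ k r N hN a)) ∧
      (∀ a, b₂ k r N hN (φ.symm (σ (φ a))) = ArSing.rs k c₂ (b₂ k r N hN a)) := by
  have hρ₁ : ∀ p, ρ₁ (ρ₁ p) = p := by
    intro p
    have := h₁ (σ (ArSing.xMap k r p))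
    rw [hσ, h₁, b₁_xMap] at this
    exact this.symm
  have hρ₂ : ∀ p, ρ₂ (ρ₂ p) = p := by
    intro p
    have := h₂ (σ (ArSing.xMap k r p))
    rw [hσ, h₂, b₂_xMap] at this
    exact this.symm
  obtain ⟨R₁, hR₁⟩ : ∃ R₁ : P ≃ₐ[k] P, ∀ p, R₁ p = ρ₁ p :=
    ⟨AlgEquiv.ofAlgHom ρ₁ ρ₁ (AlgHom.ext hρ₁) (AlgHom.ext hρ₁), fun _ => rfl⟩
  obtain ⟨R₂, hR₂⟩ : ∃ R₂ : P ≃ₐ[k] P, ∀ p, R₂ p = ρ₂ p :=
    ⟨AlgEquiv.ofAlgHom ρ₂ ρ₂ (AlgHom.ext hρ₂) (AlgHom.ext hρ₂), fun _ => rfl⟩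
  obtain ⟨c₁, τ₁, hc₁, hc₁', hτ₁X, hτ₁⟩ := linearize k h2 R₁ (fun p => by rw [hR₁, hR₁, hρ₁])
  obtain ⟨c₂, τ₂, hc₂, hc₂', hτ₂X, hτ₂⟩ := linearize k h2 R₂ (fun p => by rw [hR₂, hR₂, hρ₂])
  have hd : (X : P) ^ N ∣ ρ₁ X - ρ₂ X := by
    have := b_dvd k r N hN (σ (ArSing.x k r))
    rw [h₁, h₂, b₁_x, b₂_x] at this
    exact this
  have hcc : 2 ≤ N → c₁ = c₂ := by
    intro hN2
    rw [hc₁', hc₂', hR₁, hR₂]
    exact coeff_one_eq_of_dvd k N hN2 _ _ hd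
  have hcong : (X : P) ^ N ∣ τ₁ X - τ₂ X := by
    rw [hτ₁X, hτ₂X, hR₁, hR₂]
    by_cases hN2 : 2 ≤ N
    · rw [hcc hN2]
      obtain ⟨d, hd⟩ := hd
      exact ⟨C c₂ * C (2⁻¹ : k) * d, by linear_combination (C c₂ * C (2⁻¹ : k)) * hd⟩
    · have hN1 : N = 1 := by have := N_pos r N hN; omega
      rw [hN1]
      apply X_pow_one_dvd
      rw [map_sub, map_mul, map_mul, map_add, map_add, map_mul, map_mul, constantCoeff_X,
        constantCoeff_apply_X, constantCoeff_apply_X]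
      ring
  obtain ⟨φ, hφ₁, hφ₂, hφ₁', hφ₂'⟩ := exists_aut k r N hN h2 τ₁ τ₂ hcong
  refine ⟨c₁, c₂, φ, hc₁, hc₂, hcc, ?_, ?_⟩
  · intro a
    rw [hφ₁', h₁, hφ₁, ← hR₁, hτ₁, τ₁.symm_apply_apply]
  · intro a
    rw [hφ₂', h₂, hφ₂, ← hR₂, hτ₂, τ₂.symm_apply_apply]

/-- **Branch-exchanging involutions** are conjugate to a linear exchange. -/
theorem conj_swap (σ : 𝒜 ≃ₐ[k] 𝒜) (hσ : ∀ a, σ (σ a) = a) (ρ₁ ρ₂ : P →ₐ[k] P)
    (h₁ : ∀ a, b₁ k r N hN (σ a) = ρ₁ (b₂ k r N hN a))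
    (h₂ : ∀ a, b₂ k r N hN (σ a) = ρ₂ (b₁ k r N hN a)) :
    ∃ (c : k) (φ : 𝒜 ≃ₐ[k] 𝒜), c * c = 1 ∧ (N = 1 → c = 1) ∧
      (∀ a, b₁ k r N hN (φ.symm (σ (φ a))) = ArSing.rs k c (b₂ k r N hN a)) ∧
      (∀ a, b₂ k r N hN (φ.symm (σ (φ a))) = ArSing.rs k c (b₁ k r N hN a)) := by
  have h12 : ∀ p, ρ₁ (ρ₂ p) = p := by
    intro p
    have := h₁ (σ (ArSing.xMap k r p))
    rw [hσ, h₂, b₁_xMap] at this
    exact this.symm
  have h21 : ∀ p, ρ₂ (ρ₁ p) = p := by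
    intro p
    have := h₂ (σ (ArSing.xMap k r p))
    rw [hσ, h₁, b₂_xMap] at this
    exact this.symm
  have hd : (X : P) ^ N ∣ ρ₁ X - ρ₂ X := by
    have := b_dvd k r N hN (σ (ArSing.x k r))
    rw [h₁, h₂, b₁_x, b₂_x] at this
    exact this
  -- the data `c`, `u`
  obtain ⟨c, u, hcc, hc1, hu0, hu1, hcu⟩ : ∃ (c : k) (u : P), c * c = 1 ∧ (N = 1 → c = 1) ∧
      constantCoeff u = 0 ∧ coeff 1 u ≠ 0 ∧ (X : P) ^ N ∣ C c * ρ₁ u - u := by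
    by_cases hN2 : 2 ≤ N
    · have hc2 : coeff 1 (ρ₂ X) = coeff 1 (ρ₁ X) :=
        (coeff_one_eq_of_dvd k N hN2 _ _ hd).symm
      have hcc : coeff 1 (ρ₁ X) * coeff 1 (ρ₁ X) = 1 := by
        have := coeff_one_apply k ρ₁ (ρ₂ X) (constantCoeff_apply_X k ρ₂)
        rw [h12, coeff_one_X, hc2] at this
        exact this.symm
      have hCC := C_mul_C_eq_one k _ hcc
      refine ⟨coeff 1 (ρ₁ X), (X + C (coeff 1 (ρ₁ X)) * ρ₁ X) * C (2⁻¹ : k), hcc,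
        fun h => by omega, ?_, ?_, ?_⟩
      · rw [map_mul, map_add, map_mul, constantCoeff_X, constantCoeff_apply_X, mul_zero, add_zero,
          zero_mul]
      · rw [mul_comm, coeff_C_mul, map_add, coeff_one_X, coeff_C_mul, hcc]
        have : (2 : k)⁻¹ * (1 + 1) = 1 := by field_simp; norm_num
        rw [this]
        exact one_ne_zero
      · have h3 := X_pow_dvd_apply k ρ₁ N _ hd
        rw [map_sub, h12] at h3
        obtain ⟨d, hd'⟩ := h3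
        refine ⟨C (2⁻¹ : k) * d, ?_⟩
        rw [map_mul, map_add, map_mul, ← algebraMap_eq_C, ← algebraMap_eq_C, AlgHom.commutes,
          AlgHom.commutes, algebraMap_eq_C, algebraMap_eq_C]
        linear_combination (C (2⁻¹ : k)) * hd' + (ρ₁ (ρ₁ X) * C (2⁻¹ : k)) * hCC
    · have hN1 : N = 1 := by have := N_pos r N hN; omega
      refine ⟨1, X, one_mul 1, fun _ => rfl, constantCoeff_X, by rw [coeff_one_X]; exact one_ne_zero,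
        ?_⟩
      rw [hN1]
      apply X_pow_one_dvd
      rw [map_sub, map_mul, constantCoeff_apply_X, constantCoeff_X, mul_zero, sub_zero]
  obtain ⟨τ₂, hτ₂X⟩ : ∃ τ₂ : P ≃ₐ[k] P, τ₂ X = u := ⟨psAut k u hu0 hu1, psAut_X k u hu0 hu1⟩
  have hrs : ∀ p, ArSing.rs k c (ArSing.rs k c p) = p := by
    intro p
    rw [ArSing.rs_rs, hcc, ArSing.rs_one]
  obtain ⟨τ₁, hτ₁, hτ₁'⟩ : ∃ τ₁ : P ≃ₐ[k] P, (∀ p, τ₁ p = ρ₁ (τ₂ (ArSing.rs k c p))) ∧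
      (∀ p, τ₁.symm p = ArSing.rs k c (τ₂.symm (ρ₂ p))) := by
    refine ⟨AlgEquiv.ofAlgHom (ρ₁.comp ((τ₂ : P →ₐ[k] P).comp (ArSing.rs k c)))
      ((ArSing.rs k c).comp ((τ₂.symm : P →ₐ[k] P).comp ρ₂)) ?_ ?_, fun _ => rfl, fun _ => rfl⟩
    · refine AlgHom.ext fun p => ?_
      show ρ₁ (τ₂ (ArSing.rs k c (ArSing.rs k c (τ₂.symm (ρ₂ p))))) = p
      rw [hrs, τ₂.apply_symm_apply, h12]
    · refine AlgHom.ext fun p => ?_
      show ArSing.rs k c (τ₂.symm (ρ₂ (ρ₁ (τ₂ (ArSing.rs k c p))))) = p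
      rw [h21, τ₂.symm_apply_apply, hrs]
  have hcong : (X : P) ^ N ∣ τ₁ X - τ₂ X := by
    rw [hτ₁, ArSing.rs_X, map_mul, ← algebraMap_eq_C, AlgEquiv.commutes, hτ₂X, map_mul,
      AlgHom.commutes, algebraMap_eq_C]
    exact hcu
  obtain ⟨φ, hφ₁, hφ₂, hφ₁', hφ₂'⟩ := exists_aut k r N hN h2 τ₁ τ₂ hcong
  refine ⟨c, φ, hcc, hc1, ?_, ?_⟩
  · intro a
    rw [hφ₁', h₁, hφ₂, hτ₁', h21, τ₂.symm_apply_apply]
  · intro a
    rw [hφ₂', h₂, hφ₁, hτ₁, h21, τ₂.symm_apply_apply]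

end auto

end Groth.Agent.H76.Inv
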