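import Mathlib
import Groth.Agent.H76.InvF

set_option autoImplicit false
universe u

/-!
# Involutions of `A_r`, `r` odd: the classification up to conjugacy
-/

namespace Groth.Agent.H76.Inv

open PowerSeries Groth.Agent.H76

section final

variable (k : Type u) [Field k] (r N : ℕ) (hN : r + 1 = 2 * N) (h2 : (2 : k) ≠ 0)

local notation "𝒜" => ArSing.ring k r
local notation "P" => PowerSeries k

theorem rs_neg_one_X : ArSing.rs k (-1) (X : P) = -X := by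
  rw [ArSing.rs_X, map_neg, map_one, neg_one_mul]

theorem rs_neg_one_X_pow (n : ℕ) : ArSing.rs k (-1) ((X : P) ^ n) = (-X) ^ n := by
  rw [map_pow, rs_neg_one_X]

include h2

theorem pres_one_one (T : 𝒜 → 𝒜)
    (H₁ : ∀ a, b₁ k r N hN (T a) = ArSing.rs k 1 (b₁ k r N hN a))
    (H₂ : ∀ a, b₂ k r N hN (T a) = ArSing.rs k 1 (b₂ k r N hN a)) (a : 𝒜) : T a = a := by
  apply b_ext k r N hN h2
  · rw [H₁, ArSing.rs_one]
  · rw [H₂, ArSing.rs_one]

theorem pres_neg_neg (T : 𝒜 → 𝒜)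
    (H₁ : ∀ a, b₁ k r N hN (T a) = ArSing.rs k (-1) (b₁ k r N hN a))
    (H₂ : ∀ a, b₂ k r N hN (T a) = ArSing.rs k (-1) (b₂ k r N hN a)) :
    T (ArSing.x k r) = -ArSing.x k r ∧ (Even N → T (ArSing.y k r) = ArSing.y k r) ∧
      (Odd N → T (ArSing.y k r) = -ArSing.y k r) := by
  refine ⟨?_, ?_, ?_⟩
  · apply b_ext k r N hN h2
    · rw [H₁, map_neg, b₁_x, rs_neg_one_X]
    · rw [H₂, map_neg, b₂_x, rs_neg_one_X]
  · intro hE
    apply b_ext k r N hN h2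
    · rw [H₁, b₁_y, rs_neg_one_X_pow, hE.neg_pow]
    · rw [H₂, b₂_y, map_neg, rs_neg_one_X_pow, hE.neg_pow]
  · intro hO
    apply b_ext k r N hN h2
    · rw [H₁, map_neg, b₁_y, rs_neg_one_X_pow, hO.neg_pow]
    · rw [H₂, map_neg, b₂_y, map_neg, rs_neg_one_X_pow, hO.neg_pow]

theorem pres_one_neg (hN1 : N = 1) (T : 𝒜 → 𝒜)
    (H₁ : ∀ a, b₁ k r N hN (T a) = ArSing.rs k 1 (b₁ k r N hN a))
    (H₂ : ∀ a, b₂ k r N hN (T a) = ArSing.rs k (-1) (b₂ k r N hN a)) :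
    T (ArSing.x k r) = ArSing.y k r ∧ T (ArSing.y k r) = ArSing.x k r := by
  subst hN1
  refine ⟨?_, ?_⟩
  · apply b_ext k r 1 hN h2
    · rw [H₁, ArSing.rs_one, b₁_x, b₁_y, pow_one]
    · rw [H₂, b₂_x, b₂_y, rs_neg_one_X, pow_one]
  · apply b_ext k r 1 hN h2
    · rw [H₁, ArSing.rs_one, b₁_x, b₁_y, pow_one]
    · rw [H₂, b₂_x, b₂_y, map_neg, pow_one, rs_neg_one_X, neg_neg]

theorem swap_one (T : 𝒜 → 𝒜)
    (H₁ : ∀ a, b₁ k r N hN (T a) = ArSing.rs k 1 (b₂ k r N hN a))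
    (H₂ : ∀ a, b₂ k r N hN (T a) = ArSing.rs k 1 (b₁ k r N hN a)) :
    T (ArSing.x k r) = ArSing.x k r ∧ T (ArSing.y k r) = -ArSing.y k r := by
  refine ⟨?_, ?_⟩
  · apply b_ext k r N hN h2
    · rw [H₁, ArSing.rs_one, b₁_x, b₂_x]
    · rw [H₂, ArSing.rs_one, b₁_x, b₂_x]
  · apply b_ext k r N hN h2
    · rw [H₁, ArSing.rs_one, map_neg, b₁_y, b₂_y]
    · rw [H₂, ArSing.rs_one, map_neg, b₁_y, b₂_y, neg_neg]

theorem swap_neg (T : 𝒜 → 𝒜)
    (H₁ : ∀ a, b₁ k r N hN (T a) = ArSing.rs k (-1) (b₂ k r N hN a))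
    (H₂ : ∀ a, b₂ k r N hN (T a) = ArSing.rs k (-1) (b₁ k r N hN a)) :
    T (ArSing.x k r) = -ArSing.x k r ∧ (Even N → T (ArSing.y k r) = -ArSing.y k r) ∧
      (Odd N → T (ArSing.y k r) = ArSing.y k r) := by
  refine ⟨?_, ?_, ?_⟩
  · apply b_ext k r N hN h2
    · rw [H₁, map_neg, b₁_x, b₂_x, rs_neg_one_X]
    · rw [H₂, map_neg, b₁_x, b₂_x, rs_neg_one_X]
  · intro hE
    apply b_ext k r N hN h2
    · rw [H₁, map_neg, b₁_y, b₂_y, map_neg, rs_neg_one_X_pow, hE.neg_pow]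
    · rw [H₂, map_neg, b₁_y, b₂_y, rs_neg_one_X_pow, hE.neg_pow, neg_neg]
  · intro hO
    apply b_ext k r N hN h2
    · rw [H₁, b₁_y, b₂_y, map_neg, rs_neg_one_X_pow, hO.neg_pow, neg_neg]
    · rw [H₂, b₁_y, b₂_y, rs_neg_one_X_pow, hO.neg_pow]

include hN in
/-- **Classification of involutions of `A_r`, `r = 2N - 1`, up to conjugacy.** -/
theorem classify (σ : 𝒜 ≃ₐ[k] 𝒜) (hσ : ∀ a, σ (σ a) = a) (hne : σ ≠ AlgEquiv.refl) :
    ∃ φ : 𝒜 ≃ₐ[k] 𝒜,
      (φ.symm (σ (φ (ArSing.x k r))) = ArSing.x k r ∧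
        φ.symm (σ (φ (ArSing.y k r))) = -ArSing.y k r) ∨
      (2 ≤ N ∧ φ.symm (σ (φ (ArSing.x k r))) = -ArSing.x k r ∧
        φ.symm (σ (φ (ArSing.y k r))) = ArSing.y k r) ∨
      (φ.symm (σ (φ (ArSing.x k r))) = -ArSing.x k r ∧
        φ.symm (σ (φ (ArSing.y k r))) = -ArSing.y k r) ∨
      (N = 1 ∧ φ.symm (σ (φ (ArSing.x k r))) = ArSing.y k r ∧
        φ.symm (σ (φ (ArSing.y k r))) = ArSing.x k r) := by
  have hN0 := N_pos r N hN
  rcases aut_dichotomy k r N hN h2 σ with ⟨ρ₁, ρ₂, h₁, h₂⟩ | ⟨ρ₁, ρ₂, h₁, h₂⟩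
  · obtain ⟨c₁, c₂, φ, hc₁, hc₂, hcc, H₁, H₂⟩ := conj_preserve k r N hN h2 σ hσ ρ₁ ρ₂ h₁ h₂
    rcases mul_self_eq_one_iff.mp hc₁ with rfl | rfl <;>
      rcases mul_self_eq_one_iff.mp hc₂ with rfl | rfl
    · -- (1, 1): identity
      exfalso
      apply hne
      ext a
      have := pres_one_one k r N hN h2 (fun a => φ.symm (σ (φ a))) H₁ H₂ (φ.symm a)
      simp only [AlgEquiv.apply_symm_apply] at this
      have h3 := congrArg φ this
      rw [AlgEquiv.apply_symm_apply, AlgEquiv.apply_symm_apply] at h3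
      exact h3
    · -- (1, -1): only for N = 1
      have hN1 : N = 1 := by
        by_contra hcon
        have := hcc (by omega)
        have h4 : (2 : k) = 0 := by linear_combination this
        exact h2 h4
      have := pres_one_neg k r N hN h2 hN1 (fun a => φ.symm (σ (φ a))) H₁ H₂
      exact ⟨φ, Or.inr (Or.inr (Or.inr ⟨hN1, this.1, this.2⟩))⟩
    · -- (-1, 1): only for N = 1; conjugate further by the exchange of branches
      have hN1 : N = 1 := by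
        by_contra hcon
        have := hcc (by omega)
        have h4 : (2 : k) = 0 := by linear_combination -this
        exact h2 h4
      obtain ⟨s, hs₁, hs₂, hs₁', hs₂'⟩ := exists_swap k r N hN h2
      have := pres_one_neg k r N hN h2 hN1 (fun a => (s.trans φ).symm (σ ((s.trans φ) a)))
        (fun a => by
          show b₁ k r N hN (s.symm (φ.symm (σ (φ (s a))))) = _
          rw [hs₁', H₂, hs₂])
        (fun a => by
          show b₂ k r N hN (s.symm (φ.symm (σ (φ (s a))))) = _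
          rw [hs₂', H₁, hs₁])
      exact ⟨s.trans φ, Or.inr (Or.inr (Or.inr ⟨hN1, this.1, this.2⟩))⟩
    · -- (-1, -1)
      have := pres_neg_neg k r N hN h2 (fun a => φ.symm (σ (φ a))) H₁ H₂
      rcases Nat.even_or_odd N with hE | hO
      · refine ⟨φ, Or.inr (Or.inl ⟨?_, this.1, this.2.1 hE⟩)⟩
        obtain ⟨m, hm⟩ := hE
        omega
      · exact ⟨φ, Or.inr (Or.inr (Or.inl ⟨this.1, this.2.2 hO⟩))⟩
  · obtain ⟨c, φ, hc, hc1, H₁, H₂⟩ := conj_swap k r N hN h2 σ hσ ρ₁ ρ₂ h₁ h₂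
    rcases mul_self_eq_one_iff.mp hc with rfl | rfl
    · have := swap_one k r N hN h2 (fun a => φ.symm (σ (φ a))) H₁ H₂
      exact ⟨φ, Or.inl this⟩
    · have := swap_neg k r N hN h2 (fun a => φ.symm (σ (φ a))) H₁ H₂
      have hN2 : 2 ≤ N := by
        by_contra hcon
        have := hc1 (by omega)
        have h4 : (2 : k) = 0 := by linear_combination -this
        exact h2 h4
      rcases Nat.even_or_odd N with hE | hO
      · exact ⟨φ, Or.inr (Or.inr (Or.inl ⟨this.1, this.2.1 hE⟩))⟩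
      · exact ⟨φ, Or.inr (Or.inl ⟨hN2, this.1, this.2.2 hO⟩)⟩

end final

end Groth.Agent.H76.Inv
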