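import Mathlib
import Groth.Agent.H76.InvG

set_option autoImplicit false
universe u

/-!
# Involutions of `A_r`, `r` even: the parametrization `x ↦ t^2`, `y ↦ t^(r+1)`
-/

namespace Groth.Agent.H76.Inv

open PowerSeries Groth.Agent.H76

section cusp

variable (k : Type u) [Field k] (r m : ℕ) (hm : r = 2 * m)

local notation "𝒜" => ArSing.ring k r
local notation "P" => PowerSeries k

theorem cc_X_pow_succ (n : ℕ) : constantCoeff ((X : P) ^ (n + 1)) = 0 := by
  rw [map_pow, constantCoeff_X, zero_pow (Nat.succ_ne_zero n)]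

/-- the parametrization `x ↦ t^2`, `y ↦ t^(r+1)` -/
noncomputable def pm : 𝒜 →ₐ[k] P :=
  ArSing.toP k r (X ^ 2) (X ^ (r + 1)) (cc_X_pow_succ k 1) (cc_X_pow_succ k r)
    (by rw [← pow_mul, ← pow_mul, mul_comm])

theorem pm_x : pm k r (ArSing.x k r) = X ^ 2 := ArSing.toP_x k r _ _ _ _ _
theorem pm_y : pm k r (ArSing.y k r) = X ^ (r + 1) := ArSing.toP_y k r _ _ _ _ _

theorem pm_xMap (f : P) : pm k r (ArSing.xMap k r f) = ArSing.ev k f :=
  ArSing.eq_xMap_comp k r (Ideal.span {(X : P)}) (iInf_span_X_pow k) (pm k r) (ArSing.ev k)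
    (by rw [pm_x, ArSing.ev_X])
    (by rw [pm_x]; exact Ideal.mem_span_singleton.mpr ⟨X, by ring⟩) f

theorem pm_normal (f g : P) :
    pm k r (ArSing.xMap k r f + ArSing.xMap k r g * ArSing.y k r) =
      ArSing.ev k f + ArSing.ev k g * X ^ (r + 1) := by
  rw [map_add, map_mul, pm_xMap, pm_xMap, pm_y]

include hm in
theorem X_pow_succ_eq : (X : P) ^ (r + 1) = X * ArSing.ev k (X ^ m) := by
  rw [map_pow, ArSing.ev_X, ← pow_mul, hm, pow_succ, mul_comm]

include hm in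
theorem ng_X_pow_succ : ArSing.ng k ((X : P) ^ (r + 1)) = -(X ^ (r + 1)) := by
  have hodd : Odd (r + 1) := ⟨m, by omega⟩
  rw [map_pow, ArSing.ng_X, hodd.neg_pow]

include hm in
theorem pm_injective (a : 𝒜) (h : pm k r a = 0) : a = 0 := by
  obtain ⟨f, g, rfl⟩ := ArSing.exists_normal k r a
  rw [pm_normal, X_pow_succ_eq k r m hm] at h
  have h' : ArSing.ev k f + X * ArSing.ev k (g * X ^ m) = 0 := by
    rw [map_mul]
    linear_combination h
  obtain ⟨hf, hg⟩ := ArSing.evenodd_eq_zero k _ _ h'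
  have hg' : g = 0 := (mul_eq_zero.mp hg).resolve_right (pow_ne_zero _ X_ne_zero)
  rw [hf, hg']
  simp

include hm in
theorem pm_ext (a b : 𝒜) (h : pm k r a = pm k r b) : a = b := by
  have := pm_injective k r m hm (a - b) (by rw [map_sub, h, sub_self])
  exact sub_eq_zero.mp this

include hm in
/-- elements of the image of the parametrization have odd part divisible by `t^(r+1)` -/
theorem pm_mem (a : 𝒜) : (X : P) ^ (r + 1) ∣ pm k r a - ArSing.ng k (pm k r a) := by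
  obtain ⟨f, g, rfl⟩ := ArSing.exists_normal k r a
  rw [pm_normal, map_add, map_mul, ArSing.ng_ev, ArSing.ng_ev, ng_X_pow_succ k r m hm]
  exact ⟨2 * ArSing.ev k g, by ring⟩

include hm in
theorem pm_mem' (a : 𝒜) : (X : P) ^ r ∣ pm k r a - ArSing.ng k (pm k r a) :=
  dvd_trans (pow_dvd_pow X (Nat.le_succ r)) (pm_mem k r m hm a)

variable (h2 : (2 : k) ≠ 0)

include hm h2 in
/-- the image of the parametrization -/
theorem pm_surj (p : P) (h : (X : P) ^ r ∣ p - ArSing.ng k p) : ∃ a : 𝒜, pm k r a = p := by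
  obtain ⟨F, F₁, rfl⟩ := ArSing.evenodd_exists k p
  rw [ArSing.ng_evenodd] at h
  have hF₁ : (X : P) ^ m ∣ F₁ := by
    rw [X_pow_dvd_iff]
    intro j hj
    have h1 := (X_pow_dvd_iff.mp h) (2 * j + 1) (by omega)
    have e : ArSing.ev k F + X * ArSing.ev k F₁ - (ArSing.ev k F - X * ArSing.ev k F₁) =
        X * (C (2 : k) * ArSing.ev k F₁) := by
      have e2 : (2 : P) = C (2 : k) := (map_ofNat _ 2).symm
      rw [← e2]
      ring
    rw [e, coeff_succ_X_mul, coeff_C_mul, ArSing.coeff_ev, if_pos (dvd_mul_right 2 j),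
      Nat.mul_div_cancel_left j (by norm_num)] at h1
    exact (mul_eq_zero.mp h1).resolve_left h2
  obtain ⟨G, rfl⟩ := hF₁
  refine ⟨ArSing.xMap k r F + ArSing.xMap k r G * ArSing.y k r, ?_⟩
  rw [pm_normal, X_pow_succ_eq k r m hm, map_mul]
  ring

theorem cc_apply_x (ψ : 𝒜 →ₐ[k] P) : constantCoeff (ψ (ArSing.x k r)) = 0 := by
  have := constantCoeff_apply_X k (ψ.comp (ArSing.xMap k r))
  rwa [AlgHom.comp_apply, ArSing.xMap_X] at this

theorem cc_apply_y (ψ : 𝒜 →ₐ[k] P) : constantCoeff (ψ (ArSing.y k r)) = 0 := by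
  have h := congrArg (fun a => constantCoeff (ψ a)) (ArSing.relation k r)
  simp only [map_pow] at h
  rw [cc_apply_x, zero_pow (Nat.succ_ne_zero r)] at h
  exact pow_eq_zero_iff (two_ne_zero) |>.mp h

include hm in
/-- a square root of the image of `x`, by integral closedness of `k[[t]]` -/
theorem exists_root (ψ : 𝒜 →ₐ[k] P) (hx : ψ (ArSing.x k r) ≠ 0) :
    ∃ s : P, constantCoeff s = 0 ∧ s ^ 2 = ψ (ArSing.x k r) ∧ s ^ (r + 1) = ψ (ArSing.y k r) := by
  have hexp : r + 1 = 2 * m + 1 := by omega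
  have hrel := congrArg ψ (ArSing.relation k r)
  rw [map_pow, map_pow, hexp] at hrel
  have hdvd : (ψ (ArSing.x k r) ^ m) ^ 2 ∣ ψ (ArSing.y k r) ^ 2 :=
    ⟨ψ (ArSing.x k r), by rw [hrel]; ring⟩
  obtain ⟨s, hs⟩ := (IsIntegrallyClosed.pow_dvd_pow_iff (two_ne_zero)).mp hdvd
  have hs2 : s ^ 2 = ψ (ArSing.x k r) := by
    have h1 : ψ (ArSing.x k r) ^ (2 * m) * s ^ 2 = ψ (ArSing.x k r) ^ (2 * m) * ψ (ArSing.x k r) := by
      rw [hs] at hrel
      linear_combination hrel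
    exact mul_left_cancel₀ (pow_ne_zero _ hx) h1
  refine ⟨s, ?_, hs2, ?_⟩
  · have := congrArg constantCoeff hs2
    rw [map_pow, cc_apply_x] at this
    exact pow_eq_zero_iff (two_ne_zero) |>.mp this
  · rw [hs, ← hs2, hexp]
    ring

theorem factor_pm (ψ : 𝒜 →ₐ[k] P) (s : P) (hs0 : constantCoeff s = 0)
    (hs2 : s ^ 2 = ψ (ArSing.x k r)) (hsy : s ^ (r + 1) = ψ (ArSing.y k r)) (a : 𝒜) :
    ψ a = sb k s hs0 (pm k r a) := by
  have := ArSing.algHom_ext_ring k r (Ideal.span {(X : P)}) (iInf_span_X_pow k) ψ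
    ((sb k s hs0).comp (pm k r))
    (by rw [AlgHom.comp_apply, pm_x, map_pow, sb_X, hs2])
    (by rw [AlgHom.comp_apply, pm_y, map_pow, sb_X, hsy])
    (by rw [Ideal.mem_span_singleton, X_dvd_iff]; exact cc_apply_x k r ψ)
    (by rw [Ideal.mem_span_singleton, X_dvd_iff]; exact cc_apply_y k r ψ)
  exact DFunLike.congr_fun this a

include hm in
/-- an involution of `A_r` (`r` even) extends to an involution of the normalization `k[[t]]` -/
theorem exists_extension (σ : 𝒜 ≃ₐ[k] 𝒜) (hσ : ∀ a, σ (σ a) = a) :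
    ∃ ρ : P ≃ₐ[k] P, (∀ p, ρ (ρ p) = p) ∧ ∀ a, pm k r (σ a) = ρ (pm k r a) := by
  have hx0 : ((pm k r).comp (σ : 𝒜 →ₐ[k] 𝒜)) (ArSing.x k r) ≠ 0 := by
    intro h
    have h1 : σ (ArSing.x k r) = 0 := pm_injective k r m hm _ h
    have h2 : ArSing.x k r = 0 := σ.injective (by rw [h1, map_zero])
    have h3 := congrArg (pm k r) h2
    rw [pm_x, map_zero] at h3
    exact pow_ne_zero 2 X_ne_zero h3
  obtain ⟨s, hs0, hs2, hsy⟩ := exists_root k r m hm _ hx0
  have hρ₀ : ∀ a, pm k r (σ a) = sb k s hs0 (pm k r a) := fun a =>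
    factor_pm k r ((pm k r).comp (σ : 𝒜 →ₐ[k] 𝒜)) s hs0 hs2 hsy a
  have hinv : ∀ a, sb k s hs0 (sb k s hs0 (pm k r a)) = pm k r a := by
    intro a
    rw [← hρ₀, ← hρ₀, hσ]
  have hw2 : (sb k s hs0 (sb k s hs0 X)) ^ 2 = X ^ 2 := by
    have := hinv (ArSing.x k r)
    rwa [pm_x, map_pow, map_pow] at this
  have hwy : (sb k s hs0 (sb k s hs0 X)) ^ (r + 1) = X ^ (r + 1) := by
    have := hinv (ArSing.y k r)
    rwa [pm_y, map_pow, map_pow] at this
  have hw : sb k s hs0 (sb k s hs0 X) = X := by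
    have h1 : (X : P) ^ (2 * m) * sb k s hs0 (sb k s hs0 X) = X ^ (2 * m) * X := by
      have e1 : (sb k s hs0 (sb k s hs0 X)) ^ (r + 1) =
          ((sb k s hs0 (sb k s hs0 X)) ^ 2) ^ m * sb k s hs0 (sb k s hs0 X) := by
        rw [hm]; ring
      rw [e1, hw2, hm] at hwy
      linear_combination hwy
    exact mul_left_cancel₀ (pow_ne_zero _ X_ne_zero) h1
  have hcomp : (sb k s hs0).comp (sb k s hs0) = AlgHom.id k P :=
    algHom_ext_X k _ _ (by rw [AlgHom.comp_apply, hw]; rfl)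
      (by rw [AlgHom.comp_apply, hw, constantCoeff_X])
  exact ⟨AlgEquiv.ofAlgHom (sb k s hs0) (sb k s hs0) hcomp hcomp,
    fun p => DFunLike.congr_fun hcomp p, hρ₀⟩

include hm h2 in
/-- if `u^2` lies in the image of the parametrization, `u` is odd modulo `t^r` -/
theorem ng_add_dvd (u : P) (hu0 : constantCoeff u = 0) (hu1 : coeff 1 u ≠ 0)
    (hS : (X : P) ^ r ∣ u ^ 2 - ArSing.ng k (u ^ 2)) : (X : P) ^ r ∣ ArSing.ng k u + u := by
  rcases Nat.eq_zero_or_pos m with hm0 | hm0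
  · rw [hm, hm0, mul_zero, pow_zero]
    exact one_dvd _
  obtain ⟨w, hw, hw0⟩ := exists_eq_X_mul k u hu0
  have hunit : IsUnit (w + ArSing.ng k w) := by
    rw [isUnit_iff_constantCoeff, map_add]
    have : constantCoeff (ArSing.ng k w) = constantCoeff w := ArSing.constantCoeff_rs k (-1) w
    rw [this, hw0]
    have : coeff 1 u + coeff 1 u = 2 * coeff 1 u := by ring
    rw [this]
    exact IsUnit.mk0 _ (mul_ne_zero h2 hu1)
  obtain ⟨z, hz⟩ := hunit.exists_left_inv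
  obtain ⟨e, he⟩ := hS
  have hr1 : r = (r - 1) + 1 := by omega
  have hd : u - ArSing.ng k u = X * (w + ArSing.ng k w) := by
    rw [hw, map_mul, ArSing.ng_X]; ring
  have h3 : X * (ArSing.ng k u + u) = X * (X ^ (r - 1) * (e * z)) := by
    have e1 : u ^ 2 - ArSing.ng k (u ^ 2) = (u - ArSing.ng k u) * (ArSing.ng k u + u) := by
      rw [map_pow]; ring
    rw [e1, hd] at he
    have e2 : (X : P) ^ r = X * X ^ (r - 1) := by
      conv_lhs => rw [hr1, pow_succ, mul_comm]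
    rw [e2] at he
    linear_combination z * he - (X * (ArSing.ng k u + u)) * hz
  have h4 : ArSing.ng k u + u = X ^ (r - 1) * (e * z) := mul_left_cancel₀ X_ne_zero h3
  rw [X_pow_dvd_iff]
  intro j hj
  rcases Nat.lt_or_ge j (r - 1) with hj' | hj'
  · exact (X_pow_dvd_iff.mp ⟨_, h4⟩) j hj'
  · have hj1 : j = r - 1 := by omega
    have hodd : Odd j := ⟨m - 1, by omega⟩
    rw [map_add, ArSing.coeff_ng, hodd.neg_one_pow]
    ring

include h2 hm in
/-- lifting to `A_r` maps whose values have small odd part -/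
theorem exists_lift_cusp {B : Type*} [CommRing B] [Algebra k B] (f : B →ₐ[k] P)
    (h : ∀ b, (X : P) ^ r ∣ f b - ArSing.ng k (f b)) :
    ∃ Φ : B →ₐ[k] 𝒜, ∀ b, pm k r (Φ b) = f b := by
  choose F hF using fun b => pm_surj k r m hm h2 (f b) (h b)
  refine ⟨{ toFun := F
            map_one' := ?_
            map_mul' := ?_
            map_zero' := ?_
            map_add' := ?_
            commutes' := ?_ }, hF⟩
  · apply pm_ext k r m hm
    rw [hF, map_one, map_one]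
  · intro a b
    apply pm_ext k r m hm
    rw [hF, map_mul, map_mul, hF, hF]
  · apply pm_ext k r m hm
    rw [hF, map_zero, map_zero]
  · intro a b
    apply pm_ext k r m hm
    rw [hF, map_add, map_add, hF, hF]
  · intro c
    apply pm_ext k r m hm
    rw [hF, AlgHom.commutes, AlgHom.commutes]

theorem comm_ng (τ : P →ₐ[k] P) (n : ℕ) (h : (X : P) ^ n ∣ ArSing.ng k (τ X) + τ X) (q : P) :
    (X : P) ^ n ∣ ArSing.ng k (τ q) - τ (ArSing.ng k q) := by
  have := cong_of_cong_X k ((ArSing.ng k).comp τ) (τ.comp (ArSing.ng k)) n (by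
    rw [AlgHom.comp_apply, AlgHom.comp_apply, ArSing.ng_X, map_neg, sub_neg_eq_add]
    exact h) q
  rwa [AlgHom.comp_apply, AlgHom.comp_apply] at this

include h2 hm in
/-- automorphisms of `k[[t]]` odd modulo `t^r` restrict to automorphisms of `A_r` -/
theorem exists_aut_cusp (τ : P ≃ₐ[k] P) (h : (X : P) ^ r ∣ ArSing.ng k (τ X) + τ X) :
    ∃ φ : 𝒜 ≃ₐ[k] 𝒜, (∀ a, pm k r (φ a) = τ (pm k r a)) ∧
      (∀ a, pm k r (φ.symm a) = τ.symm (pm k r a)) := by
  have key : ∀ (τ : P →ₐ[k] P) (_ : (X : P) ^ r ∣ ArSing.ng k (τ X) + τ X) (a : 𝒜),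
      (X : P) ^ r ∣ (τ.comp (pm k r)) a - ArSing.ng k ((τ.comp (pm k r)) a) := by
    intro τ h a
    rw [AlgHom.comp_apply]
    have e1 := X_pow_dvd_apply k τ r _ (pm_mem' k r m hm a)
    have e2 := comm_ng k τ r h (pm k r a)
    have := dvd_sub e1 e2
    rw [map_sub] at this
    convert this using 1
    ring
  have hsymm : (X : P) ^ r ∣ ArSing.ng k (τ.symm X) + τ.symm X := by
    have e1 := comm_ng k (τ : P →ₐ[k] P) r h (τ.symm X)
    have e2 := X_pow_dvd_apply k (τ.symm : P →ₐ[k] P) r _ e1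
    have e3 : (τ.symm : P →ₐ[k] P) (ArSing.ng k ((τ : P →ₐ[k] P) (τ.symm X)) -
        (τ : P →ₐ[k] P) (ArSing.ng k (τ.symm X))) =
        -(ArSing.ng k (τ.symm X) + τ.symm X) := by
      show τ.symm (ArSing.ng k (τ (τ.symm X)) - τ (ArSing.ng k (τ.symm X))) = _
      rw [map_sub, τ.symm_apply_apply, τ.apply_symm_apply, ArSing.ng_X, map_neg]
      ring
    rw [e3] at e2
    exact (dvd_neg).mp e2
  obtain ⟨Φ, hΦ⟩ := exists_lift_cusp k r m hm h2 _ (key (τ : P →ₐ[k] P) h)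
  obtain ⟨Ψ, hΨ⟩ := exists_lift_cusp k r m hm h2 _ (key (τ.symm : P →ₐ[k] P) hsymm)
  have hΦΨ : Φ.comp Ψ = AlgHom.id k 𝒜 := by
    refine AlgHom.ext fun a => ?_
    apply pm_ext k r m hm
    rw [AlgHom.comp_apply, hΦ, AlgHom.comp_apply, hΨ, AlgHom.comp_apply]
    exact τ.apply_symm_apply _
  have hΨΦ : Ψ.comp Φ = AlgHom.id k 𝒜 := by
    refine AlgHom.ext fun a => ?_
    apply pm_ext k r m hm
    rw [AlgHom.comp_apply, hΨ, AlgHom.comp_apply, hΦ, AlgHom.comp_apply]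
    exact τ.symm_apply_apply _
  exact ⟨AlgEquiv.ofAlgHom Φ Ψ hΦΨ hΨΦ, hΦ, hΨ⟩

include h2 hm in
/-- **Involutions of `A_r`, `r` even, are conjugate to `(x, y) ↦ (x, -y)`.** -/
theorem classify_cusp (σ : 𝒜 ≃ₐ[k] 𝒜) (hσ : ∀ a, σ (σ a) = a) (hne : σ ≠ AlgEquiv.refl) :
    ∃ φ : 𝒜 ≃ₐ[k] 𝒜, φ.symm (σ (φ (ArSing.x k r))) = ArSing.x k r ∧
      φ.symm (σ (φ (ArSing.y k r))) = -ArSing.y k r := by
  obtain ⟨ρ, hρ, hρσ⟩ := exists_extension k r m hm σ hσ
  obtain ⟨c, τ, hc, hc', hτX, hτ⟩ := linearize k h2 ρ hρ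
  have hρG : (X : P) ^ r ∣ ArSing.ng k (ρ X) + ρ X := by
    apply ng_add_dvd k r m hm h2 _ (constantCoeff_apply_X' k ρ) (coeff_one_apply_X_ne_zero k ρ)
    have := pm_mem' k r m hm (σ (ArSing.x k r))
    rwa [hρσ, pm_x, map_pow] at this
  have hτG : (X : P) ^ r ∣ ArSing.ng k (τ X) + τ X := by
    obtain ⟨d, hd⟩ := hρG
    refine ⟨C c * C (2⁻¹ : k) * d, ?_⟩
    rw [hτX, map_mul, map_add, map_mul, ArSing.ng_X, ← algebraMap_eq_C, ← algebraMap_eq_C,
      AlgHom.commutes, AlgHom.commutes, algebraMap_eq_C, algebraMap_eq_C]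
    linear_combination (C c * C (2⁻¹ : k)) * hd
  obtain ⟨φ, hφ, hφ'⟩ := exists_aut_cusp k r m hm h2 τ hτG
  have H : ∀ a, pm k r (φ.symm (σ (φ a))) = ArSing.rs k c (pm k r a) := by
    intro a
    rw [hφ', hρσ, hφ, hτ, τ.symm_apply_apply]
  rcases mul_self_eq_one_iff.mp hc with rfl | rfl
  · exfalso
    apply hne
    ext a
    have := H (φ.symm a)
    rw [ArSing.rs_one, AlgEquiv.apply_symm_apply] at this
    have h3 := congrArg φ (pm_ext k r m hm _ _ this)
    rw [AlgEquiv.apply_symm_apply, AlgEquiv.apply_symm_apply] at h3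
    exact h3
  · refine ⟨φ, ?_, ?_⟩
    · apply pm_ext k r m hm
      rw [H, pm_x, rs_neg_one_X_pow, neg_sq]
    · apply pm_ext k r m hm
      have hodd : Odd (r + 1) := ⟨m, by omega⟩
      rw [H, map_neg, pm_y, rs_neg_one_X_pow, hodd.neg_pow]

end cusp

end Groth.Agent.H76.Inv
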