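import Mathlib
import Groth.Agent.H97.RedSubPos

/-!
# Inversion counts: `N(w) < N(s_c w) ↔ w⁻¹ c > 0`
Direct proof by an injection between the symmetric differences of the inversion sets.
-/

set_option autoImplicit false

namespace Groth.Agent.H76.Inversions

open Groth.Agent.H97.RedSubPos

variable {idx M N : Type} [AddCommGroup M] [AddCommGroup N]

/-- the linear automorphism attached to a word in reflections -/
def wordLin (P : RootPairing idx ℤ M N) (l : List idx) : M ≃ₗ[ℤ] M := (l.map P.reflection).prod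

lemma root_wordPerm (P : RootPairing idx ℤ M N) (l : List idx) (a : idx) :
    P.root (RedSub.wordPerm P l a) = wordLin P l (P.root a) := by
  induction l generalizing a with
  | nil => simp [RedSub.wordPerm, wordLin]
  | cons x l ih =>
    rw [wordPerm_cons, Equiv.Perm.mul_apply, P.root_reflectionPerm, ih]
    simp [wordLin]

/-- the monoid of non-negative combinations of simple roots -/
abbrev Cl (P : RootPairing idx ℤ M N) (b : P.Base) : AddSubmonoid M :=
  AddSubmonoid.closure (P.root '' (b.support : Set idx))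

lemma mem_pos (P : RootPairing idx ℤ M N) (b : P.Base) (a : idx) :
    a ∈ RedSub.posRoots P b ↔ P.root a ∈ Cl P b := Iff.rfl

lemma mem_neg (P : RootPairing idx ℤ M N) (b : P.Base) (a : idx) :
    a ∈ RedSub.negRoots P b ↔ -P.root a ∈ Cl P b := Iff.rfl

lemma root_reflectionPerm_eq (P : RootPairing idx ℤ M N) (d a : idx) :
    P.root (P.reflectionPerm d a) = P.root a - P.pairing a d • P.root d := by
  rw [P.root_reflectionPerm, P.reflection_apply_root]

/-- `a, d > 0` and `⟨a, d^∨⟩ ≤ 0` imply `s_d a > 0` -/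
lemma refl_mem_posRoots (P : RootPairing idx ℤ M N) (b : P.Base) (a d : idx)
    (ha : a ∈ RedSub.posRoots P b) (hd : d ∈ RedSub.posRoots P b) (hn : P.pairing a d ≤ 0) :
    P.reflectionPerm d a ∈ RedSub.posRoots P b := by
  rw [mem_pos] at ha hd ⊢
  rw [root_reflectionPerm_eq]
  obtain ⟨m, hm⟩ : ∃ m : ℕ, P.pairing a d = -(m : ℤ) := ⟨(-P.pairing a d).toNat, by omega⟩
  rw [hm, neg_smul, sub_neg_eq_add, natCast_zsmul]
  exact add_mem ha (nsmul_mem hd m)

/-- `a, d < 0` and `⟨a, d^∨⟩ ≤ 0` imply `s_d a < 0` -/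
lemma refl_mem_negRoots (P : RootPairing idx ℤ M N) (b : P.Base) (a d : idx)
    (ha : a ∈ RedSub.negRoots P b) (hd : d ∈ RedSub.negRoots P b) (hn : P.pairing a d ≤ 0) :
    P.reflectionPerm d a ∈ RedSub.negRoots P b := by
  rw [mem_neg] at ha hd ⊢
  rw [root_reflectionPerm_eq]
  obtain ⟨m, hm⟩ : ∃ m : ℕ, P.pairing a d = -(m : ℤ) := ⟨(-P.pairing a d).toNat, by omega⟩
  have e : -(P.root a - P.pairing a d • P.root d) = -P.root a + m • (-P.root d) := by
    rw [hm, neg_smul, sub_neg_eq_add, natCast_zsmul, neg_add, smul_neg]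
  rw [e]
  exact add_mem ha (nsmul_mem hd m)

/-- `w a < 0`, `w d > 0`, `⟨a, d^∨⟩ ≥ 0` imply `w (s_d a) < 0` -/
lemma word_refl_mem_negRoots (P : RootPairing idx ℤ M N) (b : P.Base) (l : List idx) (a d : idx)
    (ha : RedSub.wordPerm P l a ∈ RedSub.negRoots P b)
    (hd : RedSub.wordPerm P l d ∈ RedSub.posRoots P b) (hn : 0 ≤ P.pairing a d) :
    RedSub.wordPerm P l (P.reflectionPerm d a) ∈ RedSub.negRoots P b := by
  rw [mem_neg] at ha ⊢
  rw [mem_pos] at hd
  rw [root_wordPerm] at ha hd ⊢
  rw [root_reflectionPerm_eq]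
  obtain ⟨m, hm⟩ : ∃ m : ℕ, P.pairing a d = (m : ℤ) := ⟨(P.pairing a d).toNat, by omega⟩
  have e : -(wordLin P l (P.root a - P.pairing a d • P.root d)) =
      -(wordLin P l (P.root a)) + m • wordLin P l (P.root d) := by
    rw [hm, map_sub, map_zsmul, natCast_zsmul, neg_sub]
    abel
  rw [e]
  exact add_mem ha (nsmul_mem hd m)



lemma neg_root_refl_self (P : RootPairing idx ℤ M N) (d : idx) :
    P.root (P.reflectionPerm d d) = -P.root d := by
  rw [P.root_reflectionPerm, P.reflection_apply_self]

theorem main [Finite idx] (P : RootPairing idx ℤ M N) (b : P.Base) (l : List idx) (c : idx)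
    (hc : c ∈ RedSub.posRoots P b) :
    Set.ncard {a : idx | a ∈ RedSub.posRoots P b ∧ RedSub.wordPerm P l a ∈ RedSub.negRoots P b} <
        Set.ncard {a : idx | a ∈ RedSub.posRoots P b ∧
          (P.reflectionPerm c * RedSub.wordPerm P l) a ∈ RedSub.negRoots P b} ↔
      (RedSub.wordPerm P l)⁻¹ c ∈ RedSub.posRoots P b := by
  set w := RedSub.wordPerm P l with hw
  set d := w⁻¹ c with hd
  have hwd : w d = c := by rw [hd]; simp
  have hcw : P.reflectionPerm c * w = w * P.reflectionPerm d := by
    rw [← hwd, hw, reflectionPerm_wordPerm]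
    simp [mul_assoc]
  rw [hcw]
  set X : Set idx := {a | a ∈ RedSub.posRoots P b ∧ w a ∈ RedSub.negRoots P b} with hX
  set Y : Set idx := {a | P.reflectionPerm d a ∈ RedSub.posRoots P b ∧
    w a ∈ RedSub.negRoots P b} with hY
  have hY' : {a : idx | a ∈ RedSub.posRoots P b ∧
      (w * P.reflectionPerm d) a ∈ RedSub.negRoots P b} = P.reflectionPerm d '' Y := by
    rw [Equiv.image_eq_preimage_symm, P.reflectionPerm_symm]
    ext a
    simp [hY]
  rw [hY', Set.ncard_image_of_injective _ (P.reflectionPerm d).injective]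
  have hXfin : X.Finite := Set.toFinite X
  have hYfin : Y.Finite := Set.toFinite Y
  have e1 := Set.ncard_inter_add_ncard_sdiff_eq_ncard X Y hXfin
  have e2 := Set.ncard_inter_add_ncard_sdiff_eq_ncard Y X hYfin
  rw [Set.inter_comm] at e2
  have dich : ∀ a, a ∉ RedSub.posRoots P b → a ∈ RedSub.negRoots P b := fun a h =>
    (mem_posRoots_or_mem_negRoots P b a).resolve_left h
  have excl : ∀ a, a ∈ RedSub.negRoots P b → a ∉ RedSub.posRoots P b := fun a h h' =>
    not_mem_posRoots_and_negRoots P b a h' h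
  constructor
  · intro hlt
    by_contra hdneg
    have hdn := dich d hdneg
    -- `s_d` maps `Y \ X` into `X \ Y`
    have hle : (Y \ X).ncard ≤ (X \ Y).ncard := by
      apply Set.ncard_le_ncard_of_injOn (P.reflectionPerm d) _ (P.reflectionPerm d).injective.injOn
        (Set.toFinite _)
      rintro a ⟨⟨h1, h2⟩, h3⟩
      have hane : a ∈ RedSub.negRoots P b := by
        apply dich
        intro hap
        exact h3 ⟨hap, h2⟩
      have hn : 0 ≤ P.pairing a d := by
        by_contra hlt0
        exact excl _ (refl_mem_negRoots P b a d hane hdn (by omega)) h1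
      refine ⟨⟨h1, word_refl_mem_negRoots P b l a d h2 (hwd ▸ hc) hn⟩, ?_⟩
      rintro ⟨h4, -⟩
      rw [P.reflectionPerm_self] at h4
      exact excl a hane h4
    omega
  · intro hdpos
    -- `s_d` maps `X \ Y` into `(Y \ X) \ {s_d d}`
    have hmem : P.reflectionPerm d d ∈ Y \ X := by
      have hneg : P.reflectionPerm d d ∈ RedSub.negRoots P b := by
        rw [mem_neg, neg_root_refl_self, neg_neg]; exact hdpos
      refine ⟨⟨by rw [P.reflectionPerm_self]; exact hdpos, ?_⟩, fun h => excl _ hneg h.1⟩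
      rw [mem_neg, hw, root_wordPerm, neg_root_refl_self, map_neg, neg_neg, ← root_wordPerm, ← hw,
        hwd]
      exact hc
    have hle : (X \ Y).ncard ≤ ((Y \ X) \ {P.reflectionPerm d d}).ncard := by
      apply Set.ncard_le_ncard_of_injOn (P.reflectionPerm d) _ (P.reflectionPerm d).injective.injOn
        (Set.toFinite _)
      rintro a ⟨⟨h1, h2⟩, h3⟩
      have hsn : P.reflectionPerm d a ∈ RedSub.negRoots P b := by
        apply dich
        intro hsp
        exact h3 ⟨hsp, h2⟩
      have hn : 0 ≤ P.pairing a d := by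
        by_contra hlt0
        exact excl _ hsn (refl_mem_posRoots P b a d h1 hdpos (by omega))
      refine ⟨⟨⟨by rw [P.reflectionPerm_self]; exact h1,
        word_refl_mem_negRoots P b l a d h2 (hwd ▸ hc) hn⟩, fun h => excl _ hsn h.1⟩, ?_⟩
      intro heq
      have : a = d := (P.reflectionPerm d).injective heq
      subst this
      rw [hwd] at h2
      exact excl _ h2 hc
    have hlt := Set.ncard_sdiff_singleton_lt_of_mem hmem (Set.toFinite _)
    omega

end Groth.Agent.H76.Inversions
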