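import Mathlib

/-!
# Kummer-type lemmas for elements `x` with `x ^ r ∈ K`, `K` containing the roots of unity
-/

set_option autoImplicit false

open Polynomial

namespace Groth.Agent.H76

theorem multiset_prod_eq_pow_mul {K F : Type*} [Field K] [Field F] [Algebra K F] (ρ₀ : F)
    (S : Multiset F) (h : ∀ ρ ∈ S, ∃ z : K, z ≠ 0 ∧ ρ = ρ₀ * algebraMap K F z) :
    ∃ z : K, z ≠ 0 ∧ S.prod = ρ₀ ^ (Multiset.card S) * algebraMap K F z := by
  induction S using Multiset.induction_on with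
  | empty => exact ⟨1, one_ne_zero, by simp⟩
  | cons a S ih =>
    obtain ⟨z, hz, hS⟩ := ih (fun ρ hρ => h ρ (Multiset.mem_cons_of_mem hρ))
    obtain ⟨w, hw, ha⟩ := h a (Multiset.mem_cons_self a S)
    refine ⟨w * z, mul_ne_zero hw hz, ?_⟩
    rw [Multiset.prod_cons, Multiset.card_cons, hS, ha, map_mul]
    ring

/-- If `K` contains all `r`-th roots of unity and `x ≠ 0` in a domain over `K` satisfies `x ^ r ∈ K`,
then the minimal polynomial of `x` is `X ^ d - c`. -/
theorem exists_minpoly_eq_X_pow_sub_C {K : Type*} [Field K] {B : Type*} [Ring B] [IsDomain B]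
    [Algebra K B] (r : ℕ) (hr : 0 < r) (hK : (X ^ r - 1 : K[X]).Splits) (x : B) (hx : x ≠ 0) (a : K)
    (hxa : x ^ r = algebraMap K B a) :
    ∃ c : K, minpoly K x = X ^ (minpoly K x).natDegree - C c := by
  classical
  have ha : a ≠ 0 := by
    rintro rfl
    rw [map_zero] at hxa
    exact hx (pow_eq_zero_iff hr.ne' |>.1 hxa)
  have hmonic : (X ^ r - C a : K[X]).Monic := monic_X_pow_sub_C a hr.ne'
  have hint : IsIntegral K x := ⟨X ^ r - C a, hmonic, by simp [hxa]⟩
  set μ := minpoly K x with hμ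
  have hμirr : Irreducible μ := minpoly.irreducible hint
  have hμmonic : μ.Monic := minpoly.monic hint
  have hμdvd : μ ∣ X ^ r - C a := minpoly.dvd K x (by simp [hxa])
  set d := μ.natDegree with hd
  have hdpos : 0 < d := minpoly.natDegree_pos hint
  let F := AlgebraicClosure K
  have hsplit : (μ.map (algebraMap K F)).Splits := IsAlgClosed.splits _
  set S := (μ.map (algebraMap K F)).roots with hS
  have hcard : Multiset.card S = d := by
    rw [hS, ← hsplit.natDegree_eq_card_roots, natDegree_map]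
  have hroot : ∀ ρ ∈ S, ρ ^ r = algebraMap K F a := by
    intro ρ hρ
    have h1 : (μ.map (algebraMap K F)).IsRoot ρ := (mem_roots'.1 hρ).2
    have h2 : ((X ^ r - C a : K[X]).map (algebraMap K F)).IsRoot ρ := by
      obtain ⟨q, hq⟩ := hμdvd
      rw [hq, Polynomial.map_mul, IsRoot.def, eval_mul, h1, zero_mul]
    simpa [sub_eq_zero] using h2
  obtain ⟨ρ₀, hρ₀⟩ : ∃ ρ₀, ρ₀ ∈ S := by
    apply Multiset.card_pos_iff_exists_mem.1
    rw [hcard]; exact hdpos
  have hρ₀ne : ρ₀ ≠ 0 := by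
    intro h0
    have := hroot ρ₀ hρ₀
    rw [h0, zero_pow hr.ne'] at this
    exact ha ((algebraMap K F).injective (by rw [← this, map_zero]))
  have hX1 : (X ^ r - 1 : K[X]) ≠ 0 := (monic_X_pow_sub_C (1 : K) hr.ne').ne_zero
  have hzeta : ∀ ρ ∈ S, ∃ z : K, z ≠ 0 ∧ ρ = ρ₀ * algebraMap K F z := by
    intro ρ hρ
    have h1 : (ρ / ρ₀) ^ r = 1 := by
      rw [div_pow, hroot ρ hρ, hroot ρ₀ hρ₀, div_self]
      exact fun h => ha ((algebraMap K F).injective (by rw [h, map_zero]))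
    have h2 : ((X ^ r - 1 : K[X]).map (algebraMap K F)).IsRoot (ρ / ρ₀) := by
      simp [h1]
    obtain ⟨z, hz⟩ := hK.mem_range_of_isRoot hX1 h2
    refine ⟨z, ?_, ?_⟩
    · rintro rfl
      rw [map_zero] at hz
      rw [← hz, zero_pow hr.ne'] at h1
      exact zero_ne_one h1
    · rw [hz, mul_div_cancel₀ _ hρ₀ne]
  obtain ⟨z, hz, hprod⟩ := multiset_prod_eq_pow_mul ρ₀ S hzeta
  have hcoeff := hsplit.coeff_zero_eq_prod_roots_of_monic (hμmonic.map _)
  rw [← hS, hprod, hcard, natDegree_map, coeff_map] at hcoeff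
  -- ρ₀ ^ d = algebraMap c
  set c : K := (-1) ^ d * μ.coeff 0 / z with hc
  have hρ₀d : ρ₀ ^ d = algebraMap K F c := by
    rw [hc, map_div₀, map_mul, map_pow, map_neg, map_one, hcoeff]
    have : algebraMap K F z ≠ 0 := fun h => hz ((algebraMap K F).injective (by rw [h, map_zero]))
    rw [← hd, ← mul_assoc, ← mul_pow, neg_one_mul, neg_neg, one_pow, one_mul, mul_div_assoc,
      div_self this, mul_one]
  have hμρ₀ : μ = minpoly K ρ₀ := by
    apply minpoly.eq_of_irreducible_of_monic hμirr _ hμmonic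
    have h1 : (μ.map (algebraMap K F)).IsRoot ρ₀ := (mem_roots'.1 hρ₀).2
    rwa [IsRoot.def, eval_map_algebraMap] at h1
  have hdvd2 : μ ∣ X ^ d - C c := by
    rw [hμρ₀]
    apply minpoly.dvd
    simp [hρ₀d]
  refine ⟨c, ?_⟩
  have hm2 : (X ^ d - C c : K[X]).Monic := monic_X_pow_sub_C c hdpos.ne'
  symm
  apply eq_of_monic_of_dvd_of_natDegree_le hμmonic hm2 hdvd2
  rw [natDegree_X_pow_sub_C]

/-- In characteristic `p`, `X ^ (p * d') - γ ^ p` is a `p`-th power, hence reducible. -/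
theorem not_irreducible_X_pow_sub_C_pow {K : Type*} [Field K] (p : ℕ) [Fact p.Prime] [CharP K p]
    (d' : ℕ) (γ : K) : ¬ Irreducible (X ^ (p * d') - C (γ ^ p) : K[X]) := by
  intro hirr
  have h1 : (X ^ (p * d') - C (γ ^ p) : K[X]) = (X ^ d' - C γ) ^ p := by
    rw [sub_pow_char, ← pow_mul, mul_comm d' p, ← C_pow]
  rw [h1] at hirr
  have hp : p ≠ 1 := (Fact.out : p.Prime).ne_one
  exact not_irreducible_pow hp hirr

/-- A field in which `X ^ d - 1` splits and `d ≠ 0` contains a primitive `d`-th root of unity. -/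
theorem exists_isPrimitiveRoot_of_splits {K : Type*} [Field K] (d : ℕ) (hd : (d : K) ≠ 0)
    (hs : (X ^ d - 1 : K[X]).Splits) : ∃ ζ : K, IsPrimitiveRoot ζ d := by
  have : NeZero (d : K) := ⟨hd⟩
  obtain ⟨ζ', hζ'⟩ := HasEnoughRootsOfUnity.exists_primitiveRoot (AlgebraicClosure K) d
  have hd0 : d ≠ 0 := by rintro rfl; simp at hd
  have h2 : ((X ^ d - 1 : K[X]).map (algebraMap K (AlgebraicClosure K))).IsRoot ζ' := by
    simp [hζ'.pow_eq_one]
  obtain ⟨ζ, hζ⟩ := hs.mem_range_of_isRoot (monic_X_pow_sub_C (1 : K) hd0).ne_zero h2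
  refine ⟨ζ, IsPrimitiveRoot.of_map_of_injective (f := algebraMap K (AlgebraicClosure K)) ?_
    (algebraMap K (AlgebraicClosure K)).injective⟩
  rw [hζ]; exact hζ'

/-- Arithmetic: in characteristic `p`, from `c ^ (n ^ 2) = b ^ (p ^ m * n * (p * d'))` with
`n = n' * p ^ m`, `p ∤ n'`, we get that `c` is a `p`-th power. -/
theorem exists_pow_char_eq {K : Type*} [Field K] (p : ℕ) [Fact p.Prime] [CharP K p]
    (n' m d' : ℕ) (hn' : ¬ p ∣ n') (c b : K) (hc : c ≠ 0)
    (h : c ^ ((n' * p ^ m) ^ 2) = b ^ (p ^ m * (n' * p ^ m) * (p * d'))) : ∃ γ : K, c = γ ^ p := by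
  have hp : p.Prime := Fact.out
  have e1 : (n' * p ^ m) ^ 2 = n' ^ 2 * p ^ (2 * m) := by ring
  have e2 : p ^ m * (n' * p ^ m) * (p * d') = (n' * d' * p) * p ^ (2 * m) := by ring
  rw [e1, e2, pow_mul, pow_mul b] at h
  have hinj : Function.Injective (fun y : K => y ^ p ^ (2 * m)) := by
    have := (frobenius_inj K p).iterate (2 * m)
    intro y z hyz
    apply this
    simpa [iterate_frobenius] using hyz
  have h2 : c ^ n' ^ 2 = (b ^ (n' * d')) ^ p := by
    have := hinj h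
    rw [this, pow_mul]
  have hcop : Nat.Coprime (n' ^ 2) p := by
    apply Nat.Coprime.pow_left
    exact ((Nat.Prime.coprime_iff_not_dvd hp).2 hn').symm
  obtain ⟨u, -, hu⟩ := Nat.exists_mul_mod_eq_one_of_coprime hcop hp.one_lt
  have h3 : n' ^ 2 * u = p * (n' ^ 2 * u / p) + 1 := by
    have := Nat.div_add_mod (n' ^ 2 * u) p
    rw [hu] at this
    exact this.symm
  set v := n' ^ 2 * u / p with hv
  have h4 : (c ^ n' ^ 2) ^ u = (c ^ v) ^ p * c := by
    rw [← pow_mul, h3, pow_succ, mul_comm p v, pow_mul]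
  rw [h2, ← pow_mul, mul_comm p u, pow_mul] at h4
  refine ⟨(b ^ (n' * d')) ^ u / c ^ v, ?_⟩
  rw [div_pow, h4, mul_div_cancel_left₀]
  exact pow_ne_zero _ (pow_ne_zero _ hc)

section liftNC

variable {K : Type*} [Field K] {A : Type*} [Ring A] [Algebra K A]

/-- the map `K[X]/(q) → A`, `X ↦ y`, for `y` a root of `q` (`A` not necessarily commutative). -/
noncomputable def adjoinRootLiftNC (q : K[X]) (y : A) (hy : aeval y q = 0) : AdjoinRoot q →ₐ[K] A :=
  Ideal.Quotient.liftₐ (Ideal.span {q}) (Polynomial.aeval y) (by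
    intro a ha
    rw [Ideal.mem_span_singleton] at ha
    obtain ⟨c, rfl⟩ := ha
    simp [hy])

theorem adjoinRootLiftNC_root (q : K[X]) (y : A) (hy : aeval y q = 0) :
    adjoinRootLiftNC q y hy (AdjoinRoot.root q) = y := by
  change adjoinRootLiftNC q y hy (AdjoinRoot.mk _ X) = y
  change aeval y X = y
  rw [aeval_X]

end liftNC

end Groth.Agent.H76
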