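import Mathlib

/-!
# A Lang-type surjectivity lemma for Frobenius-semilinear maps
-/

set_option autoImplicit false

open Polynomial

namespace Groth.Agent.H76

/-- auxiliary polynomials: `x 0 = a 0 * T - 1`, `x (j+1) = (x j)^p + a (j+1) * T`. -/
noncomputable def langPoly {L : Type*} [Field L] (p : ℕ) (a : ℕ → L) : ℕ → L[X]
  | 0 => C (a 0) * X - 1
  | (j + 1) => (langPoly p a j) ^ p + C (a (j + 1)) * X

/-- Core computation. `L` algebraically closed of characteristic `p`, `R` an `L`-algebra, `M` an
`R`-module with a Frobenius-semilinear endomorphism `φ`. If `φ^n m` is an `L`-linear combination of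
`m, φ m, …, φ^(n-1) m`, then `m = φ w - w` for some `w`. -/
theorem exists_sub_eq_of_iterate_mem {p : ℕ} [Fact p.Prime] {L : Type*} [Field L] [IsAlgClosed L]
    [CharP L p] {R : Type*} [CommRing R] [Algebra L R] [ExpChar R p]
    {M : Type*} [AddCommGroup M] [Module R M] (φ : M →ₛₗ[frobenius R p] M) (m : M)
    (n : ℕ) (a : ℕ → L)
    (h : φ^[n] m = ∑ i ∈ Finset.range n, algebraMap L R (a i) • φ^[i] m) :
    ∃ w : M, φ w - w = m := by
  have hp : p.Prime := Fact.out
  rcases n with _ | k
  · refine ⟨0, ?_⟩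
    simp only [Function.iterate_zero, id_eq, Finset.range_zero, Finset.sum_empty] at h
    rw [h, map_zero, sub_zero]
  -- the polynomial G = (x k)^p - T has derivative -1
  set G : L[X] := (langPoly p a k) ^ p - X with hG
  have hder : derivative G = -1 := by
    rw [hG, derivative_sub, derivative_X, derivative_pow, CharP.cast_eq_zero, map_zero]
    simp
  have hdeg : G.degree ≠ 0 := by
    intro h0
    have := eq_C_of_degree_eq_zero h0
    rw [this, derivative_C] at hder
    have h1 : (0 : L[X]) = -1 := hder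
    have h2 : (1 : L[X]) = 0 := by rw [← neg_neg (1 : L[X]), ← h1, neg_zero]
    exact one_ne_zero h2
  obtain ⟨t, ht⟩ := IsAlgClosed.exists_root G hdeg
  set y : ℕ → L := fun j => (langPoly p a j).eval t with hy
  have hy0 : y 0 = a 0 * t - 1 := by simp [hy, langPoly]
  have hys : ∀ j, y (j + 1) = (y j) ^ p + a (j + 1) * t := by
    intro j; simp [hy, langPoly]
  have hyk : (y k) ^ p = t := by
    have : G.eval t = 0 := ht
    rw [hG, eval_sub, eval_pow, eval_X, sub_eq_zero] at this
    exact this
  set e : ℕ → M := fun i => φ^[i] m with he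
  have hφe : ∀ i, φ (e i) = e (i + 1) := fun i => (Function.iterate_succ_apply' φ i m).symm
  have hsemi : ∀ (c : L) (v : M), φ (algebraMap L R c • v) = algebraMap L R (c ^ p) • φ v := by
    intro c v
    rw [map_smulₛₗ, frobenius_def, map_pow]
  refine ⟨∑ i ∈ Finset.range (k + 1), algebraMap L R (y i) • e i, ?_⟩
  have h1 : φ (∑ i ∈ Finset.range (k + 1), algebraMap L R (y i) • e i) =
      ∑ i ∈ Finset.range k, algebraMap L R ((y i) ^ p + t * a (i + 1)) • e (i + 1) +
        algebraMap L R (t * a 0) • e 0 := by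
    rw [map_sum]
    simp_rw [hsemi, hφe]
    rw [Finset.sum_range_succ, hyk]
    have h' : e (k + 1) = ∑ i ∈ Finset.range (k + 1), algebraMap L R (a i) • e i := h
    rw [h', Finset.smul_sum, Finset.sum_range_succ' (fun i => algebraMap L R t • algebraMap L R (a i) • e i),
      ← add_assoc, ← Finset.sum_add_distrib]
    congr 1
    · apply Finset.sum_congr rfl
      intro i _
      rw [smul_smul, ← map_mul, ← add_smul, ← map_add]
    · rw [smul_smul, ← map_mul]
  have h2 : ∑ i ∈ Finset.range (k + 1), algebraMap L R (y i) • e i =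
      ∑ i ∈ Finset.range k, algebraMap L R (y (i + 1)) • e (i + 1) + algebraMap L R (y 0) • e 0 :=
    Finset.sum_range_succ' _ _
  rw [h1, h2, add_sub_add_comm, ← Finset.sum_sub_distrib, ← sub_smul, ← map_sub]
  have h3 : ∀ i ∈ Finset.range k,
      algebraMap L R ((y i) ^ p + t * a (i + 1)) • e (i + 1) - algebraMap L R (y (i + 1)) • e (i + 1)
        = 0 := by
    intro i _
    rw [← sub_smul, ← map_sub, hys i, mul_comm t, sub_self, map_zero, zero_smul]
  rw [Finset.sum_eq_zero h3, zero_add, hy0]
  have : t * a 0 - (a 0 * t - 1) = 1 := by ring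
  rw [this, map_one, one_smul]
  rfl

theorem exists_iterate_mem_span {p : ℕ} [Fact p.Prime] {L : Type*} [Field L]
    {R : Type*} [CommRing R] [Algebra L R] [Algebra.IsIntegral L R] [ExpChar R p]
    {M : Type*} [AddCommGroup M] [Module R M] [Module.Finite R M]
    (φ : M →ₛₗ[frobenius R p] M) (m : M) :
    ∃ (n : ℕ) (a : ℕ → L),
      φ^[n] m = ∑ i ∈ Finset.range n, algebraMap L R (a i) • φ^[i] m := by
  classical
  let _ : Module L M := Module.compHom M (algebraMap L R)
  have hLsmul : ∀ (c : L) (x : M), c • x = algebraMap L R c • x := fun c x => rfl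
  have : IsScalarTower L R M := IsScalarTower.of_algebraMap_smul (fun c x => rfl)
  obtain ⟨S, hS⟩ := (Module.Finite.fg_top : (⊤ : Submodule R M).FG)
  have hspan : ∀ x : M, ∃ c : S → R, ∑ g, c g • (g : M) = x := by
    intro x
    have hx : x ∈ Submodule.span R (Set.range (fun g : S => (g : M))) := by
      rw [Subtype.range_coe_subtype]
      simp only [Finset.setOfPred_mem]
      rw [hS]; exact Submodule.mem_top
    exact (Submodule.mem_span_range_iff_exists_fun R).1 hx
  choose coef hcoef using hspan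
  let T₀ : Set R := Set.range (fun gh : S × S => coef (φ gh.1) gh.2) ∪ Set.range (coef m)
  have hT₀ : T₀.Finite := (Set.finite_range _).union (Set.finite_range _)
  let R₀ := Algebra.adjoin L T₀
  have : Module.Finite L R₀ :=
    Algebra.finite_adjoin_of_finite_of_isIntegral hT₀ (fun x _ => Algebra.IsIntegral.isIntegral x)
  have hmem1 : ∀ g h : S, coef (φ g) h ∈ R₀ := fun g h =>
    Algebra.subset_adjoin (Or.inl ⟨(g, h), rfl⟩)
  have hmem2 : ∀ g : S, coef m g ∈ R₀ := fun g => Algebra.subset_adjoin (Or.inr ⟨g, rfl⟩)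
  -- the finite-dimensional subspace V
  let Ψ : (S → R₀) →ₗ[L] M :=
    { toFun := fun ρ => ∑ g, ((ρ g : R₀) : R) • (g : M)
      map_add' := fun ρ σ => by
        simp only [Pi.add_apply, Subalgebra.coe_add, add_smul, Finset.sum_add_distrib]
      map_smul' := fun c ρ => by
        simp only [Pi.smul_apply, RingHom.id_apply, Finset.smul_sum]
        apply Finset.sum_congr rfl
        intro g _
        rw [hLsmul, smul_smul, Subalgebra.coe_smul, Algebra.smul_def] }
  have hΨ : ∀ ρ, Ψ ρ = ∑ g, ((ρ g : R₀) : R) • (g : M) := fun ρ => rfl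
  let V : Submodule L M := LinearMap.range Ψ
  have : Module.Finite L V := Module.Finite.range Ψ
  have hmV : m ∈ V := ⟨fun g => ⟨coef m g, hmem2 g⟩, by rw [hΨ]; exact hcoef m⟩
  have hφV : ∀ x ∈ V, φ x ∈ V := by
    rintro _ ⟨ρ, rfl⟩
    refine ⟨fun h => ∑ g, (ρ g) ^ p * ⟨coef (φ g) h, hmem1 g h⟩, ?_⟩
    rw [hΨ, hΨ, map_sum]
    have hterm : ∀ g : S, φ (((ρ g : R₀) : R) • (g : M)) =
        ∑ h, (((ρ g : R₀) : R) ^ p * coef (φ g) h) • (h : M) := by
      intro g
      rw [map_smulₛₗ, frobenius_def]
      conv_lhs => rw [← hcoef (φ g)]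
      rw [Finset.smul_sum]
      simp_rw [smul_smul]
    simp_rw [hterm]
    rw [Finset.sum_comm]
    apply Finset.sum_congr rfl
    intro h _
    rw [← Finset.sum_smul]
    congr 1
    simp
  have huV : ∀ j, φ^[j] m ∈ V := by
    intro j
    induction j with
    | zero => exact hmV
    | succ j ih => rw [Function.iterate_succ_apply']; exact hφV _ ih
  let u : ℕ → V := fun j => ⟨φ^[j] m, huV j⟩
  let f : ℕ →o Submodule L V :=
    ⟨fun i => Submodule.span L (Set.range (fun j : Fin i => u j)), by
      apply monotone_nat_of_le_succ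
      intro i
      apply Submodule.span_mono
      rintro _ ⟨j, rfl⟩
      exact ⟨j.castSucc, rfl⟩⟩
  have : IsNoetherian L V := inferInstance
  obtain ⟨n, hn⟩ := monotone_stabilizes_iff_noetherian.2 (inferInstance : IsNoetherian L V) f
  have hmem : u n ∈ f n := by
    rw [hn (n + 1) (Nat.le_succ n)]
    exact Submodule.subset_span ⟨Fin.last n, rfl⟩
  obtain ⟨c, hc⟩ := (Submodule.mem_span_range_iff_exists_fun L).1 hmem
  refine ⟨n, fun i => if h : i < n then c ⟨i, h⟩ else 0, ?_⟩
  have hc' := congrArg Subtype.val hc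
  rw [Submodule.coe_sum] at hc'
  simp only [Submodule.coe_smul] at hc'
  rw [Finset.sum_range]
  rw [show (u n : M) = φ^[n] m from rfl] at hc'
  rw [← hc']
  apply Finset.sum_congr rfl
  intro j _
  have hj : (if h : (j : ℕ) < n then c ⟨j, h⟩ else 0) = c j := by rw [dif_pos j.2]
  change c j • φ^[j] m = algebraMap L R (if h : (j : ℕ) < n then c ⟨j, h⟩ else 0) • φ^[j] m
  rw [hj]
  rfl


end Groth.Agent.H76
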