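import Mathlib

/-!
# Second order linear ODEs on polynomials: local exponents and Wronskians

Generic polynomial calculus used for the inseparable-limit theorem (S13935).
-/

set_option autoImplicit false
universe u

open Polynomial

namespace Groth.Agent.H76.Lim

variable {R : Type u} [CommRing R]

/-- The second order operator `y ↦ p₀ y'' - p₁ y' + N y`. -/
noncomputable def Lop (p₀ p₁ N y : R[X]) : R[X] :=
  p₀ * derivative (derivative y) - p₁ * derivative y + N * y

theorem Lop_add (p₀ p₁ N y z : R[X]) :
    Lop p₀ p₁ N (y + z) = Lop p₀ p₁ N y + Lop p₀ p₁ N z := by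
  unfold Lop; simp only [derivative_add]; ring

theorem Lop_sub (p₀ p₁ N y z : R[X]) :
    Lop p₀ p₁ N (y - z) = Lop p₀ p₁ N y - Lop p₀ p₁ N z := by
  unfold Lop; simp only [derivative_sub]; ring

theorem Lop_mul_of_derivative_eq_zero (p₀ p₁ N : R[X]) {a : R[X]} (ha : derivative a = 0)
    (y : R[X]) : Lop p₀ p₁ N (a * y) = a * Lop p₀ p₁ N y := by
  unfold Lop
  rw [derivative_mul, ha, zero_mul, zero_add, derivative_mul, ha, zero_mul, zero_add]; ring

theorem Lop_C_mul (p₀ p₁ N : R[X]) (c : R) (y : R[X]) :
    Lop p₀ p₁ N (C c * y) = C c * Lop p₀ p₁ N y :=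
  Lop_mul_of_derivative_eq_zero p₀ p₁ N derivative_C y

theorem Lop_zero (p₀ p₁ N : R[X]) : Lop p₀ p₁ N 0 = 0 := by
  unfold Lop; simp

theorem Lop_map {S : Type u} [CommRing S] (f : R →+* S) (p₀ p₁ N y : R[X]) :
    (Lop p₀ p₁ N y).map f = Lop (p₀.map f) (p₁.map f) (N.map f) (y.map f) := by
  unfold Lop
  simp only [Polynomial.map_add, Polynomial.map_sub, Polynomial.map_mul, derivative_map]

theorem wronskian_map {S : Type u} [CommRing S] (f : R →+* S) (y z : R[X]) :
    (wronskian y z).map f = wronskian (y.map f) (z.map f) := by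
  unfold wronskian
  simp only [Polynomial.map_sub, Polynomial.map_mul, derivative_map]

theorem wronskian_mul_left_of_derivative_eq_zero {a : R[X]} (ha : derivative a = 0)
    (y z : R[X]) : wronskian (a * y) z = a * wronskian y z := by
  unfold wronskian; rw [derivative_mul, ha]; ring

theorem wronskian_mul_right_of_derivative_eq_zero {a : R[X]} (ha : derivative a = 0)
    (y z : R[X]) : wronskian y (a * z) = a * wronskian y z := by
  unfold wronskian; rw [derivative_mul, ha]; ring

theorem wronskian_sub_left (a b c : R[X]) :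
    wronskian (a - b) c = wronskian a c - wronskian b c := by
  unfold wronskian; rw [derivative_sub]; ring

theorem wronskian_sub_right (a b c : R[X]) :
    wronskian a (b - c) = wronskian a b - wronskian a c := by
  unfold wronskian; rw [derivative_sub]; ring

/-- Abel's identity: the Wronskian `W` of two solutions satisfies `p₀ W' = p₁ W`. -/
theorem wronskian_sol {p₀ p₁ N y z : R[X]} (hy : Lop p₀ p₁ N y = 0) (hz : Lop p₀ p₁ N z = 0) :
    p₀ * derivative (wronskian y z) = p₁ * wronskian y z := by
  unfold wronskian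
  unfold Lop at hy hz
  simp only [derivative_sub, derivative_mul]
  linear_combination y * hz - z * hy

theorem wronskian_three (y z₁ z₂ : R[X]) :
    y * wronskian z₁ z₂ = z₁ * wronskian y z₂ + z₂ * wronskian z₁ y := by
  unfold wronskian; ring

/-- `θ = (X - a) d/dX` acts on `(X-a)^b u` by `b` modulo `(X-a)^(b+1)`. -/
theorem theta (a : R) (b : ℕ) (u : R[X]) :
    (X - C a) * derivative ((X - C a) ^ b * u) =
      C (b : R) * ((X - C a) ^ b * u) + (X - C a) ^ (b + 1) * derivative u := by
  rw [derivative_mul, derivative_X_sub_C_pow]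
  cases b with
  | zero => simp
  | succ b =>
    simp only [Nat.add_sub_cancel]
    ring

theorem theta2 (a : R) (b : ℕ) (u : R[X]) :
    ∃ r : R[X], (X - C a) ^ 2 * derivative (derivative ((X - C a) ^ b * u)) =
      C ((b : R) * ((b : R) - 1)) * ((X - C a) ^ b * u) + (X - C a) ^ (b + 1) * r := by
  set T : R[X] := X - C a with hT
  set y : R[X] := T ^ b * u with hy
  have h1 : T * derivative y = C (b : R) * y + T ^ (b + 1) * derivative u := theta a b u
  have h2 : T * derivative (T * derivative y) = T * derivative y + T ^ 2 * derivative (derivative y) := by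
    rw [derivative_mul, hT, derivative_sub, derivative_X, derivative_C]; ring
  have h3 : T * derivative y = T ^ b * (C (b : R) * u + T * derivative u) := by
    rw [h1, hy]; ring
  have h4 : T * derivative (T ^ b * (C (b : R) * u + T * derivative u)) =
      C (b : R) * (T ^ b * (C (b : R) * u + T * derivative u)) +
        T ^ (b + 1) * derivative (C (b : R) * u + T * derivative u) := theta a b _
  rw [← h3] at h4
  refine ⟨(C (b : R) - 1) * derivative u + derivative (C (b : R) * u + T * derivative u), ?_⟩
  have h5 : T ^ 2 * derivative (derivative y) = T * derivative (T * derivative y) - T * derivative y := by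
    rw [h2]; ring
  rw [h5, h4, h1, C_mul, C_sub, C_1]
  ring

/-- The indicial equation at a finite point. -/
theorem indicial [IsDomain R] {a : R} {b : ℕ} {u y c₂ c₁ c₀ : R[X]}
    (hy : y = (X - C a) ^ b * u)
    (h : c₂ * ((X - C a) ^ 2 * derivative (derivative y)) + c₁ * ((X - C a) * derivative y)
      + c₀ * y = 0) :
    (c₂.eval a * ((b : R) * ((b : R) - 1)) + c₁.eval a * b + c₀.eval a) * u.eval a = 0 := by
  subst hy
  obtain ⟨r, hr⟩ := theta2 a b u
  rw [hr, theta a b u] at h
  have h' : (X - C a) ^ b * (u * (c₂ * C ((b : R) * ((b : R) - 1)) + c₁ * C (b : R) + c₀)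
      + (X - C a) * (c₂ * r + c₁ * derivative u)) = 0 := by
    rw [← h]; ring
  rcases mul_eq_zero.mp h' with h0 | h0
  · exact absurd h0 (pow_ne_zero _ (X_sub_C_ne_zero a))
  · have := congrArg (eval a) h0
    simp only [eval_add, eval_mul, eval_sub, eval_X, eval_C, sub_self, zero_mul, add_zero,
      eval_zero] at this
    rw [← this]; ring

/-- Vanishing order of a Wronskian. -/
theorem wronskian_ord (a : R) (b₁ b₂ : ℕ) (u₁ u₂ : R[X]) :
    (X - C a) * wronskian ((X - C a) ^ b₁ * u₁) ((X - C a) ^ b₂ * u₂) =
      (X - C a) ^ (b₁ + b₂) * ((C (b₂ : R) - C (b₁ : R)) * (u₁ * u₂)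
        + (X - C a) * wronskian u₁ u₂) := by
  have e1 := theta a b₁ u₁
  have e2 := theta a b₂ u₂
  unfold wronskian
  have : (X - C a) * ((X - C a) ^ b₁ * u₁ * derivative ((X - C a) ^ b₂ * u₂) -
      derivative ((X - C a) ^ b₁ * u₁) * ((X - C a) ^ b₂ * u₂)) =
      (X - C a) ^ b₁ * u₁ * ((X - C a) * derivative ((X - C a) ^ b₂ * u₂)) -
      ((X - C a) * derivative ((X - C a) ^ b₁ * u₁)) * ((X - C a) ^ b₂ * u₂) := by ring
  rw [this, e1, e2]
  ring

/-! ### Infinity -/

theorem coeff_X_mul_derivative (y : R[X]) (j : ℕ) :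
    (X * derivative y).coeff j = (j : R) * y.coeff j := by
  cases j with
  | zero => simp
  | succ j =>
    rw [coeff_X_mul, coeff_derivative]
    push_cast; ring

theorem natDegree_X_mul_derivative_le (y : R[X]) : (X * derivative y).natDegree ≤ y.natDegree := by
  rw [natDegree_le_iff_coeff_eq_zero]
  intro j hj
  rw [coeff_X_mul_derivative, coeff_eq_zero_of_natDegree_lt hj, mul_zero]

theorem X_sq_mul_derivative2 (y : R[X]) :
    X ^ 2 * derivative (derivative y) = X * derivative (X * derivative y) - X * derivative y := by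
  rw [derivative_mul, derivative_X]; ring

theorem coeff_X_sq_mul_derivative2 (y : R[X]) (j : ℕ) :
    (X ^ 2 * derivative (derivative y)).coeff j = (j : R) * ((j : R) - 1) * y.coeff j := by
  rw [X_sq_mul_derivative2, coeff_sub, coeff_X_mul_derivative, coeff_X_mul_derivative]
  ring

theorem natDegree_X_sq_mul_derivative2_le (y : R[X]) :
    (X ^ 2 * derivative (derivative y)).natDegree ≤ y.natDegree := by
  rw [natDegree_le_iff_coeff_eq_zero]
  intro j hj
  rw [coeff_X_sq_mul_derivative2, coeff_eq_zero_of_natDegree_lt hj, mul_zero]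

/-- The indicial equation at infinity. -/
theorem indicial_inf {n : ℕ} {c₂ c₁ c₀ y : R[X]} (h₂ : c₂.natDegree ≤ n) (h₁ : c₁.natDegree ≤ n)
    (h₀ : c₀.natDegree ≤ n)
    (h : c₂ * (X ^ 2 * derivative (derivative y)) + c₁ * (X * derivative y) + c₀ * y = 0) :
    (c₂.coeff n * ((y.natDegree : R) * ((y.natDegree : R) - 1)) + c₁.coeff n * y.natDegree
      + c₀.coeff n) * y.coeff y.natDegree = 0 := by
  have := congrArg (fun q => q.coeff (n + y.natDegree)) h
  simp only [coeff_add, coeff_zero] at this
  rw [coeff_mul_add_eq_of_natDegree_le h₂ (natDegree_X_sq_mul_derivative2_le y),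
    coeff_mul_add_eq_of_natDegree_le h₁ (natDegree_X_mul_derivative_le y),
    coeff_mul_add_eq_of_natDegree_le h₀ le_rfl, coeff_X_sq_mul_derivative2, coeff_X_mul_derivative] at this
  rw [← this]; ring

theorem coeff_X_mul_wronskian (y z : R[X]) :
    (X * wronskian y z).coeff (y.natDegree + z.natDegree) =
      ((z.natDegree : R) - y.natDegree) * (y.coeff y.natDegree * z.coeff z.natDegree) := by
  have : X * wronskian y z = y * (X * derivative z) - (X * derivative y) * z := by
    unfold wronskian; ring
  rw [this, coeff_sub, coeff_mul_add_eq_of_natDegree_le le_rfl (natDegree_X_mul_derivative_le z),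
    coeff_mul_add_eq_of_natDegree_le (natDegree_X_mul_derivative_le y) le_rfl,
    coeff_X_mul_derivative, coeff_X_mul_derivative]
  ring

theorem natDegree_X_mul_wronskian_le (y z : R[X]) :
    (X * wronskian y z).natDegree ≤ y.natDegree + z.natDegree := by
  have : X * wronskian y z = y * (X * derivative z) - (X * derivative y) * z := by
    unfold wronskian; ring
  rw [this]
  refine (natDegree_sub_le _ _).trans (max_le ?_ ?_)
  · exact natDegree_mul_le.trans (Nat.add_le_add_left (natDegree_X_mul_derivative_le z) _)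
  · exact natDegree_mul_le.trans (Nat.add_le_add_right (natDegree_X_mul_derivative_le y) _)

/-- If the degrees are not congruent modulo the characteristic, the Wronskian has the expected
degree. -/
theorem natDegree_wronskian_add_one [IsDomain R] {y z : R[X]} (hy : y ≠ 0) (hz : z ≠ 0)
    (h : ((z.natDegree : R) - y.natDegree) ≠ 0) :
    wronskian y z ≠ 0 ∧ (wronskian y z).natDegree + 1 = y.natDegree + z.natDegree := by
  have hc : (X * wronskian y z).coeff (y.natDegree + z.natDegree) ≠ 0 := by
    rw [coeff_X_mul_wronskian]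
    exact mul_ne_zero h (mul_ne_zero (leadingCoeff_ne_zero.mpr hy) (leadingCoeff_ne_zero.mpr hz))
  have hW : wronskian y z ≠ 0 := by
    intro h0; rw [h0, mul_zero, coeff_zero] at hc; exact hc rfl
  refine ⟨hW, ?_⟩
  have h1 : (X * wronskian y z).natDegree = y.natDegree + z.natDegree :=
    le_antisymm (natDegree_X_mul_wronskian_le y z) (le_natDegree_of_ne_zero hc)
  rw [natDegree_X_mul hW] at h1
  exact h1

end Groth.Agent.H76.Lim
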