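import Mathlib
import Groth.Agent.H76.LimA

/-!
# The polynomials attached to ramification data `(a i, e i)`
-/

set_option autoImplicit false
universe u

open Polynomial

namespace Groth.Agent.H76.Lim

variable {R : Type u} [CommRing R] {n : ℕ} (a : Fin n → R) (e : Fin n → ℕ)

/-- `∏ (X - a i)` -/
noncomputable def P0 : R[X] := ∏ i, (X - C (a i))

/-- `∏_{j ≠ i} (X - a j)` -/
noncomputable def Q0 (i : Fin n) : R[X] := ∏ j ∈ Finset.univ.erase i, (X - C (a j))

/-- `∑ (e i - 1) ∏_{j ≠ i} (X - a j)` -/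
noncomputable def P1 : R[X] := ∑ i, C (((e i - 1 : ℕ) : R)) * Q0 a i

/-- `∏ (X - a i)^(e i - 1)` -/
noncomputable def Pi1 : R[X] := ∏ i, (X - C (a i)) ^ (e i - 1)

/-- `∏ (X - a i)^(e i - 2)` -/
noncomputable def Pi2 : R[X] := ∏ i, (X - C (a i)) ^ (e i - 2)

/-- `∏_{j ≠ i} (X - a j)^(e j - 1)` -/
noncomputable def V1 (i : Fin n) : R[X] := ∏ j ∈ Finset.univ.erase i, (X - C (a j)) ^ (e j - 1)

theorem P0_eq (i : Fin n) : P0 a = (X - C (a i)) * Q0 a i := by
  unfold P0 Q0
  exact (Finset.mul_prod_erase Finset.univ (fun j => X - C (a j)) (Finset.mem_univ i)).symm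

theorem Pi1_eq_V1 (i : Fin n) : Pi1 a e = (X - C (a i)) ^ (e i - 1) * V1 a e i := by
  unfold Pi1 V1
  exact (Finset.mul_prod_erase Finset.univ (fun j => (X - C (a j)) ^ (e j - 1))
    (Finset.mem_univ i)).symm

theorem Pi1_eq (he : ∀ i, 2 ≤ e i) : Pi1 a e = P0 a * Pi2 a e := by
  unfold Pi1 P0 Pi2
  rw [← Finset.prod_mul_distrib]
  refine Finset.prod_congr rfl fun i _ => ?_
  rw [← pow_succ']
  congr 1
  have := he i
  omega

theorem derivative_Pi1 (he : ∀ i, 2 ≤ e i) : derivative (Pi1 a e) = P1 a e * Pi2 a e := by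
  classical
  unfold Pi1 P1
  rw [derivative_prod_finset, Finset.sum_mul]
  refine Finset.sum_congr rfl fun i _ => ?_
  rw [derivative_X_sub_C_pow]
  unfold Q0 Pi2
  rw [← Finset.mul_prod_erase _ (fun j => (X - C (a j)) ^ (e j - 2)) (Finset.mem_univ i)]
  have h1 : ∏ j ∈ Finset.univ.erase i, (X - C (a j)) ^ (e j - 1) =
      (∏ j ∈ Finset.univ.erase i, (X - C (a j))) *
        ∏ j ∈ Finset.univ.erase i, (X - C (a j)) ^ (e j - 2) := by
    rw [← Finset.prod_mul_distrib]
    refine Finset.prod_congr rfl fun j _ => ?_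
    rw [← pow_succ']
    congr 1
    have := he j
    omega
  rw [h1]
  have h2 : e i - 1 - 1 = e i - 2 := by omega
  rw [h2]
  ring

theorem P0_mul_derivative_Pi1 (he : ∀ i, 2 ≤ e i) :
    P0 a * derivative (Pi1 a e) = P1 a e * Pi1 a e := by
  rw [derivative_Pi1 a e he, Pi1_eq a e he]; ring

theorem P0_monic : (P0 a).Monic := monic_prod_of_monic _ _ fun i _ => monic_X_sub_C (a i)

theorem Q0_monic (i : Fin n) : (Q0 a i).Monic :=
  monic_prod_of_monic _ _ fun j _ => monic_X_sub_C (a j)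

theorem Pi1_monic : (Pi1 a e).Monic :=
  monic_prod_of_monic _ _ fun i _ => (monic_X_sub_C (a i)).pow _

theorem Pi2_monic : (Pi2 a e).Monic :=
  monic_prod_of_monic _ _ fun i _ => (monic_X_sub_C (a i)).pow _

theorem natDegree_P0 [Nontrivial R] : (P0 a).natDegree = n := by
  unfold P0
  rw [natDegree_prod_of_monic _ _ fun i _ => monic_X_sub_C (a i)]
  simp

theorem natDegree_Q0 [Nontrivial R] (i : Fin n) : (Q0 a i).natDegree + 1 = n := by
  unfold Q0
  rw [natDegree_prod_of_monic _ _ fun i _ => monic_X_sub_C (a i)]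
  simp only [natDegree_X_sub_C, Finset.sum_const, smul_eq_mul, mul_one]
  rw [Finset.card_erase_of_mem (Finset.mem_univ i), Finset.card_univ, Fintype.card_fin]
  have : 0 < n := Fin.pos i
  omega

theorem natDegree_Pi1 [Nontrivial R] : (Pi1 a e).natDegree = ∑ i, (e i - 1) := by
  unfold Pi1
  rw [natDegree_prod_of_monic _ _ fun i _ => (monic_X_sub_C (a i)).pow _]
  refine Finset.sum_congr rfl fun i _ => ?_
  rw [(monic_X_sub_C (a i)).natDegree_pow, natDegree_X_sub_C, mul_one]

theorem natDegree_X_mul_P1_le [Nontrivial R] : (X * P1 a e).natDegree ≤ n := by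
  unfold P1
  rw [Finset.mul_sum]
  refine natDegree_sum_le_of_forall_le _ _ fun i _ => ?_
  have h1 : X * (C (((e i - 1 : ℕ) : R)) * Q0 a i) = C (((e i - 1 : ℕ) : R)) * (X * Q0 a i) := by
    ring
  rw [h1]
  refine (natDegree_C_mul_le _ _).trans ?_
  rw [natDegree_X_mul (Q0_monic a i).ne_zero, natDegree_Q0]

theorem coeff_X_mul_P1 [Nontrivial R] : (X * P1 a e).coeff n = ∑ i, (((e i - 1 : ℕ) : R)) := by
  unfold P1
  rw [Finset.mul_sum, finsetSum_coeff]
  refine Finset.sum_congr rfl fun i _ => ?_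
  have h1 : X * (C (((e i - 1 : ℕ) : R)) * Q0 a i) = C (((e i - 1 : ℕ) : R)) * (X * Q0 a i) := by
    ring
  rw [h1, coeff_C_mul]
  have h2 : (X * Q0 a i).coeff n = 1 := by
    have hm : (X * Q0 a i).Monic := monic_X.mul (Q0_monic a i)
    have hd : (X * Q0 a i).natDegree = n := by
      rw [natDegree_X_mul (Q0_monic a i).ne_zero, natDegree_Q0]
    have := hm.coeff_natDegree
    rwa [hd] at this
  rw [h2, mul_one]

/-! ### maps -/

section maps
variable {S : Type u} [CommRing S] (f : R →+* S)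

theorem P0_map : (P0 a).map f = P0 (fun i => f (a i)) := by
  unfold P0; simp [Polynomial.map_prod]

theorem Q0_map (i : Fin n) : (Q0 a i).map f = Q0 (fun i => f (a i)) i := by
  unfold Q0; simp [Polynomial.map_prod]

theorem P1_map : (P1 a e).map f = P1 (fun i => f (a i)) e := by
  unfold P1; simp [Polynomial.map_sum, Q0_map]

theorem Pi1_map : (Pi1 a e).map f = Pi1 (fun i => f (a i)) e := by
  unfold Pi1; simp [Polynomial.map_prod]

theorem Pi2_map : (Pi2 a e).map f = Pi2 (fun i => f (a i)) e := by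
  unfold Pi2; simp [Polynomial.map_prod]

end maps

/-! ### evaluation (over a field) -/

section field
variable {k : Type u} [Field k] (a : Fin n → k) (e : Fin n → ℕ)

theorem eval_Q0_ne_zero (ha : Function.Injective a) (i : Fin n) : (Q0 a i).eval (a i) ≠ 0 := by
  unfold Q0
  rw [eval_prod]
  refine Finset.prod_ne_zero_iff.mpr fun j hj => ?_
  rw [eval_sub, eval_X, eval_C, sub_ne_zero]
  intro h
  exact (Finset.ne_of_mem_erase hj) (ha h).symm

theorem eval_V1_ne_zero (ha : Function.Injective a) (i : Fin n) : (V1 a e i).eval (a i) ≠ 0 := by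
  unfold V1
  rw [eval_prod]
  refine Finset.prod_ne_zero_iff.mpr fun j hj => ?_
  rw [eval_pow, eval_sub, eval_X, eval_C]
  refine pow_ne_zero _ (sub_ne_zero.mpr ?_)
  intro h
  exact (Finset.ne_of_mem_erase hj) (ha h).symm

theorem eval_P1 (i : Fin n) :
    (P1 a e).eval (a i) = (((e i - 1 : ℕ) : k)) * (Q0 a i).eval (a i) := by
  classical
  unfold P1
  rw [eval_finset_sum, Finset.sum_eq_single i]
  · rw [eval_mul, eval_C]
  · intro j _ hji
    rw [eval_mul]
    have : (Q0 a j).eval (a i) = 0 := by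
      unfold Q0
      rw [eval_prod]
      refine Finset.prod_eq_zero (Finset.mem_erase.mpr ⟨hji.symm, Finset.mem_univ i⟩) ?_
      simp
    rw [this, mul_zero]
  · intro h; exact absurd (Finset.mem_univ i) h

theorem eval_P0_ne_zero {x : k} (hx : ∀ i, a i ≠ x) : (P0 a).eval x ≠ 0 := by
  unfold P0
  rw [eval_prod]
  refine Finset.prod_ne_zero_iff.mpr fun j _ => ?_
  rw [eval_sub, eval_X, eval_C, sub_ne_zero]
  exact (hx j).symm

theorem eval_Pi1_ne_zero {x : k} (hx : ∀ i, a i ≠ x) : (Pi1 a e).eval x ≠ 0 := by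
  unfold Pi1
  rw [eval_prod]
  refine Finset.prod_ne_zero_iff.mpr fun j _ => ?_
  rw [eval_pow, eval_sub, eval_X, eval_C]
  exact pow_ne_zero _ (sub_ne_zero.mpr (hx j).symm)

end field

end Groth.Agent.H76.Lim
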