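import Mathlib
import Groth.Agent.H76.LimB

/-!
# Local analysis of the solution module of the limit operator
-/

set_option autoImplicit false
universe u

open Polynomial

namespace Groth.Agent.H76.Lim

section sol
variable {R : Type u} [CommRing R]

/-- The solution space of `p₀ y'' - p₁ y' + N y = 0`. -/
noncomputable def Sol (p₀ p₁ N : R[X]) : Submodule R R[X] where
  carrier := {y | Lop p₀ p₁ N y = 0}
  add_mem' := by
    intro y z hy hz
    simp only [Set.mem_setOf_eq] at *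
    rw [Lop_add, hy, hz, add_zero]
  zero_mem' := Lop_zero _ _ _
  smul_mem' := by
    intro c y hy
    simp only [Set.mem_setOf_eq] at *
    rw [smul_eq_C_mul, Lop_C_mul, hy, mul_zero]

theorem mem_Sol {p₀ p₁ N y : R[X]} : y ∈ Sol p₀ p₁ N ↔ Lop p₀ p₁ N y = 0 := Iff.rfl

theorem mul_mem_Sol {p₀ p₁ N a y : R[X]} (ha : derivative a = 0) (hy : y ∈ Sol p₀ p₁ N) :
    a * y ∈ Sol p₀ p₁ N := by
  rw [mem_Sol] at *
  rw [Lop_mul_of_derivative_eq_zero _ _ _ ha, hy, mul_zero]

theorem mem_Sol_of_mul [IsDomain R] {p₀ p₁ N a y : R[X]} (ha : derivative a = 0) (ha0 : a ≠ 0)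
    (hy : a * y ∈ Sol p₀ p₁ N) : y ∈ Sol p₀ p₁ N := by
  rw [mem_Sol] at *
  rw [Lop_mul_of_derivative_eq_zero _ _ _ ha] at hy
  exact (mul_eq_zero.mp hy).resolve_left ha0

end sol

section field

variable {k : Type u} [Field k] (p : ℕ) [hp : Fact p.Prime] [CharP k p]

include hp in
theorem derivative_X_sub_C_pow_char (x : k) : derivative ((X - C x) ^ p) = 0 := by
  rw [derivative_X_sub_C_pow, CharP.cast_eq_zero, C_0, zero_mul]

include hp in
theorem derivative_X_pow_char (s : ℕ) : derivative ((X : k[X]) ^ (s * p)) = 0 := by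
  rw [derivative_X_pow]
  have : ((s * p : ℕ) : k) = 0 := by rw [Nat.cast_mul, CharP.cast_eq_zero k p, mul_zero]
  rw [this, C_0, zero_mul]

/-- An exponent `< p` satisfying the indicial equation is `0` or `ε`. -/
theorem exp_cases {b ε : ℕ} (hb : b < p) (hε : ε < p) (h : (b : k) * ((b : k) - ε) = 0) :
    b = 0 ∨ b = ε := by
  rcases mul_eq_zero.mp h with h | h
  · left
    rw [CharP.cast_eq_zero_iff k p] at h
    exact Nat.eq_zero_of_dvd_of_lt h hb
  · right
    rw [sub_eq_zero, CharP.natCast_eq_natCast k p] at h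
    have := h
    unfold Nat.ModEq at this
    rwa [Nat.mod_eq_of_lt hb, Nat.mod_eq_of_lt hε] at this

include hp in
/-- A polynomial with zero derivative vanishing at `x` is divisible by `(X - x)^p`. -/
theorem pow_p_dvd {γ : k[X]} (hγ : derivative γ = 0) {x : k} (hx : γ.eval x = 0) :
    (X - C x) ^ p ∣ γ := by
  by_cases h0 : γ = 0
  · rw [h0]; exact dvd_zero _
  obtain ⟨u, hu, hnd⟩ := exists_eq_pow_rootMultiplicity_mul_and_not_dvd γ h0 x
  set b := rootMultiplicity x γ with hb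
  have hb1 : 0 < b := (rootMultiplicity_pos h0).mpr hx
  have hux : u.eval x ≠ 0 := fun h => hnd (dvd_iff_isRoot.mpr h)
  have h1 := theta x b u
  rw [← hu, hγ, mul_zero] at h1
  have h2 : (X - C x) ^ b * (C (b : k) * u + (X - C x) * derivative u) = 0 := by
    rw [h1, hu]; ring
  have h3 := (mul_eq_zero.mp h2).resolve_left (pow_ne_zero _ (X_sub_C_ne_zero x))
  have h4 := congrArg (eval x) h3
  simp only [eval_add, eval_mul, eval_sub, eval_X, eval_C, sub_self, zero_mul, add_zero,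
    eval_zero] at h4
  have h5 : (b : k) = 0 := (mul_eq_zero.mp h4).resolve_right hux
  rw [CharP.cast_eq_zero_iff k p] at h5
  have h6 : p ≤ b := Nat.le_of_dvd hb1 h5
  exact (pow_dvd_pow _ h6).trans (pow_rootMultiplicity_dvd γ x)

variable {n : ℕ} (a : Fin n → k) (e : Fin n → ℕ) (N : k[X])

/-- Local data of the operator at a point `x`. -/
structure LocalData (x : k) (ε : ℕ) : Prop where
  one_le : 1 ≤ ε
  lt : ε < p
  fac : ∃ v : k[X], Pi1 a e = (X - C x) ^ (ε - 1) * v ∧ v.eval x ≠ 0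
  ind : ∀ (y u : k[X]) (b : ℕ), y ∈ Sol (P0 a) (P1 a e) N → y = (X - C x) ^ b * u →
    u.eval x ≠ 0 → (b : k) * ((b : k) - ε) = 0
  eq : ∀ i, a i = x → ε = e i

theorem exists_localData (ha : Function.Injective a) (he2 : ∀ i, 2 ≤ e i) (hep : ∀ i, e i < p)
    (x : k) : ∃ ε, LocalData p a e N x ε := by
  by_cases hx : ∃ i, a i = x
  · obtain ⟨i, rfl⟩ := hx
    refine ⟨e i, ⟨by have := he2 i; omega, hep i, ⟨V1 a e i, Pi1_eq_V1 a e i,
      eval_V1_ne_zero a e ha i⟩, ?_, fun j hj => by rw [ha hj]⟩⟩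
    intro y u b hy hyu hu
    rw [mem_Sol] at hy
    have h1 : Q0 a i * ((X - C (a i)) ^ 2 * derivative (derivative y)) +
        (-(P1 a e)) * ((X - C (a i)) * derivative y) + ((X - C (a i)) * N) * y = 0 := by
      have : (X - C (a i)) * Lop (P0 a) (P1 a e) N y = 0 := by rw [hy, mul_zero]
      rw [← this]
      unfold Lop
      rw [P0_eq a i]; ring
    have h2 := indicial hyu h1
    rw [eval_neg, eval_P1, eval_mul, eval_sub, eval_X, eval_C, sub_self, zero_mul, add_zero] at h2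
    have h3 := (mul_eq_zero.mp h2).resolve_right hu
    have h4 : (Q0 a i).eval (a i) * ((b : k) * ((b : k) - (e i : k))) = 0 := by
      rw [← h3]
      have : ((e i - 1 : ℕ) : k) = (e i : k) - 1 := by
        rw [Nat.cast_sub (by have := he2 i; omega), Nat.cast_one]
      rw [this]; ring
    exact (mul_eq_zero.mp h4).resolve_left (eval_Q0_ne_zero a ha i)
  · push_neg at hx
    refine ⟨1, ⟨le_rfl, hp.out.one_lt, ⟨Pi1 a e, by simp, eval_Pi1_ne_zero a e hx⟩, ?_,
      fun j hj => absurd hj (hx j)⟩⟩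
    intro y u b hy hyu hu
    rw [mem_Sol] at hy
    have h1 : P0 a * ((X - C x) ^ 2 * derivative (derivative y)) +
        (-((X - C x) * P1 a e)) * ((X - C x) * derivative y) + ((X - C x) ^ 2 * N) * y = 0 := by
      have : (X - C x) ^ 2 * Lop (P0 a) (P1 a e) N y = 0 := by rw [hy, mul_zero]
      rw [← this]
      unfold Lop
      ring
    have h2 := indicial hyu h1
    rw [eval_neg, eval_mul, eval_mul, eval_pow, eval_sub, eval_X, eval_C, sub_self] at h2
    have h3 := (mul_eq_zero.mp h2).resolve_right hu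
    have h4 : (P0 a).eval x * ((b : k) * ((b : k) - ((1 : ℕ) : k))) = 0 := by
      rw [← h3]; push_cast; ring
    exact (mul_eq_zero.mp h4).resolve_left (eval_P0_ne_zero a hx)

/-- A basis of the pencil adapted to the point `x`. -/
structure Adapted (x : k) (z₁ z₂ w₁ w₂ : k[X]) (b₁ b₂ : ℕ) (u₁ u₂ : k[X]) : Prop where
  span_eq : Submodule.span k {w₁, w₂} = Submodule.span k {z₁, z₂}
  wr : ∃ c : k, c ≠ 0 ∧ wronskian w₁ w₂ = C c * wronskian z₁ z₂
  h₁ : w₁ = (X - C x) ^ b₁ * u₁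
  hu₁ : u₁.eval x ≠ 0
  h₂ : w₂ = (X - C x) ^ b₂ * u₂
  hu₂ : u₂.eval x ≠ 0
  lt : b₁ < b₂

omit [CharP k p] in
theorem exists_adapted_aux (x : k) {z₁ z₂ : k[X]} (hW : wronskian z₁ z₂ ≠ 0)
    (hle : rootMultiplicity x z₁ ≤ rootMultiplicity x z₂) :
    ∃ w₂ b₁ b₂ u₁ u₂, ∃ l : k, w₂ = z₂ - C l * z₁ ∧ z₁ = (X - C x) ^ b₁ * u₁ ∧ u₁.eval x ≠ 0 ∧
      w₂ = (X - C x) ^ b₂ * u₂ ∧ u₂.eval x ≠ 0 ∧ b₁ < b₂ := by
  have hz₁ : z₁ ≠ 0 := by
    intro h; rw [h, wronskian_zero_left] at hW; exact hW rfl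
  have hz₂ : z₂ ≠ 0 := by
    intro h; rw [h, wronskian_zero_right] at hW; exact hW rfl
  obtain ⟨u₁, hu₁, hnd₁⟩ := exists_eq_pow_rootMultiplicity_mul_and_not_dvd z₁ hz₁ x
  set b₁ := rootMultiplicity x z₁ with hb₁
  have hu₁x : u₁.eval x ≠ 0 := fun h => hnd₁ (dvd_iff_isRoot.mpr h)
  obtain ⟨g, hg⟩ : (X - C x) ^ b₁ ∣ z₂ := (pow_dvd_pow _ hle).trans (pow_rootMultiplicity_dvd z₂ x)
  set l : k := g.eval x / u₁.eval x with hl
  set w₂ : k[X] := z₂ - C l * z₁ with hw₂
  have hw₂0 : w₂ ≠ 0 := by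
    intro h
    have : wronskian z₁ w₂ = wronskian z₁ z₂ := by
      rw [hw₂, wronskian_sub_right, wronskian_mul_right_of_derivative_eq_zero derivative_C,
        wronskian_self_eq_zero, mul_zero, sub_zero]
    rw [h, wronskian_zero_right] at this
    exact hW this.symm
  have hdvd : (X - C x) ^ (b₁ + 1) ∣ w₂ := by
    have h1 : w₂ = (X - C x) ^ b₁ * (g - C l * u₁) := by
      rw [hw₂, hg]; linear_combination (-(C l)) * hu₁
    rw [h1, pow_succ]
    refine mul_dvd_mul_left _ ?_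
    rw [dvd_iff_isRoot, IsRoot, eval_sub, eval_mul, eval_C, hl, div_mul_cancel₀ _ hu₁x, sub_self]
  obtain ⟨u₂, hu₂, hnd₂⟩ := exists_eq_pow_rootMultiplicity_mul_and_not_dvd w₂ hw₂0 x
  have hu₂x : u₂.eval x ≠ 0 := fun h => hnd₂ (dvd_iff_isRoot.mpr h)
  refine ⟨w₂, b₁, rootMultiplicity x w₂, u₁, u₂, l, rfl, hu₁, hu₁x, hu₂, hu₂x, ?_⟩
  exact (le_rootMultiplicity_iff hw₂0).mpr hdvd

omit [CharP k p] in
theorem exists_adapted (x : k) {z₁ z₂ : k[X]} (hW : wronskian z₁ z₂ ≠ 0) :
    ∃ w₁ w₂ b₁ b₂ u₁ u₂, Adapted x z₁ z₂ w₁ w₂ b₁ b₂ u₁ u₂ := by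
  rcases le_total (rootMultiplicity x z₁) (rootMultiplicity x z₂) with hle | hle
  · obtain ⟨w₂, b₁, b₂, u₁, u₂, l, hw₂, h1, hu1, h2, hu2, hlt⟩ := exists_adapted_aux x hW hle
    refine ⟨z₁, w₂, b₁, b₂, u₁, u₂, ⟨?_, ⟨1, one_ne_zero, ?_⟩, h1, hu1, h2, hu2, hlt⟩⟩
    · apply le_antisymm
      · rw [Submodule.span_le]
        rintro y (rfl | rfl)
        · exact Submodule.subset_span (by simp)
        · rw [hw₂, ← smul_eq_C_mul]
          exact Submodule.sub_mem _ (Submodule.subset_span (by simp))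
            (Submodule.smul_mem _ _ (Submodule.subset_span (by simp)))
      · rw [Submodule.span_le]
        rintro y (rfl | rfl)
        · exact Submodule.subset_span (by simp)
        · have : y = w₂ + l • z₁ := by rw [hw₂, smul_eq_C_mul]; ring
          rw [this]
          exact Submodule.add_mem _ (Submodule.subset_span (by simp))
            (Submodule.smul_mem _ _ (Submodule.subset_span (by simp)))
    · rw [hw₂, wronskian_sub_right, wronskian_mul_right_of_derivative_eq_zero derivative_C,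
        wronskian_self_eq_zero, mul_zero, sub_zero, C_1, one_mul]
  · have hW' : wronskian z₂ z₁ ≠ 0 := by
      rw [← wronskian_neg_eq]; exact neg_ne_zero.mpr hW
    obtain ⟨w₂, b₁, b₂, u₁, u₂, l, hw₂, h1, hu1, h2, hu2, hlt⟩ := exists_adapted_aux x hW' hle
    refine ⟨z₂, w₂, b₁, b₂, u₁, u₂, ⟨?_, ⟨-1, by simp, ?_⟩, h1, hu1, h2, hu2, hlt⟩⟩
    · apply le_antisymm
      · rw [Submodule.span_le]
        rintro y (rfl | rfl)
        · exact Submodule.subset_span (by simp)
        · rw [hw₂, ← smul_eq_C_mul]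
          exact Submodule.sub_mem _ (Submodule.subset_span (by simp))
            (Submodule.smul_mem _ _ (Submodule.subset_span (by simp)))
      · rw [Submodule.span_le]
        rintro y (rfl | rfl)
        · have : y = w₂ + l • z₂ := by rw [hw₂, smul_eq_C_mul]; ring
          rw [this]
          exact Submodule.add_mem _ (Submodule.subset_span (by simp))
            (Submodule.smul_mem _ _ (Submodule.subset_span (by simp)))
        · exact Submodule.subset_span (by simp)
    · rw [hw₂, wronskian_sub_right, wronskian_mul_right_of_derivative_eq_zero derivative_C,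
        wronskian_self_eq_zero, mul_zero, sub_zero, ← wronskian_neg_eq z₁ z₂, C_neg, C_1]
      ring

end field

end Groth.Agent.H76.Lim
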