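import Mathlib
import Groth.Agent.H76.LimC

/-!
# A good pair of solutions of the limit operator
-/

set_option autoImplicit false
universe u

open Polynomial

namespace Groth.Agent.H76.Lim

variable {k : Type u} [Field k] (p : ℕ) [hp : Fact p.Prime] [CharP k p]
variable {n : ℕ} (a : Fin n → k) (e : Fin n → ℕ) (N : k[X])

omit [CharP k p] hp in
theorem Adapted.mem₁ {x : k} {z₁ z₂ w₁ w₂ : k[X]} {b₁ b₂ : ℕ} {u₁ u₂ : k[X]}
    (hA : Adapted x z₁ z₂ w₁ w₂ b₁ b₂ u₁ u₂) {S : Submodule k k[X]} (h₁ : z₁ ∈ S) (h₂ : z₂ ∈ S) :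
    w₁ ∈ S := by
  have : Submodule.span k {z₁, z₂} ≤ S := by
    rw [Submodule.span_le]; rintro y (rfl | rfl) <;> assumption
  apply this
  rw [← hA.span_eq]
  exact Submodule.subset_span (by simp)

omit [CharP k p] hp in
theorem Adapted.mem₂ {x : k} {z₁ z₂ w₁ w₂ : k[X]} {b₁ b₂ : ℕ} {u₁ u₂ : k[X]}
    (hA : Adapted x z₁ z₂ w₁ w₂ b₁ b₂ u₁ u₂) {S : Submodule k k[X]} (h₁ : z₁ ∈ S) (h₂ : z₂ ∈ S) :
    w₂ ∈ S := by
  have : Submodule.span k {z₁, z₂} ≤ S := by
    rw [Submodule.span_le]; rintro y (rfl | rfl) <;> assumption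
  apply this
  rw [← hA.span_eq]
  exact Submodule.subset_span (by simp)

/-- If the larger exponent of an adapted basis is `< p`, the exponents are `(0, ε)`. -/
theorem adapted_small {x : k} {z₁ z₂ w₁ w₂ : k[X]} {b₁ b₂ : ℕ} {u₁ u₂ : k[X]} {ε : ℕ}
    (hA : Adapted x z₁ z₂ w₁ w₂ b₁ b₂ u₁ u₂) (hL : LocalData p a e N x ε)
    (h₁ : z₁ ∈ Sol (P0 a) (P1 a e) N) (h₂ : z₂ ∈ Sol (P0 a) (P1 a e) N) (hb : b₂ < p) :
    b₁ = 0 ∧ b₂ = ε ∧ ¬ (X - C x) ^ ε ∣ wronskian w₁ w₂ := by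
  have hw₁ := hA.mem₁ h₁ h₂
  have hw₂ := hA.mem₂ h₁ h₂
  have i1 := hL.ind w₁ u₁ b₁ hw₁ hA.h₁ hA.hu₁
  have i2 := hL.ind w₂ u₂ b₂ hw₂ hA.h₂ hA.hu₂
  have hlt := hA.lt
  have c1 := exp_cases p (lt_trans hlt hb) hL.lt i1
  have c2 := exp_cases p hb hL.lt i2
  have hb1 : b₁ = 0 := by
    rcases c1 with h | h
    · exact h
    · rcases c2 with h' | h' <;> omega
  have hb2 : b₂ = ε := by
    rcases c2 with h | h
    · omega
    · exact h
  refine ⟨hb1, hb2, ?_⟩
  intro hdvd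
  have ho := wronskian_ord x b₁ b₂ u₁ u₂
  rw [← hA.h₁, ← hA.h₂, hb1, hb2, zero_add] at ho
  obtain ⟨q, hq⟩ := hdvd
  rw [hq] at ho
  have h3 : (X - C x) ^ ε * ((X - C x) * q - ((C (ε : k) - C ((0 : ℕ) : k)) * (u₁ * u₂)
      + (X - C x) * wronskian u₁ u₂)) = 0 := by
    rw [mul_sub, ← ho]; ring
  have h4 := (mul_eq_zero.mp h3).resolve_left (pow_ne_zero _ (X_sub_C_ne_zero x))
  have h5 := congrArg (eval x) h4
  simp only [eval_add, eval_mul, eval_sub, eval_X, eval_C, sub_self, zero_mul, add_zero,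
    eval_zero, Nat.cast_zero, sub_zero, zero_sub, neg_eq_zero] at h5
  rcases mul_eq_zero.mp h5 with h6 | h6
  · rw [CharP.cast_eq_zero_iff k p] at h6
    have := Nat.le_of_dvd hL.one_le h6
    have := hL.lt
    omega
  · rcases mul_eq_zero.mp h6 with h7 | h7
    · exact hA.hu₁ h7
    · exact hA.hu₂ h7

include hp in
/-- The Wronskian of two solutions is a `p`-th power multiple of `Pi1`. -/
theorem wronskian_eq_mul_Pi1 (ha : Function.Injective a) (he2 : ∀ i, 2 ≤ e i)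
    (hep : ∀ i, e i < p) {z₁ z₂ : k[X]} (h₁ : z₁ ∈ Sol (P0 a) (P1 a e) N)
    (h₂ : z₂ ∈ Sol (P0 a) (P1 a e) N) :
    ∃ γ : k[X], wronskian z₁ z₂ = γ * Pi1 a e ∧ derivative γ = 0 := by
  set W := wronskian z₁ z₂ with hW
  have hA : P0 a * derivative W = P1 a e * W := wronskian_sol h₁ h₂
  have hPi := P0_mul_derivative_Pi1 a e he2
  have hWW : wronskian W (Pi1 a e) = 0 := by
    have : P0 a * wronskian W (Pi1 a e) = 0 := by
      unfold wronskian
      linear_combination W * hPi - Pi1 a e * hA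
    exact (mul_eq_zero.mp this).resolve_left (P0_monic a).ne_zero
  have hdvd : ∀ i, (X - C (a i)) ^ (e i - 1) ∣ W := by
    intro i
    by_cases hW0 : W = 0
    · rw [hW0]; exact dvd_zero _
    obtain ⟨u, hu, hnd⟩ := exists_eq_pow_rootMultiplicity_mul_and_not_dvd W hW0 (a i)
    set b := rootMultiplicity (a i) W with hb
    have hux : u.eval (a i) ≠ 0 := fun h => hnd (dvd_iff_isRoot.mpr h)
    have ho := wronskian_ord (a i) b (e i - 1) u (V1 a e i)
    rw [← hu, ← Pi1_eq_V1, hWW, mul_zero] at ho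
    have h4 := (mul_eq_zero.mp ho.symm).resolve_left (pow_ne_zero _ (X_sub_C_ne_zero (a i)))
    have h5 := congrArg (eval (a i)) h4
    simp only [eval_add, eval_mul, eval_sub, eval_X, eval_C, sub_self, zero_mul, add_zero,
      eval_zero] at h5
    have h6 : ((e i - 1 : ℕ) : k) - (b : k) = 0 := by
      rcases mul_eq_zero.mp h5 with h6 | h6
      · exact h6
      · rcases mul_eq_zero.mp h6 with h7 | h7
        · exact absurd h7 hux
        · exact absurd h7 (eval_V1_ne_zero a e ha i)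
    rw [sub_eq_zero, CharP.natCast_eq_natCast k p] at h6
    have h7 : e i - 1 ≤ b := by
      have h8 : (e i - 1) % p = b % p := h6
      have h9 : e i - 1 < p := by have := hep i; omega
      rw [Nat.mod_eq_of_lt h9] at h8
      rw [h8]; exact Nat.mod_le _ _
    exact (pow_dvd_pow _ h7).trans (pow_rootMultiplicity_dvd W (a i))
  have hdvd' : Pi1 a e ∣ W := by
    unfold Pi1
    refine Finset.prod_dvd_of_coprime ?_ fun i _ => hdvd i
    intro i _ j _ hij
    apply IsCoprime.pow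
    exact isCoprime_X_sub_C_of_isUnit_sub (sub_ne_zero.mpr (fun h => hij (ha h))).isUnit
  obtain ⟨γ, hγ⟩ := hdvd'
  refine ⟨γ, by rw [hγ]; ring, ?_⟩
  have h1 : derivative γ * (Pi1 a e * Pi1 a e) = 0 := by
    have := hWW
    unfold wronskian at this
    rw [hγ, derivative_mul] at this
    linear_combination -this
  have hne := (Pi1_monic a e).ne_zero
  exact (mul_eq_zero.mp h1).resolve_right (mul_ne_zero hne hne)

/-- Descent on the degree of the Wronskian: there is a pair of solutions whose Wronskian is a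
non-zero constant multiple of `Pi1`. -/
theorem exists_pair_Pi1 [IsAlgClosed k] (ha : Function.Injective a) (he2 : ∀ i, 2 ≤ e i)
    (hep : ∀ i, e i < p) : ∀ (m : ℕ) (z₁ z₂ : k[X]), z₁ ∈ Sol (P0 a) (P1 a e) N →
    z₂ ∈ Sol (P0 a) (P1 a e) N → wronskian z₁ z₂ ≠ 0 → (wronskian z₁ z₂).natDegree ≤ m →
    ∃ z₁' z₂' : k[X], z₁' ∈ Sol (P0 a) (P1 a e) N ∧ z₂' ∈ Sol (P0 a) (P1 a e) N ∧
      ∃ c : k, c ≠ 0 ∧ wronskian z₁' z₂' = C c * Pi1 a e := by
  intro m
  induction m with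
  | zero =>
    intro z₁ z₂ h₁ h₂ hW hdeg
    obtain ⟨γ, hγ, hγ'⟩ := wronskian_eq_mul_Pi1 p a e N ha he2 hep h₁ h₂
    have hγ0 : γ ≠ 0 := by
      intro h; rw [h, zero_mul] at hγ; exact hW hγ
    have hne := (Pi1_monic a e).ne_zero
    have h1 : γ.natDegree = 0 := by
      have := natDegree_mul hγ0 hne
      rw [← hγ] at this
      omega
    rw [eq_C_of_natDegree_eq_zero h1] at hγ hγ0
    exact ⟨z₁, z₂, h₁, h₂, γ.coeff 0, fun h => hγ0 (by rw [h, C_0]), hγ⟩
  | succ m ih =>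
    intro z₁ z₂ h₁ h₂ hW hdeg
    obtain ⟨γ, hγ, hγ'⟩ := wronskian_eq_mul_Pi1 p a e N ha he2 hep h₁ h₂
    have hγ0 : γ ≠ 0 := by
      intro h; rw [h, zero_mul] at hγ; exact hW hγ
    by_cases h1 : γ.natDegree = 0
    · rw [eq_C_of_natDegree_eq_zero h1] at hγ hγ0
      exact ⟨z₁, z₂, h₁, h₂, γ.coeff 0, fun h => hγ0 (by rw [h, C_0]), hγ⟩
    · have hdeg' : γ.degree ≠ 0 := by
        intro h
        exact h1 (natDegree_eq_of_degree_eq_some h)
      obtain ⟨x, hx⟩ := IsAlgClosed.exists_root γ hdeg'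
      have hpd : (X - C x) ^ p ∣ γ := pow_p_dvd p hγ' hx
      obtain ⟨ε, hL⟩ := exists_localData p a e N ha he2 hep x
      obtain ⟨w₁, w₂, b₁, b₂, u₁, u₂, hA⟩ := exists_adapted x hW
      obtain ⟨c, hc, hwr⟩ := hA.wr
      have hbig : p ≤ b₂ := by
        by_contra hlt
        push Not at hlt
        obtain ⟨-, -, hnd⟩ := adapted_small p a e N hA hL h₁ h₂ hlt
        apply hnd
        rw [hwr, hγ]
        obtain ⟨v, hv, -⟩ := hL.fac
        obtain ⟨q, hq⟩ := hpd
        rw [hq, hv]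
        have : ε = 1 + (ε - 1) := by have := hL.one_le; omega
        have hp1 : 1 ≤ p := hp.out.one_lt.le
        have : (X - C x) ^ ε ∣ (X - C x) ^ p * (X - C x) ^ (ε - 1) := by
          rw [← pow_add]; apply pow_dvd_pow; omega
        obtain ⟨r, hr⟩ := this
        exact ⟨C c * q * v * r, by linear_combination (C c * q * v) * hr⟩
      set w₂' : k[X] := (X - C x) ^ (b₂ - p) * u₂ with hw₂'
      have hw₂eq : w₂ = (X - C x) ^ p * w₂' := by
        rw [hA.h₂, hw₂', ← mul_assoc, ← pow_add]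
        congr 2; omega
      have hTp : derivative ((X - C x) ^ p) = 0 := derivative_X_sub_C_pow_char p x
      have hTp0 : (X - C x) ^ p ≠ 0 := pow_ne_zero _ (X_sub_C_ne_zero x)
      have hw₁S := hA.mem₁ h₁ h₂
      have hw₂S := hA.mem₂ h₁ h₂
      have hw₂'S : w₂' ∈ Sol (P0 a) (P1 a e) N := by
        rw [hw₂eq] at hw₂S
        exact mem_Sol_of_mul hTp hTp0 hw₂S
      have hWeq : wronskian w₁ w₂ = (X - C x) ^ p * wronskian w₁ w₂' := by
        rw [hw₂eq, wronskian_mul_right_of_derivative_eq_zero hTp]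
      have hW12 : wronskian w₁ w₂ ≠ 0 := by
        rw [hwr]; exact mul_ne_zero (C_ne_zero.mpr hc) hW
      have hW' : wronskian w₁ w₂' ≠ 0 := by
        intro h; rw [h, mul_zero] at hWeq; exact hW12 hWeq
      refine ih w₁ w₂' hw₁S hw₂'S hW' ?_
      have hd1 : (wronskian w₁ w₂).natDegree = (wronskian z₁ z₂).natDegree := by
        rw [hwr, natDegree_C_mul hc]
      have hd2 : (wronskian w₁ w₂).natDegree = p + (wronskian w₁ w₂').natDegree := by
        rw [hWeq, natDegree_mul hTp0 hW', (monic_X_sub_C x).natDegree_pow, natDegree_X_sub_C,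
          mul_one]
      have hp1 : 1 ≤ p := hp.out.one_lt.le
      omega

include hp in
/-- Among pairs with Wronskian `c Pi1`, one has degrees not congruent mod `p`. -/
theorem exists_pair_degrees : ∀ (m : ℕ) (z₁ z₂ : k[X]), z₁ ∈ Sol (P0 a) (P1 a e) N →
    z₂ ∈ Sol (P0 a) (P1 a e) N → (∃ c : k, c ≠ 0 ∧ wronskian z₁ z₂ = C c * Pi1 a e) →
    z₁.natDegree + z₂.natDegree ≤ m →
    ∃ z₁' z₂' : k[X], z₁' ∈ Sol (P0 a) (P1 a e) N ∧ z₂' ∈ Sol (P0 a) (P1 a e) N ∧
      (∃ c : k, c ≠ 0 ∧ wronskian z₁' z₂' = C c * Pi1 a e) ∧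
      z₂'.natDegree < z₁'.natDegree ∧ ((z₂'.natDegree : k) - z₁'.natDegree) ≠ 0 := by
  intro m
  induction m with
  | zero =>
    intro z₁ z₂ h₁ h₂ hc hdeg
    exfalso
    obtain ⟨c, hc, hW⟩ := hc
    have hne : wronskian z₁ z₂ ≠ 0 := by
      rw [hW]; exact mul_ne_zero (C_ne_zero.mpr hc) (Pi1_monic a e).ne_zero
    have := natDegree_wronskian_lt_add hne
    omega
  | succ m ih =>
    -- reduction step, stated for `z₂.natDegree ≤ z₁.natDegree`
    have key : ∀ (z₁ z₂ : k[X]), z₁ ∈ Sol (P0 a) (P1 a e) N →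
        z₂ ∈ Sol (P0 a) (P1 a e) N → (∃ c : k, c ≠ 0 ∧ wronskian z₁ z₂ = C c * Pi1 a e) →
        z₁.natDegree + z₂.natDegree ≤ m + 1 → z₂.natDegree ≤ z₁.natDegree →
        ∃ z₁' z₂' : k[X], z₁' ∈ Sol (P0 a) (P1 a e) N ∧ z₂' ∈ Sol (P0 a) (P1 a e) N ∧
          (∃ c : k, c ≠ 0 ∧ wronskian z₁' z₂' = C c * Pi1 a e) ∧
          z₂'.natDegree < z₁'.natDegree ∧ ((z₂'.natDegree : k) - z₁'.natDegree) ≠ 0 := by
      intro z₁ z₂ h₁ h₂ hc hdeg hle
      by_cases hcong : ((z₂.natDegree : k) - z₁.natDegree) ≠ 0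
      · refine ⟨z₁, z₂, h₁, h₂, hc, ?_, hcong⟩
        rcases lt_or_eq_of_le hle with h | h
        · exact h
        · rw [h, sub_self] at hcong; exact absurd rfl hcong
      · push Not at hcong
        obtain ⟨c, hc0, hW⟩ := hc
        have hne : wronskian z₁ z₂ ≠ 0 := by
          rw [hW]; exact mul_ne_zero (C_ne_zero.mpr hc0) (Pi1_monic a e).ne_zero
        have hz₁ : z₁ ≠ 0 := by
          intro h; rw [h, wronskian_zero_left] at hne; exact hne rfl
        have hz₂ : z₂ ≠ 0 := by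
          intro h; rw [h, wronskian_zero_right] at hne; exact hne rfl
        rw [sub_eq_zero, CharP.natCast_eq_natCast k p] at hcong
        have hdvd : p ∣ z₁.natDegree - z₂.natDegree := (Nat.modEq_iff_dvd' hle).mp hcong
        obtain ⟨s, hs⟩ := hdvd
        have hD : z₁.natDegree = z₂.natDegree + s * p := by rw [mul_comm]; omega
        set l : k := z₁.leadingCoeff / z₂.leadingCoeff with hl
        set q : k[X] := C l * X ^ (s * p) with hq
        have hq' : derivative q = 0 := by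
          rw [hq, derivative_C_mul, derivative_X_pow_char p s, mul_zero]
        set z₁' : k[X] := z₁ - q * z₂ with hz₁'
        have hz₁'S : z₁' ∈ Sol (P0 a) (P1 a e) N :=
          Submodule.sub_mem _ h₁ (mul_mem_Sol hq' h₂)
        have hW' : wronskian z₁' z₂ = C c * Pi1 a e := by
          rw [hz₁', wronskian_sub_left, wronskian_mul_left_of_derivative_eq_zero hq',
            wronskian_self_eq_zero, mul_zero, sub_zero, hW]
        have hz₁'0 : z₁' ≠ 0 := by
          intro h; rw [h, wronskian_zero_left] at hW'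
          exact (mul_ne_zero (C_ne_zero.mpr hc0) (Pi1_monic a e).ne_zero) hW'.symm
        have hl0 : l ≠ 0 := div_ne_zero (leadingCoeff_ne_zero.mpr hz₁) (leadingCoeff_ne_zero.mpr hz₂)
        have hq0 : q ≠ 0 := mul_ne_zero (C_ne_zero.mpr hl0) (pow_ne_zero _ X_ne_zero)
        have hdq : (q * z₂).degree = z₁.degree := by
          rw [degree_mul, hq, degree_C_mul hl0, degree_X_pow, degree_eq_natDegree hz₂,
            degree_eq_natDegree hz₁, hD]
          push_cast; ring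
        have hlq : (q * z₂).leadingCoeff = z₁.leadingCoeff := by
          rw [leadingCoeff_mul, hq, leadingCoeff_mul, leadingCoeff_C, leadingCoeff_X_pow, mul_one,
            hl, div_mul_cancel₀ _ (leadingCoeff_ne_zero.mpr hz₂)]
        have hdeglt : z₁'.degree < z₁.degree := degree_sub_lt hdq.symm hz₁ hlq.symm
        have hnlt : z₁'.natDegree < z₁.natDegree := natDegree_lt_natDegree hz₁'0 hdeglt
        exact ih z₁' z₂ hz₁'S h₂ ⟨c, hc0, hW'⟩ (by omega)
    intro z₁ z₂ h₁ h₂ hc hdeg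
    rcases le_total z₂.natDegree z₁.natDegree with hle | hle
    · exact key z₁ z₂ h₁ h₂ hc hdeg hle
    · obtain ⟨c, hc0, hW⟩ := hc
      refine key z₂ z₁ h₂ h₁ ⟨-c, neg_ne_zero.mpr hc0, ?_⟩ (by omega) hle
      rw [← wronskian_neg_eq, hW, C_neg]; ring

end Groth.Agent.H76.Lim
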