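import Mathlib

/-!
# Pencils with three prescribed vanishing conditions form a projective space
-/

set_option autoImplicit false
universe u

open Polynomial Module

namespace Groth.Agent.H76.ThreePt

variable {k : Type u} [Field k]

/-- `(X - a)^m` -/
noncomputable def pw (a : k) (m : ℕ) : k[X] := (X - C a) ^ m

theorem pw_monic (a : k) (m : ℕ) : (pw a m).Monic := (monic_X_sub_C a).pow m

theorem pw_ne_zero (a : k) (m : ℕ) : pw a m ≠ 0 := (pw_monic a m).ne_zero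

theorem natDegree_pw (a : k) (m : ℕ) : (pw a m).natDegree = m := by
  unfold pw
  rw [natDegree_pow, natDegree_X_sub_C, mul_one]

theorem pw_coprime {a b : k} (hab : a ≠ b) (m l : ℕ) : IsCoprime (pw a m) (pw b l) := by
  unfold pw
  apply IsCoprime.pow
  exact isCoprime_X_sub_C_of_isUnit_sub (sub_ne_zero.mpr hab).isUnit

/-- K1' -/
theorem eq_zero_of_two {a b : k} (hab : a ≠ b) {m l d : ℕ} (hml : d < m + l) {s : k[X]}
    (hs : s ∈ degreeLE k d) (h1 : pw a m ∣ s) (h2 : pw b l ∣ s) : s = 0 := by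
  by_contra hne
  have hdvd : pw a m * pw b l ∣ s := (pw_coprime hab m l).mul_dvd h1 h2
  have h3 := natDegree_le_of_dvd hdvd hne
  rw [natDegree_mul (pw_ne_zero a m) (pw_ne_zero b l), natDegree_pw, natDegree_pw] at h3
  rw [mem_degreeLE] at hs
  have h4 : s.natDegree ≤ d := natDegree_le_of_degree_le hs
  omega

theorem smul_dvd {q s : k[X]} (c : k) (h : q ∣ s) : q ∣ c • s := by
  rw [smul_eq_C_mul]
  exact h.mul_left _

theorem dvd_of_smul_dvd {q s : k[X]} {c : k} (hc : c ≠ 0) (h : q ∣ c • s) : q ∣ s := by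
  have := smul_dvd c⁻¹ h
  rwa [smul_smul, inv_mul_cancel₀ hc, one_smul] at this

section main

variable (d : ℕ) (P₀ P₁ P₂ : k) (e₀ e₁ e₂ : ℕ)

/-- the linear space of normalised pairs -/
noncomputable def L : Submodule k (k[X] × k[X]) where
  carrier := {v | v.1 ∈ degreeLE k d ∧ v.2 ∈ degreeLE k d ∧ pw P₀ e₀ ∣ v.1 ∧ pw P₁ e₁ ∣ v.2 ∧
    pw P₂ e₂ ∣ v.1 + v.2}
  add_mem' := by
    rintro v w ⟨h1, h2, h3, h4, h5⟩ ⟨h1', h2', h3', h4', h5'⟩
    refine ⟨Submodule.add_mem _ h1 h1', Submodule.add_mem _ h2 h2', dvd_add h3 h3',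
      dvd_add h4 h4', ?_⟩
    have : (v + w).1 + (v + w).2 = (v.1 + v.2) + (w.1 + w.2) := by
      simp only [Prod.fst_add, Prod.snd_add]; ring
    rw [this]
    exact dvd_add h5 h5'
  zero_mem' := by
    refine ⟨Submodule.zero_mem _, Submodule.zero_mem _, dvd_zero _, dvd_zero _, ?_⟩
    simp
  smul_mem' := by
    rintro c v ⟨h1, h2, h3, h4, h5⟩
    refine ⟨Submodule.smul_mem _ c h1, Submodule.smul_mem _ c h2, smul_dvd c h3, smul_dvd c h4, ?_⟩
    have : (c • v).1 + (c • v).2 = c • (v.1 + v.2) := by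
      simp only [Prod.smul_fst, Prod.smul_snd, smul_add]
    rw [this]
    exact smul_dvd c h5

theorem mem_L (v : k[X] × k[X]) : v ∈ L d P₀ P₁ P₂ e₀ e₁ e₂ ↔
    v.1 ∈ degreeLE k d ∧ v.2 ∈ degreeLE k d ∧ pw P₀ e₀ ∣ v.1 ∧ pw P₁ e₁ ∣ v.2 ∧
      pw P₂ e₂ ∣ v.1 + v.2 := Iff.rfl

variable (h01 : P₀ ≠ P₁) (h02 : P₀ ≠ P₂) (h12 : P₁ ≠ P₂)
  (hsum : e₀ + e₁ + e₂ = 2 * d + 1) (he₀ : e₀ ≤ d) (he₁ : e₁ ≤ d) (he₂ : e₂ ≤ d)

include h02 h12 hsum he₀ he₁ in
theorem fst_ne_zero {v : k[X] × k[X]} (hv : v ∈ L d P₀ P₁ P₂ e₀ e₁ e₂) (hv0 : v ≠ 0) : v.1 ≠ 0 := by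
  obtain ⟨h1, h2, h3, h4, h5⟩ := hv
  intro h
  apply hv0
  rw [h, zero_add] at h5
  have : v.2 = 0 := eq_zero_of_two h12 (by omega) h2 h4 h5
  exact Prod.ext h this

include h01 h02 h12 hsum he₀ he₁ he₂ in
theorem snd_ne_zero {v : k[X] × k[X]} (hv : v ∈ L d P₀ P₁ P₂ e₀ e₁ e₂) (hv0 : v ≠ 0) : v.2 ≠ 0 := by
  obtain ⟨h1, h2, h3, h4, h5⟩ := hv
  intro h
  apply hv0
  rw [h, add_zero] at h5
  have : v.1 = 0 := eq_zero_of_two h02 (by omega) h1 h3 h5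
  exact Prod.ext this h

include h01 h02 h12 hsum he₀ he₁ he₂ in
theorem add_ne_zero {v : k[X] × k[X]} (hv : v ∈ L d P₀ P₁ P₂ e₀ e₁ e₂) (hv0 : v ≠ 0) :
    v.1 + v.2 ≠ 0 := by
  have hv' := hv
  obtain ⟨h1, h2, h3, h4, h5⟩ := hv
  intro h
  have h2' : v.2 = -v.1 := eq_neg_of_add_eq_zero_right h
  have : pw P₁ e₁ ∣ v.1 := by
    have := h4
    rw [h2'] at this
    exact (dvd_neg).mp this
  have h0 : v.1 = 0 := eq_zero_of_two h01 (by omega) h1 h3 this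
  exact fst_ne_zero d P₀ P₁ P₂ e₀ e₁ e₂ h02 h12 hsum he₀ he₁ hv' hv0 h0

include h01 h02 h12 hsum he₀ he₁ he₂ in
theorem li_of_mem {v : k[X] × k[X]} (hv : v ∈ L d P₀ P₁ P₂ e₀ e₁ e₂) (hv0 : v ≠ 0) :
    LinearIndependent k ![v.1, v.2] := by
  have hv' := hv
  obtain ⟨h1, h2, h3, h4, h5⟩ := hv
  rw [LinearIndependent.pair_iff]
  intro s t hst
  have ht : t = 0 := by
    by_contra ht
    have h2' : t • v.2 = -(s • v.1) := eq_neg_of_add_eq_zero_right hst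
    have : pw P₀ e₀ ∣ t • v.2 := by
      rw [h2']
      exact (dvd_neg).mpr (smul_dvd s h3)
    have := dvd_of_smul_dvd ht this
    have h0 : v.2 = 0 := eq_zero_of_two h01 (by omega) h2 this h4
    exact snd_ne_zero d P₀ P₁ P₂ e₀ e₁ e₂ h01 h02 h12 hsum he₀ he₁ he₂ hv' hv0 h0
  refine ⟨?_, ht⟩
  rw [ht, zero_smul, add_zero] at hst
  rcases smul_eq_zero.mp hst with h | h
  · exact h
  · exact absurd h (fst_ne_zero d P₀ P₁ P₂ e₀ e₁ e₂ h02 h12 hsum he₀ he₁ hv' hv0)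

theorem finrank_span_pair {F G : k[X]} (h : LinearIndependent k ![F, G]) :
    finrank k (Submodule.span k ({F, G} : Set k[X])) = 2 := by
  have := finrank_span_eq_card h
  rw [Fintype.card_fin] at this
  have hr : Set.range ![F, G] = {F, G} := by
    ext x
    simp only [Set.mem_range, Set.mem_insert_iff, Set.mem_singleton_iff]
    constructor
    · rintro ⟨i, rfl⟩
      fin_cases i <;> simp
    · rintro (rfl | rfl)
      · exact ⟨0, rfl⟩
      · exact ⟨1, rfl⟩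
  rw [hr] at this
  exact this

include hsum he₀ he₁ he₂ in
/-- `L` is non-zero -/
theorem L_ne_bot : L d P₀ P₁ P₂ e₀ e₁ e₂ ≠ ⊥ := by
  classical
  -- the map `(F₁, G₁) ↦ (a₀ F₁ + a₁ G₁) mod a₂`
  let D := degreeLT k (d - e₀ + 1) × degreeLT k (d - e₁ + 1)
  let φ₀ : D →ₗ[k] k[X] :=
    (modByMonicHom (pw P₂ e₂)) ∘ₗ
      ((LinearMap.mulLeft k (pw P₀ e₀)) ∘ₗ (degreeLT k (d - e₀ + 1)).subtype ∘ₗ
          LinearMap.fst k _ _ +
        (LinearMap.mulLeft k (pw P₁ e₁)) ∘ₗ (degreeLT k (d - e₁ + 1)).subtype ∘ₗ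
          LinearMap.snd k _ _)
  have hφ₀ : ∀ x : D, φ₀ x = (pw P₀ e₀ * (x.1 : k[X]) + pw P₁ e₁ * (x.2 : k[X])) %ₘ pw P₂ e₂ :=
    fun x => rfl
  have hrange : ∀ x : D, φ₀ x ∈ degreeLT k e₂ := by
    intro x
    rw [hφ₀, mem_degreeLT]
    have := degree_modByMonic_lt (pw P₀ e₀ * (x.1 : k[X]) + pw P₁ e₁ * (x.2 : k[X]))
      (pw_monic P₂ e₂)
    rw [degree_eq_natDegree (pw_ne_zero P₂ e₂), natDegree_pw] at this
    exact this
  let φ : D →ₗ[k] degreeLT k e₂ := LinearMap.codRestrict _ φ₀ hrange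
  have hfr : finrank k (degreeLT k e₂) < finrank k D := by
    have h1 : ∀ m : ℕ, finrank k (degreeLT k m) = m := by
      intro m
      rw [(degreeLTEquiv k m).finrank_eq, Module.finrank_fin_fun]
    rw [Module.finrank_prod, h1, h1, h1]
    omega
  have hker := LinearMap.ker_ne_bot_of_finrank_lt (f := φ) hfr
  obtain ⟨x, hx, hx0⟩ := (Submodule.ne_bot_iff _).mp hker
  rw [LinearMap.mem_ker] at hx
  have hx' : φ₀ x = 0 := congrArg Subtype.val hx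
  rw [hφ₀, modByMonic_eq_zero_iff_dvd (pw_monic P₂ e₂)] at hx'
  intro hbot
  have hdeg : ∀ (a : k) (m n : ℕ) (f : k[X]), m ≤ d → f ∈ degreeLT k (d - m + 1) →
      pw a m * f ∈ degreeLE k d := by
    intro a m n f hm hf
    rw [mem_degreeLE]
    rw [mem_degreeLT] at hf
    by_cases hf0 : f = 0
    · rw [hf0, mul_zero, degree_zero]; exact bot_le
    rw [degree_mul, degree_eq_natDegree (pw_ne_zero a m), natDegree_pw,
      degree_eq_natDegree hf0] at *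
    have : f.natDegree < d - m + 1 := by exact_mod_cast hf
    have h2 : m + f.natDegree ≤ d := by omega
    exact_mod_cast h2
  have hmem : (pw P₀ e₀ * (x.1 : k[X]), pw P₁ e₁ * (x.2 : k[X])) ∈ L d P₀ P₁ P₂ e₀ e₁ e₂ := by
    refine ⟨hdeg P₀ e₀ 0 _ he₀ x.1.2, hdeg P₁ e₁ 0 _ he₁ x.2.2, dvd_mul_right _ _,
      dvd_mul_right _ _, hx'⟩
  rw [hbot, Submodule.mem_bot, Prod.mk_eq_zero] at hmem
  obtain ⟨h1, h2⟩ := hmem
  have h1' : (x.1 : k[X]) = 0 := (mul_eq_zero.mp h1).resolve_left (pw_ne_zero _ _)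
  have h2' : (x.2 : k[X]) = 0 := (mul_eq_zero.mp h2).resolve_left (pw_ne_zero _ _)
  apply hx0
  exact Prod.ext (Subtype.ext h1') (Subtype.ext h2')

end main

end Groth.Agent.H76.ThreePt
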