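import Mathlib
import Groth.Agent.H76.ThreePtB

/-!
# Explicit version of `ThreePt.main` (for the explicit linear space `L`)
-/

set_option autoImplicit false
universe u

open Polynomial Module

namespace Groth.Agent.H76.ThreePt

variable {k : Type u} [Field k]

theorem explicit (p : ℕ) (d : ℕ) (P : Fin 3 → k) (hP : Function.Injective P)
    (e : Fin 3 → ℕ) (he : W4c1limliniiii.Admissible p d e) :
    L d (P 0) (P 1) (P 2) (e 0) (e 1) (e 2) ≠ ⊥ ∧
      (∀ v ∈ L d (P 0) (P 1) (P 2) (e 0) (e 1) (e 2), v ≠ 0 →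
        Submodule.span k {v.1, v.2} ≤ Polynomial.degreeLE k d ∧
          Module.finrank k (Submodule.span k {v.1, v.2}) = 2 ∧
          ∀ i, ∃ s ∈ Submodule.span k {v.1, v.2}, s ≠ 0 ∧
            e i ≤ Polynomial.rootMultiplicity (P i) s) ∧
      (∀ V : Submodule k k[X], V ≤ Polynomial.degreeLE k d → Module.finrank k V = 2 →
        (∀ i, ∃ s ∈ V, s ≠ 0 ∧ e i ≤ Polynomial.rootMultiplicity (P i) s) →
          ∃ v ∈ L d (P 0) (P 1) (P 2) (e 0) (e 1) (e 2), v ≠ 0 ∧
            Submodule.span k {v.1, v.2} = V) ∧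
      (∀ v ∈ L d (P 0) (P 1) (P 2) (e 0) (e 1) (e 2),
        ∀ w ∈ L d (P 0) (P 1) (P 2) (e 0) (e 1) (e 2), v ≠ 0 → w ≠ 0 →
        Submodule.span k {v.1, v.2} = Submodule.span k {w.1, w.2} → ∃ c : k, w = c • v) := by
  classical
  obtain ⟨hei, hsum⟩ := he
  rw [Fin.sum_univ_three] at hsum
  have hsum' : e 0 + e 1 + e 2 = 2 * d + 1 := by omega
  have he₀ := (hei 0).2.1
  have he₁ := (hei 1).2.1
  have he₂ := (hei 2).2.1
  have h01 : P 0 ≠ P 1 := fun h => by simpa using hP h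
  have h02 : P 0 ≠ P 2 := fun h => by simpa using hP h
  have h12 : P 1 ≠ P 2 := fun h => by simpa using hP h
  set LL := L d (P 0) (P 1) (P 2) (e 0) (e 1) (e 2) with hLL
  have hli : ∀ v ∈ LL, v ≠ 0 → LinearIndependent k ![v.1, v.2] := fun v hv hv0 =>
    li_of_mem d (P 0) (P 1) (P 2) (e 0) (e 1) (e 2) h01 h02 h12 hsum' he₀ he₁ he₂ hv hv0
  have hfst : ∀ v ∈ LL, v ≠ 0 → v.1 ≠ 0 := fun v hv hv0 =>
    fst_ne_zero d (P 0) (P 1) (P 2) (e 0) (e 1) (e 2) h02 h12 hsum' he₀ he₁ hv hv0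
  have hsnd : ∀ v ∈ LL, v ≠ 0 → v.2 ≠ 0 := fun v hv hv0 =>
    snd_ne_zero d (P 0) (P 1) (P 2) (e 0) (e 1) (e 2) h01 h02 h12 hsum' he₀ he₁ he₂ hv hv0
  have hadd : ∀ v ∈ LL, v ≠ 0 → v.1 + v.2 ≠ 0 := fun v hv hv0 =>
    add_ne_zero d (P 0) (P 1) (P 2) (e 0) (e 1) (e 2) h01 h02 h12 hsum' he₀ he₁ he₂ hv hv0
  have hpart2 : ∀ v ∈ LL, v ≠ 0 →
        Submodule.span k {v.1, v.2} ≤ Polynomial.degreeLE k d ∧
          Module.finrank k (Submodule.span k {v.1, v.2}) = 2 ∧
          ∀ i, ∃ s ∈ Submodule.span k {v.1, v.2}, s ≠ 0 ∧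
            e i ≤ Polynomial.rootMultiplicity (P i) s := by
    intro v hv hv0
    have hv' := hv
    obtain ⟨h1, h2, h3, h4, h5⟩ := hv
    have hm1 : v.1 ∈ Submodule.span k ({v.1, v.2} : Set k[X]) :=
      Submodule.subset_span (by simp)
    have hm2 : v.2 ∈ Submodule.span k ({v.1, v.2} : Set k[X]) :=
      Submodule.subset_span (by simp)
    refine ⟨?_, finrank_span_pair (hli v hv' hv0), ?_⟩
    · apply Submodule.span_le.mpr
      rintro x (rfl | rfl)
      · exact h1
      · exact h2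
    · intro i
      fin_cases i
      · exact ⟨v.1, hm1, hfst v hv' hv0, (le_rootMult_iff (hfst v hv' hv0) _).mpr h3⟩
      · exact ⟨v.2, hm2, hsnd v hv' hv0, (le_rootMult_iff (hsnd v hv' hv0) _).mpr h4⟩
      · exact ⟨v.1 + v.2, Submodule.add_mem _ hm1 hm2, hadd v hv' hv0,
          (le_rootMult_iff (hadd v hv' hv0) _).mpr h5⟩
  refine ⟨L_ne_bot d (P 0) (P 1) (P 2) (e 0) (e 1) (e 2) hsum' he₀ he₁ he₂, hpart2, ?_, ?_⟩
  · -- surjectivity
    intro V hVd hVr hV
    haveI : FiniteDimensional k V := Module.finite_of_finrank_pos (by rw [hVr]; norm_num)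
    obtain ⟨s₀, hs₀V, hs₀, hm₀⟩ := hV 0
    obtain ⟨s₁, hs₁V, hs₁, hm₁⟩ := hV 1
    obtain ⟨s₂, hs₂V, hs₂, hm₂⟩ := hV 2
    rw [le_rootMult_iff hs₀] at hm₀
    rw [le_rootMult_iff hs₁] at hm₁
    rw [le_rootMult_iff hs₂] at hm₂
    have hli01 : LinearIndependent k ![s₀, s₁] := by
      rw [LinearIndependent.pair_iff]
      intro s t hst
      have ht : t = 0 := by
        by_contra ht
        have h2' : t • s₁ = -(s • s₀) := eq_neg_of_add_eq_zero_right hst
        have : pw (P 0) (e 0) ∣ t • s₁ := by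
          rw [h2']
          exact (dvd_neg).mpr (smul_dvd s hm₀)
        have := dvd_of_smul_dvd ht this
        exact hs₁ (eq_zero_of_two h01 (by omega) (hVd hs₁V) this hm₁)
      refine ⟨?_, ht⟩
      rw [ht, zero_smul, add_zero] at hst
      exact (smul_eq_zero.mp hst).resolve_right hs₀
    have hspan : Submodule.span k ({s₀, s₁} : Set k[X]) = V := by
      apply Submodule.eq_of_le_of_finrank_eq
      · apply Submodule.span_le.mpr
        rintro x (rfl | rfl)
        · exact hs₀V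
        · exact hs₁V
      · rw [finrank_span_pair hli01, hVr]
    have hs₂' := hs₂V
    rw [← hspan, Submodule.mem_span_pair] at hs₂'
    obtain ⟨α, β, hαβ⟩ := hs₂'
    have hα : α ≠ 0 := by
      rintro rfl
      rw [zero_smul, zero_add] at hαβ
      have : pw (P 1) (e 1) ∣ s₂ := by rw [← hαβ]; exact smul_dvd β hm₁
      exact hs₂ (eq_zero_of_two h12 (by omega) (hVd hs₂V) this hm₂)
    have hβ : β ≠ 0 := by
      rintro rfl
      rw [zero_smul, add_zero] at hαβ
      have : pw (P 0) (e 0) ∣ s₂ := by rw [← hαβ]; exact smul_dvd α hm₀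
      exact hs₂ (eq_zero_of_two h02 (by omega) (hVd hs₂V) this hm₂)
    have hvL : (α • s₀, β • s₁) ∈ LL := by
      refine ⟨Submodule.smul_mem _ _ (hVd hs₀V), Submodule.smul_mem _ _ (hVd hs₁V),
        smul_dvd α hm₀, smul_dvd β hm₁, ?_⟩
      change pw (P 2) (e 2) ∣ α • s₀ + β • s₁
      rw [hαβ]
      exact hm₂
    have hv0 : ((α • s₀, β • s₁) : k[X] × k[X]) ≠ 0 := by
      intro h
      rw [Prod.mk_eq_zero] at h
      exact hs₀ ((smul_eq_zero.mp h.1).resolve_left hα)
    refine ⟨(α • s₀, β • s₁), hvL, hv0, ?_⟩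
    apply Submodule.eq_of_le_of_finrank_eq
    · apply Submodule.span_le.mpr
      rintro x (rfl | rfl)
      · exact V.smul_mem _ hs₀V
      · exact V.smul_mem _ hs₁V
    · rw [(hpart2 _ hvL hv0).2.1, hVr]
  · -- injectivity up to scalars
    intro v hv w hw hv0 hw0 hspan
    have hv' := hv
    have hw' := hw
    obtain ⟨h1, h2, h3, h4, h5⟩ := hv
    obtain ⟨g1, g2, g3, g4, g5⟩ := hw
    have hw1 : w.1 ∈ Submodule.span k ({v.1, v.2} : Set k[X]) := by
      rw [hspan]; exact Submodule.subset_span (by simp)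
    have hw2 : w.2 ∈ Submodule.span k ({v.1, v.2} : Set k[X]) := by
      rw [hspan]; exact Submodule.subset_span (by simp)
    rw [Submodule.mem_span_pair] at hw1 hw2
    obtain ⟨x, y, hxy⟩ := hw1
    obtain ⟨x', y', hxy'⟩ := hw2
    have hy : y = 0 := by
      by_contra hy
      have : pw (P 0) (e 0) ∣ y • v.2 := by
        have : y • v.2 = w.1 - x • v.1 := by rw [← hxy]; ring
        rw [this]
        exact dvd_sub g3 (smul_dvd x h3)
      have := dvd_of_smul_dvd hy this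
      exact hsnd v hv' hv0 (eq_zero_of_two h01 (by omega) h2 this h4)
    have hx' : x' = 0 := by
      by_contra hx'
      have : pw (P 1) (e 1) ∣ x' • v.1 := by
        have : x' • v.1 = w.2 - y' • v.2 := by rw [← hxy']; ring
        rw [this]
        exact dvd_sub g4 (smul_dvd y' h4)
      have := dvd_of_smul_dvd hx' this
      exact hfst v hv' hv0 (eq_zero_of_two h01 (by omega) h1 h3 this)
    subst hy hx'
    rw [zero_smul, add_zero] at hxy
    rw [zero_smul, zero_add] at hxy'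
    have hyx : y' = x := by
      by_contra hne
      have hne' : y' - x ≠ 0 := sub_ne_zero.mpr hne
      have : pw (P 2) (e 2) ∣ (y' - x) • v.2 := by
        have : (y' - x) • v.2 = (w.1 + w.2) - x • (v.1 + v.2) := by
          rw [← hxy, ← hxy', sub_smul, smul_add]; ring
        rw [this]
        exact dvd_sub g5 (smul_dvd x h5)
      have := dvd_of_smul_dvd hne' this
      exact hsnd v hv' hv0 (eq_zero_of_two h12 (by omega) h2 h4 this)
    refine ⟨x, ?_⟩
    apply Prod.ext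
    · rw [Prod.smul_fst, hxy]
    · rw [Prod.smul_snd, ← hxy', hyx]

end Groth.Agent.H76.ThreePt
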