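import Mathlib
import Groth.Agent.H76.ThreePtC

/-!
# Three-point ramification: uniqueness of the map and criterion for non-existence
-/

set_option autoImplicit false
universe u

open Polynomial Module

namespace Groth.Agent.H76.ThreePt

variable {k : Type u} [Field k]

theorem pw_dvd_pw (a : k) {m l : ℕ} (h : m ≤ l) : pw a m ∣ pw a l := pow_dvd_pow _ h

theorem pw_mul_pw (a : k) (m l : ℕ) : pw a m * pw a l = pw a (m + l) := (pow_add _ _ _).symm

/-- (D1) -/
theorem pw_dvd_derivative {a : k} {m : ℕ} {s : k[X]} (h : pw a m ∣ s) :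
    pw a (m - 1) ∣ derivative s := by
  obtain ⟨q, rfl⟩ := h
  rw [derivative_mul]
  apply dvd_add
  · unfold pw
    rw [derivative_X_sub_C_pow]
    exact Dvd.dvd.mul_right (Dvd.intro_left _ rfl) _
  · exact Dvd.dvd.mul_right (pw_dvd_pw a (Nat.sub_le m 1)) _

/-- (D2) -/
theorem pw_dvd_wronskian {a : k} {m : ℕ} {s : k[X]} (h : pw a m ∣ s) (t : k[X]) :
    pw a (m - 1) ∣ wronskian s t := by
  unfold wronskian
  apply dvd_sub
  · exact Dvd.dvd.mul_right ((pw_dvd_pw a (Nat.sub_le m 1)).trans h) _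
  · exact Dvd.dvd.mul_right (pw_dvd_derivative h) _

/-- (D3) -/
theorem pw_dvd_wronskian_two {a : k} {m l : ℕ} {s t : k[X]} (hm : 1 ≤ m) (hl : 1 ≤ l)
    (hs : pw a m ∣ s) (ht : pw a l ∣ t) : pw a (m + l - 1) ∣ wronskian s t := by
  unfold wronskian
  apply dvd_sub
  · have : m + l - 1 = m + (l - 1) := by omega
    rw [this, ← pw_mul_pw]
    exact mul_dvd_mul hs (pw_dvd_derivative ht)
  · have : m + l - 1 = (m - 1) + l := by omega
    rw [this, ← pw_mul_pw]
    exact mul_dvd_mul (pw_dvd_derivative hs) ht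

theorem eval_pw_ne_zero {a b : k} (hab : a ≠ b) (m : ℕ) : (pw a m).eval b ≠ 0 := by
  unfold pw
  rw [eval_pow, eval_sub, eval_X, eval_C]
  exact pow_ne_zero _ (sub_ne_zero.mpr (Ne.symm hab))

theorem pw_one_dvd_iff {a : k} {s : k[X]} : pw a 1 ∣ s ↔ s.eval a = 0 := by
  unfold pw
  rw [pow_one, dvd_iff_isRoot]
  rfl

/-- wronskian of two combinations -/
theorem wronskian_comb (F G : k[X]) (α β γ δ : k) :
    wronskian (α • F + β • G) (γ • F + δ • G) = (α * δ - β * γ) • wronskian F G := by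
  have h1 : ∀ (c : k) (A B : k[X]), wronskian (c • A) B = c • wronskian A B := fun c A B => by
    have := (wronskianBilin k).map_smul c A
    exact congrArg (fun f => f B) this
  have h2 : ∀ (c : k) (A B : k[X]), wronskian A (c • B) = c • wronskian A B := fun c A B =>
    (wronskianBilin k A).map_smul c B
  rw [wronskian_add_left, wronskian_add_right, wronskian_add_right, h1, h1, h1, h1, h2, h2, h2, h2,
    wronskian_self_eq_zero, wronskian_self_eq_zero, ← wronskian_neg_eq F G]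
  simp only [smul_zero, zero_add, add_zero, smul_neg, smul_smul]
  rw [sub_smul]
  rw [mul_comm β γ]
  abel

section main

variable (d : ℕ) (P₀ P₁ P₂ : k) (e₀ e₁ e₂ : ℕ)
variable (h01 : P₀ ≠ P₁) (h02 : P₀ ≠ P₂) (h12 : P₁ ≠ P₂)
  (hsum : e₀ + e₁ + e₂ = 2 * d + 1) (he₀ : e₀ ≤ d) (he₁ : e₁ ≤ d) (he₂ : e₂ ≤ d)

include h01 h02 h12 hsum in
/-- Lemma N: all members of `L` define the same rational function -/
theorem cross_eq {v w : k[X] × k[X]} (hv : v ∈ L d P₀ P₁ P₂ e₀ e₁ e₂)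
    (hw : w ∈ L d P₀ P₁ P₂ e₀ e₁ e₂) : w.1 * v.2 = v.1 * w.2 := by
  obtain ⟨h1, h2, h3, h4, h5⟩ := hv
  obtain ⟨g1, g2, g3, g4, g5⟩ := hw
  by_contra hne
  have hN : w.1 * v.2 - v.1 * w.2 ≠ 0 := sub_ne_zero.mpr hne
  have d0 : pw P₀ e₀ ∣ w.1 * v.2 - v.1 * w.2 :=
    dvd_sub (Dvd.dvd.mul_right g3 _) (Dvd.dvd.mul_right h3 _)
  have d1 : pw P₁ e₁ ∣ w.1 * v.2 - v.1 * w.2 :=
    dvd_sub (Dvd.dvd.mul_left h4 _) (Dvd.dvd.mul_left g4 _)
  have d2 : pw P₂ e₂ ∣ w.1 * v.2 - v.1 * w.2 := by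
    have : w.1 * v.2 - v.1 * w.2 = w.1 * (v.1 + v.2) - v.1 * (w.1 + w.2) := by ring
    rw [this]
    exact dvd_sub (Dvd.dvd.mul_left h5 _) (Dvd.dvd.mul_left g5 _)
  have d01 : pw P₀ e₀ * pw P₁ e₁ ∣ w.1 * v.2 - v.1 * w.2 :=
    (pw_coprime h01 e₀ e₁).mul_dvd d0 d1
  have hcop : IsCoprime (pw P₀ e₀ * pw P₁ e₁) (pw P₂ e₂) :=
    IsCoprime.mul_left (pw_coprime h02 e₀ e₂) (pw_coprime h12 e₁ e₂)
  have d012 := hcop.mul_dvd d01 d2
  have hdeg := natDegree_le_of_dvd d012 hN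
  rw [natDegree_mul (mul_ne_zero (pw_ne_zero _ _) (pw_ne_zero _ _)) (pw_ne_zero _ _),
    natDegree_mul (pw_ne_zero _ _) (pw_ne_zero _ _), natDegree_pw, natDegree_pw, natDegree_pw]
    at hdeg
  have hle : ∀ {A B : k[X]}, A ∈ degreeLE k d → B ∈ degreeLE k d → (A * B).natDegree ≤ 2 * d := by
    intro A B hA hB
    rw [mem_degreeLE] at hA hB
    have := natDegree_mul_le (p := A) (q := B)
    have := natDegree_le_of_degree_le hA
    have := natDegree_le_of_degree_le hB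
    omega
  have := natDegree_sub_le (w.1 * v.2) (v.1 * w.2)
  have := hle g1 h2
  have := hle h1 g2
  omega

end main

end Groth.Agent.H76.ThreePt
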