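import Mathlib
import Groth.Agent.H76.ThreePtD

/-!
# Three-point ramification: pencil rigidity and the Wronskian count
-/

set_option autoImplicit false
universe u

open Polynomial Module

namespace Groth.Agent.H76.ThreePt

variable {k : Type u} [Field k]

theorem mem_span_pair' {F G s : k[X]} :
    s ∈ Submodule.span k ({F, G} : Set k[X]) ↔ ∃ α β : k, α • F + β • G = s :=
  Submodule.mem_span_pair

section main

variable (d : ℕ) (P₀ P₁ P₂ : k) (e₀ e₁ e₂ : ℕ)
variable (h01 : P₀ ≠ P₁) (h02 : P₀ ≠ P₂) (h12 : P₁ ≠ P₂)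
  (hsum : e₀ + e₁ + e₂ = 2 * d + 1) (he₀ : e₀ ≤ d) (he₁ : e₁ ≤ d) (he₂ : e₂ ≤ d)

include h01 h02 h12 hsum he₀ he₁ he₂ in
/-- Lemma Q: pencil rigidity -/
theorem rigid [IsAlgClosed k] {v w : k[X] × k[X]} (hv : v ∈ L d P₀ P₁ P₂ e₀ e₁ e₂)
    (hw : w ∈ L d P₀ P₁ P₂ e₀ e₁ e₂) (hv0 : v ≠ 0) (hw0 : w ≠ 0)
    (hpen : W4c1limliniiii.IsPencil d (Submodule.span k ({v.1, v.2} : Set k[X]))) :
    ∃ c : k, w = c • v := by
  obtain ⟨-, -, ⟨s, hsV, hsd⟩, hbpf⟩ := hpen
  have hcross := cross_eq d P₀ P₁ P₂ e₀ e₁ e₂ h01 h02 h12 hsum hv hw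
  have hF0 : v.1 ≠ 0 := fst_ne_zero d P₀ P₁ P₂ e₀ e₁ e₂ h02 h12 hsum he₀ he₁ hv hv0
  -- coprimality
  have hcop : IsCoprime v.1 v.2 := by
    rw [Polynomial.isCoprime_iff_aeval_ne_zero_of_isAlgClosed (k := k) k]
    intro a
    obtain ⟨t, htV, hta⟩ := hbpf a
    rw [mem_span_pair'] at htV
    obtain ⟨α, β, rfl⟩ := htV
    by_contra hcon
    push_neg at hcon
    apply hta
    simp only [coe_aeval_eq_eval] at hcon
    rw [eval_add, eval_smul, eval_smul, hcon.1, hcon.2]
    simp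
  have hdvd : v.1 ∣ w.1 := by
    apply hcop.dvd_of_dvd_mul_right
    rw [hcross]
    exact dvd_mul_right _ _
  obtain ⟨h, hh⟩ := hdvd
  have hh2 : w.2 = v.2 * h := by
    have : v.1 * (v.2 * h) = v.1 * w.2 := by
      rw [← hcross, hh]; ring
    exact (mul_left_cancel₀ hF0 this).symm
  have hh0 : h ≠ 0 := by
    rintro rfl
    apply hw0
    rw [mul_zero] at hh hh2
    exact Prod.ext hh hh2
  rw [mem_span_pair'] at hsV
  obtain ⟨α, β, hs⟩ := hsV
  have hs0 : s ≠ 0 := by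
    rintro rfl
    have hd0 : d = 0 := by rw [← hsd]; simp
    omega
  have hws : α • w.1 + β • w.2 = s * h := by
    rw [hh, hh2, ← hs]
    simp only [smul_eq_C_mul]
    ring
  have hwsdeg : (s * h).natDegree ≤ d := by
    rw [← hws]
    obtain ⟨g1, g2, -⟩ := hw
    have : α • w.1 + β • w.2 ∈ degreeLE k d :=
      Submodule.add_mem _ (Submodule.smul_mem _ _ g1) (Submodule.smul_mem _ _ g2)
    rw [mem_degreeLE] at this
    exact natDegree_le_of_degree_le this
  rw [natDegree_mul hs0 hh0, hsd] at hwsdeg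
  have hhdeg : h.natDegree = 0 := by omega
  obtain ⟨c, hc⟩ := natDegree_eq_zero.mp hhdeg
  refine ⟨c, ?_⟩
  apply Prod.ext
  · rw [Prod.smul_fst, hh, ← hc, smul_eq_C_mul, mul_comm]
  · rw [Prod.smul_snd, hh2, ← hc, smul_eq_C_mul, mul_comm]

/-- the expected Wronskian -/
noncomputable def Om : k[X] := pw P₀ (e₀ - 1) * pw P₁ (e₁ - 1) * pw P₂ (e₂ - 1)

theorem Om_ne_zero : Om P₀ P₁ P₂ e₀ e₁ e₂ ≠ 0 :=
  mul_ne_zero (mul_ne_zero (pw_ne_zero _ _) (pw_ne_zero _ _)) (pw_ne_zero _ _)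

theorem natDegree_Om : (Om P₀ P₁ P₂ e₀ e₁ e₂).natDegree = (e₀ - 1) + (e₁ - 1) + (e₂ - 1) := by
  unfold Om
  rw [natDegree_mul (mul_ne_zero (pw_ne_zero _ _) (pw_ne_zero _ _)) (pw_ne_zero _ _),
    natDegree_mul (pw_ne_zero _ _) (pw_ne_zero _ _), natDegree_pw, natDegree_pw, natDegree_pw]

include h01 h02 h12 in
theorem Om_dvd {W : k[X]} (d0 : pw P₀ (e₀ - 1) ∣ W) (d1 : pw P₁ (e₁ - 1) ∣ W)
    (d2 : pw P₂ (e₂ - 1) ∣ W) : Om P₀ P₁ P₂ e₀ e₁ e₂ ∣ W := by
  have d01 := (pw_coprime h01 (e₀ - 1) (e₁ - 1)).mul_dvd d0 d1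
  have hcop : IsCoprime (pw P₀ (e₀ - 1) * pw P₁ (e₁ - 1)) (pw P₂ (e₂ - 1)) :=
    IsCoprime.mul_left (pw_coprime h02 _ _) (pw_coprime h12 _ _)
  exact hcop.mul_dvd d01 d2

/-- degree bound for the Wronskian of two polynomials of degree `≤ d` -/
theorem natDegree_wronskian_le {F G : k[X]} (hd : 1 ≤ d) (hF : F ∈ degreeLE k d)
    (hG : G ∈ degreeLE k d) (hW : wronskian F G ≠ 0) : (wronskian F G).natDegree + 2 ≤ 2 * d := by
  rw [mem_degreeLE] at hF hG
  have hFd := natDegree_le_of_degree_le hF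
  have hGd := natDegree_le_of_degree_le hG
  have hlt := natDegree_wronskian_lt_add hW
  by_cases hcase : F.natDegree = d ∧ G.natDegree = d
  · obtain ⟨hF', hG'⟩ := hcase
    have hF0 : F ≠ 0 := by
      rintro rfl; simp at hF'; omega
    have hlc : F.leadingCoeff ≠ 0 := leadingCoeff_ne_zero.mpr hF0
    set lam := G.leadingCoeff / F.leadingCoeff with hlam
    set G₂ := G - lam • F with hG₂
    have hW2 : wronskian F G₂ = wronskian F G := by
      have h2 : wronskian F (lam • F) = lam • wronskian F F :=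
        (wronskianBilin k F).map_smul lam F
      rw [hG₂, sub_eq_add_neg, wronskian_add_right, wronskian_neg_right, h2,
        wronskian_self_eq_zero, smul_zero, neg_zero, add_zero]
    have hG₂deg : G₂.natDegree < d := by
      have hle : G₂.natDegree ≤ d := by
        rw [hG₂]
        have h1 := natDegree_sub_le G (lam • F)
        have h2 := natDegree_smul_le lam F
        omega
      have hcoeff : G₂.coeff d = 0 := by
        rw [hG₂, coeff_sub, coeff_smul, smul_eq_mul]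
        have h1 : G.coeff d = G.leadingCoeff := by rw [leadingCoeff, hG']
        have h2 : F.coeff d = F.leadingCoeff := by rw [leadingCoeff, hF']
        rw [h1, h2, hlam, div_mul_cancel₀ _ hlc, sub_self]
      rcases Nat.lt_or_ge G₂.natDegree d with h | h
      · exact h
      · exfalso
        have heq : G₂.natDegree = d := le_antisymm hle h
        have hlc0 : G₂.leadingCoeff = 0 := by rw [leadingCoeff, heq, hcoeff]
        have hG₂0 : G₂ = 0 := leadingCoeff_eq_zero.mp hlc0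
        rw [hG₂0, natDegree_zero] at heq
        omega
    rw [← hW2] at hlt hW ⊢
    have := natDegree_wronskian_lt_add hW
    omega
  · have : F.natDegree + G.natDegree ≤ 2 * d - 1 := by
      rcases not_and_or.mp hcase with h | h <;> omega
    omega

end main

end Groth.Agent.H76.ThreePt
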