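import Mathlib
import Groth.Prelude.Def_W4c1limliniiiiRamP1
import Groth.Agent.H76.LimD
import Groth.Agent.H76.ThreePtE

/-!
# The pencil spanned by a good pair of solutions
-/

set_option autoImplicit false
universe u

open Polynomial

namespace Groth.Agent.H76.Lim

variable {k : Type u} [Field k] (p : ℕ) [hp : Fact p.Prime] [CharP k p]
variable {n : ℕ} (a : Fin n → k) (e : Fin n → ℕ) (N : k[X])

/-- For a pair with Wronskian `c Pi1` the adapted exponents are `(0, ε)`. -/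
theorem adapted_final {x : k} {z₁ z₂ w₁ w₂ : k[X]} {b₁ b₂ : ℕ} {u₁ u₂ : k[X]} {ε : ℕ}
    (hA : Adapted x z₁ z₂ w₁ w₂ b₁ b₂ u₁ u₂) (hL : LocalData p a e N x ε)
    (h₁ : z₁ ∈ Sol (P0 a) (P1 a e) N) (h₂ : z₂ ∈ Sol (P0 a) (P1 a e) N)
    {c : k} (hc : c ≠ 0) (hW : wronskian z₁ z₂ = C c * Pi1 a e) :
    b₁ = 0 ∧ b₂ = ε := by
  have hle : b₁ + b₂ ≤ ε := by
    by_contra hlt
    push Not at hlt
    have ho := wronskian_ord x b₁ b₂ u₁ u₂
    rw [← hA.h₁, ← hA.h₂] at ho
    obtain ⟨c', hc', hwr⟩ := hA.wr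
    obtain ⟨v, hv, hvx⟩ := hL.fac
    rw [hwr, hW, hv] at ho
    have h1 : (X - C x) * (C c' * (C c * ((X - C x) ^ (ε - 1) * v))) =
        (X - C x) ^ ε * (C (c' * c) * v) := by
      have : ε = (ε - 1) + 1 := by have := hL.one_le; omega
      nth_rewrite 2 [this]
      rw [pow_succ, C_mul]; ring
    rw [h1] at ho
    have h2 : (X - C x) ^ (b₁ + b₂) = (X - C x) ^ ε * (X - C x) ^ (b₁ + b₂ - ε) := by
      rw [← pow_add]; congr 1; omega
    rw [h2, mul_assoc] at ho
    have h3 := mul_left_cancel₀ (pow_ne_zero _ (X_sub_C_ne_zero x)) ho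
    have h4 : (X - C x) ∣ C (c' * c) * v := by
      rw [h3]
      refine Dvd.dvd.mul_right (dvd_pow_self _ ?_) _
      omega
    rw [dvd_iff_isRoot, IsRoot, eval_mul, eval_C] at h4
    rcases mul_eq_zero.mp h4 with h5 | h5
    · exact (mul_ne_zero hc' hc) h5
    · exact hvx h5
  have hb : b₂ < p := lt_of_le_of_lt (by omega) hL.lt
  obtain ⟨r1, r2, -⟩ := adapted_small p a e N hA hL h₁ h₂ hb
  exact ⟨r1, r2⟩

omit [CharP k p] hp in
theorem li_of_wronskian_ne_zero {z₁ z₂ : k[X]} (hW : wronskian z₁ z₂ ≠ 0) :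
    LinearIndependent k ![z₁, z₂] := by
  rw [LinearIndependent.pair_iff]
  intro s t hst
  have e1 : wronskian (s • z₁ + t • z₂) z₂ = C s * wronskian z₁ z₂ := by
    rw [wronskian_add_left, smul_eq_C_mul, smul_eq_C_mul,
      wronskian_mul_left_of_derivative_eq_zero derivative_C,
      wronskian_mul_left_of_derivative_eq_zero derivative_C, wronskian_self_eq_zero, mul_zero,
      add_zero]
  have e2 : wronskian z₁ (s • z₁ + t • z₂) = C t * wronskian z₁ z₂ := by
    rw [wronskian_add_right, smul_eq_C_mul, smul_eq_C_mul,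
      wronskian_mul_right_of_derivative_eq_zero derivative_C,
      wronskian_mul_right_of_derivative_eq_zero derivative_C, wronskian_self_eq_zero, mul_zero,
      zero_add]
  rw [hst, wronskian_zero_left] at e1
  rw [hst, wronskian_zero_right] at e2
  constructor
  · rcases mul_eq_zero.mp e1.symm with h | h
    · exact C_eq_zero.mp h
    · exact absurd h hW
  · rcases mul_eq_zero.mp e2.symm with h | h
    · exact C_eq_zero.mp h
    · exact absurd h hW

/-- The pencil spanned by a good pair has all the required properties. -/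
theorem pencil_props (ha : Function.Injective a) (he2 : ∀ i, 2 ≤ e i) (hep : ∀ i, e i < p)
    {z₁ z₂ : k[X]} (h₁ : z₁ ∈ Sol (P0 a) (P1 a e) N) (h₂ : z₂ ∈ Sol (P0 a) (P1 a e) N)
    {c : k} (hc : c ≠ 0) (hW : wronskian z₁ z₂ = C c * Pi1 a e)
    (hlt : z₂.natDegree < z₁.natDegree) :
    Submodule.span k {z₁, z₂} ∈ W4c1limliniiii.ramMaps z₁.natDegree a e ∧
      W4c1limliniiii.HasRamIdxInf z₁.natDegree (Submodule.span k {z₁, z₂})
        (z₁.natDegree - z₂.natDegree) := by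
  have hW0 : wronskian z₁ z₂ ≠ 0 := by
    rw [hW]; exact mul_ne_zero (C_ne_zero.mpr hc) (Pi1_monic a e).ne_zero
  have hz₁ : z₁ ≠ 0 := by
    intro h; rw [h, wronskian_zero_left] at hW0; exact hW0 rfl
  have hz₂ : z₂ ≠ 0 := by
    intro h; rw [h, wronskian_zero_right] at hW0; exact hW0 rfl
  set V := Submodule.span k ({z₁, z₂} : Set k[X]) with hV
  have hz₁V : z₁ ∈ V := Submodule.subset_span (by simp)
  have hz₂V : z₂ ∈ V := Submodule.subset_span (by simp)
  -- local structure at every point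
  have hloc : ∀ x : k, ∃ ε w₁ w₂ u₂, LocalData p a e N x ε ∧ w₁ ∈ V ∧ w₂ ∈ V ∧
      V = Submodule.span k {w₁, w₂} ∧ w₁.eval x ≠ 0 ∧ w₂ = (X - C x) ^ ε * u₂ ∧
      u₂.eval x ≠ 0 := by
    intro x
    obtain ⟨ε, hL⟩ := exists_localData p a e N ha he2 hep x
    obtain ⟨w₁, w₂, b₁, b₂, u₁, u₂, hA⟩ := exists_adapted x hW0
    obtain ⟨rfl, rfl⟩ := adapted_final p a e N hA hL h₁ h₂ hc hW
    refine ⟨b₂, w₁, w₂, u₂, hL, hA.mem₁ hz₁V hz₂V, hA.mem₂ hz₁V hz₂V, hA.span_eq.symm, ?_, hA.h₂,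
      hA.hu₂⟩
    rw [hA.h₁, pow_zero, one_mul]; exact hA.hu₁
  -- degrees of members
  have hdeg : ∀ s ∈ V, s ≠ 0 → s.natDegree = z₁.natDegree ∨ s.natDegree = z₂.natDegree := by
    intro s hs hs0
    obtain ⟨α, β, rfl⟩ := Submodule.mem_span_pair.mp hs
    by_cases hα : α = 0
    · right
      rw [hα, zero_smul, zero_add] at hs0 ⊢
      have hβ : β ≠ 0 := by
        intro h; rw [h, zero_smul] at hs0; exact hs0 rfl
      rw [smul_eq_C_mul, natDegree_C_mul hβ]
    · left
      have h1 : (α • z₁).natDegree = z₁.natDegree := by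
        rw [smul_eq_C_mul, natDegree_C_mul hα]
      have h2 : (β • z₂).natDegree < (α • z₁).natDegree := by
        rw [h1]
        exact lt_of_le_of_lt (natDegree_smul_le β z₂) hlt
      rw [natDegree_add_eq_left_of_natDegree_lt h2, h1]
  refine ⟨⟨⟨?_, ?_, ⟨z₁, hz₁V, rfl⟩, ?_⟩, ⟨z₁, hz₁V, z₂, hz₂V, hW0⟩, ?_⟩, ?_⟩
  · rw [hV, Submodule.span_le]
    rintro y (rfl | rfl)
    · exact mem_degreeLE.mpr degree_le_natDegree
    · exact mem_degreeLE.mpr (degree_le_of_natDegree_le hlt.le)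
  · exact ThreePt.finrank_span_pair (li_of_wronskian_ne_zero hW0)
  · intro x
    obtain ⟨ε, w₁, w₂, u₂, -, hw₁, -, -, hev, -, -⟩ := hloc x
    exact ⟨w₁, hw₁, hev⟩
  · intro i
    obtain ⟨ε, w₁, w₂, u₂, hL, hw₁, hw₂, hspan, hev, hw₂eq, hu₂⟩ := hloc (a i)
    have hε : ε = e i := hL.eq i rfl
    subst hε
    have hw₂0 : w₂ ≠ 0 := by
      rw [hw₂eq]
      refine mul_ne_zero (pow_ne_zero _ (X_sub_C_ne_zero _)) ?_
      intro h; rw [h, eval_zero] at hu₂; exact hu₂ rfl
    constructor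
    · refine ⟨w₂, hw₂, hw₂0, ?_⟩
      rw [le_rootMultiplicity_iff hw₂0, hw₂eq]
      exact Dvd.intro _ rfl
    · intro s hs hs0
      rw [hspan] at hs
      obtain ⟨α, β, rfl⟩ := Submodule.mem_span_pair.mp hs
      have hw₂x : w₂.eval (a i) = 0 := by
        rw [hw₂eq, eval_mul, eval_pow, eval_sub, eval_X, eval_C, sub_self,
          zero_pow (by have := he2 i; omega), zero_mul]
      by_cases hα : α = 0
      · rw [hα, zero_smul, zero_add] at hs0 ⊢
        have hβ : β ≠ 0 := by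
          intro h; rw [h, zero_smul] at hs0; exact hs0 rfl
        rw [rootMultiplicity_le_iff hs0]
        intro hdvd
        rw [hw₂eq, smul_eq_C_mul, pow_succ] at hdvd
        have h1 : (X - C (a i)) ^ e i * (X - C (a i)) ∣ (X - C (a i)) ^ e i * (C β * u₂) := by
          obtain ⟨q, hq⟩ := hdvd
          exact ⟨q, by rw [← hq]; ring⟩
        have h2 := (mul_dvd_mul_iff_left (pow_ne_zero _ (X_sub_C_ne_zero (a i)))).mp h1
        rw [dvd_iff_isRoot, IsRoot, eval_mul, eval_C] at h2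
        rcases mul_eq_zero.mp h2 with h3 | h3
        · exact hβ h3
        · exact hu₂ h3
      · have : ¬ IsRoot (α • w₁ + β • w₂) (a i) := by
          rw [IsRoot, eval_add, eval_smul, eval_smul, hw₂x, smul_zero, add_zero, smul_eq_mul]
          exact mul_ne_zero hα hev
        rw [rootMultiplicity_eq_zero this]
        exact Nat.zero_le _
  · constructor
    · exact ⟨z₂, hz₂V, hz₂, by omega⟩
    · intro s hs hs0
      rcases hdeg s hs hs0 with h | h <;> omega

end Groth.Agent.H76.Lim
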