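import Mathlib
import Groth.Agent.H76.LimE

/-!
# Part C: the special configuration over the residue field
-/

set_option autoImplicit false
universe u

open Polynomial

namespace Groth.Agent.H76.Lim

variable {k : Type u} [Field k] (p : ℕ) [hp : Fact p.Prime] [CharP k p]
variable {n : ℕ} (a : Fin n → k) (e : Fin n → ℕ) (N : k[X])

theorem sum_sub_one (he2 : ∀ i, 2 ≤ e i) (d : ℕ) (hsum : (∑ i, e i) + 2 = 2 * d + n) :
    (∑ i, (e i - 1)) + 2 = 2 * d := by
  have h1 : ∑ i, e i = ∑ i, ((e i - 1) + 1) := by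
    refine Finset.sum_congr rfl fun i _ => ?_
    have := he2 i; omega
  rw [Finset.sum_add_distrib, Finset.sum_const, Finset.card_univ, Fintype.card_fin, smul_eq_mul,
    mul_one] at h1
  omega

omit [CharP k p] hp in
theorem natDegree_Pi1_add_two (he2 : ∀ i, 2 ≤ e i) (d : ℕ) (hsum : (∑ i, e i) + 2 = 2 * d + n) :
    (Pi1 a e).natDegree + 2 = 2 * d := by
  rw [natDegree_Pi1]; exact sum_sub_one e he2 d hsum

omit [CharP k p] hp in
/-- The indicial equation at infinity. -/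
theorem indicial_at_inf (he2 : ∀ i, 2 ≤ e i) (d : ℕ) (hsum : (∑ i, e i) + 2 = 2 * d + n)
    (hN1 : (X ^ 2 * N).natDegree ≤ n) (hN2 : (X ^ 2 * N).coeff n = (d : k) * ((d : k) - 1))
    {y : k[X]} (hy : y ∈ Sol (P0 a) (P1 a e) N) (hy0 : y ≠ 0) :
    ((y.natDegree : k) - d) * ((y.natDegree : k) - d + 1) = 0 := by
  rw [mem_Sol] at hy
  have h1 : P0 a * (X ^ 2 * derivative (derivative y)) + (-(X * P1 a e)) * (X * derivative y)
      + (X ^ 2 * N) * y = 0 := by
    have : X ^ 2 * Lop (P0 a) (P1 a e) N y = 0 := by rw [hy, mul_zero]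
    rw [← this]; unfold Lop; ring
  have h2 := indicial_inf (n := n) (natDegree_P0 a).le
    ((natDegree_neg _).le.trans (natDegree_X_mul_P1_le a e)) hN1 h1
  have h3 : (P0 a).coeff n = 1 := by
    have := (P0_monic a).coeff_natDegree
    rwa [natDegree_P0] at this
  have h4 : ∑ i, (((e i - 1 : ℕ) : k)) = 2 * (d : k) - 2 := by
    rw [← Nat.cast_sum]
    have := sum_sub_one e he2 d hsum
    have h5 : ((∑ i, (e i - 1) : ℕ) : k) + 2 = 2 * (d : k) := by
      exact_mod_cast congrArg (Nat.cast : ℕ → k) this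
    linear_combination h5
  rw [h3, coeff_neg, coeff_X_mul_P1, hN2, h4] at h2
  have h6 := (mul_eq_zero.mp h2).resolve_right (leadingCoeff_ne_zero.mpr hy0)
  rw [← h6]; ring

include hp in
/-- A solution pair of degrees `(d, d - 1)` contradicts the inseparability of the limit. -/
theorem not_sep (ha : Function.Injective a) (he2 : ∀ i, 2 ≤ e i) (hep : ∀ i, e i < p)
    (d : ℕ) (hsum : (∑ i, e i) + 2 = 2 * d + n)
    {z₁ z₂ : k[X]} (h₁ : z₁ ∈ Sol (P0 a) (P1 a e) N) (h₂ : z₂ ∈ Sol (P0 a) (P1 a e) N)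
    {c : k} (hc : c ≠ 0) (hW : wronskian z₁ z₂ = C c * Pi1 a e)
    (hd₁ : z₁.natDegree ≤ d) (hd₂ : z₂.natDegree ≤ d)
    {Fb Gb : k[X]} (hF : Fb ∈ Sol (P0 a) (P1 a e) N) (hG : Gb ∈ Sol (P0 a) (P1 a e) N)
    (hFd : Fb.natDegree ≤ d) (hGd : Gb.natDegree ≤ d)
    (hind : LinearIndependent k ![Fb, Gb]) (hins : wronskian Fb Gb = 0) : False := by
  have hPd := natDegree_Pi1_add_two a e he2 d hsum
  have hd1 : 1 ≤ d := by omega
  have hPne := (Pi1_monic a e).ne_zero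
  have mem : ∀ {q : k[X]}, q.natDegree ≤ d → q ∈ degreeLE k d := fun h =>
    mem_degreeLE.mpr (degree_le_of_natDegree_le h)
  -- every solution of degree ≤ d is a constant combination of z₁, z₂
  have key : ∀ y : k[X], y ∈ Sol (P0 a) (P1 a e) N → y.natDegree ≤ d →
      ∃ α β : k, y = α • z₁ + β • z₂ := by
    intro y hy hyd
    have hconst : ∀ u v : k[X], u ∈ Sol (P0 a) (P1 a e) N → v ∈ Sol (P0 a) (P1 a e) N →
        u.natDegree ≤ d → v.natDegree ≤ d → ∃ r : k, wronskian u v = C r * Pi1 a e := by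
      intro u v hu hv hud hvd
      obtain ⟨γ, hγ, -⟩ := wronskian_eq_mul_Pi1 p a e N ha he2 hep hu hv
      by_cases hw : wronskian u v = 0
      · exact ⟨0, by rw [hw, C_0, zero_mul]⟩
      · have h1 := ThreePt.natDegree_wronskian_le d hd1 (mem hud) (mem hvd) hw
        have hγ0 : γ ≠ 0 := by
          intro h; rw [h, zero_mul] at hγ; exact hw hγ
        have h2 := natDegree_mul hγ0 hPne
        rw [← hγ] at h2
        have h3 : γ.natDegree = 0 := by omega
        rw [eq_C_of_natDegree_eq_zero h3] at hγ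
        exact ⟨_, hγ⟩
    obtain ⟨r₁, hr₁⟩ := hconst y z₂ hy h₂ hyd hd₂
    obtain ⟨r₂, hr₂⟩ := hconst z₁ y h₁ hy hd₁ hyd
    have h3 := wronskian_three y z₁ z₂
    rw [hW, hr₁, hr₂] at h3
    have h4 : Pi1 a e * (C c * y - (C r₁ * z₁ + C r₂ * z₂)) = 0 := by
      linear_combination h3
    have h5 := (mul_eq_zero.mp h4).resolve_left hPne
    refine ⟨r₁ / c, r₂ / c, ?_⟩
    rw [smul_eq_C_mul, smul_eq_C_mul]
    have h6 : C c * y = C r₁ * z₁ + C r₂ * z₂ := sub_eq_zero.mp h5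
    have hcc : (C c : k[X]) ≠ 0 := C_ne_zero.mpr hc
    apply mul_left_cancel₀ hcc
    rw [h6, mul_add, ← mul_assoc, ← mul_assoc, ← C_mul, ← C_mul, mul_div_cancel₀ _ hc,
      mul_div_cancel₀ _ hc]
  obtain ⟨α₁, β₁, hFe⟩ := key Fb hF hFd
  obtain ⟨α₂, β₂, hGe⟩ := key Gb hG hGd
  have hW0 : wronskian z₁ z₂ ≠ 0 := by
    rw [hW]; exact mul_ne_zero (C_ne_zero.mpr hc) hPne
  have hdet : α₁ * β₂ - β₁ * α₂ = 0 := by
    have := ThreePt.wronskian_comb z₁ z₂ α₁ β₁ α₂ β₂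
    rw [← hFe, ← hGe, hins] at this
    rcases smul_eq_zero.mp this.symm with h | h
    · exact h
    · exact absurd h hW0
  rw [LinearIndependent.pair_iff] at hind
  have hdetC : C α₁ * C β₂ - C β₁ * C α₂ = (0 : k[X]) := by
    rw [← C_mul, ← C_mul, ← C_sub, hdet, C_0]
  have e1 : β₂ • Fb + (-β₁) • Gb = 0 := by
    rw [hFe, hGe]
    simp only [smul_eq_C_mul, C_neg]
    linear_combination z₁ * hdetC
  have e2 : α₂ • Fb + (-α₁) • Gb = 0 := by
    rw [hFe, hGe]
    simp only [smul_eq_C_mul, C_neg]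
    linear_combination (-z₂) * hdetC
  obtain ⟨hb2, hb1⟩ := hind _ _ e1
  obtain ⟨ha2, ha1⟩ := hind _ _ e2
  have hF0 : Fb = 0 := by
    rw [hFe, neg_eq_zero.mp ha1, neg_eq_zero.mp hb1, zero_smul, zero_smul, add_zero]
  have := hind 1 0 (by rw [hF0]; simp)
  exact one_ne_zero this.1

/-- Part C. -/
theorem partC [IsAlgClosed k] (ha : Function.Injective a) (he2 : ∀ i, 2 ≤ e i)
    (hep : ∀ i, e i < p) (d : ℕ) (hsum : (∑ i, e i) + 2 = 2 * d + n)
    (hN1 : (X ^ 2 * N).natDegree ≤ n) (hN2 : (X ^ 2 * N).coeff n = (d : k) * ((d : k) - 1))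
    {y₁ y₂ : k[X]} (hy₁ : y₁ ∈ Sol (P0 a) (P1 a e) N) (hy₂ : y₂ ∈ Sol (P0 a) (P1 a e) N)
    (hWy : wronskian y₁ y₂ ≠ 0)
    {Fb Gb : k[X]} (hF : Fb ∈ Sol (P0 a) (P1 a e) N) (hG : Gb ∈ Sol (P0 a) (P1 a e) N)
    (hFd : Fb.natDegree ≤ d) (hGd : Gb.natDegree ≤ d)
    (hind : LinearIndependent k ![Fb, Gb]) (hins : wronskian Fb Gb = 0) :
    ∃ m ε : ℕ, 1 ≤ m ∧ m * p ≤ d ∧ ε ≤ 1 ∧
      ∃ V ∈ W4c1limliniiii.ramMaps (d + m * p - 1 + ε) a e,
        W4c1limliniiii.HasRamIdxInf (d + m * p - 1 + ε) V (2 * m * p - 1 + 2 * ε) := by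
  obtain ⟨z₁', z₂', h₁', h₂', hc'⟩ :=
    exists_pair_Pi1 p a e N ha he2 hep _ y₁ y₂ hy₁ hy₂ hWy le_rfl
  obtain ⟨z₁, z₂, h₁, h₂, ⟨c, hc0, hW⟩, hlt, hcong⟩ :=
    exists_pair_degrees p a e N _ z₁' z₂' h₁' h₂' hc' le_rfl
  have hPne := (Pi1_monic a e).ne_zero
  have hW0 : wronskian z₁ z₂ ≠ 0 := by
    rw [hW]; exact mul_ne_zero (C_ne_zero.mpr hc0) hPne
  have hz₁ : z₁ ≠ 0 := by
    intro h; rw [h, wronskian_zero_left] at hW0; exact hW0 rfl
  have hz₂ : z₂ ≠ 0 := by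
    intro h; rw [h, wronskian_zero_right] at hW0; exact hW0 rfl
  obtain ⟨-, hdegW⟩ := natDegree_wronskian_add_one hz₁ hz₂ hcong
  rw [hW, natDegree_C_mul hc0] at hdegW
  have hPd := natDegree_Pi1_add_two a e he2 d hsum
  have hpp : 2 ≤ p := hp.out.two_le
  obtain ⟨hram, hinf⟩ := pencil_props p a e N ha he2 hep h₁ h₂ hc0 hW hlt
  set D₁ := z₁.natDegree with hD₁
  set D₂ := z₂.natDegree with hD₂
  -- D₁ + D₂ + 1 = 2 d
  have hsumD : D₁ + D₂ + 1 = 2 * d := by omega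
  have hD₁d : d ≤ D₁ := by omega
  have hind₁ := indicial_at_inf a e N he2 d hsum hN1 hN2 h₁ hz₁
  rw [← hD₁] at hind₁
  -- s = D₁ + 1 - d
  obtain ⟨s, hs⟩ : ∃ s : ℕ, D₁ + 1 = d + s := ⟨D₁ + 1 - d, by omega⟩
  have hs1 : 1 ≤ s := by omega
  have hcast : (D₁ : k) - d = ((s - 1 : ℕ) : k) := by
    rw [Nat.cast_sub hs1, Nat.cast_one]
    have : ((D₁ + 1 : ℕ) : k) = ((d + s : ℕ) : k) := by rw [hs]
    push_cast at this
    linear_combination this
  have hcast2 : (D₁ : k) - d + 1 = (s : k) := by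
    rw [hcast, Nat.cast_sub hs1, Nat.cast_one]; ring
  rw [hcast2, hcast] at hind₁
  rcases mul_eq_zero.mp hind₁ with h | h
  · -- p ∣ s - 1
    rw [CharP.cast_eq_zero_iff k p] at h
    obtain ⟨m, hm⟩ := h
    have hm1 : 1 ≤ m := by
      by_contra hm0
      have hm0' : m = 0 := by omega
      rw [hm0', mul_zero] at hm
      -- D₁ = d, D₂ + 1 = d
      have hd₁ : z₁.natDegree ≤ d := by omega
      have hd₂ : z₂.natDegree ≤ d := by omega
      exact not_sep p a e N ha he2 hep d hsum h₁ h₂ hc0 hW hd₁ hd₂ hF hG hFd hGd hind hins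
    refine ⟨m, 1, hm1, ?_, le_rfl, Submodule.span k {z₁, z₂}, ?_, ?_⟩
    · have : m * p = p * m := mul_comm _ _
      omega
    · have : d + m * p - 1 + 1 = D₁ := by
        have : m * p = p * m := mul_comm _ _
        have : 1 ≤ m * p := Nat.mul_pos hm1 (by omega)
        omega
      rw [this]; exact hram
    · have h1 : d + m * p - 1 + 1 = D₁ := by
        have : m * p = p * m := mul_comm _ _
        have : 1 ≤ m * p := Nat.mul_pos hm1 (by omega)
        omega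
      have h2 : 2 * m * p - 1 + 2 * 1 = D₁ - D₂ := by
        have : m * p = p * m := mul_comm _ _
        have : 1 ≤ m * p := Nat.mul_pos hm1 (by omega)
        have : 2 * m * p = 2 * (m * p) := by ring
        omega
      rw [h1, h2]; exact hinf
  · -- p ∣ s
    rw [CharP.cast_eq_zero_iff k p] at h
    obtain ⟨m, hm⟩ := h
    have hm1 : 1 ≤ m := by
      by_contra hm0
      have hm0' : m = 0 := by omega
      rw [hm0', mul_zero] at hm
      omega
    refine ⟨m, 0, hm1, ?_, Nat.zero_le _, Submodule.span k {z₁, z₂}, ?_, ?_⟩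
    · have : m * p = p * m := mul_comm _ _
      omega
    · have : d + m * p - 1 + 0 = D₁ := by
        have : m * p = p * m := mul_comm _ _
        have : 1 ≤ m * p := Nat.mul_pos hm1 (by omega)
        omega
      rw [this]; exact hram
    · have h1 : d + m * p - 1 + 0 = D₁ := by
        have : m * p = p * m := mul_comm _ _
        have : 1 ≤ m * p := Nat.mul_pos hm1 (by omega)
        omega
      have h2 : 2 * m * p - 1 + 2 * 0 = D₁ - D₂ := by
        have : m * p = p * m := mul_comm _ _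
        have : 1 ≤ m * p := Nat.mul_pos hm1 (by omega)
        have : 2 * m * p = 2 * (m * p) := by ring
        omega
      rw [h1, h2]; exact hinf

end Groth.Agent.H76.Lim
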