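import Mathlib
import Groth.Agent.H76.LimF
import Groth.Agent.H76.ThreePtE

/-!
# Part A over a field: the Wronskian of a pencil with full ramification
-/

set_option autoImplicit false
universe u

open Polynomial

namespace Groth.Agent.H76.Lim

variable {K : Type u} [Field K] {n : ℕ} (a : Fin n → K) (e : Fin n → ℕ)

/-- The Wronskian of a basis of a pencil in `ramMaps d a e` (with `∑ (e i - 1) = 2d - 2`) is a
non-zero constant times `∏ (X - a i)^(e i - 1)`. -/
theorem wronskian_of_ramMaps (ha : Function.Injective a) (he2 : ∀ i, 2 ≤ e i) (d : ℕ)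
    (hsum : (∑ i, e i) + 2 = 2 * d + n) {F G : K[X]}
    (h : Submodule.span K {F, G} ∈ W4c1limliniiii.ramMaps d a e) :
    ∃ c : K, c ≠ 0 ∧ wronskian F G = C c * Pi1 a e := by
  obtain ⟨⟨hle, -, -, -⟩, ⟨s₁, hs₁, s₂, hs₂, hsep⟩, hram⟩ := h
  have hFV : F ∈ Submodule.span K ({F, G} : Set K[X]) := Submodule.subset_span (by simp)
  have hGV : G ∈ Submodule.span K ({F, G} : Set K[X]) := Submodule.subset_span (by simp)
  have hW0 : wronskian F G ≠ 0 := by
    obtain ⟨α₁, β₁, rfl⟩ := Submodule.mem_span_pair.mp hs₁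
    obtain ⟨α₂, β₂, rfl⟩ := Submodule.mem_span_pair.mp hs₂
    rw [ThreePt.wronskian_comb] at hsep
    intro h0; rw [h0, smul_zero] at hsep; exact hsep rfl
  have hPd := natDegree_Pi1_add_two a e he2 d hsum
  have hd1 : 1 ≤ d := by omega
  have hdvd : ∀ i, (X - C (a i)) ^ (e i - 1) ∣ wronskian F G := by
    intro i
    obtain ⟨⟨s, hs, hs0, hmult⟩, -⟩ := hram i
    have h1 : ThreePt.pw (a i) (e i) ∣ s := by
      unfold ThreePt.pw
      exact (le_rootMultiplicity_iff hs0).mp hmult
    obtain ⟨α, β, rfl⟩ := Submodule.mem_span_pair.mp hs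
    by_cases hα : α = 0
    · have hβ : β ≠ 0 := by
        intro hβ; rw [hα, hβ, zero_smul, zero_smul, add_zero] at hs0; exact hs0 rfl
      have h2 := ThreePt.pw_dvd_wronskian h1 F
      have h3 : wronskian (α • F + β • G) F = (-β) • wronskian F G := by
        have := ThreePt.wronskian_comb F G α β 1 0
        rw [one_smul, zero_smul, add_zero] at this
        rw [this]; congr 1; ring
      rw [h3] at h2
      exact ThreePt.dvd_of_smul_dvd (neg_ne_zero.mpr hβ) h2
    · have h2 := ThreePt.pw_dvd_wronskian h1 G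
      have h3 : wronskian (α • F + β • G) G = α • wronskian F G := by
        have := ThreePt.wronskian_comb F G α β 0 1
        rw [one_smul, zero_smul, zero_add] at this
        rw [this]; congr 1; ring
      rw [h3] at h2
      exact ThreePt.dvd_of_smul_dvd hα h2
  have hdvd' : Pi1 a e ∣ wronskian F G := by
    unfold Pi1
    refine Finset.prod_dvd_of_coprime ?_ fun i _ => hdvd i
    intro i _ j _ hij
    apply IsCoprime.pow
    exact isCoprime_X_sub_C_of_isUnit_sub (sub_ne_zero.mpr (fun h => hij (ha h))).isUnit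
  obtain ⟨γ, hγ⟩ := hdvd'
  have hPne := (Pi1_monic a e).ne_zero
  have hγ0 : γ ≠ 0 := by
    intro h; rw [h, mul_zero] at hγ; exact hW0 hγ
  have h1 := ThreePt.natDegree_wronskian_le d hd1 (hle hFV) (hle hGV) hW0
  have h2 := natDegree_mul hPne hγ0
  rw [← hγ] at h2
  have h3 : γ.natDegree = 0 := by omega
  rw [eq_C_of_natDegree_eq_zero h3] at hγ hγ0
  refine ⟨γ.coeff 0, fun h => hγ0 (by rw [h, C_0]), ?_⟩
  rw [hγ]; ring

/-- The zeroth-order coefficient of the operator is determined at infinity by a solution of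
degree exactly `d`. -/
theorem degree_N (he2 : ∀ i, 2 ≤ e i) (d : ℕ) (hsum : (∑ i, e i) + 2 = 2 * d + n)
    {N s : K[X]} (hs : s ∈ Sol (P0 a) (P1 a e) N) (hs0 : s ≠ 0) (hsd : s.natDegree = d) :
    (X ^ 2 * N).natDegree ≤ n ∧ (X ^ 2 * N).coeff n = (d : K) * ((d : K) - 1) := by
  rw [mem_Sol] at hs
  have h1 : P0 a * (X ^ 2 * derivative (derivative s)) + (-(X * P1 a e)) * (X * derivative s)
      + (X ^ 2 * N) * s = 0 := by
    have : X ^ 2 * Lop (P0 a) (P1 a e) N s = 0 := by rw [hs, mul_zero]
    rw [← this]; unfold Lop; ring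
  have hN1 : (X ^ 2 * N).natDegree ≤ n := by
    by_cases h0 : X ^ 2 * N = 0
    · rw [h0, natDegree_zero]; exact Nat.zero_le _
    have h2 : (X ^ 2 * N) * s = (X * P1 a e) * (X * derivative s)
        - P0 a * (X ^ 2 * derivative (derivative s)) := by linear_combination h1
    have h3 : ((X ^ 2 * N) * s).natDegree ≤ n + d := by
      rw [h2]
      refine (natDegree_sub_le _ _).trans (max_le ?_ ?_)
      · refine natDegree_mul_le.trans (Nat.add_le_add (natDegree_X_mul_P1_le a e) ?_)
        rw [← hsd]; exact natDegree_X_mul_derivative_le s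
      · refine natDegree_mul_le.trans (Nat.add_le_add (natDegree_P0 a).le ?_)
        rw [← hsd]; exact natDegree_X_sq_mul_derivative2_le s
    rw [natDegree_mul h0 hs0, hsd] at h3
    omega
  refine ⟨hN1, ?_⟩
  have h2 := indicial_inf (n := n) (natDegree_P0 a).le
    ((natDegree_neg _).le.trans (natDegree_X_mul_P1_le a e)) hN1 h1
  have h3 : (P0 a).coeff n = 1 := by
    have := (P0_monic a).coeff_natDegree
    rwa [natDegree_P0] at this
  have h4 : ∑ i, (((e i - 1 : ℕ) : K)) = 2 * (d : K) - 2 := by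
    rw [← Nat.cast_sum]
    have := sum_sub_one e he2 d hsum
    have h5 : ((∑ i, (e i - 1) : ℕ) : K) + 2 = 2 * (d : K) := by
      exact_mod_cast congrArg (Nat.cast : ℕ → K) this
    linear_combination h5
  rw [h3, coeff_neg, coeff_X_mul_P1, h4, hsd] at h2
  have h6 := (mul_eq_zero.mp h2).resolve_right (by rw [← hsd]; exact leadingCoeff_ne_zero.mpr hs0)
  linear_combination h6

end Groth.Agent.H76.Lim
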