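import Mathlib
import Groth.Agent.H76.LimG

/-!
# Part A: the operator over the discrete valuation ring
-/

set_option autoImplicit false
universe u

open Polynomial

namespace Groth.Agent.H76.Lim

variable {A : Type u} [CommRing A] [IsDomain A] [IsDiscreteValuationRing A]

/-- Divisibility by a uniformizer is vanishing of the reduction. -/
theorem C_dvd_iff_map_residue_eq_zero {ϖ : A} (hϖ : Irreducible ϖ) (y : A[X]) :
    C ϖ ∣ y ↔ y.map (IsLocalRing.residue A) = 0 := by
  rw [C_dvd_iff_dvd_coeff, Polynomial.ext_iff]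
  have hmax := (IsDiscreteValuationRing.irreducible_iff_uniformizer ϖ).mp hϖ
  refine forall_congr' fun i => ?_
  rw [coeff_map, coeff_zero, IsLocalRing.residue_eq_zero_iff, hmax, Ideal.mem_span_singleton]

variable {K : Type u} [Field K] [Algebra A K] [IsFractionRing A K]
variable {n : ℕ} (P : Fin n → A) (e : Fin n → ℕ)

/-- Part A: the Wronskian is `c ∏ (X - P i)^(e i - 1)` and `F, G` solve a second order equation
with integral coefficients. -/
theorem partA (hP : Function.Injective P) (he2 : ∀ i, 2 ≤ e i) (d : ℕ)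
    (hsum : (∑ i, e i) + 2 = 2 * d + n) {F G : A[X]}
    (hFres : F.map (IsLocalRing.residue A) ≠ 0)
    (hcop : IsCoprime (F.map (algebraMap A K)) (G.map (algebraMap A K)))
    (hgen : Submodule.span K {F.map (algebraMap A K), G.map (algebraMap A K)} ∈
      W4c1limliniiii.ramMaps d (fun i => algebraMap A K (P i)) e) :
    ∃ (c : A) (N : A[X]), c ≠ 0 ∧ wronskian F G = C c * Pi1 P e ∧
      Lop (P0 P) (P1 P e) N F = 0 ∧ Lop (P0 P) (P1 P e) N G = 0 ∧
      (X ^ 2 * N).natDegree ≤ n ∧ (X ^ 2 * N).coeff n = (d : A) * ((d : A) - 1) := by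
  set φ := algebraMap A K with hφ
  have hinj : Function.Injective φ := IsFractionRing.injective A K
  have hPK : Function.Injective (fun i => φ (P i)) := hinj.comp hP
  -- Step 1: the Wronskian
  obtain ⟨cK, hcK0, hWK⟩ := wronskian_of_ramMaps (fun i => φ (P i)) e hPK he2 d hsum hgen
  rw [← wronskian_map, ← Pi1_map] at hWK
  set c : A := (wronskian F G).coeff (Pi1 P e).natDegree with hc
  have hφc : φ c = cK := by
    rw [hc, ← coeff_map, hWK, coeff_C_mul]
    have h1 : ((Pi1 P e).map φ).natDegree = (Pi1 P e).natDegree := (Pi1_monic P e).natDegree_map φ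
    have h2 := ((Pi1_monic P e).map φ).coeff_natDegree
    rw [h1] at h2
    rw [h2, mul_one]
  have hW : wronskian F G = C c * Pi1 P e := by
    apply Polynomial.map_injective φ hinj
    rw [hWK, Polynomial.map_mul, map_C, hφc]
  have hc0 : c ≠ 0 := by
    intro h; rw [h, map_zero] at hφc; exact hcK0 hφc.symm
  -- Step 2: the third order identities
  set Q : A[X] := derivative F * derivative (derivative G) - derivative (derivative F) * derivative G
    with hQ
  have IF : wronskian F G * derivative (derivative F) - derivative (wronskian F G) * derivative F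
      + Q * F = 0 := by
    unfold wronskian; rw [hQ]; simp only [derivative_sub, derivative_mul]; ring
  have IG : wronskian F G * derivative (derivative G) - derivative (wronskian F G) * derivative G
      + Q * G = 0 := by
    unfold wronskian; rw [hQ]; simp only [derivative_sub, derivative_mul]; ring
  have hdW : derivative (wronskian F G) = C c * (P1 P e * Pi2 P e) := by
    rw [hW, derivative_C_mul, derivative_Pi1 P e he2]
  have hW' : wronskian F G = C c * (P0 P * Pi2 P e) := by rw [hW, Pi1_eq P e he2]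
  set RF : A[X] := C c * (P0 P * derivative (derivative F) - P1 P e * derivative F) with hRF
  set RG : A[X] := C c * (P0 P * derivative (derivative G) - P1 P e * derivative G) with hRG
  have IF' : Pi2 P e * RF + Q * F = 0 := by
    rw [hdW, hW'] at IF; rw [hRF]; linear_combination IF
  have IG' : Pi2 P e * RG + Q * G = 0 := by
    rw [hdW, hW'] at IG; rw [hRG]; linear_combination IG
  -- Step 3: Pi2 ∣ Q
  have hdvd : Pi2 P e ∣ Q := by
    rw [← map_dvd_map φ hinj (Pi2_monic P e)]
    obtain ⟨u, v, huv⟩ := hcop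
    have h1 : Q.map φ = (Pi2 P e).map φ * (-(u * RF.map φ + v * RG.map φ)) := by
      have e1 := congrArg (Polynomial.map φ) IF'
      have e2 := congrArg (Polynomial.map φ) IG'
      simp only [Polynomial.map_add, Polynomial.map_mul, Polynomial.map_zero] at e1 e2
      linear_combination (-(Q.map φ)) * huv + u * e1 + v * e2
    exact ⟨_, h1⟩
  obtain ⟨Q₁, hQ₁⟩ := hdvd
  have hPi2ne := (Pi2_monic P e).ne_zero
  have EF : RF + Q₁ * F = 0 := by
    have : Pi2 P e * (RF + Q₁ * F) = 0 := by rw [hQ₁] at IF'; linear_combination IF'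
    exact (mul_eq_zero.mp this).resolve_left hPi2ne
  have EG : RG + Q₁ * G = 0 := by
    have : Pi2 P e * (RG + Q₁ * G) = 0 := by rw [hQ₁] at IG'; linear_combination IG'
    exact (mul_eq_zero.mp this).resolve_left hPi2ne
  -- Step 5: C c ∣ Q₁
  obtain ⟨ϖ, hϖ⟩ := IsDiscreteValuationRing.exists_irreducible A
  obtain ⟨r, u, hcu⟩ := IsDiscreteValuationRing.eq_unit_mul_pow_irreducible hc0 hϖ
  have hprime : Prime (C ϖ : A[X]) :=
    prime_C_iff.mpr (UniqueFactorizationMonoid.irreducible_iff_prime.mp hϖ)
  have hndvd : ¬ (C ϖ : A[X]) ∣ F := by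
    rw [C_dvd_iff_map_residue_eq_zero hϖ]; exact hFres
  have hpow : (C ϖ : A[X]) ^ r ∣ Q₁ * F := by
    have : Q₁ * F = -RF := by linear_combination EF
    rw [this, hRF, hcu, C_mul, C_pow]
    exact ⟨-(C (u : A) * (P0 P * derivative (derivative F) - P1 P e * derivative F)), by ring⟩
  obtain ⟨Q₂, hQ₂⟩ := hprime.pow_dvd_of_dvd_mul_right r hndvd hpow
  set N : A[X] := C ((u⁻¹ : Aˣ) : A) * Q₂ with hN
  have hcN : C c * N = Q₁ := by
    rw [hN, hQ₂, hcu, C_mul, C_pow]
    have : (C (u : A) : A[X]) * C ((u⁻¹ : Aˣ) : A) = 1 := by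
      rw [← C_mul, Units.mul_inv, C_1]
    linear_combination (C ϖ ^ r * Q₂) * this
  have hCc : (C c : A[X]) ≠ 0 := C_ne_zero.mpr hc0
  have hLF : Lop (P0 P) (P1 P e) N F = 0 := by
    have : C c * Lop (P0 P) (P1 P e) N F = 0 := by
      unfold Lop
      rw [hRF] at EF
      linear_combination EF + F * hcN
    exact (mul_eq_zero.mp this).resolve_left hCc
  have hLG : Lop (P0 P) (P1 P e) N G = 0 := by
    have : C c * Lop (P0 P) (P1 P e) N G = 0 := by
      unfold Lop
      rw [hRG] at EG
      linear_combination EG + G * hcN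
    exact (mul_eq_zero.mp this).resolve_left hCc
  refine ⟨c, N, hc0, hW, hLF, hLG, ?_⟩
  -- Step 6: degree and leading coefficient of N, via a member of degree d over K
  obtain ⟨⟨-, -, ⟨s, hsV, hsd⟩, -⟩, -, -⟩ := hgen
  have hd1 : 1 ≤ d := by
    have := sum_sub_one e he2 d hsum; omega
  have hs0 : s ≠ 0 := by
    intro h; rw [h, natDegree_zero] at hsd; omega
  have hsSol : s ∈ Sol (P0 (fun i => φ (P i))) (P1 (fun i => φ (P i)) e) (N.map φ) := by
    have hFK : F.map φ ∈ Sol (P0 (fun i => φ (P i))) (P1 (fun i => φ (P i)) e) (N.map φ) := by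
      rw [mem_Sol, ← P0_map, ← P1_map, ← Lop_map, hLF, Polynomial.map_zero]
    have hGK : G.map φ ∈ Sol (P0 (fun i => φ (P i))) (P1 (fun i => φ (P i)) e) (N.map φ) := by
      rw [mem_Sol, ← P0_map, ← P1_map, ← Lop_map, hLG, Polynomial.map_zero]
    have : Submodule.span K {F.map φ, G.map φ} ≤
        Sol (P0 (fun i => φ (P i))) (P1 (fun i => φ (P i)) e) (N.map φ) := by
      rw [Submodule.span_le]; rintro y (rfl | rfl)
      · exact hFK
      · exact hGK
    exact this hsV
  obtain ⟨h1, h2⟩ := degree_N (fun i => φ (P i)) e he2 d hsum hsSol hs0 hsd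
  have hmap : (X ^ 2 * N.map φ) = (X ^ 2 * N).map φ := by
    simp only [Polynomial.map_mul, Polynomial.map_pow, map_X]
  rw [hmap] at h1 h2
  rw [natDegree_map_eq_of_injective hinj] at h1
  refine ⟨h1, ?_⟩
  apply hinj
  rw [← coeff_map, h2]
  simp

end Groth.Agent.H76.Lim
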