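import Mathlib
import Groth.Agent.H76.LimH

/-!
# Part B (valuation descent) and the inseparable limit theorem
-/

set_option autoImplicit false
universe u

open Polynomial

namespace Groth.Agent.H76.Lim

variable {A : Type u} [CommRing A] [IsDomain A] [IsDiscreteValuationRing A]
variable (p : ℕ) [hp : Fact p.Prime] [CharP A p]

include hp in
theorem natCast_p_residue : ((p : ℕ) : IsLocalRing.ResidueField A) = 0 := by
  have : ((p : ℕ) : A) = 0 := CharP.cast_eq_zero A p
  have h2 := congrArg (IsLocalRing.residue A) this
  rwa [map_natCast, map_zero] at h2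

include hp in
theorem charP_residue : CharP (IsLocalRing.ResidueField A) p :=
  (CharP.charP_iff_prime_eq_zero hp.out).mpr (natCast_p_residue p)

variable {k₀ : Type u} [Field k₀] [Algebra k₀ A]

include hp in
/-- Part B: starting from two solutions with non-zero Wronskian, the valuation of the Wronskian
can be lowered until its reduction is non-zero. -/
theorem partB (hcoef : Function.Bijective (algebraMap k₀ (IsLocalRing.ResidueField A)))
    (p₀ p₁ N : A[X]) {ϖ : A} (hϖ : Irreducible ϖ) :
    ∀ (j : ℕ) (y₁ y₂ ω : A[X]), Lop p₀ p₁ N y₁ = 0 → Lop p₀ p₁ N y₂ = 0 →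
      wronskian y₁ y₂ = C (ϖ ^ j) * ω → ω.map (IsLocalRing.residue A) ≠ 0 →
      ∃ z₁ z₂ : A[X], Lop p₀ p₁ N z₁ = 0 ∧ Lop p₀ p₁ N z₂ = 0 ∧
        wronskian (z₁.map (IsLocalRing.residue A)) (z₂.map (IsLocalRing.residue A)) ≠ 0 := by
  set res := IsLocalRing.residue A with hres
  have hϖres : res ϖ = 0 := by
    rw [hres, IsLocalRing.residue_eq_zero_iff, (IsDiscreteValuationRing.irreducible_iff_uniformizer ϖ).mp hϖ]
    exact Ideal.mem_span_singleton_self ϖ
  have hCϖ : (C ϖ : A[X]) ≠ 0 := C_ne_zero.mpr hϖ.ne_zero
  -- the section of the residue map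
  set eq : k₀ ≃+* IsLocalRing.ResidueField A := RingEquiv.ofBijective _ hcoef with heq
  set σ : IsLocalRing.ResidueField A →+* A := (algebraMap k₀ A).comp eq.symm.toRingHom with hσ
  have hσres : res.comp σ = RingHom.id _ := by
    ext x
    simp only [hσ, RingHom.comp_apply, RingHom.id_apply, RingEquiv.toRingHom_eq_coe,
      RingHom.coe_coe]
    have h1 : res (algebraMap k₀ A (eq.symm x)) = algebraMap k₀ (IsLocalRing.ResidueField A)
        (eq.symm x) := by
      rw [IsScalarTower.algebraMap_apply k₀ A (IsLocalRing.ResidueField A),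
        IsLocalRing.ResidueField.algebraMap_eq]
    rw [h1]
    exact eq.apply_symm_apply x
  intro j
  induction j with
  | zero =>
    intro y₁ y₂ ω h₁ h₂ hW hω
    refine ⟨y₁, y₂, h₁, h₂, ?_⟩
    rw [← wronskian_map, hW, pow_zero, C_1, one_mul]
    exact hω
  | succ j ih =>
    intro y₁ y₂ ω h₁ h₂ hW hω
    have hWbar : wronskian (y₁.map res) (y₂.map res) = 0 := by
      rw [← wronskian_map, hW, Polynomial.map_mul, map_C, map_pow, hϖres,
        zero_pow (Nat.succ_ne_zero j), C_0, zero_mul]
    by_cases h2 : y₂.map res = 0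
    · obtain ⟨y₃, hy₃⟩ := (C_dvd_iff_map_residue_eq_zero hϖ y₂).mpr h2
      have h₃ : Lop p₀ p₁ N y₃ = 0 := by
        rw [hy₃, Lop_C_mul] at h₂
        exact (mul_eq_zero.mp h₂).resolve_left hCϖ
      have hW₃ : wronskian y₁ y₃ = C (ϖ ^ j) * ω := by
        rw [hy₃, wronskian_mul_right_of_derivative_eq_zero derivative_C, pow_succ, C_mul] at hW
        have : C ϖ * (wronskian y₁ y₃ - C (ϖ ^ j) * ω) = 0 := by linear_combination hW
        exact sub_eq_zero.mp ((mul_eq_zero.mp this).resolve_left hCϖ)
      exact ih y₁ y₃ ω h₁ h₃ hW₃ hω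
    · set yb₁ := y₁.map res with hyb₁
      set yb₂ := y₂.map res with hyb₂
      have hpk : ((p : ℕ) : (IsLocalRing.ResidueField A)[X]) = 0 := by
        rw [← C_eq_natCast, natCast_p_residue p, C_0]
      set ab : (IsLocalRing.ResidueField A)[X] := yb₂ ^ p with hab
      set bb : (IsLocalRing.ResidueField A)[X] := yb₁ * yb₂ ^ (p - 1) with hbb
      have hab' : derivative ab = 0 := by
        rw [hab, derivative_pow, C_eq_natCast, hpk, zero_mul, zero_mul]
      have hrel : ab * yb₁ = bb * yb₂ := by
        rw [hab, hbb]
        have : p = (p - 1) + 1 := by have := hp.out.one_lt; omega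
        nth_rewrite 1 [this]
        rw [pow_succ]; ring
      have hbb' : derivative bb = 0 := by
        have h3 := congrArg derivative hrel
        rw [derivative_mul, derivative_mul, hab', zero_mul, zero_add] at h3
        have h4 : yb₂ * derivative bb = 0 := by
          have h5 : yb₂ * derivative bb = ab * derivative yb₁ - bb * derivative yb₂ := by
            linear_combination -h3
          rw [h5, hab, hbb]
          have : p = (p - 1) + 1 := by have := hp.out.one_lt; omega
          nth_rewrite 1 [this]
          rw [pow_succ]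
          unfold wronskian at hWbar
          linear_combination (-(yb₂ ^ (p - 1))) * hWbar
        exact (mul_eq_zero.mp h4).resolve_left h2
      set a : A[X] := ab.map σ with ha
      set b : A[X] := bb.map σ with hb
      have ha' : derivative a = 0 := by rw [ha, derivative_map, hab', Polynomial.map_zero]
      have hb' : derivative b = 0 := by rw [hb, derivative_map, hbb', Polynomial.map_zero]
      have hares : a.map res = ab := by
        rw [ha, Polynomial.map_map, hσres, Polynomial.map_id]
      have hbres : b.map res = bb := by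
        rw [hb, Polynomial.map_map, hσres, Polynomial.map_id]
      have hzero : (a * y₁ - b * y₂).map res = 0 := by
        rw [Polynomial.map_sub, Polynomial.map_mul, Polynomial.map_mul, hares, hbres, hrel,
          sub_self]
      obtain ⟨y₃, hy₃⟩ := (C_dvd_iff_map_residue_eq_zero hϖ _).mpr hzero
      have h₃ : Lop p₀ p₁ N y₃ = 0 := by
        have : C ϖ * Lop p₀ p₁ N y₃ = 0 := by
          rw [← Lop_C_mul, ← hy₃, Lop_sub, Lop_mul_of_derivative_eq_zero _ _ _ ha',
            Lop_mul_of_derivative_eq_zero _ _ _ hb', h₁, h₂, mul_zero, mul_zero, sub_zero]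
        exact (mul_eq_zero.mp this).resolve_left hCϖ
      have hW₃ : wronskian y₃ y₂ = C (ϖ ^ j) * (a * ω) := by
        have h5 : C ϖ * wronskian y₃ y₂ = a * wronskian y₁ y₂ := by
          rw [← wronskian_mul_left_of_derivative_eq_zero derivative_C, ← hy₃, wronskian_sub_left,
            wronskian_mul_left_of_derivative_eq_zero ha',
            wronskian_mul_left_of_derivative_eq_zero hb', wronskian_self_eq_zero, mul_zero,
            sub_zero]
        rw [hW, pow_succ, C_mul] at h5
        have : C ϖ * (wronskian y₃ y₂ - C (ϖ ^ j) * (a * ω)) = 0 := by linear_combination h5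
        exact sub_eq_zero.mp ((mul_eq_zero.mp this).resolve_left hCϖ)
      refine ih y₃ y₂ (a * ω) h₃ h₂ hW₃ ?_
      rw [Polynomial.map_mul, hares, hab]
      exact mul_ne_zero (pow_ne_zero _ h2) hω

end Groth.Agent.H76.Lim
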