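import Mathlib
import Groth.Agent.H76.LimI

/-!
# The inseparable limit theorem (S13935)
-/

set_option autoImplicit false
universe u

open Polynomial

namespace Groth.Agent.H76.Lim

theorem main
    (p : ℕ) [Fact p.Prime] (k₀ : Type u) [Field k₀]
    (A : Type u) [CommRing A] [IsDomain A] [IsDiscreteValuationRing A] [CharP A p] [Algebra k₀ A]
    (hcoef : Function.Bijective (algebraMap k₀ (IsLocalRing.ResidueField A)))
    [IsAlgClosed (IsLocalRing.ResidueField A)]
    (K : Type u) [Field K] [Algebra A K] [IsFractionRing A K]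
    (d n : ℕ) (e : Fin n → ℕ) (he : W4c1limliniiii.Admissible p d e) (hlt : ∀ i, e i < p)
    (P : Fin n → A) (F G : A[X]) (hF : F.natDegree ≤ d) (hG : G.natDegree ≤ d)
    (hind : LinearIndependent (IsLocalRing.ResidueField A)
      ![F.map (IsLocalRing.residue A), G.map (IsLocalRing.residue A)])
    (hcop : IsCoprime (F.map (algebraMap A K)) (G.map (algebraMap A K)))
    (hgen : Submodule.span K {F.map (algebraMap A K), G.map (algebraMap A K)} ∈
      W4c1limliniiii.ramMaps d (fun i => algebraMap A K (P i)) e)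
    (hinsep : ¬ W4c1limliniiii.IsSeparable
      (Submodule.span (IsLocalRing.ResidueField A)
        {F.map (IsLocalRing.residue A), G.map (IsLocalRing.residue A)}))
    (hdist : Function.Injective (fun i => IsLocalRing.residue A (P i))) :
    ∃ m ε : ℕ, 1 ≤ m ∧ m * p ≤ d ∧ ε ≤ 1 ∧
      ∃ V ∈ W4c1limliniiii.ramMaps (d + m * p - 1 + ε) (fun i => IsLocalRing.residue A (P i)) e,
        W4c1limliniiii.HasRamIdxInf (d + m * p - 1 + ε) V (2 * m * p - 1 + 2 * ε) := by
  set res := IsLocalRing.residue A with hres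
  obtain ⟨he1, hsum⟩ := he
  have he2 : ∀ i, 2 ≤ e i := fun i => (he1 i).1
  have hP : Function.Injective P := by
    intro i j hij
    exact hdist (by simp only [hij])
  have hFres : F.map res ≠ 0 := hind.ne_zero 0
  obtain ⟨c, N, hc0, hW, hLF, hLG, hN1, hN2⟩ :=
    partA (K := K) P e hP he2 d hsum hFres hcop hgen
  obtain ⟨ϖ, hϖ⟩ := IsDiscreteValuationRing.exists_irreducible A
  obtain ⟨r, u, hcu⟩ := IsDiscreteValuationRing.eq_unit_mul_pow_irreducible hc0 hϖ
  have hW' : wronskian F G = C (ϖ ^ r) * (C (u : A) * Pi1 P e) := by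
    rw [hW, hcu, C_mul]; ring
  have hω : (C (u : A) * Pi1 P e).map res ≠ 0 := by
    rw [Polynomial.map_mul, map_C]
    refine mul_ne_zero (C_ne_zero.mpr ?_) ((Pi1_monic P e).map res).ne_zero
    rw [hres, Ne, IsLocalRing.residue_eq_zero_iff, IsLocalRing.mem_maximalIdeal, mem_nonunits_iff,
      not_not]
    exact u.isUnit
  obtain ⟨z₁, z₂, hz₁, hz₂, hWz⟩ :=
    partB p hcoef (P0 P) (P1 P e) N hϖ r F G _ hLF hLG hW' hω
  haveI : CharP (IsLocalRing.ResidueField A) p := charP_residue p
  have toSol : ∀ y : A[X], Lop (P0 P) (P1 P e) N y = 0 →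
      y.map res ∈ Sol (P0 (fun i => res (P i))) (P1 (fun i => res (P i)) e) (N.map res) := by
    intro y hy
    rw [mem_Sol, ← P0_map, ← P1_map, ← Lop_map, hy, Polynomial.map_zero]
  have hN1' : (X ^ 2 * N.map res).natDegree ≤ n := by
    have : X ^ 2 * N.map res = (X ^ 2 * N).map res := by
      simp only [Polynomial.map_mul, Polynomial.map_pow, map_X]
    rw [this]
    exact natDegree_map_le.trans hN1
  have hN2' : (X ^ 2 * N.map res).coeff n =
      (d : IsLocalRing.ResidueField A) * ((d : IsLocalRing.ResidueField A) - 1) := by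
    have : X ^ 2 * N.map res = (X ^ 2 * N).map res := by
      simp only [Polynomial.map_mul, Polynomial.map_pow, map_X]
    rw [this, coeff_map, hN2]
    simp
  have hins : wronskian (F.map res) (G.map res) = 0 := by
    by_contra h
    exact hinsep ⟨F.map res, Submodule.subset_span (by simp), G.map res,
      Submodule.subset_span (by simp), h⟩
  exact partC p (fun i => res (P i)) e (N.map res) hdist he2 hlt d hsum hN1' hN2'
    (toSol z₁ hz₁) (toSol z₂ hz₂) hWz (toSol F hLF) (toSol G hLG)
    (natDegree_map_le.trans hF) (natDegree_map_le.trans hG) hind hins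

end Groth.Agent.H76.Lim
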