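import Mathlib
import Groth.Agent.H76.LimE
import Groth.Agent.S19560
import Groth.Agent.S19561

/-!
# Wild ramification at infinity: maps come in infinite families (S13920)
-/

set_option autoImplicit false
universe u

open Polynomial

namespace Groth.Agent.H76.Lim

variable {k : Type u} [Field k]

theorem rootMultiplicity_pow_mul {a : k} {b : ℕ} {u : k[X]} (hu : u.eval a ≠ 0) :
    rootMultiplicity a ((X - C a) ^ b * u) = b := by
  have hu0 : u ≠ 0 := by
    intro h; rw [h, eval_zero] at hu; exact hu rfl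
  rw [rootMultiplicity_mul (mul_ne_zero (pow_ne_zero _ (X_sub_C_ne_zero a)) hu0),
    rootMultiplicity_X_sub_C_pow, rootMultiplicity_eq_zero hu, add_zero]

/-- Converse of S19560: a tame ramification index is read off from the Wronskian. -/
theorem rootMultiplicity_wronskian_of_hasRamIdx (p : ℕ) [CharP k p] {F G : k[X]}
    (hW : wronskian F G ≠ 0) {a : k} {ε : ℕ} (hε1 : 1 ≤ ε) (hεp : ε < p)
    (hbp : ∃ s ∈ Submodule.span k ({F, G} : Set k[X]), s.eval a ≠ 0)
    (hram : W4c1limliniiii.HasRamIdx (Submodule.span k {F, G}) a ε) :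
    (wronskian F G).rootMultiplicity a + 1 = ε := by
  obtain ⟨w₁, w₂, b₁, b₂, u₁, u₂, hA⟩ := exists_adapted a hW
  obtain ⟨⟨s, hs, hs0, hsε⟩, hmax⟩ := hram
  have hw₁V : w₁ ∈ Submodule.span k ({F, G} : Set k[X]) := by
    rw [← hA.span_eq]; exact Submodule.subset_span (by simp)
  have hw₂V : w₂ ∈ Submodule.span k ({F, G} : Set k[X]) := by
    rw [← hA.span_eq]; exact Submodule.subset_span (by simp)
  have hu₁0 : u₁ ≠ 0 := by
    intro h; have := hA.hu₁; rw [h, eval_zero] at this; exact this rfl
  have hu₂0 : u₂ ≠ 0 := by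
    intro h; have := hA.hu₂; rw [h, eval_zero] at this; exact this rfl
  have hw₂0 : w₂ ≠ 0 := by
    rw [hA.h₂]; exact mul_ne_zero (pow_ne_zero _ (X_sub_C_ne_zero a)) hu₂0
  have hlt := hA.lt
  have hw₂x : w₂.eval a = 0 := by
    rw [hA.h₂, eval_mul, eval_pow, eval_sub, eval_X, eval_C, sub_self, zero_pow (by omega),
      zero_mul]
  -- b₁ = 0
  have hb₁ : b₁ = 0 := by
    by_contra hne
    obtain ⟨t, ht, hta⟩ := hbp
    rw [← hA.span_eq] at ht
    obtain ⟨α, β, rfl⟩ := Submodule.mem_span_pair.mp ht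
    apply hta
    have hw₁x : w₁.eval a = 0 := by
      rw [hA.h₁, eval_mul, eval_pow, eval_sub, eval_X, eval_C, sub_self, zero_pow hne, zero_mul]
    rw [eval_add, eval_smul, eval_smul, hw₁x, hw₂x, smul_zero, smul_zero, add_zero]
  have hw₁x : w₁.eval a ≠ 0 := by
    rw [hA.h₁, hb₁, pow_zero, one_mul]; exact hA.hu₁
  -- b₂ = ε
  have hb₂le : b₂ ≤ ε := by
    have := hmax w₂ hw₂V hw₂0
    rwa [hA.h₂, rootMultiplicity_pow_mul hA.hu₂] at this
  have hb₂ge : ε ≤ b₂ := by
    rw [← hA.span_eq] at hs
    obtain ⟨α, β, rfl⟩ := Submodule.mem_span_pair.mp hs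
    by_cases hα : α = 0
    · rw [hα, zero_smul, zero_add] at hs0 hsε
      have hβ : β ≠ 0 := by
        intro h; rw [h, zero_smul] at hs0; exact hs0 rfl
      have h1 : β • w₂ = (X - C a) ^ b₂ * (C β * u₂) := by
        rw [smul_eq_C_mul, hA.h₂]; ring
      have h2 : (C β * u₂).eval a ≠ 0 := by
        rw [eval_mul, eval_C]; exact mul_ne_zero hβ hA.hu₂
      rwa [h1, rootMultiplicity_pow_mul h2] at hsε
    · exfalso
      have : ¬ IsRoot (α • w₁ + β • w₂) a := by
        rw [IsRoot, eval_add, eval_smul, eval_smul, hw₂x, smul_zero, add_zero, smul_eq_mul]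
        exact mul_ne_zero hα hw₁x
      rw [rootMultiplicity_eq_zero this] at hsε
      omega
  have hb₂ : b₂ = ε := le_antisymm hb₂le hb₂ge
  -- order of the Wronskian
  obtain ⟨c, hc, hwr⟩ := hA.wr
  have ho := wronskian_ord a b₁ b₂ u₁ u₂
  rw [← hA.h₁, ← hA.h₂, hb₁, hb₂, zero_add, hwr] at ho
  set B : k[X] := (C (ε : k) - C ((0 : ℕ) : k)) * (u₁ * u₂) + (X - C a) * wronskian u₁ u₂ with hB
  have hBa : B.eval a ≠ 0 := by
    rw [hB]
    simp only [eval_add, eval_mul, eval_sub, eval_X, eval_C, sub_self, zero_mul, add_zero,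
      Nat.cast_zero, sub_zero]
    refine mul_ne_zero ?_ (mul_ne_zero hA.hu₁ hA.hu₂)
    intro h
    rw [CharP.cast_eq_zero_iff k p] at h
    have := Nat.le_of_dvd hε1 h
    omega
  have h1 : wronskian F G = (X - C a) ^ (ε - 1) * (C c⁻¹ * B) := by
    have h2 : (X - C a) * (C c * wronskian F G) = (X - C a) * ((X - C a) ^ (ε - 1) * B) := by
      rw [ho, ← mul_assoc, ← pow_succ']
      congr 2; omega
    have h3 := mul_left_cancel₀ (X_sub_C_ne_zero a) h2
    have h4 : (C c⁻¹ : k[X]) * C c = 1 := by rw [← C_mul, inv_mul_cancel₀ hc, C_1]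
    calc wronskian F G = (C c⁻¹ * C c) * wronskian F G := by rw [h4, one_mul]
      _ = C c⁻¹ * (C c * wronskian F G) := by ring
      _ = _ := by rw [h3]; ring
  have h5 : (C c⁻¹ * B).eval a ≠ 0 := by
    rw [eval_mul, eval_C]; exact mul_ne_zero (inv_ne_zero hc) hBa
  rw [h1, rootMultiplicity_pow_mul h5]
  omega

/-- S13920. -/
theorem mainK [IsAlgClosed k] (p : ℕ) [Fact p.Prime] [CharP k p]
    (d n : ℕ) (P : Fin n → k) (e : Fin n → ℕ) (E : ℕ)
    (he : W4c1limliniiii.Admissible p d (Fin.cons E e : Fin (n + 1) → ℕ))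
    (hlt : ∀ i, e i < p) (hE : p < E) :
    {V : Submodule k k[X] | V ∈ W4c1limliniiii.ramMaps d P e ∧
        W4c1limliniiii.HasRamIdxInf d V E} = ∅ ∨
      {V : Submodule k k[X] | V ∈ W4c1limliniiii.ramMaps d P e ∧
        W4c1limliniiii.HasRamIdxInf d V E}.Infinite := by
  rcases Set.eq_empty_or_nonempty {V : Submodule k k[X] | V ∈ W4c1limliniiii.ramMaps d P e ∧
        W4c1limliniiii.HasRamIdxInf d V E} with h | ⟨V, hV⟩
  · exact Or.inl h
  right
  obtain ⟨⟨hpen, hsep, hram⟩, ⟨G, hGV, hG0, hGdeg⟩, hinfmax⟩ := hV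
  obtain ⟨hle, hfr, ⟨F, hFV, hFdeg⟩, hbp⟩ := hpen
  have hp2 : 2 ≤ p := (Fact.out : p.Prime).two_le
  have hEd : E ≤ d := by
    have := (he.1 0).2.1
    simpa using this
  have he2 : ∀ i, 2 ≤ e i := by
    intro i
    have := (he.1 i.succ).1
    simpa using this
  have hGd : G.natDegree + E = d := by
    have := hinfmax G hGV hG0
    omega
  have hF0 : F ≠ 0 := by
    intro h; rw [h, natDegree_zero] at hFdeg; omega
  -- F, G independent, span V
  have hli : LinearIndependent k ![F, G] := by
    rw [LinearIndependent.pair_iff]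
    intro s t hst
    by_cases hs : s = 0
    · rw [hs, zero_smul, zero_add] at hst
      rcases smul_eq_zero.mp hst with h | h
      · exact ⟨hs, h⟩
      · exact absurd h hG0
    · exfalso
      have h1 : (s • F).natDegree = d := by rw [smul_eq_C_mul, natDegree_C_mul hs, hFdeg]
      have h2 : (t • G).natDegree < (s • F).natDegree := by
        rw [h1]; exact lt_of_le_of_lt (natDegree_smul_le t G) (by omega)
      have h3 := natDegree_add_eq_left_of_natDegree_lt h2
      rw [hst, natDegree_zero, h1] at h3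
      omega
  haveI : Module.Finite k V := Module.finite_of_finrank_pos (by rw [hfr]; norm_num)
  have hspan : Submodule.span k ({F, G} : Set k[X]) = V := by
    apply Submodule.eq_of_le_of_finrank_eq
    · rw [Submodule.span_le]; rintro y (rfl | rfl)
      · exact hFV
      · exact hGV
    · rw [ThreePt.finrank_span_pair hli, hfr]
  have hW : wronskian F G ≠ 0 := by
    obtain ⟨s₁, hs₁, s₂, hs₂, hne⟩ := hsep
    rw [← hspan] at hs₁ hs₂
    obtain ⟨α₁, β₁, rfl⟩ := Submodule.mem_span_pair.mp hs₁
    obtain ⟨α₂, β₂, rfl⟩ := Submodule.mem_span_pair.mp hs₂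
    rw [ThreePt.wronskian_comb] at hne
    intro h0; rw [h0, smul_zero] at hne; exact hne rfl
  have hXp : derivative ((X : k[X]) ^ p) = 0 := by
    have := derivative_X_pow_char (k := k) p 1
    rwa [one_mul] at this
  -- the family
  set Fc : k → k[X] := fun c => F + C c * (X ^ p * G) with hFc
  have hFcdeg : ∀ c, (Fc c).natDegree = d := by
    intro c
    have h1 : (C c * (X ^ p * G)).natDegree < F.natDegree := by
      refine lt_of_le_of_lt (natDegree_C_mul_le _ _) ?_
      rw [natDegree_X_pow_mul p hG0, hFdeg]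
      omega
    rw [hFc]
    simp only
    rw [natDegree_add_eq_left_of_natDegree_lt h1, hFdeg]
  have hWc : ∀ c, wronskian (Fc c) G = wronskian F G := by
    intro c
    rw [hFc]
    simp only
    rw [wronskian_add_left, wronskian_mul_left_of_derivative_eq_zero derivative_C,
      wronskian_mul_left_of_derivative_eq_zero hXp, wronskian_self_eq_zero, mul_zero, mul_zero,
      add_zero]
  have hlic : ∀ c, LinearIndependent k ![Fc c, G] := fun c =>
    li_of_wronskian_ne_zero (by rw [hWc c]; exact hW)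
  have hpenc : ∀ c, W4c1limliniiii.IsPencil d (Submodule.span k {Fc c, G}) := by
    intro c
    refine ⟨?_, ThreePt.finrank_span_pair (hlic c), ⟨Fc c, Submodule.subset_span (by simp),
      hFcdeg c⟩, ?_⟩
    · rw [Submodule.span_le]; rintro y (rfl | rfl)
      · exact mem_degreeLE.mpr (degree_le_of_natDegree_le (hFcdeg c).le)
      · exact hle hGV
    · intro a
      by_cases hGa : G.eval a = 0
      · refine ⟨Fc c, Submodule.subset_span (by simp), ?_⟩
        rw [hFc]
        simp only
        rw [eval_add, eval_mul, eval_mul, hGa, mul_zero, mul_zero, add_zero]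
        intro hFa
        obtain ⟨s, hs, hsa⟩ := hbp a
        rw [← hspan] at hs
        obtain ⟨α, β, rfl⟩ := Submodule.mem_span_pair.mp hs
        apply hsa
        rw [eval_add, eval_smul, eval_smul, hFa, hGa, smul_zero, smul_zero, add_zero]
      · exact ⟨G, Submodule.subset_span (by simp), hGa⟩
  have hmem : ∀ c, Submodule.span k {Fc c, G} ∈ {V : Submodule k k[X] |
      V ∈ W4c1limliniiii.ramMaps d P e ∧ W4c1limliniiii.HasRamIdxInf d V E} := by
    intro c
    refine ⟨⟨hpenc c, ⟨Fc c, Submodule.subset_span (by simp), G, Submodule.subset_span (by simp),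
      by rw [hWc c]; exact hW⟩, ?_⟩, ?_⟩
    · intro i
      have h1 : (wronskian F G).rootMultiplicity (P i) + 1 = e i := by
        refine rootMultiplicity_wronskian_of_hasRamIdx p hW (by have := he2 i; omega) (hlt i) ?_ ?_
        · rw [hspan]; exact hbp (P i)
        · rw [hspan]; exact hram i
      have := Groth.Agent.S19560.result k p d (Fc c) G (hpenc c) (by rw [hWc c]; exact hW) (P i)
        (e i) (by rw [hWc c]; exact h1) (Or.inr (by have := hlt i; omega))
      exact this.1
    · have hlt' : G.natDegree < (Fc c).natDegree := by rw [hFcdeg c]; omega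
      have h1 := Groth.Agent.S19561.result k (Fc c) G hlt' (by rw [hFcdeg c]; exact hpenc c)
      rw [hFcdeg c] at h1
      have : d - G.natDegree = E := by omega
      rwa [this] at h1
  refine Set.infinite_of_injective_forall_mem (f := fun c => Submodule.span k {Fc c, G}) ?_ hmem
  intro c c' hcc
  by_contra hne
  simp only at hcc
  have h1 : Fc c ∈ Submodule.span k ({Fc c', G} : Set k[X]) := by
    rw [← hcc]; exact Submodule.subset_span (by simp)
  have h2 : Fc c - Fc c' ∈ Submodule.span k ({Fc c', G} : Set k[X]) :=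
    Submodule.sub_mem _ h1 (Submodule.subset_span (by simp))
  have h3 : Fc c - Fc c' = C (c - c') * (X ^ p * G) := by
    rw [hFc]; simp only; rw [C_sub]; ring
  rw [h3] at h2
  obtain ⟨α, β, hαβ⟩ := Submodule.mem_span_pair.mp h2
  have hcc0 : c - c' ≠ 0 := sub_ne_zero.mpr hne
  have hdegL : (C (c - c') * (X ^ p * G)).natDegree = p + G.natDegree := by
    rw [natDegree_C_mul hcc0, natDegree_X_pow_mul p hG0]; ring
  by_cases hα : α = 0
  · rw [hα, zero_smul, zero_add] at hαβ
    have : (β • G).natDegree ≤ G.natDegree := natDegree_smul_le β G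
    rw [hαβ, hdegL] at this
    omega
  · have h4 : (α • Fc c').natDegree = d := by
      rw [smul_eq_C_mul, natDegree_C_mul hα, hFcdeg]
    have h5 : (β • G).natDegree < (α • Fc c').natDegree := by
      rw [h4]; exact lt_of_le_of_lt (natDegree_smul_le β G) (by omega)
    have h6 := natDegree_add_eq_left_of_natDegree_lt h5
    rw [hαβ, hdegL, h4] at h6
    omega

end Groth.Agent.H76.Lim
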