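import Mathlib

/-!
# Finiteness of zero sets: a projective variety missing a hyperplane is finite

`finite_of_homogeneous`: if homogeneous polynomials `G i` in `X 0, …, X r` have no common zero
with `X 0 = 0` other than the origin, then they have only finitely many common zeros with
`X 0 = 1` (over an algebraically closed field).
-/

set_option autoImplicit false
universe u

open MvPolynomial

namespace Groth.Agent.H76.FinZero

variable {k : Type u} [Field k]

/-- If the quotient by an ideal is finite-dimensional, its zero locus is finite. -/
theorem finite_zeroLocus_of_finite {σ : Type} [Finite σ] (I : Ideal (MvPolynomial σ k))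
    [Module.Finite k (MvPolynomial σ k ⧸ I)] :
    {x : σ → k | ∀ f ∈ I, eval x f = 0}.Finite := by
  classical
  let S := {x : σ → k | ∀ f ∈ I, eval x f = 0}
  let φ : S → ((MvPolynomial σ k ⧸ I) →ₐ[k] k) := fun x =>
    Ideal.Quotient.liftₐ I (aeval x.1) (fun f hf => by
      have := x.2 f hf
      rw [← coe_aeval_eq_eval] at this
      exact this)
  have hφ : Function.Injective φ := by
    intro x y hxy
    apply Subtype.ext
    funext i
    have := congrArg (fun g => g (Ideal.Quotient.mk I (X i))) hxy
    simp only [φ] at this
    erw [Ideal.Quotient.liftₐ_apply, Ideal.Quotient.liftₐ_apply] at this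
    simpa using this
  haveI : Finite S := Finite.of_injective φ hφ
  exact Set.toFinite S

variable {r : ℕ}

/-- Degree shift: the degree-`t` component of `b * X 0`. -/
theorem homogeneousComponent_mul_X (b : MvPolynomial (Fin (r + 1)) k) (t : ℕ) :
    homogeneousComponent (t + 1) (b * X 0) = homogeneousComponent t b * X 0 := by
  ext d
  rw [coeff_homogeneousComponent, coeff_mul_X', coeff_mul_X', coeff_homogeneousComponent]
  by_cases h0 : (0 : Fin (r + 1)) ∈ d.support
  · simp only [h0, if_true]
    have hd : d.degree = (d - Finsupp.single 0 1).degree + 1 := by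
      have h1 : d = (d - Finsupp.single 0 1) + Finsupp.single 0 1 := by
        ext j
        simp only [Finsupp.coe_add, Finsupp.coe_tsub, Pi.add_apply, Pi.sub_apply]
        by_cases hj : j = 0
        · subst hj
          have : 1 ≤ d 0 := Nat.one_le_iff_ne_zero.mpr (Finsupp.mem_support_iff.mp h0)
          simp; omega
        · simp [Finsupp.single_apply, Ne.symm hj]
      conv_lhs => rw [h1]
      rw [map_add, Finsupp.degree_single]
    by_cases h1 : d.degree = t + 1
    · have : (d - Finsupp.single 0 1).degree = t := by omega
      simp [h1, this]
    · have : (d - Finsupp.single 0 1).degree ≠ t := by omega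
      simp [h1, this]
  · simp [h0]

/-- Core reduction: modulo `H + (X 0 - 1)`, everything is a combination of monomials of degree
`< D`. -/
theorem span_sup_eq_top (H : Ideal (MvPolynomial (Fin (r + 1)) k))
    (hH : ∀ (p : MvPolynomial (Fin (r + 1)) k), p ∈ H → ∀ n, homogeneousComponent n p ∈ H)
    (D : ℕ) (hD : ∀ s : Fin (r + 1) →₀ ℕ, D ≤ s.degree →
      (monomial s (1 : k)) ∈ H ⊔ Ideal.span {(X 0 : MvPolynomial (Fin (r + 1)) k)}) :
    Submodule.span k ((fun s : Fin (r + 1) →₀ ℕ => (monomial s (1 : k))) '' {s | s.degree < D}) ⊔
      (H ⊔ Ideal.span {(X 0 - 1 : MvPolynomial (Fin (r + 1)) k)}).restrictScalars k = ⊤ := by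
  set U := Submodule.span k ((fun s : Fin (r + 1) →₀ ℕ => (monomial s (1 : k))) ''
    {s | s.degree < D}) with hU
  set J₁ := (H ⊔ Ideal.span {(X 0 - 1 : MvPolynomial (Fin (r + 1)) k)}) with hJ₁
  set T := U ⊔ J₁.restrictScalars k with hT
  -- homogeneous polynomials lie in T, by induction on the degree
  have key : ∀ t : ℕ, ∀ φ : MvPolynomial (Fin (r + 1)) k, φ.IsHomogeneous t → φ ∈ T := by
    intro t
    induction t using Nat.strong_induction_on with
    | _ t ih =>
      intro φ hφ
      rw [φ.as_sum]
      refine Submodule.sum_mem _ fun s hs => ?_
      have hsdeg : s.degree = t := by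
        by_contra hne
        exact (mem_support_iff.mp hs) (hφ.coeff_eq_zero hne)
      have hmon : monomial s (coeff s φ) = (coeff s φ) • monomial s (1 : k) := by
        rw [smul_monomial, smul_eq_mul, mul_one]
      rw [hmon]
      refine Submodule.smul_mem _ _ ?_
      by_cases htD : t < D
      · apply Submodule.mem_sup_left
        exact Submodule.subset_span ⟨s, by simpa [hsdeg] using htD, rfl⟩
      · push Not at htD
        have hm := hD s (by rw [hsdeg]; exact htD)
        obtain ⟨a, ha, c, hc, hac⟩ := Submodule.mem_sup.mp hm
        obtain ⟨b, rfl⟩ := Ideal.mem_span_singleton'.mp hc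
        -- take the degree t component
        rcases Nat.eq_zero_or_pos t with ht0 | ht1
        · have hcomp := congrArg (homogeneousComponent 0) hac
          rw [map_add] at hcomp
          have h1 : homogeneousComponent 0 (b * X 0) = 0 := by
            ext d
            rw [coeff_homogeneousComponent, coeff_mul_X']
            by_cases hd : d.degree = 0
            · have : d = 0 := (Finsupp.degree_eq_zero_iff d).mp hd
              simp [this]
            · simp [hd]
          rw [h1, add_zero] at hcomp
          have h2 : homogeneousComponent 0 (monomial s (1 : k)) = monomial s 1 :=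
            homogeneousComponent_eq_self
              (isHomogeneous_monomial _ (by rw [hsdeg, ht0]))
          rw [h2] at hcomp
          have h3 : monomial s (1 : k) ∈ J₁ := by
            rw [← hcomp]
            exact Ideal.mem_sup_left (hH a ha 0)
          exact Submodule.mem_sup_right h3
        obtain ⟨t', rfl⟩ : ∃ t', t = t' + 1 := ⟨t - 1, by omega⟩
        have hcomp := congrArg (homogeneousComponent (t' + 1)) hac
        rw [map_add, homogeneousComponent_mul_X] at hcomp
        have h2 : homogeneousComponent (t' + 1) (monomial s (1 : k)) = monomial s 1 :=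
          homogeneousComponent_eq_self (isHomogeneous_monomial _ hsdeg)
        rw [h2] at hcomp
        have h3 : monomial s (1 : k) = (homogeneousComponent (t' + 1) a +
            homogeneousComponent t' b * (X 0 - 1)) + homogeneousComponent t' b := by
          rw [← hcomp]; ring
        rw [h3]
        refine Submodule.add_mem _ (Submodule.mem_sup_right ?_)
          (ih t' (Nat.lt_succ_self t') _ (homogeneousComponent_isHomogeneous t' b))
        refine Ideal.add_mem _ (Ideal.mem_sup_left (hH a ha _)) (Ideal.mem_sup_right ?_)
        exact Ideal.mul_mem_left _ _ (Ideal.subset_span rfl)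
  rw [eq_top_iff]
  intro φ _
  rw [← sum_homogeneousComponent φ]
  exact Submodule.sum_mem _ fun i _ => key i _ (homogeneousComponent_isHomogeneous i φ)

end Groth.Agent.H76.FinZero
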