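import Mathlib
import Groth.Agent.H76.LimM

/-!
# Finiteness of zero sets, II: the projective criterion
-/

set_option autoImplicit false
universe u

open MvPolynomial

namespace Groth.Agent.H76.FinZero

variable {k : Type u} [Field k] {r : ℕ}

attribute [local instance] MvPolynomial.gradedAlgebra in
theorem span_homogeneous {ι : Type*} (G : ι → MvPolynomial (Fin (r + 1)) k) (m : ι → ℕ)
    (hG : ∀ i, (G i).IsHomogeneous (m i)) (p : MvPolynomial (Fin (r + 1)) k)
    (hp : p ∈ Ideal.span (Set.range G)) (n : ℕ) :
    homogeneousComponent n p ∈ Ideal.span (Set.range G) := by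
  have h : (Ideal.span (Set.range G)).IsHomogeneous (homogeneousSubmodule (Fin (r + 1)) k) := by
    apply Ideal.homogeneous_span
    rintro x ⟨i, rfl⟩
    exact ⟨m i, (mem_homogeneousSubmodule _ _).mpr (hG i)⟩
  exact homogeneousComponent_mem_of_mem h hp n

/-- Homogeneous polynomials with no common zero at infinity have finitely many common zeros in
the affine chart `X 0 = 1`. -/
theorem finite_of_homogeneous [IsAlgClosed k] {ι : Type*}
    (G : ι → MvPolynomial (Fin (r + 1)) k) (m : ι → ℕ) (hG : ∀ i, (G i).IsHomogeneous (m i))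
    (h0 : ∀ ν : Fin r → k, (∀ i, eval (Fin.cons 0 ν : Fin (r + 1) → k) (G i) = 0) → ν = 0) :
    {ν : Fin r → k | ∀ i, eval (Fin.cons 1 ν : Fin (r + 1) → k) (G i) = 0}.Finite := by
  classical
  set H : Ideal (MvPolynomial (Fin (r + 1)) k) := Ideal.span (Set.range G) with hH
  set J := H ⊔ Ideal.span {(X 0 : MvPolynomial (Fin (r + 1)) k)} with hJ
  -- Step 1: all variables lie in the radical of J
  have hrad : ∀ j : Fin (r + 1), (X j : MvPolynomial (Fin (r + 1)) k) ∈ J.radical := by
    intro j
    rw [← vanishingIdeal_zeroLocus_eq_radical (K := k), mem_vanishingIdeal_iff]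
    intro x hx
    rw [mem_zeroLocus_iff] at hx
    have hx0 : x 0 = 0 := by
      have := hx (X 0) (Ideal.mem_sup_right (Ideal.subset_span rfl))
      simpa using this
    have hxG : ∀ i, eval x (G i) = 0 := by
      intro i
      have := hx (G i) (Ideal.mem_sup_left (Ideal.subset_span ⟨i, rfl⟩))
      rwa [← coe_aeval_eq_eval]
    have hxc : x = Fin.cons 0 (Fin.tail x) := by
      rw [← hx0]; exact (Fin.cons_self_tail x).symm
    have htail : Fin.tail x = 0 := by
      apply h0
      intro i
      rw [← hxc]; exact hxG i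
    rw [aeval_X]
    refine Fin.cases ?_ (fun j' => ?_) j
    · exact hx0
    · have := congrFun htail j'
      simpa [Fin.tail] using this
  choose N hN using fun j => Ideal.mem_radical_iff.mp (hrad j)
  set D := ∑ j, N j with hDdef
  have hD : ∀ s : Fin (r + 1) →₀ ℕ, D ≤ s.degree → (monomial s (1 : k)) ∈ J := by
    intro s hs
    have hex : ∃ j, N j ≤ s j := by
      by_contra hcon
      push Not at hcon
      have : s.degree < D := by
        rw [Finsupp.degree_eq_sum, hDdef]
        exact Finset.sum_lt_sum_of_nonempty Finset.univ_nonempty fun j _ => hcon j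
      omega
    obtain ⟨j, hj⟩ := hex
    have hs' : s = Finsupp.single j (N j) + (s - Finsupp.single j (N j)) := by
      ext l
      simp only [Finsupp.coe_add, Finsupp.coe_tsub, Pi.add_apply, Pi.sub_apply]
      by_cases hl : l = j
      · subst hl; simp; omega
      · simp [Finsupp.single_apply, Ne.symm hl]
    have h1 : monomial s (1 : k) = X j ^ N j * monomial (s - Finsupp.single j (N j)) 1 := by
      rw [X_pow_eq_monomial, monomial_mul, one_mul, ← hs']
    rw [h1]
    exact Ideal.mul_mem_right _ _ (hN j)
  -- Step 3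
  have htop := span_sup_eq_top H (span_homogeneous G m hG) D hD
  set J₁ := (H ⊔ Ideal.span {(X 0 - 1 : MvPolynomial (Fin (r + 1)) k)}) with hJ₁
  set U := Submodule.span k ((fun s : Fin (r + 1) →₀ ℕ => (monomial s (1 : k))) ''
    {s | s.degree < D}) with hU
  -- Step 4: the quotient is finite-dimensional
  haveI hUfin : Module.Finite k U :=
    Module.Finite.span_of_finite k (Set.Finite.image _ (Finsupp.finite_of_degree_lt D))
  haveI : Module.Finite k (MvPolynomial (Fin (r + 1)) k ⧸ J₁) := by
    let f : U →ₗ[k] (MvPolynomial (Fin (r + 1)) k ⧸ J₁) :=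
      (Ideal.Quotient.mkₐ k J₁).toLinearMap ∘ₗ U.subtype
    refine Module.Finite.of_surjective f ?_
    intro y
    obtain ⟨q, rfl⟩ := Ideal.Quotient.mk_surjective y
    have hq : q ∈ U ⊔ J₁.restrictScalars k := by rw [htop]; trivial
    obtain ⟨u, hu, j, hj, rfl⟩ := Submodule.mem_sup.mp hq
    refine ⟨⟨u, hu⟩, ?_⟩
    simp only [f, LinearMap.comp_apply, Submodule.subtype_apply, AlgHom.toLinearMap_apply,
      Ideal.Quotient.mkₐ_eq_mk, map_add]
    have : Ideal.Quotient.mk J₁ j = 0 := Ideal.Quotient.eq_zero_iff_mem.mpr hj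
    rw [this, add_zero]
  -- Step 5
  have hfin := finite_zeroLocus_of_finite J₁
  refine Set.Finite.subset (Set.Finite.preimage (f := fun ν : Fin r → k =>
    (Fin.cons 1 ν : Fin (r + 1) → k)) ?_ hfin) ?_
  · intro a _ b _ hab
    exact Fin.cons_right_injective _ hab
  · intro ν hν
    simp only [Set.mem_preimage, Set.mem_setOf_eq] at hν ⊢
    intro f hf
    have hle : J₁ ≤ RingHom.ker (eval (Fin.cons 1 ν : Fin (r + 1) → k)) := by
      rw [hJ₁, sup_le_iff, hH, Ideal.span_le, Ideal.span_le]
      constructor
      · rintro g ⟨i, rfl⟩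
        exact hν i
      · rintro g rfl
        simp [RingHom.mem_ker]
    exact hle hf

end Groth.Agent.H76.FinZero
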