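import Mathlib
import Groth.Agent.H76.LimN

/-!
# Finiteness for linear pencils of matrices

If `∑ ν j • B j` is injective for every `ν ≠ 0`, then `A₀ + ∑ ν j • B j` fails to be injective only
for finitely many `ν`.
-/

set_option autoImplicit false
universe u

open MvPolynomial

namespace Groth.Agent.H76.FinZero

variable {k : Type u} [Field k]

/-- An injective matrix has a non-vanishing maximal minor (rows selected by some function). -/
theorem exists_minor_ne_zero {m m' : ℕ} (M : Matrix (Fin m') (Fin m) k)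
    (hM : ∀ v, M.mulVec v = 0 → v = 0) :
    ∃ f : Fin m → Fin m', (M.submatrix f id).det ≠ 0 := by
  classical
  have hker : LinearMap.ker M.mulVecLin = ⊥ := by
    rw [LinearMap.ker_eq_bot']
    intro v hv
    exact hM v hv
  obtain ⟨g, hg⟩ := LinearMap.exists_leftInverse_of_injective M.mulVecLin hker
  set L : Matrix (Fin m) (Fin m') k := LinearMap.toMatrix' g with hL
  have hLM : L * M = 1 := by
    have h1 : LinearMap.toMatrix' (g ∘ₗ M.mulVecLin) = L * M := by
      rw [LinearMap.toMatrix'_comp, ← Matrix.toLin'_apply', LinearMap.toMatrix'_toLin']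
    rw [← h1, hg, LinearMap.toMatrix'_id]
  by_contra hcon
  push Not at hcon
  have hrow : L * M = Matrix.of (fun i => ∑ l, L i l • M l) := by
    ext i j
    simp [Matrix.mul_apply, Finset.sum_apply]
  have hdet : (L * M).det = 0 := by
    rw [hrow]
    change (Matrix.detRowAlternating : (Fin m → k) [⋀^Fin m]→ₗ[k] k).toMultilinearMap
      (fun i => ∑ l, L i l • M l) = 0
    rw [MultilinearMap.map_sum]
    refine Finset.sum_eq_zero fun f _ => ?_
    rw [MultilinearMap.map_smul_univ]
    have : (Matrix.detRowAlternating : (Fin m → k) [⋀^Fin m]→ₗ[k] k).toMultilinearMap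
        (fun i => M (f i)) = (M.submatrix f id).det := rfl
    rw [this, hcon f, smul_zero]
  rw [hLM, Matrix.det_one] at hdet
  exact one_ne_zero hdet

variable {m m' r : ℕ}

/-- The polynomial matrix `X 0 • A₀ + ∑ X (j+1) • B j`. -/
noncomputable def polyMat (A₀ : Matrix (Fin m') (Fin m) k) (B : Fin r → Matrix (Fin m') (Fin m) k) :
    Matrix (Fin m') (Fin m) (MvPolynomial (Fin (r + 1)) k) :=
  fun l i => X 0 * C (A₀ l i) + ∑ j : Fin r, X j.succ * C (B j l i)

theorem polyMat_isHomogeneous (A₀ : Matrix (Fin m') (Fin m) k)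
    (B : Fin r → Matrix (Fin m') (Fin m) k) (l : Fin m') (i : Fin m) :
    (polyMat A₀ B l i).IsHomogeneous 1 := by
  unfold polyMat
  refine IsHomogeneous.add ?_ (IsHomogeneous.sum _ _ _ fun j _ => ?_)
  · have := (isHomogeneous_X k (0 : Fin (r + 1))).mul (isHomogeneous_C (Fin (r + 1)) (A₀ l i))
    simpa using this
  · have := (isHomogeneous_X k j.succ).mul (isHomogeneous_C (Fin (r + 1)) (B j l i))
    simpa using this

theorem eval_polyMat (A₀ : Matrix (Fin m') (Fin m) k) (B : Fin r → Matrix (Fin m') (Fin m) k)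
    (c : k) (ν : Fin r → k) (l : Fin m') (i : Fin m) :
    eval (Fin.cons c ν : Fin (r + 1) → k) (polyMat A₀ B l i) = (c • A₀ + ∑ j, ν j • B j) l i := by
  unfold polyMat
  simp [Matrix.add_apply, Matrix.sum_apply, Matrix.smul_apply]

theorem minor_isHomogeneous (A₀ : Matrix (Fin m') (Fin m) k)
    (B : Fin r → Matrix (Fin m') (Fin m) k) (f : Fin m → Fin m') :
    ((polyMat A₀ B).submatrix f id).det.IsHomogeneous m := by
  rw [Matrix.det_apply]
  refine IsHomogeneous.sum _ _ _ fun σ _ => ?_
  have h1 : (∏ i, (polyMat A₀ B).submatrix f id (σ i) i).IsHomogeneous (∑ _i : Fin m, 1) :=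
    IsHomogeneous.prod _ _ _ fun i _ => polyMat_isHomogeneous A₀ B _ _
  simp only [Finset.sum_const, Finset.card_univ, Fintype.card_fin, smul_eq_mul, mul_one] at h1
  rcases Int.units_eq_one_or (Equiv.Perm.sign σ) with hs | hs
  · rw [hs, one_smul]; exact h1
  · rw [hs, Units.neg_smul, one_smul]; exact h1.neg

theorem eval_minor (A₀ : Matrix (Fin m') (Fin m) k) (B : Fin r → Matrix (Fin m') (Fin m) k)
    (c : k) (ν : Fin r → k) (f : Fin m → Fin m') :
    eval (Fin.cons c ν : Fin (r + 1) → k) ((polyMat A₀ B).submatrix f id).det =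
      ((c • A₀ + ∑ j, ν j • B j).submatrix f id).det := by
  rw [RingHom.map_det]
  congr 1
  ext i j
  simp only [RingHom.mapMatrix_apply, Matrix.map_apply, Matrix.submatrix_apply, id_eq]
  exact eval_polyMat A₀ B c ν (f i) j

/-- Finiteness for linear pencils. -/
theorem finite_pencil [IsAlgClosed k] (A₀ : Matrix (Fin m') (Fin m) k)
    (B : Fin r → Matrix (Fin m') (Fin m) k)
    (hB : ∀ ν : Fin r → k, ν ≠ 0 → ∀ v, (∑ j, ν j • B j).mulVec v = 0 → v = 0) :
    {ν : Fin r → k | ∃ v, v ≠ 0 ∧ (A₀ + ∑ j, ν j • B j).mulVec v = 0}.Finite := by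
  classical
  have hfin := finite_of_homogeneous (k := k) (r := r)
    (fun f : Fin m → Fin m' => ((polyMat A₀ B).submatrix f id).det) (fun _ => m)
    (fun f => minor_isHomogeneous A₀ B f) (by
      intro ν hν
      by_contra hne
      obtain ⟨f, hf⟩ := exists_minor_ne_zero _ (hB ν hne)
      apply hf
      have := hν f
      rw [eval_minor, zero_smul, zero_add] at this
      exact this)
  refine hfin.subset ?_
  rintro ν ⟨v, hv0, hv⟩ f
  rw [eval_minor, one_smul]
  rw [← Matrix.exists_mulVec_eq_zero_iff]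
  refine ⟨v, hv0, ?_⟩
  ext i
  have := congrFun hv (f i)
  simpa [Matrix.mulVec, dotProduct] using this

end Groth.Agent.H76.FinZero
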