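import Mathlib
import Groth.Agent.H76.LimG

/-!
# The operator attached to a pencil with full ramification, any characteristic
-/

set_option autoImplicit false
universe u

open Polynomial

namespace Groth.Agent.H76.Lim

variable {k : Type u} [Field k] (p : ℕ) [CharP k p]
variable {n : ℕ} (a : Fin n → k) (e : Fin n → ℕ) (N : k[X])

/-- The Wronskian of two solutions is a multiple of `Pi1` by a polynomial with zero derivative
(version allowing characteristic zero). -/
theorem wronskian_eq_mul_Pi1' (ha : Function.Injective a) (he2 : ∀ i, 2 ≤ e i)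
    (hep : ∀ i, p = 0 ∨ e i - 1 < p) {z₁ z₂ : k[X]} (h₁ : z₁ ∈ Sol (P0 a) (P1 a e) N)
    (h₂ : z₂ ∈ Sol (P0 a) (P1 a e) N) :
    ∃ γ : k[X], wronskian z₁ z₂ = γ * Pi1 a e ∧ derivative γ = 0 := by
  set W := wronskian z₁ z₂ with hW
  have hA : P0 a * derivative W = P1 a e * W := wronskian_sol h₁ h₂
  have hPi := P0_mul_derivative_Pi1 a e he2
  have hWW : wronskian W (Pi1 a e) = 0 := by
    have : P0 a * wronskian W (Pi1 a e) = 0 := by
      unfold wronskian
      linear_combination W * hPi - Pi1 a e * hA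
    exact (mul_eq_zero.mp this).resolve_left (P0_monic a).ne_zero
  have hdvd : ∀ i, (X - C (a i)) ^ (e i - 1) ∣ W := by
    intro i
    by_cases hW0 : W = 0
    · rw [hW0]; exact dvd_zero _
    obtain ⟨u, hu, hnd⟩ := exists_eq_pow_rootMultiplicity_mul_and_not_dvd W hW0 (a i)
    set b := rootMultiplicity (a i) W with hb
    have hux : u.eval (a i) ≠ 0 := fun h => hnd (dvd_iff_isRoot.mpr h)
    have ho := wronskian_ord (a i) b (e i - 1) u (V1 a e i)
    rw [← hu, ← Pi1_eq_V1, hWW, mul_zero] at ho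
    have h4 := (mul_eq_zero.mp ho.symm).resolve_left (pow_ne_zero _ (X_sub_C_ne_zero (a i)))
    have h5 := congrArg (eval (a i)) h4
    simp only [eval_add, eval_mul, eval_sub, eval_X, eval_C, sub_self, zero_mul, add_zero,
      eval_zero] at h5
    have h6 : ((e i - 1 : ℕ) : k) - (b : k) = 0 := by
      rcases mul_eq_zero.mp h5 with h6 | h6
      · exact h6
      · rcases mul_eq_zero.mp h6 with h7 | h7
        · exact absurd h7 hux
        · exact absurd h7 (eval_V1_ne_zero a e ha i)
    rw [sub_eq_zero, CharP.natCast_eq_natCast k p] at h6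
    have h7 : e i - 1 ≤ b := by
      rcases hep i with h0 | h9
      · subst h0
        rw [Nat.modEq_zero_iff] at h6
        omega
      · have h8 : (e i - 1) % p = b % p := h6
        rw [Nat.mod_eq_of_lt h9] at h8
        rw [h8]; exact Nat.mod_le _ _
    exact (pow_dvd_pow _ h7).trans (pow_rootMultiplicity_dvd W (a i))
  have hdvd' : Pi1 a e ∣ W := by
    unfold Pi1
    refine Finset.prod_dvd_of_coprime ?_ fun i _ => hdvd i
    intro i _ j _ hij
    apply IsCoprime.pow
    exact isCoprime_X_sub_C_of_isUnit_sub (sub_ne_zero.mpr (fun h => hij (ha h))).isUnit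
  obtain ⟨γ, hγ⟩ := hdvd'
  refine ⟨γ, by rw [hγ]; ring, ?_⟩
  have h1 : derivative γ * (Pi1 a e * Pi1 a e) = 0 := by
    have := hWW
    unfold wronskian at this
    rw [hγ, derivative_mul] at this
    linear_combination -this
  have hne := (Pi1_monic a e).ne_zero
  exact (mul_eq_zero.mp h1).resolve_right (mul_ne_zero hne hne)

/-- Solutions of degree `≤ d` are constant combinations of a pair with Wronskian `c Pi1`. -/
theorem mem_span_of_sol (ha : Function.Injective a) (he2 : ∀ i, 2 ≤ e i)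
    (hep : ∀ i, p = 0 ∨ e i - 1 < p) (d : ℕ) (hsum : (∑ i, e i) + 2 = 2 * d + n)
    {z₁ z₂ : k[X]} (h₁ : z₁ ∈ Sol (P0 a) (P1 a e) N) (h₂ : z₂ ∈ Sol (P0 a) (P1 a e) N)
    {c : k} (hc : c ≠ 0) (hW : wronskian z₁ z₂ = C c * Pi1 a e)
    (hd₁ : z₁.natDegree ≤ d) (hd₂ : z₂.natDegree ≤ d)
    {y : k[X]} (hy : y ∈ Sol (P0 a) (P1 a e) N) (hyd : y.natDegree ≤ d) :
    y ∈ Submodule.span k ({z₁, z₂} : Set k[X]) := by
  have hPd := natDegree_Pi1_add_two a e he2 d hsum
  have hd1 : 1 ≤ d := by omega
  have hPne := (Pi1_monic a e).ne_zero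
  have mem : ∀ {q : k[X]}, q.natDegree ≤ d → q ∈ degreeLE k d := fun h =>
    mem_degreeLE.mpr (degree_le_of_natDegree_le h)
  have hconst : ∀ u v : k[X], u ∈ Sol (P0 a) (P1 a e) N → v ∈ Sol (P0 a) (P1 a e) N →
      u.natDegree ≤ d → v.natDegree ≤ d → ∃ r : k, wronskian u v = C r * Pi1 a e := by
    intro u v hu hv hud hvd
    obtain ⟨γ, hγ, -⟩ := wronskian_eq_mul_Pi1' p a e N ha he2 hep hu hv
    by_cases hw : wronskian u v = 0
    · exact ⟨0, by rw [hw, C_0, zero_mul]⟩
    · have h1 := ThreePt.natDegree_wronskian_le d hd1 (mem hud) (mem hvd) hw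
      have hγ0 : γ ≠ 0 := by
        intro h; rw [h, zero_mul] at hγ; exact hw hγ
      have h2 := natDegree_mul hγ0 hPne
      rw [← hγ] at h2
      have h3 : γ.natDegree = 0 := by omega
      rw [eq_C_of_natDegree_eq_zero h3] at hγ
      exact ⟨_, hγ⟩
  obtain ⟨r₁, hr₁⟩ := hconst y z₂ hy h₂ hyd hd₂
  obtain ⟨r₂, hr₂⟩ := hconst z₁ y h₁ hy hd₁ hyd
  have h3 := wronskian_three y z₁ z₂
  rw [hW, hr₁, hr₂] at h3
  have h4 : Pi1 a e * (C c * y - (C r₁ * z₁ + C r₂ * z₂)) = 0 := by
    linear_combination h3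
  have h5 := (mul_eq_zero.mp h4).resolve_left hPne
  have h6 : C c * y = C r₁ * z₁ + C r₂ * z₂ := sub_eq_zero.mp h5
  rw [Submodule.mem_span_pair]
  refine ⟨r₁ / c, r₂ / c, ?_⟩
  rw [smul_eq_C_mul, smul_eq_C_mul]
  have hcc : (C c : k[X]) ≠ 0 := C_ne_zero.mpr hc
  apply mul_left_cancel₀ hcc
  rw [h6, mul_add, ← mul_assoc, ← mul_assoc, ← C_mul, ← C_mul, mul_div_cancel₀ _ hc,
    mul_div_cancel₀ _ hc]

omit [CharP k p] in
/-- Existence of the operator over a field. -/
theorem exists_N_field (he2 : ∀ i, 2 ≤ e i) {F G : k[X]} {c : k} (hc : c ≠ 0)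
    (hW : wronskian F G = C c * Pi1 a e) (hcop : IsCoprime F G) :
    ∃ N : k[X], F ∈ Sol (P0 a) (P1 a e) N ∧ G ∈ Sol (P0 a) (P1 a e) N := by
  set Q : k[X] := derivative F * derivative (derivative G) - derivative (derivative F) * derivative G
    with hQ
  have IF : wronskian F G * derivative (derivative F) - derivative (wronskian F G) * derivative F
      + Q * F = 0 := by
    unfold wronskian; rw [hQ]; simp only [derivative_sub, derivative_mul]; ring
  have IG : wronskian F G * derivative (derivative G) - derivative (wronskian F G) * derivative G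
      + Q * G = 0 := by
    unfold wronskian; rw [hQ]; simp only [derivative_sub, derivative_mul]; ring
  have hdW : derivative (wronskian F G) = C c * (P1 a e * Pi2 a e) := by
    rw [hW, derivative_C_mul, derivative_Pi1 a e he2]
  have hW' : wronskian F G = C c * (P0 a * Pi2 a e) := by rw [hW, Pi1_eq a e he2]
  set RF : k[X] := P0 a * derivative (derivative F) - P1 a e * derivative F with hRF
  set RG : k[X] := P0 a * derivative (derivative G) - P1 a e * derivative G with hRG
  have IF' : C c * Pi2 a e * RF + Q * F = 0 := by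
    rw [hdW, hW'] at IF; rw [hRF]; linear_combination IF
  have IG' : C c * Pi2 a e * RG + Q * G = 0 := by
    rw [hdW, hW'] at IG; rw [hRG]; linear_combination IG
  obtain ⟨u, v, huv⟩ := hcop
  set N : k[X] := -(u * RF + v * RG) with hN
  have hQN : Q = C c * Pi2 a e * N := by
    rw [hN]; linear_combination (-Q) * huv + u * IF' + v * IG'
  have hne : (C c * Pi2 a e : k[X]) ≠ 0 :=
    mul_ne_zero (C_ne_zero.mpr hc) (Pi2_monic a e).ne_zero
  refine ⟨N, ?_, ?_⟩
  · rw [mem_Sol]
    have : C c * Pi2 a e * Lop (P0 a) (P1 a e) N F = 0 := by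
      unfold Lop; rw [hQN] at IF'; rw [hRF] at IF'; linear_combination IF'
    exact (mul_eq_zero.mp this).resolve_left hne
  · rw [mem_Sol]
    have : C c * Pi2 a e * Lop (P0 a) (P1 a e) N G = 0 := by
      unfold Lop; rw [hQN] at IG'; rw [hRG] at IG'; linear_combination IG'
    exact (mul_eq_zero.mp this).resolve_left hne

end Groth.Agent.H76.Lim
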