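import Mathlib
import Groth.Agent.H76.LimO
import Groth.Agent.H76.LimP

/-!
# Finitely many operators with a polynomial solution of bounded degree (Heine–Stieltjes)
-/

set_option autoImplicit false
universe u

open Polynomial

namespace Groth.Agent.H76.Lim

variable {k : Type u} [Field k]

/-- The polynomial with prescribed coefficients `v 0, …, v d`. -/
noncomputable def polyOf {d : ℕ} (v : Fin (d + 1) → k) : k[X] := ∑ i : Fin (d + 1), C (v i) * X ^ (i : ℕ)

theorem coeff_polyOf {d : ℕ} (v : Fin (d + 1) → k) (i : Fin (d + 1)) : (polyOf v).coeff i = v i := by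
  classical
  unfold polyOf
  rw [finsetSum_coeff, Finset.sum_eq_single i]
  · rw [coeff_C_mul, coeff_X_pow, if_pos rfl, mul_one]
  · intro j _ hji
    rw [coeff_C_mul, coeff_X_pow, if_neg, mul_zero]
    intro h; exact hji (Fin.ext h.symm)
  · intro h; exact absurd (Finset.mem_univ i) h

theorem natDegree_polyOf_le {d : ℕ} (v : Fin (d + 1) → k) : (polyOf v).natDegree ≤ d := by
  unfold polyOf
  refine natDegree_sum_le_of_forall_le _ _ fun i _ => ?_
  refine (natDegree_C_mul_le _ _).trans ?_
  rw [natDegree_X_pow]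
  exact Nat.lt_succ_iff.mp i.2

theorem polyOf_eq_zero {d : ℕ} {v : Fin (d + 1) → k} (h : polyOf v = 0) : v = 0 := by
  funext i
  rw [← coeff_polyOf v i, h, coeff_zero, Pi.zero_apply]

theorem polyOf_coeff {d : ℕ} {y : k[X]} (hy : y.natDegree ≤ d) :
    polyOf (fun i : Fin (d + 1) => y.coeff i) = y := by
  unfold polyOf
  conv_rhs => rw [y.as_sum_range' (d + 1) (Nat.lt_succ_of_le hy)]
  rw [Fin.sum_univ_eq_sum_range (fun i => C (y.coeff i) * X ^ i) (d + 1)]
  refine Finset.sum_congr rfl fun i _ => ?_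
  rw [← C_mul_X_pow_eq_monomial]

/-- The matrix of a linear map on polynomials of degree `≤ d`, truncated to `m'` coefficients. -/
noncomputable def matOf (d m' : ℕ) (T : k[X] →ₗ[k] k[X]) : Matrix (Fin m') (Fin (d + 1)) k :=
  fun l i => (T (X ^ (i : ℕ))).coeff l

theorem matOf_mulVec (d m' : ℕ) (T : k[X] →ₗ[k] k[X]) (v : Fin (d + 1) → k) (l : Fin m') :
    (matOf d m' T).mulVec v l = (T (polyOf v)).coeff l := by
  unfold polyOf matOf
  simp only [Matrix.mulVec, dotProduct, map_sum, finsetSum_coeff]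
  refine Finset.sum_congr rfl fun i _ => ?_
  rw [← smul_eq_C_mul, map_smul, coeff_smul, smul_eq_mul, mul_comm]

/-- The operator as a linear map. -/
noncomputable def LopL (p₀ p₁ N : k[X]) : k[X] →ₗ[k] k[X] where
  toFun := Lop p₀ p₁ N
  map_add' := Lop_add p₀ p₁ N
  map_smul' := by
    intro c y
    simp only [RingHom.id_apply]
    rw [smul_eq_C_mul, Lop_C_mul, smul_eq_C_mul]

theorem LopL_apply (p₀ p₁ N y : k[X]) : LopL p₀ p₁ N y = Lop p₀ p₁ N y := rfl

theorem Lop_add_N (p₀ p₁ N Q y : k[X]) : Lop p₀ p₁ (N + Q) y = Lop p₀ p₁ N y + Q * y := by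
  unfold Lop; ring

variable {n : ℕ} (a : Fin n → k) (e : Fin n → ℕ)

/-- The set of admissible zeroth-order coefficients for which the equation has a non-zero
polynomial solution of degree `≤ d` is finite. -/
theorem finite_vanVleck [IsAlgClosed k] (d : ℕ) (c₀ : k) :
    {N : k[X] | (X ^ 2 * N).natDegree ≤ n ∧ (X ^ 2 * N).coeff n = c₀ ∧
      ∃ y : k[X], y ≠ 0 ∧ y.natDegree ≤ d ∧ y ∈ Sol (P0 a) (P1 a e) N}.Finite := by
  classical
  by_cases hn : n < 2
  · refine Set.Finite.subset (Set.finite_singleton (0 : k[X])) ?_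
    rintro N ⟨h1, -, -⟩
    rw [Set.mem_singleton_iff]
    by_contra hN
    rw [natDegree_X_pow_mul 2 hN] at h1
    omega
  push Not at hn
  obtain ⟨r, rfl⟩ : ∃ r, n = r + 2 := ⟨n - 2, by omega⟩
  set N₀ : k[X] := C c₀ * X ^ r with hN₀
  set Qν : (Fin r → k) → k[X] := fun ν => ∑ j : Fin r, C (ν j) * X ^ (j : ℕ) with hQν
  set m' := d + r + 1 with hm'
  set A₀ := matOf d m' (LopL (P0 a) (P1 a e) N₀) with hA₀
  set B : Fin r → Matrix (Fin m') (Fin (d + 1)) k := fun j =>
    matOf d m' (LinearMap.mulLeft k (X ^ (j : ℕ))) with hB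
  have hQcoeff : ∀ (ν : Fin r → k) (j : Fin r), (Qν ν).coeff j = ν j := by
    intro ν j
    rw [hQν]
    simp only
    rw [finsetSum_coeff, Finset.sum_eq_single j]
    · rw [coeff_C_mul, coeff_X_pow, if_pos rfl, mul_one]
    · intro i _ hij
      rw [coeff_C_mul, coeff_X_pow, if_neg, mul_zero]
      intro h; exact hij (Fin.ext h.symm)
    · intro h; exact absurd (Finset.mem_univ j) h
  have hQdeg : ∀ ν : Fin r → k, (Qν ν).natDegree + 1 ≤ r ∨ r = 0 := by
    intro ν
    rcases Nat.eq_zero_or_pos r with h0 | hpos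
    · exact Or.inr h0
    left
    have : (Qν ν).natDegree ≤ r - 1 := by
      rw [hQν]
      refine natDegree_sum_le_of_forall_le _ _ fun j _ => ?_
      refine (natDegree_C_mul_le _ _).trans ?_
      rw [natDegree_X_pow]
      have := j.2; omega
    omega
  have hsumB : ∀ ν : Fin r → k, ∑ j, ν j • B j = matOf d m' (LinearMap.mulLeft k (Qν ν)) := by
    intro ν
    ext l i
    simp only [Matrix.sum_apply, Matrix.smul_apply, hB, matOf, LinearMap.mulLeft_apply, hQν,
      Finset.sum_mul, finsetSum_coeff, smul_eq_mul]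
    refine Finset.sum_congr rfl fun j _ => ?_
    rw [mul_assoc, coeff_C_mul]
  have hpencil := FinZero.finite_pencil A₀ B (by
    intro ν hν v hv
    rw [hsumB ν] at hv
    have hprod : Qν ν * polyOf v = 0 := by
      ext l
      rw [coeff_zero]
      by_cases hl : l < m'
      · have := congrFun hv ⟨l, hl⟩
        rw [matOf_mulVec] at this
        simpa using this
      · apply coeff_eq_zero_of_natDegree_lt
        refine lt_of_le_of_lt natDegree_mul_le ?_
        have h1 := natDegree_polyOf_le v
        rcases hQdeg ν with h2 | h2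
        · omega
        · exfalso
          apply hν
          funext j
          subst h2
          exact j.elim0
    have hQ0 : Qν ν ≠ 0 := by
      intro h0
      apply hν
      funext j
      rw [← hQcoeff ν j, h0, coeff_zero, Pi.zero_apply]
    exact polyOf_eq_zero ((mul_eq_zero.mp hprod).resolve_left hQ0))
  refine Set.Finite.subset (hpencil.image (fun ν => N₀ + Qν ν)) ?_
  rintro N ⟨h1, h2, y, hy0, hyd, hyS⟩
  have hNdeg : N.natDegree ≤ r := by
    by_cases hN : N = 0
    · rw [hN, natDegree_zero]; exact Nat.zero_le _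
    · rw [natDegree_X_pow_mul 2 hN] at h1; omega
  have hNr : N.coeff r = c₀ := by
    rw [← h2, coeff_X_pow_mul]
  refine ⟨fun j => N.coeff j, ?_, ?_⟩
  · refine ⟨fun i => y.coeff i, ?_, ?_⟩
    · intro h0
      apply hy0
      rw [← polyOf_coeff hyd, h0]
      unfold polyOf; simp
    · have hmat : A₀ + ∑ j, (fun j : Fin r => N.coeff j) j • B j =
          matOf d m' (LopL (P0 a) (P1 a e) (N₀ + Qν (fun j => N.coeff j))) := by
        rw [hsumB]
        ext l i
        simp only [Matrix.add_apply, hA₀, matOf, LopL_apply, Lop_add_N, coeff_add,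
          LinearMap.mulLeft_apply]
      rw [hmat]
      funext l
      rw [matOf_mulVec, polyOf_coeff hyd, LopL_apply]
      have hNeq : N₀ + Qν (fun j => N.coeff j) = N := by
        rw [hN₀, hQν]
        simp only
        conv_rhs => rw [N.as_sum_range' (r + 1) (Nat.lt_succ_of_le hNdeg)]
        rw [Finset.sum_range_succ, Fin.sum_univ_eq_sum_range (fun i => C (N.coeff i) * X ^ i) r,
          add_comm]
        congr 1
        · refine Finset.sum_congr rfl fun i _ => ?_
          rw [C_mul_X_pow_eq_monomial]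
        · rw [← hNr, C_mul_X_pow_eq_monomial]
      rw [hNeq]
      rw [mem_Sol] at hyS
      rw [hyS, coeff_zero, Pi.zero_apply]
  · simp only
    rw [hN₀, hQν]
    simp only
    conv_rhs => rw [N.as_sum_range' (r + 1) (Nat.lt_succ_of_le hNdeg)]
    rw [Finset.sum_range_succ, Fin.sum_univ_eq_sum_range (fun i => C (N.coeff i) * X ^ i) r,
      add_comm]
    congr 1
    · refine Finset.sum_congr rfl fun i _ => ?_
      rw [C_mul_X_pow_eq_monomial]
    · rw [← hNr, C_mul_X_pow_eq_monomial]

end Groth.Agent.H76.Lim
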