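import Mathlib
import Groth.Agent.H76.LimQ

/-!
# Finiteness of maps with fully prescribed ramification (S13929)
-/

set_option autoImplicit false
universe u

open Polynomial

namespace Groth.Agent.H76.Lim

theorem mainR (k : Type u) [Field k] [IsAlgClosed k]
    (p : ℕ) [CharP k p] (d n : ℕ) (P : Fin n → k) (hP : Function.Injective P)
    (e : Fin n → ℕ) (he : W4c1limliniiii.Admissible p d e) (hp : p = 0 ∨ d < p) :
    (W4c1limliniiii.ramMaps d P e).Finite := by
  obtain ⟨he1, hsum⟩ := he
  have he2 : ∀ i, 2 ≤ e i := fun i => (he1 i).1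
  have hep : ∀ i, p = 0 ∨ e i - 1 < p := by
    intro i
    rcases hp with h | h
    · exact Or.inl h
    · right
      have := (he1 i).2.1
      omega
  have key : ∀ V ∈ W4c1limliniiii.ramMaps d P e, ∃ N : k[X],
      ((X ^ 2 * N).natDegree ≤ n ∧ (X ^ 2 * N).coeff n = (d : k) * ((d : k) - 1) ∧
        ∃ y : k[X], y ≠ 0 ∧ y.natDegree ≤ d ∧ y ∈ Sol (P0 P) (P1 P e) N) ∧
      Sol (P0 P) (P1 P e) N ⊓ degreeLE k d = V := by
    intro V hV
    have hV' := hV
    obtain ⟨⟨hle, hfr, ⟨s, hsV, hsd⟩, hbp⟩, hsep, hram⟩ := hV'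
    haveI : Module.Finite k V := Module.finite_of_finrank_pos (by rw [hfr]; norm_num)
    let b := Module.finBasisOfFinrankEq (R := k) (M := V) hfr
    set F : k[X] := (b 0 : k[X]) with hF
    set G : k[X] := (b 1 : k[X]) with hG
    have hFV : F ∈ V := (b 0).2
    have hGV : G ∈ V := (b 1).2
    have hspan : Submodule.span k ({F, G} : Set k[X]) = V := by
      apply le_antisymm
      · rw [Submodule.span_le]; rintro y (rfl | rfl)
        · exact hFV
        · exact hGV
      · intro y hy
        have h1 := b.sum_repr ⟨y, hy⟩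
        rw [Fin.sum_univ_two] at h1
        have h2 := congrArg (Subtype.val) h1
        simp only [Submodule.coe_add, Submodule.coe_smul] at h2
        rw [← h2]
        exact Submodule.add_mem _
          (Submodule.smul_mem _ _ (Submodule.subset_span (by simp [hF])))
          (Submodule.smul_mem _ _ (Submodule.subset_span (by simp [hG])))
    have hVmem : Submodule.span k ({F, G} : Set k[X]) ∈ W4c1limliniiii.ramMaps d P e := by
      rw [hspan]; exact hV
    obtain ⟨c, hc, hW⟩ := wronskian_of_ramMaps P e hP he2 d hsum hVmem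
    have hcop : IsCoprime F G := by
      rw [Polynomial.isCoprime_iff_aeval_ne_zero_of_isAlgClosed (k := k) k]
      intro x
      obtain ⟨t, ht, htx⟩ := hbp x
      rw [← hspan] at ht
      obtain ⟨α, β, rfl⟩ := Submodule.mem_span_pair.mp ht
      by_contra hcon
      push Not at hcon
      apply htx
      have h1 : F.eval x = 0 := by simpa [aeval_def, eval₂_eq_eval_map] using hcon.1
      have h2 : G.eval x = 0 := by simpa [aeval_def, eval₂_eq_eval_map] using hcon.2
      rw [eval_add, eval_smul, eval_smul, h1, h2, smul_zero, smul_zero, add_zero]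
    obtain ⟨N, hFS, hGS⟩ := exists_N_field P e he2 hc hW hcop
    have hVS : V ≤ Sol (P0 P) (P1 P e) N := by
      rw [← hspan, Submodule.span_le]; rintro y (rfl | rfl)
      · exact hFS
      · exact hGS
    have hdeg : ∀ y ∈ V, y.natDegree ≤ d := fun y hy =>
      natDegree_le_of_degree_le (mem_degreeLE.mp (hle hy))
    have hd1 : 1 ≤ d := by
      have := natDegree_Pi1_add_two P e he2 d hsum; omega
    have hs0 : s ≠ 0 := by
      intro h; rw [h, natDegree_zero] at hsd; omega
    obtain ⟨hN1, hN2⟩ := degree_N P e he2 d hsum (hVS hsV) hs0 hsd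
    refine ⟨N, ⟨hN1, hN2, s, hs0, hsd.le, hVS hsV⟩, ?_⟩
    apply le_antisymm
    · rintro y ⟨hyS, hyd⟩
      rw [← hspan]
      exact mem_span_of_sol p P e N hP he2 hep d hsum hFS hGS hc hW (hdeg F hFV) (hdeg G hGV) hyS
        (natDegree_le_of_degree_le (mem_degreeLE.mp hyd))
    · exact le_inf hVS hle
  have hfin := finite_vanVleck P e (n := n) d ((d : k) * ((d : k) - 1))
  refine Set.Finite.subset (hfin.image (fun N => Sol (P0 P) (P1 P e) N ⊓ degreeLE k d)) ?_
  intro V hV
  obtain ⟨N, hN, hNV⟩ := key V hV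
  exact ⟨N, hN, hNV⟩

end Groth.Agent.H76.Lim
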