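import Mathlib

/-!
# Truncated logarithm: `log((1+N)^j) = j log(1+N)` for nilpotent `N` in a `ℚ`-algebra
-/

set_option autoImplicit false

open Polynomial Finset

namespace Groth.Agent.H76.LogPoly

/-- the truncated logarithm polynomial `L_d(Y) = Σ_{n<d+1} (-1)^n/(n+1) Y^{n+1}` -/
noncomputable def L (d : ℕ) : ℚ[X] :=
  ∑ n ∈ range (d + 1), C ((-1 : ℚ) ^ n / ((n : ℚ) + 1)) * X ^ (n + 1)

theorem derivative_L (d : ℕ) : derivative (L d) = ∑ n ∈ range (d + 1), (-X) ^ n := by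
  unfold L
  rw [derivative_sum]
  refine Finset.sum_congr rfl fun n _ => ?_
  rw [derivative_C_mul, derivative_X_pow, ← mul_assoc, ← C_mul]
  have : ((-1 : ℚ) ^ n / ((n : ℚ) + 1)) * ((n + 1 : ℕ) : ℚ) = (-1) ^ n := by
    have h : ((n : ℚ) + 1) ≠ 0 := by positivity
    push_cast
    field_simp
  rw [this, neg_pow (X : ℚ[X])]
  simp

theorem one_add_mul_geom (d : ℕ) (Y : ℚ[X]) :
    (1 + Y) * ∑ n ∈ range (d + 1), (-Y) ^ n = 1 - (-Y) ^ (d + 1) := by
  have := mul_neg_geom_sum (-Y) (d + 1)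
  rw [sub_neg_eq_add] at this
  exact this

/-- the difference polynomial -/
noncomputable def D (d j : ℕ) : ℚ[X] :=
  (L d).comp ((1 + X) ^ j - 1) - C (j : ℚ) * L d

theorem coeff_zero_L (d : ℕ) : (L d).coeff 0 = 0 := by
  unfold L
  rw [finsetSum_coeff]
  refine Finset.sum_eq_zero fun n _ => ?_
  rw [coeff_C_mul, coeff_X_pow]
  simp

theorem X_dvd_Y (j : ℕ) : (X : ℚ[X]) ∣ (1 + X) ^ j - 1 := by
  have := sub_dvd_pow_sub_pow (1 + X : ℚ[X]) 1 j
  simpa using this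

theorem coeff_zero_D (d j : ℕ) : (D d j).coeff 0 = 0 := by
  unfold D
  rw [coeff_sub, coeff_C_mul, coeff_zero_L, mul_zero, sub_zero]
  rw [coeff_zero_eq_eval_zero, eval_comp]
  have : eval 0 ((1 + X : ℚ[X]) ^ j - 1) = 0 := by simp
  rw [this, ← coeff_zero_eq_eval_zero, coeff_zero_L]

theorem X_pow_dvd_derivative_D (d j : ℕ) : (X : ℚ[X]) ^ (d + 1) ∣ derivative (D d j) := by
  set Y : ℚ[X] := (1 + X) ^ j - 1 with hY
  have hcop : IsCoprime ((X : ℚ[X]) ^ (d + 1)) ((1 + X) ^ j) := by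
    apply IsCoprime.pow
    exact ⟨-1, 1, by ring⟩
  apply hcop.dvd_of_dvd_mul_left
  have hderivY : derivative Y = C (j : ℚ) * (1 + X) ^ (j - 1) := by
    rw [hY, derivative_sub, derivative_one, sub_zero, derivative_pow]
    simp
  have h1Y : 1 + Y = (1 + X) ^ j := by rw [hY]; ring
  have hD : derivative (D d j) =
      (∑ n ∈ range (d + 1), (-Y) ^ n) * (C (j : ℚ) * (1 + X) ^ (j - 1)) -
        C (j : ℚ) * ∑ n ∈ range (d + 1), (-X) ^ n := by
    unfold D
    rw [derivative_sub, derivative_comp, derivative_C_mul, derivative_L, hderivY]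
    congr 1
    rw [mul_comm]
    congr 1
    simp [Polynomial.sum_comp, hY]
  have key : (1 + X) ^ j * derivative (D d j) =
      C (j : ℚ) * (1 + X) ^ (j - 1) * ((-X) ^ (d + 1) - (-Y) ^ (d + 1)) := by
    rcases Nat.eq_zero_or_pos j with hj | hj
    · subst hj
      have hY0 : Y = 0 := by rw [hY]; simp
      rw [hD, hY0]
      simp
    have hpow : (1 + X : ℚ[X]) ^ j = (1 + X) ^ (j - 1) * (1 + X) := by
      rw [← pow_succ, Nat.sub_add_cancel hj]
    have e1 := one_add_mul_geom d Y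
    have e2 := one_add_mul_geom d X
    rw [hD, mul_sub]
    have t1 : (1 + X : ℚ[X]) ^ j * ((∑ n ∈ range (d + 1), (-Y) ^ n) *
        (C (j : ℚ) * (1 + X) ^ (j - 1))) =
        (1 - (-Y) ^ (d + 1)) * (C (j : ℚ) * (1 + X) ^ (j - 1)) := by
      rw [← e1, h1Y]; ring
    have t2 : (1 + X : ℚ[X]) ^ j * (C (j : ℚ) * ∑ n ∈ range (d + 1), (-X) ^ n) =
        (C (j : ℚ) * (1 + X) ^ (j - 1)) * (1 - (-X) ^ (d + 1)) := by
      rw [← e2, hpow]; ring
    rw [t1, t2]
    ring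
  rw [key]
  apply Dvd.dvd.mul_left
  apply dvd_sub
  · rw [neg_pow]; exact Dvd.intro_left _ rfl
  · rw [neg_pow]
    apply Dvd.dvd.mul_left
    exact pow_dvd_pow_of_dvd (X_dvd_Y j) _

theorem X_pow_dvd_D (d j : ℕ) : (X : ℚ[X]) ^ (d + 1) ∣ D d j := by
  rw [X_pow_dvd_iff]
  intro m hm
  rcases Nat.eq_zero_or_pos m with rfl | hpos
  · exact coeff_zero_D d j
  have h := (X_pow_dvd_iff.mp (X_pow_dvd_derivative_D d j)) (m - 1) (by omega)
  rw [coeff_derivative, Nat.sub_add_cancel hpos] at h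
  have hne : (((m - 1 : ℕ) : ℚ) + 1) ≠ 0 := by positivity
  exact (mul_eq_zero.mp h).resolve_right hne

/-- the log identity for nilpotent elements of a `ℚ`-algebra -/
theorem log_pow {A : Type*} [CommRing A] [Algebra ℚ A] (d j : ℕ) (N : A) (hN : N ^ (d + 1) = 0) :
    ∑ n ∈ range (d + 1), ((-1 : ℚ) ^ n / ((n : ℚ) + 1)) • ((1 + N) ^ j - 1) ^ (n + 1) =
      (j : ℚ) • ∑ n ∈ range (d + 1), ((-1 : ℚ) ^ n / ((n : ℚ) + 1)) • N ^ (n + 1) := by
  obtain ⟨R, hR⟩ := X_pow_dvd_D d j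
  have h := congrArg (aeval N) hR
  rw [map_mul, map_pow, aeval_X, hN, zero_mul] at h
  unfold D at h
  rw [map_sub, sub_eq_zero, aeval_comp] at h
  have hL : ∀ M : A, aeval M (L d) =
      ∑ n ∈ range (d + 1), ((-1 : ℚ) ^ n / ((n : ℚ) + 1)) • M ^ (n + 1) := by
    intro M
    unfold L
    rw [map_sum]
    refine Finset.sum_congr rfl fun n _ => ?_
    rw [map_mul, aeval_C, map_pow, aeval_X, Algebra.smul_def]
  rw [map_mul, aeval_C, hL, hL, ← Algebra.smul_def] at h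
  simpa using h

end Groth.Agent.H76.LogPoly
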