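import Mathlib
import Groth.Agent.H76.LogPoly
import Groth.Agent.H17.GammaFilt
import Groth.Agent.S3287
import Groth.Agent.S3285

/-!
# The logarithm of a line element is an eigenvector of the Adams operations
-/

set_option autoImplicit false
universe u

open Finset TensorProduct LambdaRing

namespace Groth.Agent.H76.LogLine

variable {K : Type u} [CommRing K] [LambdaRing.LambdaOps K]

theorem gammaFiltration_antitone (P : PosStructure K) (n : ℕ) :
    gammaFiltration P (n + 1) ≤ gammaFiltration P n := by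
  by_cases hn : n = 0
  · subst hn
    rw [Groth.Agent.H17.gammaFiltration_zero]
    exact le_top
  rw [Groth.Agent.H17.gammaFiltration_pos P hn,
    Groth.Agent.H17.gammaFiltration_pos P (Nat.succ_ne_zero n)]
  apply AddSubgroup.closure_mono
  rintro y ⟨l, hl, hls, rfl⟩
  exact ⟨l, hl, by omega, rfl⟩

theorem gammaFiltration_le_of_le (P : PosStructure K) {m n : ℕ} (h : m ≤ n) :
    gammaFiltration P n ≤ gammaFiltration P m := by
  induction n, h using Nat.le_induction with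
  | base => exact le_refl _
  | succ n _ ih => exact (gammaFiltration_antitone P n).trans ih

theorem sub_one_mem (P : PosStructure K) (u : K) (hu : P.IsLine u) :
    u - 1 ∈ gammaFiltration P 1 := by
  rw [Groth.Agent.H17.gammaFiltration_pos P one_ne_zero]
  apply AddSubgroup.subset_closure
  refine ⟨[(1, u - 1)], ?_, ?_, ?_⟩
  · intro p hp
    simp only [List.mem_singleton] at hp
    subst hp
    simp [hu.2]
  · simp
  · simp [Groth.Agent.H17.gamma_one]

theorem sub_one_pow_mem (P : PosStructure K) (u : K) (hu : P.IsLine u) (n : ℕ) :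
    (u - 1) ^ n ∈ gammaFiltration P n := by
  induction n with
  | zero => rw [Groth.Agent.H17.gammaFiltration_zero]; trivial
  | succ n ih =>
    rw [pow_succ]
    exact Groth.Agent.H17.mul_mem_gammaFiltration P n 1 _ _ ih (sub_one_mem P u hu)

theorem main (P : LambdaRing.PosStructure K) (hK : LambdaRing.HasSplitting K P) (d : ℕ)
    (hd : LambdaRing.gammaFiltration P (d + 1) = ⊥)
    (j : ℕ) (Ψ : ℚ ⊗[ℤ] K →ₗ[ℚ] ℚ ⊗[ℤ] K)
    (hΨ : ∀ x : K, Ψ (1 ⊗ₜ[ℤ] x) = 1 ⊗ₜ[ℤ] LambdaRing.adams P j x)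
    (u : K) (hu : P.IsLine u) :
    (∑ n ∈ range (d + 1), ((-1 : ℚ) ^ n / ((n : ℚ) + 1)) ⊗ₜ[ℤ] ((u - 1) ^ (n + 1))) ∈
        Module.End.eigenspace Ψ (j : ℚ) ∧
      (∑ n ∈ range (d + 1), ((-1 : ℚ) ^ n / ((n : ℚ) + 1)) ⊗ₜ[ℤ] ((u - 1) ^ (n + 1))) -
          (1 : ℚ) ⊗ₜ[ℤ] (u - 1) ∈
        Submodule.span ℚ ((fun x : K => (1 : ℚ) ⊗ₜ[ℤ] x) ''
          (LambdaRing.gammaFiltration P 2 : Set K)) := by
  obtain ⟨f, hf⟩ := Groth.Agent.S3285.result K P hK j
  have hfu : f u = u ^ j := by rw [hf, Groth.Agent.S3287.result K P u hu j]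
  have hnil : (u - 1) ^ (d + 1) = 0 := by
    have := sub_one_pow_mem P u hu (d + 1)
    rw [hd] at this
    exact this
  have htmul : ∀ (c : ℚ) (x : K), c ⊗ₜ[ℤ] x = c • ((1 : ℚ) ⊗ₜ[ℤ] x) := by
    intro c x
    rw [TensorProduct.smul_tmul', smul_eq_mul, mul_one]
  have hpow : ∀ (x : K) (n : ℕ), (1 : ℚ) ⊗ₜ[ℤ] (x ^ n) = ((1 : ℚ) ⊗ₜ[ℤ] x) ^ n := by
    intro x n
    rw [Algebra.TensorProduct.tmul_pow, one_pow]
  constructor
  · rw [Module.End.mem_eigenspace_iff, map_sum]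
    have hterm : ∀ n ∈ range (d + 1),
        Ψ (((-1 : ℚ) ^ n / ((n : ℚ) + 1)) ⊗ₜ[ℤ] ((u - 1) ^ (n + 1))) =
          ((-1 : ℚ) ^ n / ((n : ℚ) + 1)) •
            ((1 + (1 : ℚ) ⊗ₜ[ℤ] (u - 1)) ^ j - 1) ^ (n + 1) := by
      intro n _
      rw [htmul, map_smul, hΨ, ← hf, map_pow, map_sub, map_one, hfu, hpow]
      congr 2
      have : (1 : ℚ ⊗[ℤ] K) = (1 : ℚ) ⊗ₜ[ℤ] (1 : K) := rfl
      rw [this, ← TensorProduct.tmul_add, ← hpow, ← TensorProduct.tmul_sub]
      congr 2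
      ring
    rw [Finset.sum_congr rfl hterm]
    have hN : ((1 : ℚ) ⊗ₜ[ℤ] (u - 1) : ℚ ⊗[ℤ] K) ^ (d + 1) = 0 := by
      rw [← hpow, hnil, TensorProduct.tmul_zero]
    rw [Groth.Agent.H76.LogPoly.log_pow d j _ hN]
    congr 1
    refine Finset.sum_congr rfl fun n _ => ?_
    rw [htmul _ ((u - 1) ^ (n + 1)), hpow]
  · rw [Finset.sum_range_succ']
    have h0 : ((-1 : ℚ) ^ 0 / (((0 : ℕ) : ℚ) + 1)) ⊗ₜ[ℤ] ((u - 1) ^ (0 + 1)) =
        (1 : ℚ) ⊗ₜ[ℤ] (u - 1) := by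
      simp
    rw [h0, add_sub_cancel_right]
    apply Submodule.sum_mem
    intro n _
    rw [htmul]
    apply Submodule.smul_mem
    apply Submodule.subset_span
    refine ⟨_, ?_, rfl⟩
    exact gammaFiltration_le_of_le P (by omega) (sub_one_pow_mem P u hu (n + 1 + 1))

end Groth.Agent.H76.LogLine
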