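import Mathlib
import Groth.Agent.H34.MLLimit
import Groth.Agent.H34.AbComplexElem
import Groth.Agent.S15235

/-!
# Towers of cochain complexes of abelian groups with surjective transition maps: basic API
-/

set_option autoImplicit false
universe u

open CategoryTheory CategoryTheory.Limits Opposite

namespace Groth.Agent.H76.Milnor

open Groth.Agent.H34

/-- one-step compatibility implies compatibility along all morphisms of `ℕᵒᵖ` -/
lemma compat_of_succ (F : ℕᵒᵖ ⥤ AddCommGrpCat.{u}) (s : ∀ j, F.obj j)
    (h : ∀ n : ℕ, F.map (homOfLE (Nat.le_succ n)).op (s (op (n + 1))) = s (op n))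
    ⦃j j' : ℕᵒᵖ⦄ (f : j ⟶ j') : F.map f (s j) = s j' := by
  have key : ∀ (b a : ℕ) (hab : b ≤ a), F.map (homOfLE hab).op (s (op a)) = s (op b) := by
    intro b a hab
    induction a, hab using Nat.le_induction with
    | base =>
      have : (homOfLE (le_refl b)).op = 𝟙 (op b) := Subsingleton.elim _ _
      rw [this, F.map_id]; rfl
    | succ a hab ih =>
      have : (homOfLE (hab.trans (Nat.le_succ a))).op =
          (homOfLE (Nat.le_succ a)).op ≫ (homOfLE hab).op := Subsingleton.elim _ _
      rw [this, F.map_comp, ConcreteCategory.comp_apply, h a, ih]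
  have hf : f = (homOfLE (leOfHom f.unop)).op := Subsingleton.elim _ _
  rw [hf]
  exact key j'.unop j.unop _

section Solve

variable (G : ℕ → Type u) [∀ n, AddCommGroup (G n)] (t : ∀ n, G (n + 1) →+ G n)
  (ht : ∀ n, Function.Surjective (t n))

/-- solution of `y n - t (y (n+1)) = c n` for a tower with surjective transition maps -/
noncomputable def solve (c : ∀ n, G n) : ∀ n, G n
  | 0 => 0
  | n + 1 => Classical.choose (ht n (solve c n - c n))

lemma solve_spec (c : ∀ n, G n) (n : ℕ) :
    solve G t ht c n - t n (solve G t ht c (n + 1)) = c n := by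
  have := Classical.choose_spec (ht n (solve G t ht c n - c n))
  change t n (solve G t ht c (n + 1)) = _ at this
  rw [this]; abel

end Solve

end Groth.Agent.H76.Milnor
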