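import Mathlib
import Groth.Agent.H76.MilnorA

set_option autoImplicit false
universe u

open CategoryTheory CategoryTheory.Limits Opposite

namespace Groth.Agent.H76.Milnor

open Groth.Agent.H34

variable (K : ℕᵒᵖ ⥤ HomologicalComplex AddCommGrpCat.{u} (ComplexShape.up ℤ))

/-- the `n`-th complex of the tower -/
abbrev A (n : ℕ) : HomologicalComplex AddCommGrpCat.{u} (ComplexShape.up ℤ) := K.obj (op n)

/-- the transition map -/
abbrev tr (n : ℕ) : A K (n + 1) ⟶ A K n := K.map (homOfLE (Nat.le_succ n)).op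

/-- the projection from the limit -/
noncomputable abbrev pr (n : ℕ) : limit K ⟶ A K n := limit.π K (op n)

/-- the degreewise cones are limit cones -/
noncomputable def hm (m : ℤ) : IsLimit ((HomologicalComplex.eval _ _ m).mapCone (limit.cone K)) :=
  isLimitOfPreserves _ (limit.isLimit K)

lemma pr_compat (m : ℤ) (n : ℕ) (x : (limit K).X m) :
    (tr K n).f m ((pr K (n + 1)).f m x) = (pr K n).f m x := by
  rw [← ConcreteCategory.comp_apply, ← HomologicalComplex.comp_f, limit.w]

/-- element of the limit complex from a compatible family -/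
noncomputable def mkL (m : ℤ) (s : ∀ n, (A K n).X m)
    (hs : ∀ n, (tr K n).f m (s (n + 1)) = s n) : (limit K).X m :=
  coneMk (hm K m) (fun j => s j.unop)
    (compat_of_succ (K ⋙ HomologicalComplex.eval _ _ m) (fun j => s j.unop) hs)

lemma pr_mkL (m : ℤ) (s : ∀ n, (A K n).X m)
    (hs : ∀ n, (tr K n).f m (s (n + 1)) = s n) (n : ℕ) :
    (pr K n).f m (mkL K m s hs) = s n :=
  cone_π_coneMk (hm K m) (fun j => s j.unop)
    (compat_of_succ (K ⋙ HomologicalComplex.eval _ _ m) (fun j => s j.unop) hs) (op n)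

lemma ext_L (m : ℤ) (x y : (limit K).X m) (h : ∀ n, (pr K n).f m x = (pr K n).f m y) : x = y := by
  apply cone_ext_ab (hm K m)
  intro j
  exact h j.unop

lemma pr_d (m m' : ℤ) (n : ℕ) (x : (limit K).X m) :
    (pr K n).f m' ((limit K).d m m' x) = (A K n).d m m' ((pr K n).f m x) := by
  rw [← ConcreteCategory.comp_apply, ← (pr K n).comm, ConcreteCategory.comp_apply]

lemma tr_d (m m' : ℤ) (n : ℕ) (x : (A K (n + 1)).X m) :
    (tr K n).f m' ((A K (n + 1)).d m m' x) = (A K n).d m m' ((tr K n).f m x) := by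
  rw [← ConcreteCategory.comp_apply, ← (tr K n).comm, ConcreteCategory.comp_apply]

lemma post_π (p : ℤ) (i : ℕᵒᵖ) (ξ : (limit K).homology p) :
    limit.π (K ⋙ HomologicalComplex.homologyFunctor _ _ p) i
      (limit.post K (HomologicalComplex.homologyFunctor _ _ p) ξ) =
        HomologicalComplex.homologyMap (limit.π K i) p ξ := by
  rw [← ConcreteCategory.comp_apply]
  have := limit.post_π K (HomologicalComplex.homologyFunctor AddCommGrpCat.{u}
    (ComplexShape.up ℤ) p) i
  exact congr($this ξ)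

variable (hK : ∀ (n : ℕ) (q : ℤ), Function.Surjective ((K.map (homOfLE (Nat.le_succ n)).op).f q).hom)

include hK in
lemma isML (m : ℤ) : ((K ⋙ HomologicalComplex.eval _ _ m) ⋙ forget AddCommGrpCat).IsMittagLeffler :=
  (Groth.Agent.S15235.result (K ⋙ HomologicalComplex.eval _ _ m) 0 (fun j _ => hK j m)).1

include hK in
theorem post_surjective (p : ℤ) :
    Function.Surjective (limit.post K (HomologicalComplex.homologyFunctor _ _ p)).hom := by
  classical
  let X : ℤ → (ℕᵒᵖ ⥤ AddCommGrpCat.{u}) := fun m => K ⋙ HomologicalComplex.eval _ _ m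
  let Z : ℤ → (ℕᵒᵖ ⥤ AddCommGrpCat.{u}) := fun m => K ⋙ HomologicalComplex.cyclesFunctor _ _ m
  let H : ℤ → (ℕᵒᵖ ⥤ AddCommGrpCat.{u}) := fun m => K ⋙ HomologicalComplex.homologyFunctor _ _ m
  let τ : ∀ m' m : ℤ, X m' ⟶ Z m := fun m' m =>
    { app := fun i => (K.obj i).toCycles m' m
      naturality := fun i j f => (toCycles_naturality (K.map f) m' m).symm }
  let πH : ∀ m : ℤ, Z m ⟶ H m := fun m =>
    Functor.whiskerLeft K (HomologicalComplex.natTransHomologyπ _ _ m)
  have hexact2 : ∀ i, ((πH p).app i).hom.ker = ((τ (p - 1) p).app i).hom.range := by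
    intro i
    ext z
    constructor
    · intro hz
      exact exists_of_homologyπ_eq_zero (K.obj i) (p - 1) p (by simp) z hz
    · rintro ⟨y, rfl⟩
      exact homologyπ_toCycles_apply (K.obj i) (p - 1) p y
  intro η
  obtain ⟨ζ, hζc, hζ⟩ := exists_section_lift_of_isMittagLeffler (τ (p - 1) p) (πH p) hexact2
    (isML K hK (p - 1))
    (fun i => limit.π (H p) i η) (fun j j' f => limit_w_apply (H p) f η)
    (fun i => homologyπ_surjective (K.obj i) p _)
  have hxc : ∀ ⦃j j' : ℕᵒᵖ⦄ (f : j ⟶ j'),
      (X p).map f ((K.obj j).iCycles p (ζ j)) = (K.obj j').iCycles p (ζ j') := by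
    intro j j' f
    change (K.map f).f p ((K.obj j).iCycles p (ζ j)) = _
    rw [← iCycles_cyclesMap_apply]
    congr 1
    exact hζc f
  let xL : (limit K).X p := coneMk (hm K p) (fun i => (K.obj i).iCycles p (ζ i)) hxc
  have hxLi : ∀ i, (limit.π K i).f p xL = (K.obj i).iCycles p (ζ i) := fun i =>
    cone_π_coneMk (hm K p) _ hxc i
  have hd : (limit K).d p (p + 1) xL = 0 := by
    apply cone_ext_ab (hm K (p + 1))
    intro i
    change (limit.π K i).f (p + 1) ((limit K).d p (p + 1) xL) = (limit.π K i).f (p + 1) 0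
    rw [map_zero, ← ConcreteCategory.comp_apply, ← (limit.π K i).comm,
      ConcreteCategory.comp_apply, hxLi, d_iCycles_apply]
  obtain ⟨z, hz⟩ := exists_cycle_of_d_eq_zero (limit K) p (p + 1) (by simp) xL hd
  refine ⟨(limit K).homologyπ p z, ?_⟩
  apply limit_ext_ab
  intro i
  change limit.π (H p) i (limit.post K (HomologicalComplex.homologyFunctor _ _ p) _) = _
  rw [post_π, homologyMap_homologyπ_apply]
  have : HomologicalComplex.cyclesMap (limit.π K i) p z = ζ i := by
    apply iCycles_injective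
    rw [iCycles_cyclesMap_apply, hz, hxLi]
  rw [this]
  exact hζ i

end Groth.Agent.H76.Milnor
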