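import Mathlib
import Groth.Agent.H76.MilnorB
import Groth.Prelude.Def_Formal2

set_option autoImplicit false
universe u

open CategoryTheory CategoryTheory.Limits Opposite

namespace Groth.Agent.H76.Milnor

open Groth.Agent.H34

variable (K : ℕᵒᵖ ⥤ HomologicalComplex AddCommGrpCat.{u} (ComplexShape.up ℤ))

/-- the tower of homology groups -/
abbrev Hq (q : ℤ) (n : ℕ) : Type u := (K.obj (op n)).homology q

/-- its transition maps -/
noncomputable abbrev tH (q : ℤ) (n : ℕ) : Hq K q (n + 1) →+ Hq K q n :=
  (HomologicalComplex.homologyMap (K.map (homOfLE (Nat.le_succ n)).op) q).hom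

variable (q p : ℤ) (hqp : q + 1 = p)

/-- `y ↦ (d (y n - t y (n+1)))_n` -/
noncomputable def theta : (∀ n, (A K n).X q) →+ (∀ n, (A K n).X p) where
  toFun y := fun n => (A K n).d q p (y n - (tr K n).f q (y (n + 1)))
  map_zero' := by ext n; simp
  map_add' x y := by
    ext n
    simp only [Pi.add_apply, map_add, map_sub]
    abel

/-- families `y` in degree `q` whose differentials are compatible -/
noncomputable abbrev DD : AddSubgroup (∀ n, (A K n).X q) := (theta K q p).ker

lemma mem_DD (y : ∀ n, (A K n).X q) :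
    y ∈ DD K q p ↔ ∀ n, (A K n).d q p (y n - (tr K n).f q (y (n + 1))) = 0 := by
  rw [AddMonoidHom.mem_ker]
  constructor
  · intro h n; exact congrFun h n
  · intro h; ext n; exact h n

lemma DD_compat (y : DD K q p) (n : ℕ) :
    (tr K n).f p ((A K (n + 1)).d q p (y.1 (n + 1))) = (A K n).d q p (y.1 n) := by
  have := (mem_DD K q p y.1).1 y.2 n
  rw [map_sub, sub_eq_zero] at this
  rw [tr_d, ← this]

/-- `y ↦ (d y_n)_n` as an element of the limit complex -/
noncomputable def alpha1 : AddCommGrpCat.of (DD K q p) ⟶ (limit K).X p :=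
  AddCommGrpCat.ofHom
    { toFun := fun y => mkL K p (fun n => (A K n).d q p (y.1 n)) (DD_compat K q p y)
      map_zero' := by
        apply ext_L
        intro n
        rw [pr_mkL, map_zero]
        simp
      map_add' := fun x y => by
        apply ext_L
        intro n
        rw [map_add, pr_mkL, pr_mkL, pr_mkL]
        simp }

lemma pr_alpha1 (y : DD K q p) (n : ℕ) :
    (pr K n).f p (alpha1 K q p y) = (A K n).d q p (y.1 n) :=
  pr_mkL K p (fun n => (A K n).d q p (y.1 n)) (DD_compat K q p y) n

lemma alpha1_d : alpha1 K q p ≫ (limit K).d p (p + 1) = 0 := by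
  ext y
  apply ext_L
  intro n
  rw [ConcreteCategory.comp_apply, pr_d, pr_alpha1]
  change _ = (pr K n).f (p + 1) 0
  rw [map_zero, ← ConcreteCategory.comp_apply, (A K n).d_comp_d]
  rfl

/-- `y ↦ [(d y_n)_n]` -/
noncomputable def alphaCyc : AddCommGrpCat.of (DD K q p) ⟶ (limit K).cycles p :=
  (limit K).liftCycles (alpha1 K q p) (p + 1) (by simp) (alpha1_d K q p)

lemma iCycles_alphaCyc (y : DD K q p) :
    (limit K).iCycles p (alphaCyc K q p y) = alpha1 K q p y := by
  rw [← ConcreteCategory.comp_apply]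
  unfold alphaCyc
  rw [HomologicalComplex.liftCycles_i]

/-- `y ↦ [(d y_n)_n]` -/
noncomputable def alpha : DD K q p →+ (limit K).homology p :=
  (alphaCyc K q p ≫ (limit K).homologyπ p).hom

lemma alpha_apply (y : DD K q p) :
    alpha K q p y = (limit K).homologyπ p (alphaCyc K q p y) := rfl

/-- `y ↦ y_n - t y_{n+1}` -/
noncomputable def beta1 (n : ℕ) : AddCommGrpCat.of (DD K q p) ⟶ (A K n).X q :=
  AddCommGrpCat.ofHom
    { toFun := fun y => y.1 n - (tr K n).f q (y.1 (n + 1))
      map_zero' := by simp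
      map_add' := fun x y => by
        simp only [AddSubgroup.coe_add, Pi.add_apply, map_add]
        abel }

lemma beta1_apply (n : ℕ) (y : DD K q p) :
    beta1 K q p n y = y.1 n - (tr K n).f q (y.1 (n + 1)) := rfl

lemma beta1_d (n : ℕ) : beta1 K q p n ≫ (A K n).d q p = 0 := by
  ext y
  rw [ConcreteCategory.comp_apply, beta1_apply]
  exact (mem_DD K q p y.1).1 y.2 n

noncomputable def betaCyc (n : ℕ) : AddCommGrpCat.of (DD K q p) ⟶ (A K n).cycles q :=
  (A K n).liftCycles (beta1 K q p n) p (by simp; omega) (beta1_d K q p n)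

lemma iCycles_betaCyc (n : ℕ) (y : DD K q p) :
    (A K n).iCycles q (betaCyc K q p hqp n y) = y.1 n - (tr K n).f q (y.1 (n + 1)) := by
  rw [← ConcreteCategory.comp_apply]
  unfold betaCyc
  rw [HomologicalComplex.liftCycles_i]
  rfl

noncomputable def betaN (n : ℕ) : DD K q p →+ Hq K q n :=
  (betaCyc K q p hqp n ≫ (A K n).homologyπ q).hom

lemma betaN_apply (n : ℕ) (y : DD K q p) :
    betaN K q p hqp n y = (A K n).homologyπ q (betaCyc K q p hqp n y) := rfl

noncomputable def beta : DD K q p →+ Formal2.limOne (Hq K q) (tH K q) :=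
  (QuotientAddGroup.mk' _).comp (AddMonoidHom.pi (betaN K q p hqp))

end Groth.Agent.H76.Milnor
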