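import Mathlib
import Groth.Agent.H76.MilnorC

set_option autoImplicit false
universe u

open CategoryTheory CategoryTheory.Limits Opposite

namespace Groth.Agent.H76.Milnor

open Groth.Agent.H34

variable (K : ℕᵒᵖ ⥤ HomologicalComplex AddCommGrpCat.{u} (ComplexShape.up ℤ))
variable (q p : ℤ) (hqp : q + 1 = p)

/-- `α` lands in the kernel of the comparison map -/
theorem post_alpha (y : DD K q p) :
    limit.post K (HomologicalComplex.homologyFunctor _ _ p) (alpha K q p y) = 0 := by
  apply limit_ext_ab
  intro i
  rw [post_π, alpha_apply, homologyMap_homologyπ_apply, map_zero]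
  have : HomologicalComplex.cyclesMap (limit.π K i) p (alphaCyc K q p y) =
      (K.obj i).toCycles q p (y.1 i.unop) := by
    apply iCycles_injective
    rw [iCycles_cyclesMap_apply, iCycles_alphaCyc, iCycles_toCycles_apply]
    exact pr_alpha1 K q p y i.unop
  rw [this, homologyπ_toCycles_apply]
  rfl

include hqp in
/-- the kernel of the comparison map is the image of `α` -/
theorem range_alpha :
    (alpha K q p).range = (limit.post K (HomologicalComplex.homologyFunctor _ _ p)).hom.ker := by
  classical
  apply le_antisymm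
  · rintro _ ⟨y, rfl⟩
    exact post_alpha K q p y
  · intro ξ hξ
    have hξ' : limit.post K (HomologicalComplex.homologyFunctor _ _ p) ξ = 0 := hξ
    obtain ⟨z, rfl⟩ := homologyπ_surjective (limit K) p ξ
    have hy : ∀ n : ℕ, ∃ y : (A K n).X q,
        (A K n).d q p y = (pr K n).f p ((limit K).iCycles p z) := by
      intro n
      have h0 : (A K n).homologyπ p (HomologicalComplex.cyclesMap (pr K n) p z) = 0 := by
        rw [← homologyMap_homologyπ_apply, ← post_π, hξ', map_zero]
        rfl
      obtain ⟨y, hy⟩ := exists_of_homologyπ_eq_zero (A K n) q p (by simp; omega) _ h0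
      refine ⟨y, ?_⟩
      rw [← iCycles_toCycles_apply, hy, iCycles_cyclesMap_apply]
    choose y hy using hy
    have hyD : y ∈ DD K q p := by
      rw [mem_DD]
      intro n
      rw [map_sub, ← tr_d, hy, hy, pr_compat, sub_self]
    refine ⟨⟨y, hyD⟩, ?_⟩
    rw [alpha_apply]
    congr 1
    apply iCycles_injective
    rw [iCycles_alphaCyc]
    apply ext_L
    intro n
    rw [pr_alpha1]
    exact hy n

variable (hK : ∀ (n : ℕ) (q : ℤ), Function.Surjective ((K.map (homOfLE (Nat.le_succ n)).op).f q).hom)

include hK in
theorem beta_surjective : Function.Surjective (beta K q p hqp) := by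
  classical
  intro η
  obtain ⟨η, rfl⟩ := QuotientAddGroup.mk_surjective η
  have hc : ∀ n, ∃ c : (A K n).cycles q, (A K n).homologyπ q c = η n :=
    fun n => homologyπ_surjective (A K n) q (η n)
  choose c hc using hc
  set y := solve (fun n => (A K n).X q) (fun n => ((tr K n).f q).hom) (fun n => hK n q)
    (fun n => (A K n).iCycles q (c n)) with hy
  have hys : ∀ n, y n - (tr K n).f q (y (n + 1)) = (A K n).iCycles q (c n) := fun n =>
    solve_spec (fun n => (A K n).X q) (fun n => ((tr K n).f q).hom) (fun n => hK n q)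
      (fun n => (A K n).iCycles q (c n)) n
  have hyD : y ∈ DD K q p := by
    rw [mem_DD]
    intro n
    rw [hys, d_iCycles_apply]
  refine ⟨⟨y, hyD⟩, ?_⟩
  change QuotientAddGroup.mk (AddMonoidHom.pi (betaN K q p hqp) ⟨y, hyD⟩) = _
  congr 1
  ext n
  change betaN K q p hqp n ⟨y, hyD⟩ = η n
  rw [betaN_apply, ← hc n]
  congr 1
  apply iCycles_injective
  rw [iCycles_betaCyc]
  exact hys n

include hK in
theorem ker_alpha_eq_ker_beta : (alpha K q p).ker = (beta K q p hqp).ker := by
  classical
  ext y
  rw [AddMonoidHom.mem_ker, AddMonoidHom.mem_ker]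
  constructor
  · -- `α y = 0 ⇒ β y = 0`
    intro hα
    rw [alpha_apply] at hα
    obtain ⟨a, ha⟩ := exists_of_homologyπ_eq_zero (limit K) q p (by simp; omega) _ hα
    have hda : ∀ n, (A K n).d q p ((pr K n).f q a) = (A K n).d q p (y.1 n) := by
      intro n
      rw [← pr_d, ← iCycles_toCycles_apply, ha, iCycles_alphaCyc, pr_alpha1]
    have hw : ∀ n, ∃ w : (A K n).cycles q, (A K n).iCycles q w = y.1 n - (pr K n).f q a := by
      intro n
      apply exists_cycle_of_d_eq_zero (A K n) q p (by simp; omega)
      rw [map_sub, hda, sub_self]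
    choose w hw using hw
    change QuotientAddGroup.mk (AddMonoidHom.pi (betaN K q p hqp) y) = 0
    rw [QuotientAddGroup.eq_zero_iff]
    refine ⟨fun n => (A K n).homologyπ q (w n), ?_⟩
    ext n
    change (A K n).homologyπ q (w n) - tH K q n ((A K (n + 1)).homologyπ q (w (n + 1))) =
      betaN K q p hqp n y
    rw [betaN_apply]
    change _ - HomologicalComplex.homologyMap (tr K n) q _ = _
    rw [homologyMap_homologyπ_apply, ← map_sub]
    congr 1
    apply iCycles_injective
    rw [map_sub, iCycles_cyclesMap_apply, hw, hw, iCycles_betaCyc, map_sub, pr_compat]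
    abel
  · -- `β y = 0 ⇒ α y = 0`
    intro hβ
    change QuotientAddGroup.mk (AddMonoidHom.pi (betaN K q p hqp) y) = 0 at hβ
    rw [QuotientAddGroup.eq_zero_iff] at hβ
    obtain ⟨ω, hω⟩ := hβ
    have hωn : ∀ n, ω n - tH K q n (ω (n + 1)) = betaN K q p hqp n y := fun n => congrFun hω n
    have hw : ∀ n, ∃ w : (A K n).cycles q, (A K n).homologyπ q w = ω n :=
      fun n => homologyπ_surjective (A K n) q (ω n)
    choose w hw using hw
    have he : ∀ n, ∃ e : (A K n).X (q - 1), (A K n).d (q - 1) q e =
        (y.1 n - (tr K n).f q (y.1 (n + 1))) -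
          ((A K n).iCycles q (w n) - (tr K n).f q ((A K (n + 1)).iCycles q (w (n + 1)))) := by
      intro n
      have h0 : (A K n).homologyπ q (betaCyc K q p hqp n y -
          (w n - HomologicalComplex.cyclesMap (tr K n) q (w (n + 1)))) = 0 := by
        rw [map_sub, map_sub, ← betaN_apply, ← hωn n, hw, ← homologyMap_homologyπ_apply, hw]
        exact sub_self _
      obtain ⟨e, he⟩ := exists_of_homologyπ_eq_zero (A K n) (q - 1) q (by simp) _ h0
      refine ⟨e, ?_⟩
      rw [← iCycles_toCycles_apply, he, map_sub, map_sub, iCycles_betaCyc, iCycles_cyclesMap_apply]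
    choose e he using he
    set f := solve (fun n => (A K n).X (q - 1)) (fun n => ((tr K n).f (q - 1)).hom)
      (fun n => hK n (q - 1)) e with hf
    have hfs : ∀ n, f n - (tr K n).f (q - 1) (f (n + 1)) = e n := fun n =>
      solve_spec (fun n => (A K n).X (q - 1)) (fun n => ((tr K n).f (q - 1)).hom)
        (fun n => hK n (q - 1)) e n
    -- the compatible family
    let a : ∀ n, (A K n).X q := fun n =>
      y.1 n - (A K n).iCycles q (w n) - (A K n).d (q - 1) q (f n)
    have hac : ∀ n, (tr K n).f q (a (n + 1)) = a n := by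
      intro n
      have h1 := he n
      have h2 := hfs n
      change (tr K n).f q (y.1 (n + 1) - (A K (n + 1)).iCycles q (w (n + 1)) -
        (A K (n + 1)).d (q - 1) q (f (n + 1))) =
        y.1 n - (A K n).iCycles q (w n) - (A K n).d (q - 1) q (f n)
      rw [map_sub, map_sub, tr_d]
      have h3 : (A K n).d (q - 1) q (f n) - (A K n).d (q - 1) q ((tr K n).f (q - 1) (f (n + 1))) =
          (A K n).d (q - 1) q (e n) := by rw [← map_sub, h2]
      rw [h1] at h3
      have h4 : (A K n).d (q - 1) q ((tr K n).f (q - 1) (f (n + 1))) =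
          (A K n).d (q - 1) q (f n) - ((y.1 n - (tr K n).f q (y.1 (n + 1))) -
          ((A K n).iCycles q (w n) - (tr K n).f q ((A K (n + 1)).iCycles q (w (n + 1))))) := by
        rw [← h3]; abel
      rw [h4]; abel
    have hda : (limit K).d q p (mkL K q a hac) = alpha1 K q p y := by
      apply ext_L
      intro n
      rw [pr_d, pr_mkL, pr_alpha1]
      change (A K n).d q p (y.1 n - (A K n).iCycles q (w n) - (A K n).d (q - 1) q (f n)) = _
      rw [map_sub, map_sub, d_iCycles_apply, ← ConcreteCategory.comp_apply ((A K n).d (q - 1) q),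
        (A K n).d_comp_d]
      simp
    rw [alpha_apply]
    have : alphaCyc K q p y = (limit K).toCycles q p (mkL K q a hac) := by
      apply iCycles_injective
      rw [iCycles_alphaCyc, iCycles_toCycles_apply, hda]
    rw [this, homologyπ_toCycles_apply]

end Groth.Agent.H76.Milnor
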