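-- Copied from Groth/Agent/H50/MonoField.lean (helper50), renamed namespace, to keep H76 self-contained.
import Mathlib.Algebra.Category.Ring.Epi
import Mathlib.AlgebraicGeometry.ResidueField
import Mathlib.AlgebraicGeometry.Morphisms.Preimmersion
import Mathlib.LinearAlgebra.Basis.VectorSpace

set_option autoImplicit false
universe u
open CategoryTheory CategoryTheory.Limits AlgebraicGeometry Opposite TensorProduct

namespace Groth.Agent.H76

/-- An epimorphism of commutative rings between fields is surjective. -/
theorem surjective_algebraMap_of_isEpi_field (K L : Type u) [Field K] [Field L] [Algebra K L]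
    [Algebra.IsEpi K L] : Function.Surjective (algebraMap K L) := by
  obtain ⟨φ, hφ⟩ := LinearMap.exists_leftInverse_of_injective (Algebra.linearMap K L)
    (LinearMap.ker_eq_bot.2 (algebraMap K L).injective)
  have hφ1 : ∀ k : K, φ (algebraMap K L k) = k := fun k => by
    simpa using LinearMap.congr_fun hφ k
  let B : L →ₗ[K] L →ₗ[K] L := (LinearMap.lsmul K L).comp φ
  intro a
  have h := (Algebra.isEpi_iff_forall_one_tmul_eq K L).1 inferInstance a
  have h' := congrArg (TensorProduct.lift B) h
  have h1 : φ 1 = 1 := by simpa using hφ1 1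
  simp only [TensorProduct.lift.tmul, B, LinearMap.comp_apply, LinearMap.lsmul_apply, h1,
    one_smul] at h'
  exact ⟨φ a, by rw [Algebra.algebraMap_eq_smul_one]; exact h'.symm⟩

/-- A monomorphism from a nonempty scheme to the spectrum of a field is an isomorphism. -/
theorem isIso_of_mono_to_spec_field {V : Scheme.{u}} {K : Type u} [Field K]
    (v : V ⟶ Spec (CommRingCat.of K)) [Mono v] [Nonempty V] : IsIso v := by
  obtain ⟨x⟩ := ‹Nonempty V›
  let m : Spec (V.residueField x) ⟶ Spec (CommRingCat.of K) := V.fromSpecResidueField x ≫ v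
  have hm : Mono m := mono_comp _ _
  let φ : CommRingCat.of K ⟶ V.residueField x := Spec.preimage m
  have hφ : Spec.map φ = m := Spec.map_preimage m
  have hepi : Epi φ := by
    constructor
    intro R ψ₁ ψ₂ h
    apply Spec.map_injective
    rw [← cancel_mono m, ← hφ, ← Spec.map_comp, ← Spec.map_comp, h]
  letI : Algebra K (V.residueField x) := φ.hom.toAlgebra
  have hepi' : Epi (CommRingCat.ofHom (algebraMap K (V.residueField x))) := hepi
  have : Algebra.IsEpi K (V.residueField x) := CommRingCat.epi_iff_epi.mp hepi'
  have hsurj := surjective_algebraMap_of_isEpi_field K (V.residueField x)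
  have hbij : Function.Bijective φ.hom := ⟨φ.hom.injective, hsurj⟩
  have hiso : IsIso φ := (ConcreteCategory.isIso_iff_bijective φ).2 hbij
  have hmiso : IsIso m := by rw [← hφ]; infer_instance
  have : IsSplitEpi v := ⟨⟨inv m ≫ V.fromSpecResidueField x, by
    rw [Category.assoc]; exact IsIso.inv_hom_id m⟩⟩
  exact isIso_of_mono_of_isSplitEpi v

end Groth.Agent.H76
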