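import Groth.Prelude.Def_W4c2arithlefschetzNode
import Mathlib

set_option autoImplicit false
universe u

namespace Groth.Agent.H76

open MvPowerSeries

section
variable (B : Type u) [CommRing B] [IsDomain B] [IsDiscreteValuationRing B] (π : B) (hπ : Irreducible π)

include hπ

/-- The ideal `(π)` of a discrete valuation ring is prime. -/
theorem span_irreducible_isPrime : (Ideal.span ({π} : Set B)).IsPrime := by
  rw [Ideal.span_singleton_prime hπ.ne_zero]
  exact hπ.prime

omit [IsDomain B] [IsDiscreteValuationRing B] hπ in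
/-- A power series over `B` all of whose coefficients are divisible by `π` is `π` times a power series. -/
theorem exists_eq_C_mul_of_map_eq_zero (g : MvPowerSeries (Fin 2) B)
    (hg : MvPowerSeries.map (Ideal.Quotient.mk (Ideal.span ({π} : Set B))) g = 0) :
    ∃ g' : MvPowerSeries (Fin 2) B, g = C π * g' := by
  have h : ∀ n, ∃ c : B, coeff n g = π * c := by
    intro n
    have := congrArg (coeff n) hg
    rw [coeff_map, map_zero, Ideal.Quotient.eq_zero_iff_mem, Ideal.mem_span_singleton'] at this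
    obtain ⟨c, hc⟩ := this
    exact ⟨c, by rw [← hc, mul_comm]⟩
  choose c hc using h
  refine ⟨fun n => c n, ?_⟩
  ext n
  rw [hc n, coeff_C_mul]
  rfl

/-- `π` is a non-zero-divisor modulo `xy - π` in `B[[x, y]]`. -/
theorem nodeRel_mem_of_C_mul_mem (f : MvPowerSeries (Fin 2) B)
    (hf : C π * f ∈ Ideal.span {(X 0 * X 1 - C π : MvPowerSeries (Fin 2) B)}) :
    f ∈ Ideal.span {(X 0 * X 1 - C π : MvPowerSeries (Fin 2) B)} := by
  have hprime := span_irreducible_isPrime B π hπ
  obtain ⟨g, hg⟩ := Ideal.mem_span_singleton'.mp hf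
  set φ := Ideal.Quotient.mk (Ideal.span ({π} : Set B)) with hφ
  have hφπ : φ π = 0 := by
    rw [hφ, Ideal.Quotient.eq_zero_iff_mem]; exact Ideal.mem_span_singleton_self π
  have h1 := congrArg (MvPowerSeries.map φ) hg
  rw [map_mul, map_mul, map_sub, map_mul, map_C, map_X, map_X, hφπ, map_zero, sub_zero, zero_mul] at h1
  have hX : (X 0 * X 1 : MvPowerSeries (Fin 2) (B ⧸ Ideal.span ({π} : Set B))) ≠ 0 := by
    have : IsDomain (B ⧸ Ideal.span ({π} : Set B)) := Ideal.Quotient.isDomain _
    exact mul_ne_zero (nonZeroDivisors.ne_zero X_mem_nonzeroDivisors)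
      (nonZeroDivisors.ne_zero X_mem_nonzeroDivisors)
  have h2 : MvPowerSeries.map φ g = 0 := by
    have : IsDomain (B ⧸ Ideal.span ({π} : Set B)) := Ideal.Quotient.isDomain _
    rcases mul_eq_zero.mp h1 with h | h
    · exact h
    · exact absurd h hX
  obtain ⟨g', rfl⟩ := exists_eq_C_mul_of_map_eq_zero B π g h2
  have hCπ : (C π : MvPowerSeries (Fin 2) B) ≠ 0 := by
    intro h
    have := congrArg (coeff 0) h
    rw [coeff_zero_C, map_zero] at this
    exact hπ.ne_zero this
  have h3 : C π * f = C π * (g' * (X 0 * X 1 - C π)) := by rw [← hg]; ring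
  have h4 := mul_left_cancel₀ hCπ h3
  rw [h4]
  exact Ideal.mul_mem_left _ _ (Ideal.mem_span_singleton_self _)

/-- In the node algebra `B[[x,y]]/(xy - π)`, `π` is a non-zero-divisor. -/
theorem nodeAlg_pi_pow_mul_eq_zero (j : ℕ) (z : ArLef.NodeAlg B π)
    (hz : algebraMap B (ArLef.NodeAlg B π) (π ^ j) * z = 0) : z = 0 := by
  induction j with
  | zero => simpa using hz
  | succ j ih =>
    apply ih
    obtain ⟨f, rfl⟩ := Ideal.Quotient.mk_surjective z
    have h1 : algebraMap B (ArLef.NodeAlg B π) (π ^ (j + 1)) * Ideal.Quotient.mk _ f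
        = Ideal.Quotient.mk _ (C π * (C (π ^ j) * f)) := by
      have : ∀ b : B, algebraMap B (ArLef.NodeAlg B π) b = Ideal.Quotient.mk _ (C b) := fun b => rfl
      rw [pow_succ, map_mul (algebraMap B (ArLef.NodeAlg B π))]
      simp only [this, map_mul]
      ring
    rw [h1, Ideal.Quotient.eq_zero_iff_mem] at hz
    have h2 := nodeRel_mem_of_C_mul_mem B π hπ _ hz
    have h3 : algebraMap B (ArLef.NodeAlg B π) (π ^ j) * Ideal.Quotient.mk _ f
        = Ideal.Quotient.mk _ (C (π ^ j) * f) := by
      rw [map_mul]; rfl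
    rw [h3, Ideal.Quotient.eq_zero_iff_mem]
    exact h2

end

section
variable (B : Type u) [CommRing B] (π : B)

/-- The augmentation `B[[x,y]]/(xy - π) → B/(π)` sending `x, y ↦ 0`. -/
noncomputable def nodeAug : ArLef.NodeAlg B π →+* B ⧸ Ideal.span ({π} : Set B) :=
  Ideal.Quotient.lift _ ((Ideal.Quotient.mk (Ideal.span ({π} : Set B))).comp
    (constantCoeff (σ := Fin 2) (R := B))) (by
    intro a ha
    obtain ⟨g, rfl⟩ := Ideal.mem_span_singleton'.mp ha
    have hπ0 : (Ideal.Quotient.mk (Ideal.span ({π} : Set B))) π = 0 :=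
      Ideal.Quotient.eq_zero_iff_mem.mpr (Ideal.mem_span_singleton_self π)
    simp only [RingHom.comp_apply, map_mul, map_sub, constantCoeff_X, constantCoeff_C, hπ0, map_zero,
      mul_zero, sub_zero])

theorem nodeAug_t : nodeAug B π (ArLef.NodeAlg.t π) = 0 := by
  show (Ideal.Quotient.mk (Ideal.span ({π} : Set B))) (constantCoeff (X 0)) = 0
  rw [constantCoeff_X, map_zero]

theorem nodeAug_e : nodeAug B π (ArLef.NodeAlg.e π) = 0 := by
  show (Ideal.Quotient.mk (Ideal.span ({π} : Set B))) (constantCoeff (X 1)) = 0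
  rw [constantCoeff_X, map_zero]

theorem nodeAug_algebraMap (b : B) :
    nodeAug B π (algebraMap B (ArLef.NodeAlg B π) b) = Ideal.Quotient.mk _ b := by
  show (Ideal.Quotient.mk (Ideal.span ({π} : Set B))) (constantCoeff (C b)) = _
  rw [constantCoeff_C]

theorem nodeAlg_t_mul_e : ArLef.NodeAlg.t π * ArLef.NodeAlg.e π = algebraMap B (ArLef.NodeAlg B π) π := by
  show Ideal.Quotient.mk _ (X 0) * Ideal.Quotient.mk _ (X 1) = Ideal.Quotient.mk _ (C π)
  rw [← map_mul, Ideal.Quotient.eq]
  exact Ideal.mem_span_singleton_self _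

end

end Groth.Agent.H76
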