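import Mathlib

/-!
# Successive approximation for nodes over a complete base (Liu 10.3.20, first half)

`Ah → Bh` a ring map, `m` an ideal of `Ah`, `n = m Bh`.  If every element of `Bh` is of the form
`φ a + u s + v t + ν` with `ν ∈ n`, `u v ∈ n`, `Ah` is `m`-adically precomplete and `Bh` is
`n`-adically complete, then `u, v` can be corrected modulo `n` to `u', v'` with
`u' v' = φ α`, `α ∈ m`.
-/

set_option autoImplicit false

namespace Groth.Agent.H76.NodeCompl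

variable {Ah Bh : Type*} [CommRing Ah] [CommRing Bh] (φ : Ah →+* Bh) (m : Ideal Ah)

/-- Decomposition hypothesis: every element of `Bh` is `φ a + u s + v t + ν` with `ν ∈ m Bh`. -/
def Decomp (u v : Bh) : Prop :=
  ∀ b : Bh, ∃ (a : Ah) (s t ν : Bh), ν ∈ m.map φ ∧ b = φ a + u * s + v * t + ν

variable {φ m}

theorem Decomp.shift {u v U V : Bh} (H : Decomp φ m u v) (hU : U - u ∈ m.map φ)
    (hV : V - v ∈ m.map φ) : Decomp φ m U V := by
  intro b
  obtain ⟨a, s, t, ν, hν, hb⟩ := H b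
  refine ⟨a, s, t, ν - (U - u) * s - (V - v) * t, ?_, ?_⟩
  · exact Ideal.sub_mem _ (Ideal.sub_mem _ hν (Ideal.mul_mem_right _ _ hU))
      (Ideal.mul_mem_right _ _ hV)
  · rw [hb]; ring

theorem decomp_mul {U V : Bh} (H : Decomp φ m U V) (i : ℕ) (μ : Ah) (hμ : μ ∈ m ^ i) (β : Bh) :
    ∃ (a' : Ah) (b c ε' : Bh), a' ∈ m ^ i ∧ b ∈ (m.map φ) ^ i ∧ c ∈ (m.map φ) ^ i ∧
      ε' ∈ (m.map φ) ^ (i + 1) ∧ β * φ μ = φ a' + U * b + V * c + ε' := by
  obtain ⟨a₀, s, t, ν, hν, hβ⟩ := H β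
  have hφμ : φ μ ∈ (m.map φ) ^ i := by
    rw [← Ideal.map_pow]; exact Ideal.mem_map_of_mem _ hμ
  refine ⟨a₀ * μ, φ μ * s, φ μ * t, φ μ * ν, Ideal.mul_mem_left _ _ hμ,
    Ideal.mul_mem_right _ _ hφμ, Ideal.mul_mem_right _ _ hφμ, ?_, ?_⟩
  · rw [pow_succ]; exact Ideal.mul_mem_mul hφμ hν
  · rw [hβ, map_mul]; ring

theorem decomp_pow {U V : Bh} (H : Decomp φ m U V) (i : ℕ) (ε : Bh)
    (hε : ε ∈ (m.map φ) ^ i) :
    ∃ (a' : Ah) (b c ε' : Bh), a' ∈ m ^ i ∧ b ∈ (m.map φ) ^ i ∧ c ∈ (m.map φ) ^ i ∧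
      ε' ∈ (m.map φ) ^ (i + 1) ∧ ε = φ a' + U * b + V * c + ε' := by
  rw [← Ideal.map_pow] at hε
  have key : ∀ β : Bh, ∃ (a' : Ah) (b c ε' : Bh), a' ∈ m ^ i ∧ b ∈ (m.map φ) ^ i ∧
      c ∈ (m.map φ) ^ i ∧ ε' ∈ (m.map φ) ^ (i + 1) ∧ β * ε = φ a' + U * b + V * c + ε' := by
    refine Submodule.span_induction (p := fun x _ => ∀ β : Bh, ∃ (a' : Ah) (b c ε' : Bh),
      a' ∈ m ^ i ∧ b ∈ (m.map φ) ^ i ∧
      c ∈ (m.map φ) ^ i ∧ ε' ∈ (m.map φ) ^ (i + 1) ∧ β * x = φ a' + U * b + V * c + ε')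
      ?_ ?_ ?_ ?_ hε
    · rintro _ ⟨μ, hμ, rfl⟩ β
      exact decomp_mul H i μ hμ β
    · intro β
      exact ⟨0, 0, 0, 0, zero_mem _, zero_mem _, zero_mem _, zero_mem _, by simp⟩
    · intro x y _ _ hx hy β
      obtain ⟨a1, b1, c1, e1, ha1, hb1, hc1, he1, h1⟩ := hx β
      obtain ⟨a2, b2, c2, e2, ha2, hb2, hc2, he2, h2⟩ := hy β
      refine ⟨a1 + a2, b1 + b2, c1 + c2, e1 + e2, add_mem ha1 ha2, add_mem hb1 hb2,
        add_mem hc1 hc2, add_mem he1 he2, ?_⟩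
      rw [mul_add, h1, h2, map_add]; ring
    · intro r x _ hx β
      have := hx (β * r)
      rwa [smul_eq_mul, ← mul_assoc]
  simpa using key 1

theorem exists_step {u v : Bh} (H : Decomp φ m u v) (j : ℕ) (a : Ah) (U V : Bh)
    (hU : U - u ∈ m.map φ) (hV : V - v ∈ m.map φ)
    (hUV : U * V - φ a ∈ (m.map φ) ^ (j + 1)) :
    ∃ (a' : Ah) (U' V' : Bh), a' - a ∈ m ^ (j + 1) ∧ U' - U ∈ (m.map φ) ^ (j + 1) ∧
      V' - V ∈ (m.map φ) ^ (j + 1) ∧ U' * V' - φ a' ∈ (m.map φ) ^ (j + 2) := by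
  obtain ⟨a', b, c, ε', ha', hb, hc, hε', h⟩ := decomp_pow (H.shift hU hV) (j + 1) _ hUV
  refine ⟨a + a', U - c, V - b, by simpa using ha', by simpa using hc, by simpa using hb, ?_⟩
  have h1 : (U - c) * (V - b) - φ (a + a') = ε' + c * b := by
    rw [map_add]
    linear_combination h
  rw [h1]
  refine add_mem hε' ?_
  have h2 : c * b ∈ (m.map φ) ^ ((j + 1) + (j + 1)) := by
    rw [pow_add]; exact Ideal.mul_mem_mul hc hb
  exact Ideal.pow_le_pow_right (by omega) h2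

/-- Dependent choice along `ℕ`. -/
theorem exists_seq {X : Type*} (P : ℕ → X → Prop) (R : ℕ → X → X → Prop) (x0 : X) (h0 : P 0 x0)
    (hstep : ∀ i x, P i x → ∃ y, P (i + 1) y ∧ R i x y) :
    ∃ f : ℕ → X, (∀ i, P i (f i)) ∧ ∀ i, R i (f i) (f (i + 1)) := by
  classical
  have : Nonempty X := ⟨x0⟩
  choose! g hg using hstep
  let f : ℕ → X := fun i => Nat.rec x0 (fun i x => g i x) i
  have hf : ∀ i, P i (f i) := by
    intro i
    induction i with
    | zero => exact h0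
    | succ i ih => exact (hg i _ ih).1
  exact ⟨f, hf, fun i => (hg i _ (hf i)).2⟩

theorem exists_limit {R : Type*} [CommRing R] (I : Ideal R) [IsPrecomplete I R] (G : ℕ → R)
    (hG : ∀ n, G (n + 1) - G n ∈ I ^ n) : ∃ L : R, ∀ n, G n - L ∈ I ^ n := by
  have hprec : IsPrecomplete I R := inferInstance
  have hc : AdicCompletion.IsAdicCauchy I R G := by
    rw [AdicCompletion.isAdicCauchy_iff]
    intro n
    rw [SModEq.sub_mem, smul_eq_mul, Ideal.mul_top]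
    have := Ideal.neg_mem_iff (I ^ n) |>.2 (hG n)
    rwa [neg_sub] at this
  obtain ⟨L, hL⟩ := hprec.prec (f := G) (fun {m n} hmn => hc hmn)
  refine ⟨L, fun n => ?_⟩
  have := hL n
  rwa [SModEq.sub_mem, smul_eq_mul, Ideal.mul_top] at this

theorem eq_zero_of_forall_mem_pow {R : Type*} [CommRing R] (I : Ideal R) [IsHausdorff I R]
    (x : R) (hx : ∀ n, x ∈ I ^ n) : x = 0 := by
  refine IsHausdorff.haus ‹IsHausdorff I R› x fun n => ?_
  rw [SModEq.zero, smul_eq_mul, Ideal.mul_top]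
  exact hx n

/-- **Successive approximation**: correct `u, v` modulo `m Bh` so that the product comes
from `Ah`. -/
theorem exists_uv [IsPrecomplete m Ah] [IsAdicComplete (m.map φ) Bh] (u v : Bh)
    (huv : u * v ∈ m.map φ) (H : Decomp φ m u v) :
    ∃ (α : Ah) (u' v' : Bh), α ∈ m ∧ u' - u ∈ m.map φ ∧ v' - v ∈ m.map φ ∧
      u' * v' = φ α := by
  obtain ⟨f, hfP, hfR⟩ := exists_seq (X := Ah × Bh × Bh)
    (fun j x => x.1 ∈ m ∧ x.2.1 - u ∈ m.map φ ∧ x.2.2 - v ∈ m.map φ ∧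
      x.2.1 * x.2.2 - φ x.1 ∈ (m.map φ) ^ (j + 1))
    (fun j x y => y.1 - x.1 ∈ m ^ (j + 1) ∧ y.2.1 - x.2.1 ∈ (m.map φ) ^ (j + 1) ∧
      y.2.2 - x.2.2 ∈ (m.map φ) ^ (j + 1))
    (0, u, v) ⟨zero_mem _, by simp, by simp, by simpa using huv⟩
    (by
      rintro j ⟨a, U, V⟩ ⟨ha, hU, hV, hUV⟩
      obtain ⟨a', U', V', h1, h2, h3, h4⟩ := exists_step H j a U V hU hV hUV
      refine ⟨(a', U', V'), ⟨?_, ?_, ?_, h4⟩, h1, h2, h3⟩
      · have : a' = (a' - a) + a := by ring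
        rw [this]
        exact add_mem (Ideal.pow_le_self (by omega) h1) ha
      · have : U' - u = (U' - U) + (U - u) := by ring
        rw [this]
        exact add_mem (Ideal.pow_le_self (by omega) h2) hU
      · have : V' - v = (V' - V) + (V - v) := by ring
        rw [this]
        exact add_mem (Ideal.pow_le_self (by omega) h3) hV)
  obtain ⟨α, hα⟩ := exists_limit m (fun j => (f j).1)
    (fun j => Ideal.pow_le_pow_right (Nat.le_succ j) (hfR j).1)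
  obtain ⟨u', hu'⟩ := exists_limit (m.map φ) (fun j => (f j).2.1)
    (fun j => Ideal.pow_le_pow_right (Nat.le_succ j) (hfR j).2.1)
  obtain ⟨v', hv'⟩ := exists_limit (m.map φ) (fun j => (f j).2.2)
    (fun j => Ideal.pow_le_pow_right (Nat.le_succ j) (hfR j).2.2)
  refine ⟨α, u', v', ?_, ?_, ?_, ?_⟩
  · have h1 := hα 1
    rw [pow_one] at h1
    have : α = (f 1).1 - ((f 1).1 - α) := by ring
    rw [this]
    exact sub_mem (hfP 1).1 h1
  · have h1 := hu' 1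
    rw [pow_one] at h1
    have : u' - u = ((f 1).2.1 - u) - ((f 1).2.1 - u') := by ring
    rw [this]
    exact sub_mem (hfP 1).2.1 h1
  · have h1 := hv' 1
    rw [pow_one] at h1
    have : v' - v = ((f 1).2.2 - v) - ((f 1).2.2 - v') := by ring
    rw [this]
    exact sub_mem (hfP 1).2.2.1 h1
  · rw [← sub_eq_zero]
    apply eq_zero_of_forall_mem_pow (m.map φ)
    intro j
    have e : u' * v' - φ α = -(((f j).2.1 - u') * v') - (f j).2.1 * ((f j).2.2 - v') +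
        ((f j).2.1 * (f j).2.2 - φ (f j).1) + φ ((f j).1 - α) := by
      rw [map_sub]; ring
    rw [e]
    refine add_mem (add_mem (sub_mem (neg_mem (Ideal.mul_mem_right _ _ (hu' j)))
      (Ideal.mul_mem_left _ _ (hv' j))) (Ideal.pow_le_pow_right (Nat.le_succ j) (hfP j).2.2.2)) ?_
    rw [← Ideal.map_pow]
    exact Ideal.mem_map_of_mem _ (hα j)

end Groth.Agent.H76.NodeCompl
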