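import Mathlib
import Groth.Agent.H76.NodeComplA
import Groth.Agent.H63.ComplNoeth
import Groth.Agent.H47.PSEvalGen
import Groth.Agent.H61.PSComplete
import Groth.Agent.H19.ComplSmaller

/-!
# Liu 10.3.20 (a): the completed local ring of a node over a complete base is a quotient of
`Â[[x,y]]/(xy - α)`.
-/

set_option autoImplicit false
set_option linter.unusedSectionVars false
universe u

namespace Groth.Agent.H76.NodeCompl

open IsLocalRing

section Setup

variable (A B : Type u) [CommRing A] [IsLocalRing A] [IsNoetherianRing A]
    [CommRing B] [IsLocalRing B] [IsNoetherianRing B] [Algebra A B] [IsLocalHom (algebraMap A B)]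

theorem map_le : (maximalIdeal A).map (algebraMap A B) ≤ maximalIdeal B :=
  IsLocalRing.map_maximalIdeal_le (algebraMap A B)

/-- The map on completions. -/
noncomputable def φh : AdicCompletion (maximalIdeal A) A →+* AdicCompletion (maximalIdeal B) B :=
  H63.complMap (maximalIdeal A) (maximalIdeal B) (algebraMap A B) (map_le A B)

theorem φh_of (a : A) :
    φh A B (algebraMap A (AdicCompletion (maximalIdeal A) A) a) =
      algebraMap A (AdicCompletion (maximalIdeal B) B) a := by
  rw [φh, H63.complMap_of]
  rfl

theorem algebraMap_eq_comp :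
    algebraMap A (AdicCompletion (maximalIdeal B) B) =
      (algebraMap B (AdicCompletion (maximalIdeal B) B)).comp (algebraMap A B) := rfl

theorem map_φh :
    (maximalIdeal (AdicCompletion (maximalIdeal A) A)).map (φh A B) =
      (maximalIdeal A).map (algebraMap A (AdicCompletion (maximalIdeal B) B)) := by
  rw [AdicCompletion.maximalIdeal_eq_map, Ideal.map_map]
  have : (φh A B).comp (algebraMap A (AdicCompletion (maximalIdeal A) A)) =
      algebraMap A (AdicCompletion (maximalIdeal B) B) := by
    refine RingHom.ext fun a => ?_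
    exact φh_of A B a
  rw [this]

theorem map_φh' :
    (maximalIdeal (AdicCompletion (maximalIdeal A) A)).map (φh A B) =
      ((maximalIdeal A).map (algebraMap A B)).map
        (algebraMap B (AdicCompletion (maximalIdeal B) B)) := by
  rw [map_φh, Ideal.map_map]
  rfl

theorem map_φh_le :
    (maximalIdeal (AdicCompletion (maximalIdeal A) A)).map (φh A B) ≤
      maximalIdeal (AdicCompletion (maximalIdeal B) B) := by
  rw [map_φh', AdicCompletion.maximalIdeal_eq_map]
  exact Ideal.map_mono (map_le A B)

/-- Every element of `B̂` is congruent to the image of an element of `A` modulo `𝔪_B̂`. -/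
theorem exists_sub_mem_maximalIdeal
    (hres : Function.Surjective (IsLocalRing.ResidueField.map (algebraMap A B)))
    (b : AdicCompletion (maximalIdeal B) B) :
    ∃ a : A, b - algebraMap A (AdicCompletion (maximalIdeal B) B) a ∈
      maximalIdeal (AdicCompletion (maximalIdeal B) B) := by
  obtain ⟨y, hy⟩ := (AdicCompletion.residueField_map_bijective B).2 (residue _ b)
  obtain ⟨b₀, rfl⟩ := residue_surjective y
  obtain ⟨z, hz⟩ := hres (residue B b₀)
  obtain ⟨a₀, rfl⟩ := residue_surjective z
  refine ⟨a₀, ?_⟩
  rw [IsLocalRing.ResidueField.map_residue] at hy hz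
  have h1 : b - algebraMap B (AdicCompletion (maximalIdeal B) B) b₀ ∈
      maximalIdeal (AdicCompletion (maximalIdeal B) B) := by
    rw [← residue_eq_zero_iff, map_sub, hy, sub_self]
  have h2 : b₀ - algebraMap A B a₀ ∈ maximalIdeal B := by
    rw [← residue_eq_zero_iff, map_sub, hz, sub_self]
  have h3 : algebraMap B (AdicCompletion (maximalIdeal B) B) (b₀ - algebraMap A B a₀) ∈
      maximalIdeal (AdicCompletion (maximalIdeal B) B) := by
    rw [AdicCompletion.maximalIdeal_eq_map]
    exact Ideal.mem_map_of_mem _ h2
  have e : b - algebraMap A (AdicCompletion (maximalIdeal B) B) a₀ =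
      (b - algebraMap B (AdicCompletion (maximalIdeal B) B) b₀) +
        algebraMap B (AdicCompletion (maximalIdeal B) B) (b₀ - algebraMap A B a₀) := by
    rw [map_sub, algebraMap_eq_comp, RingHom.comp_apply]
    ring
  rw [e]
  exact add_mem h1 h3

theorem decomp
    (hres : Function.Surjective (IsLocalRing.ResidueField.map (algebraMap A B)))
    (u v : B)
    (hgen : maximalIdeal B = Ideal.span {u, v} ⊔ (maximalIdeal A).map (algebraMap A B)) :
    Decomp (φh A B) (maximalIdeal (AdicCompletion (maximalIdeal A) A))
      (algebraMap B (AdicCompletion (maximalIdeal B) B) u)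
      (algebraMap B (AdicCompletion (maximalIdeal B) B) v) := by
  intro b
  obtain ⟨a₀, ha₀⟩ := exists_sub_mem_maximalIdeal A B hres b
  have hmax : maximalIdeal (AdicCompletion (maximalIdeal B) B) =
      Ideal.span {algebraMap B (AdicCompletion (maximalIdeal B) B) u,
        algebraMap B (AdicCompletion (maximalIdeal B) B) v} ⊔
      (maximalIdeal (AdicCompletion (maximalIdeal A) A)).map (φh A B) := by
    rw [AdicCompletion.maximalIdeal_eq_map, map_φh', ← Set.image_pair, ← Ideal.map_span,
      ← Ideal.map_sup]
    exact congrArg (Ideal.map (algebraMap B (AdicCompletion (maximalIdeal B) B))) hgen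
  rw [hmax, Submodule.mem_sup] at ha₀
  obtain ⟨x, hx, ν, hν, hxν⟩ := ha₀
  rw [Ideal.mem_span_pair] at hx
  obtain ⟨s, t, rfl⟩ := hx
  refine ⟨algebraMap A _ a₀, s, t, ν, hν, ?_⟩
  rw [φh_of]
  linear_combination -hxν

theorem isAdicComplete_map_φh :
    IsAdicComplete ((maximalIdeal (AdicCompletion (maximalIdeal A) A)).map (φh A B))
      (AdicCompletion (maximalIdeal B) B) := by
  haveI : IsNoetherianRing (AdicCompletion (maximalIdeal B) B) :=
    H63.isNoetherianRing_adicCompletion _
  exact H19.ComplSmaller.main _ (maximalIdeal (AdicCompletion (maximalIdeal B) B))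
    (map_φh_le A B) ((isNoetherianRing_iff_ideal_fg _).1 inferInstance _)

/-- The corrected coordinates. -/
theorem exists_uv_compl
    (hres : Function.Surjective (IsLocalRing.ResidueField.map (algebraMap A B)))
    (u v : B) (huv : u * v ∈ (maximalIdeal A).map (algebraMap A B))
    (hgen : maximalIdeal B = Ideal.span {u, v} ⊔ (maximalIdeal A).map (algebraMap A B)) :
    ∃ (α : AdicCompletion (maximalIdeal A) A) (u' v' : AdicCompletion (maximalIdeal B) B),
      α ∈ maximalIdeal (AdicCompletion (maximalIdeal A) A) ∧
      u' - algebraMap B (AdicCompletion (maximalIdeal B) B) u ∈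
        (maximalIdeal (AdicCompletion (maximalIdeal A) A)).map (φh A B) ∧
      v' - algebraMap B (AdicCompletion (maximalIdeal B) B) v ∈
        (maximalIdeal (AdicCompletion (maximalIdeal A) A)).map (φh A B) ∧
      u' * v' = φh A B α := by
  haveI := isAdicComplete_map_φh A B
  refine exists_uv _ _ ?_ (decomp A B hres u v hgen)
  rw [← map_mul, map_φh']
  exact Ideal.mem_map_of_mem _ huv

end Setup

end Groth.Agent.H76.NodeCompl
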