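import Mathlib
import Groth.Agent.H76.NodeComplB

/-!
# Liu 10.3.20 (a), continued: the surjection `Â[[x,y]]/(xy - α) → B̂`.
-/

set_option autoImplicit false
set_option linter.unusedSectionVars false
set_option linter.style.haveILetI false
universe u

namespace Groth.Agent.H76.NodeCompl

open IsLocalRing MvPowerSeries

/-- Evaluation of power series over a complete Noetherian local ring `Λ` at elements of the
maximal ideal of a complete local `Λ`-algebra `R` is surjective as soon as the residue field of
`Λ` maps onto that of `R` and the elements together with `𝔪_Λ` generate `𝔪_R`. -/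
theorem exists_ps_surjective (Λ R : Type u) [CommRing Λ] [IsLocalRing Λ] [IsNoetherianRing Λ]
    [IsAdicComplete (maximalIdeal Λ) Λ] [CommRing R] [IsLocalRing R]
    [IsAdicComplete (maximalIdeal R) R] [Algebra Λ R]
    (hv : Function.Surjective ((residue R).comp (algebraMap Λ R)))
    (n : ℕ) (b : Fin n → R) (hb : ∀ i, b i ∈ maximalIdeal R)
    (hgen : maximalIdeal R ≤ Ideal.span (Set.range b) ⊔ (maximalIdeal Λ).map (algebraMap Λ R)) :
    ∃ ψ : MvPowerSeries (Fin n) Λ →ₐ[Λ] R, (∀ i, ψ (X i) = b i) ∧ Function.Surjective ψ := by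
  classical
  obtain ⟨ψ, hψ⟩ := Groth.Agent.H47.PSEvalGen.exists_evalHom_complete (k := Λ) (maximalIdeal R) b hb
  refine ⟨ψ, hψ, ?_⟩
  set P := MvPowerSeries (Fin n) Λ
  let I : Ideal P := maximalIdeal P
  let ρ : P →+* ResidueField R := (residue R).comp ψ.toRingHom
  have hρ : Function.Surjective ρ := by
    intro y
    obtain ⟨a, ha⟩ := hv y
    refine ⟨algebraMap Λ P a, ?_⟩
    show residue R (ψ (algebraMap Λ P a)) = y
    rw [AlgHom.commutes]
    exact ha
  have hker : RingHom.ker ρ = I := by
    haveI := RingHom.ker_isMaximal_of_surjective ρ hρ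
    exact IsLocalRing.eq_maximalIdeal inferInstance
  have hle : I.map ψ.toRingHom ≤ maximalIdeal R := by
    rw [Ideal.map_le_iff_le_comap]
    intro f hf
    rw [← hker] at hf
    have h1 : residue R (ψ f) = 0 := hf
    exact (residue_eq_zero_iff _).1 h1
  have hΛ : ∀ a ∈ maximalIdeal Λ, algebraMap Λ P a ∈ I := by
    intro a ha
    rw [← hker]
    show residue R (ψ (algebraMap Λ P a)) = 0
    rw [AlgHom.commutes, residue_eq_zero_iff]
    by_contra hnu
    have hu : IsUnit (algebraMap Λ R a) := by
      by_contra h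
      exact hnu h
    -- a unit image means `a` is a unit: use that `residue ∘ algebraMap` kills `𝔪_Λ`
    have hk : (maximalIdeal Λ) ≤ RingHom.ker ((residue R).comp (algebraMap Λ R)) := by
      haveI := RingHom.ker_isMaximal_of_surjective _ hv
      exact (IsLocalRing.eq_maximalIdeal (I := RingHom.ker ((residue R).comp (algebraMap Λ R)))
        inferInstance).ge
    have := hk ha
    rw [RingHom.mem_ker, RingHom.comp_apply, residue_eq_zero_iff] at this
    exact this hu
  have hge : maximalIdeal R ≤ I.map ψ.toRingHom := by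
    refine hgen.trans (sup_le ?_ ?_)
    · rw [Ideal.span_le]
      rintro _ ⟨i, rfl⟩
      rw [← hψ i]
      apply Ideal.mem_map_of_mem
      rw [← hker]
      show residue R (ψ (X i)) = 0
      rw [hψ i]
      exact (residue_eq_zero_iff _).2 (hb i)
    · rw [Ideal.map_le_iff_le_comap]
      intro a ha
      rw [Ideal.mem_comap, ← ψ.commutes]
      exact Ideal.mem_map_of_mem _ (hΛ a ha)
  have heq : I.map ψ.toRingHom = maximalIdeal R := le_antisymm hle hge
  haveI : IsAdicComplete I P := Groth.Agent.H61.ps_isAdicComplete n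
  haveI : IsHausdorff (I.map ψ.toRingHom) R := by rw [heq]; infer_instance
  apply surjective_of_mk_map_comp_surjective (I := I) ψ.toRingHom
  intro y
  obtain ⟨r, rfl⟩ := Ideal.Quotient.mk_surjective y
  obtain ⟨a, ha⟩ := hv (residue R r)
  refine ⟨algebraMap Λ P a, ?_⟩
  show Ideal.Quotient.mk _ (ψ (algebraMap Λ P a)) = Ideal.Quotient.mk _ r
  rw [AlgHom.commutes, Ideal.Quotient.eq, heq, ← residue_eq_zero_iff, map_sub, sub_eq_zero]
  exact ha

section Main

variable (A B : Type u) [CommRing A] [IsLocalRing A] [IsNoetherianRing A]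
    [CommRing B] [IsLocalRing B] [IsNoetherianRing B] [Algebra A B] [IsLocalHom (algebraMap A B)]

/-- The data of Liu 10.3.20 (a) at the level of the power series ring. -/
theorem exists_data
    (hres : Function.Surjective (IsLocalRing.ResidueField.map (algebraMap A B)))
    (u v : B) (hu : u ∈ maximalIdeal B) (hv : v ∈ maximalIdeal B)
    (huv : u * v ∈ (maximalIdeal A).map (algebraMap A B))
    (hgen : maximalIdeal B = Ideal.span {u, v} ⊔ (maximalIdeal A).map (algebraMap A B)) :
    ∃ (α : AdicCompletion (maximalIdeal A) A)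
      (ψ₀ : MvPowerSeries (Fin 2) (AdicCompletion (maximalIdeal A) A) →+*
        AdicCompletion (maximalIdeal B) B),
      α ∈ maximalIdeal (AdicCompletion (maximalIdeal A) A) ∧
      Function.Surjective ψ₀ ∧ (∀ a, ψ₀ (C a) = φh A B a) ∧
      ψ₀ (X 0 * X 1 - C α) = 0 ∧
      ψ₀ (X 0) - algebraMap B (AdicCompletion (maximalIdeal B) B) u ∈
        (maximalIdeal A).map (algebraMap A (AdicCompletion (maximalIdeal B) B)) ∧
      ψ₀ (X 1) - algebraMap B (AdicCompletion (maximalIdeal B) B) v ∈
        (maximalIdeal A).map (algebraMap A (AdicCompletion (maximalIdeal B) B)) := by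
  obtain ⟨α, u', v', hα, hu', hv', huv'⟩ := exists_uv_compl A B hres u v huv hgen
  haveI : IsNoetherianRing (AdicCompletion (maximalIdeal A) A) :=
    H63.isNoetherianRing_adicCompletion _
  letI : Algebra (AdicCompletion (maximalIdeal A) A) (AdicCompletion (maximalIdeal B) B) :=
    (φh A B).toAlgebra
  have hιu : algebraMap B (AdicCompletion (maximalIdeal B) B) u ∈
      maximalIdeal (AdicCompletion (maximalIdeal B) B) := by
    rw [AdicCompletion.maximalIdeal_eq_map]; exact Ideal.mem_map_of_mem _ hu
  have hιv : algebraMap B (AdicCompletion (maximalIdeal B) B) v ∈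
      maximalIdeal (AdicCompletion (maximalIdeal B) B) := by
    rw [AdicCompletion.maximalIdeal_eq_map]; exact Ideal.mem_map_of_mem _ hv
  have hu'm : u' ∈ maximalIdeal (AdicCompletion (maximalIdeal B) B) := by
    have : u' = (u' - algebraMap B (AdicCompletion (maximalIdeal B) B) u) +
        algebraMap B (AdicCompletion (maximalIdeal B) B) u := by ring
    rw [this]
    exact add_mem (map_φh_le A B hu') hιu
  have hv'm : v' ∈ maximalIdeal (AdicCompletion (maximalIdeal B) B) := by
    have : v' = (v' - algebraMap B (AdicCompletion (maximalIdeal B) B) v) +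
        algebraMap B (AdicCompletion (maximalIdeal B) B) v := by ring
    rw [this]
    exact add_mem (map_φh_le A B hv') hιv
  have hsurj : Function.Surjective ((residue (AdicCompletion (maximalIdeal B) B)).comp
      (algebraMap (AdicCompletion (maximalIdeal A) A) (AdicCompletion (maximalIdeal B) B))) := by
    intro y
    obtain ⟨b, rfl⟩ := residue_surjective y
    obtain ⟨a, ha⟩ := exists_sub_mem_maximalIdeal A B hres b
    refine ⟨algebraMap A _ a, ?_⟩
    rw [RingHom.comp_apply]
    show residue _ (φh A B (algebraMap A _ a)) = _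
    rw [φh_of]
    symm
    rw [← sub_eq_zero, ← map_sub, residue_eq_zero_iff]
    exact ha
  have hmaxle : maximalIdeal (AdicCompletion (maximalIdeal B) B) ≤
      Ideal.span (Set.range ![u', v']) ⊔
        (maximalIdeal (AdicCompletion (maximalIdeal A) A)).map
          (algebraMap (AdicCompletion (maximalIdeal A) A) (AdicCompletion (maximalIdeal B) B)) := by
    show _ ≤ _ ⊔ (maximalIdeal (AdicCompletion (maximalIdeal A) A)).map (φh A B)
    have hmax : maximalIdeal (AdicCompletion (maximalIdeal B) B) =
        Ideal.span {algebraMap B (AdicCompletion (maximalIdeal B) B) u,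
          algebraMap B (AdicCompletion (maximalIdeal B) B) v} ⊔
        (maximalIdeal (AdicCompletion (maximalIdeal A) A)).map (φh A B) := by
      rw [AdicCompletion.maximalIdeal_eq_map, map_φh', ← Set.image_pair, ← Ideal.map_span,
        ← Ideal.map_sup]
      exact congrArg (Ideal.map (algebraMap B (AdicCompletion (maximalIdeal B) B))) hgen
    rw [hmax]
    refine sup_le ?_ le_sup_right
    rw [Ideal.span_le]
    rintro x hx
    rcases hx with rfl | rfl
    · have : algebraMap B (AdicCompletion (maximalIdeal B) B) u =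
          u' - (u' - algebraMap B (AdicCompletion (maximalIdeal B) B) u) := by ring
      rw [this]
      exact sub_mem (Ideal.mem_sup_left (Ideal.subset_span ⟨0, rfl⟩)) (Ideal.mem_sup_right hu')
    · have : algebraMap B (AdicCompletion (maximalIdeal B) B) v =
          v' - (v' - algebraMap B (AdicCompletion (maximalIdeal B) B) v) := by ring
      rw [this]
      exact sub_mem (Ideal.mem_sup_left (Ideal.subset_span ⟨1, rfl⟩)) (Ideal.mem_sup_right hv')
  obtain ⟨ψ, hψX, hψs⟩ := exists_ps_surjective (AdicCompletion (maximalIdeal A) A)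
    (AdicCompletion (maximalIdeal B) B) hsurj 2 ![u', v']
    (by intro i; fin_cases i <;> simp [hu'm, hv'm]) hmaxle
  have hC : ∀ a, ψ (C a) = φh A B a := by
    intro a
    have := ψ.commutes a
    rwa [MvPowerSeries.algebraMap_apply, Algebra.algebraMap_self, RingHom.id_apply] at this
  have h0 : ψ (X 0) = u' := hψX 0
  have h1 : ψ (X 1) = v' := hψX 1
  refine ⟨α, ψ.toRingHom, hα, hψs, hC, ?_, ?_, ?_⟩
  · show ψ (X 0 * X 1 - C α) = 0
    rw [map_sub, map_mul, h0, h1, hC, huv', sub_self]
  · show ψ (X 0) - _ ∈ _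
    rw [h0, ← map_φh]
    exact hu'
  · show ψ (X 1) - _ ∈ _
    rw [h1, ← map_φh]
    exact hv'

/-- The `A`-algebra map induced on the quotient `Â[[x,y]]/(xy - α)`. -/
noncomputable def quotHom (α : AdicCompletion (maximalIdeal A) A)
    (ψ₀ : MvPowerSeries (Fin 2) (AdicCompletion (maximalIdeal A) A) →+*
      AdicCompletion (maximalIdeal B) B)
    (hC : ∀ a, ψ₀ (C a) = φh A B a) (hk : ψ₀ (X 0 * X 1 - C α) = 0) :
    (MvPowerSeries (Fin 2) (AdicCompletion (maximalIdeal A) A) ⧸ Ideal.span
      {(X 0 * X 1 - C α : MvPowerSeries (Fin 2) (AdicCompletion (maximalIdeal A) A))}) →ₐ[A]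
      AdicCompletion (maximalIdeal B) B :=
  { toRingHom := Ideal.Quotient.lift _ ψ₀ (by
      intro x hx
      obtain ⟨c, rfl⟩ := Ideal.mem_span_singleton'.1 hx
      rw [map_mul, hk, mul_zero])
    commutes' := by
      intro a
      have h1 : algebraMap A (MvPowerSeries (Fin 2) (AdicCompletion (maximalIdeal A) A) ⧸
          Ideal.span {(X 0 * X 1 - C α :
            MvPowerSeries (Fin 2) (AdicCompletion (maximalIdeal A) A))}) a =
          Ideal.Quotient.mk _ (C (algebraMap A (AdicCompletion (maximalIdeal A) A) a)) := by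
        rw [← MvPowerSeries.algebraMap_apply]
        rfl
      simp only [RingHom.toMonoidHom_eq_coe, OneHom.toFun_eq_coe, MonoidHom.toOneHom_coe,
        MonoidHom.coe_coe]
      rw [h1, Ideal.Quotient.lift_mk, hC, φh_of] }

theorem quotHom_mk (α : AdicCompletion (maximalIdeal A) A)
    (ψ₀ : MvPowerSeries (Fin 2) (AdicCompletion (maximalIdeal A) A) →+*
      AdicCompletion (maximalIdeal B) B)
    (hC : ∀ a, ψ₀ (C a) = φh A B a) (hk : ψ₀ (X 0 * X 1 - C α) = 0)
    (x : MvPowerSeries (Fin 2) (AdicCompletion (maximalIdeal A) A)) :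
    quotHom A B α ψ₀ hC hk (Ideal.Quotient.mk _ x) = ψ₀ x := rfl

/-- **Liu 10.3.20 (a)** in the form of S7924. -/
theorem main_a
    (hres : Function.Surjective (IsLocalRing.ResidueField.map (algebraMap A B)))
    (u v : B) (hu : u ∈ IsLocalRing.maximalIdeal B) (hv : v ∈ IsLocalRing.maximalIdeal B)
    (huv : u * v ∈ (IsLocalRing.maximalIdeal A).map (algebraMap A B))
    (hgen : IsLocalRing.maximalIdeal B =
      Ideal.span {u, v} ⊔ (IsLocalRing.maximalIdeal A).map (algebraMap A B)) :
    ∃ (α : AdicCompletion (IsLocalRing.maximalIdeal A) A)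
      (_ : α ∈ (IsLocalRing.maximalIdeal A).map
        (algebraMap A (AdicCompletion (IsLocalRing.maximalIdeal A) A)))
      (ψ : (MvPowerSeries (Fin 2) (AdicCompletion (IsLocalRing.maximalIdeal A) A) ⧸ Ideal.span
          {(MvPowerSeries.X 0 * MvPowerSeries.X 1 -
            MvPowerSeries.C α :
              MvPowerSeries (Fin 2) (AdicCompletion (IsLocalRing.maximalIdeal A) A))}) →ₐ[A]
        AdicCompletion (IsLocalRing.maximalIdeal B) B),
      Function.Surjective ψ ∧
        ψ (Ideal.Quotient.mk _ (MvPowerSeries.X 0)) -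
            algebraMap B (AdicCompletion (IsLocalRing.maximalIdeal B) B) u ∈
          (IsLocalRing.maximalIdeal A).map
            (algebraMap A (AdicCompletion (IsLocalRing.maximalIdeal B) B)) ∧
        ψ (Ideal.Quotient.mk _ (MvPowerSeries.X 1)) -
            algebraMap B (AdicCompletion (IsLocalRing.maximalIdeal B) B) v ∈
          (IsLocalRing.maximalIdeal A).map
            (algebraMap A (AdicCompletion (IsLocalRing.maximalIdeal B) B)) := by
  obtain ⟨α, ψ₀, hα, hs, hC, hk, h0, h1⟩ := exists_data A B hres u v hu hv huv hgen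
  refine ⟨α, ?_, quotHom A B α ψ₀ hC hk, ?_, ?_, ?_⟩
  · rw [← AdicCompletion.maximalIdeal_eq_map]; exact hα
  · intro y
    obtain ⟨x, rfl⟩ := hs y
    exact ⟨Ideal.Quotient.mk _ x, rfl⟩
  · rw [quotHom_mk]; exact h0
  · rw [quotHom_mk]; exact h1

end Main

end Groth.Agent.H76.NodeCompl
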