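import Mathlib

/-!
# Auxiliary algebra for Liu 10.3.20 (b)

* surjective ring endomorphisms of Noetherian rings are injective;
* coefficientwise maps of power series rings;
* the "mod `𝔪`" kernel computation for maps onto the formal node;
* the flatness step `ker ψ ∩ 𝔪 P ⊆ 𝔪 ker ψ`.
-/

set_option autoImplicit false
set_option linter.unusedSectionVars false
set_option linter.style.haveILetI false

namespace Groth.Agent.H76.NodeCompl

open MvPowerSeries

/-- A surjective ring endomorphism of a Noetherian ring is injective. -/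
theorem injective_of_surjective_ringEnd {N : Type*} [CommRing N] [IsNoetherianRing N]
    (f : N →+* N) (hf : Function.Surjective f) : Function.Injective f := by
  let I : ℕ →o Ideal N :=
    ⟨fun n => RingHom.ker (f ^ n), by
      refine monotone_nat_of_le_succ fun n x hx => ?_
      rw [RingHom.mem_ker] at hx ⊢
      rw [pow_succ', RingHom.mul_def, RingHom.comp_apply, hx, map_zero]⟩
  obtain ⟨n, hn⟩ := monotone_stabilizes_iff_noetherian.2 (inferInstance : IsNoetherian N N) I
  have hn1 : RingHom.ker (f ^ (n + 1)) = RingHom.ker (f ^ n) := (hn (n + 1) (Nat.le_succ n)).symm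
  have hsurj : Function.Surjective (f ^ n) := by
    rw [RingHom.coe_pow]
    exact hf.iterate n
  rw [injective_iff_map_eq_zero]
  intro x hx
  obtain ⟨y, rfl⟩ := hsurj x
  have hy : y ∈ RingHom.ker (f ^ (n + 1)) := by
    rw [RingHom.mem_ker, pow_succ', RingHom.mul_def, RingHom.comp_apply, hx]
  rw [hn1] at hy
  exact hy

section MapPS

variable {σ : Type*} {R S : Type*} [CommRing R] [CommRing S] (f : R →+* S)

theorem map_surjective (hf : Function.Surjective f) :
    Function.Surjective (MvPowerSeries.map (σ := σ) f) := by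
  intro g
  choose c hc using hf
  refine ⟨fun n => c (coeff n g), ?_⟩
  ext n
  rw [MvPowerSeries.coeff_map]
  exact hc _

theorem ker_map_le [Finite σ] (I : Ideal R) (hI : I.FG) (hker : RingHom.ker f = I) :
    RingHom.ker (MvPowerSeries.map (σ := σ) f) ≤ I.map (C (σ := σ) (R := R)) := by
  classical
  obtain ⟨r, g, hg⟩ := Submodule.fg_iff_exists_fin_generating_family.1 hI
  intro x hx
  have hcoef : ∀ n, ∃ c : Fin r → R, ∑ i, c i • g i = coeff n x := by
    intro n
    have h1 : coeff n x ∈ I := by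
      rw [← hker, RingHom.mem_ker]
      have := congrArg (coeff n) ((RingHom.mem_ker).1 hx)
      rwa [MvPowerSeries.coeff_map, map_zero] at this
    rw [← hg] at h1
    exact (Submodule.mem_span_range_iff_exists_fun R).1 h1
  choose c hc using hcoef
  have hx' : x = ∑ i, C (g i) * (show MvPowerSeries σ R from fun n => c n i) := by
    ext n
    rw [map_sum, ← hc n]
    refine Finset.sum_congr rfl fun i _ => ?_
    rw [MvPowerSeries.coeff_C_mul, smul_eq_mul, mul_comm]
    rfl
  rw [hx']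
  refine Ideal.sum_mem _ fun i _ => Ideal.mul_mem_right _ _ (Ideal.mem_map_of_mem _ ?_)
  rw [← hg]
  exact Submodule.subset_span ⟨i, rfl⟩

theorem map_le_ker_map (I : Ideal R) (hker : RingHom.ker f = I) :
    I.map (C (σ := σ) (R := R)) ≤ RingHom.ker (MvPowerSeries.map (σ := σ) f) := by
  rw [Ideal.map_le_iff_le_comap]
  intro a ha
  rw [Ideal.mem_comap, RingHom.mem_ker, MvPowerSeries.map_C]
  rw [← hker, RingHom.mem_ker] at ha
  rw [ha, map_zero]

end MapPS

section Node

variable {Λ k : Type*} [CommRing Λ] [CommRing k] [IsNoetherianRing k]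

/-- **Kernel modulo `𝔪`**: a surjective ring map from `Λ[[x,y]]` onto the formal node
`k[[x,y]]/(xy)` that kills `𝔪` and `xy - α` (`α ∈ 𝔪`, `Λ/𝔪 = k`) has kernel inside
`(xy - α) + 𝔪 Λ[[x,y]]`. -/
theorem ker_le_of_node (𝔪 : Ideal Λ) (h𝔪 : 𝔪.FG) (r : Λ →+* k) (hr : Function.Surjective r)
    (hker : RingHom.ker r = 𝔪) (α : Λ) (hα : α ∈ 𝔪)
    (θ : MvPowerSeries (Fin 2) Λ →+*
      MvPowerSeries (Fin 2) k ⧸ Ideal.span {(X 0 * X 1 : MvPowerSeries (Fin 2) k)})
    (hθ : Function.Surjective θ) (hθ𝔪 : ∀ a ∈ 𝔪, θ (C a) = 0)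
    (hθg : θ (X 0 * X 1 - C α) = 0) :
    RingHom.ker θ ≤ Ideal.span {(X 0 * X 1 - C α : MvPowerSeries (Fin 2) Λ)} ⊔
      𝔪.map (C (σ := Fin 2) (R := Λ)) := by
  classical
  set ρ : MvPowerSeries (Fin 2) Λ →+* MvPowerSeries (Fin 2) k := MvPowerSeries.map r with hρdef
  have hρ : Function.Surjective ρ := map_surjective r hr
  have hkρ : RingHom.ker ρ = 𝔪.map (C (σ := Fin 2) (R := Λ)) :=
    le_antisymm (ker_map_le r 𝔪 h𝔪 hker) (map_le_ker_map r 𝔪 hker)
  have hle : RingHom.ker ρ ≤ RingHom.ker θ := by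
    rw [hkρ, Ideal.map_le_iff_le_comap]
    intro a ha
    exact hθ𝔪 a ha
  let Θ : MvPowerSeries (Fin 2) k →+*
      MvPowerSeries (Fin 2) k ⧸ Ideal.span {(X 0 * X 1 : MvPowerSeries (Fin 2) k)} :=
    ρ.liftOfSurjective hρ ⟨θ, hle⟩
  have hΘ : ∀ x, Θ (ρ x) = θ x := fun x => RingHom.liftOfSurjective_comp_apply ρ hρ ⟨θ, hle⟩ x
  have hΘs : Function.Surjective Θ := by
    intro y
    obtain ⟨x, rfl⟩ := hθ y
    exact ⟨ρ x, hΘ x⟩
  have hXY : Θ (X 0 * X 1) = 0 := by
    have h1 : ρ (X 0 * X 1) = X 0 * X 1 := by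
      rw [map_mul, hρdef, MvPowerSeries.map_X, MvPowerSeries.map_X]
    have h3 : Θ (X 0 * X 1) = Θ (ρ (X 0 * X 1)) := congrArg Θ h1.symm
    rw [h3, hΘ]
    have h2 : (X 0 * X 1 : MvPowerSeries (Fin 2) Λ) = (X 0 * X 1 - C α) + C α := by ring
    rw [h2, map_add, hθg, hθ𝔪 α hα, add_zero]
  let Θb : (MvPowerSeries (Fin 2) k ⧸ Ideal.span {(X 0 * X 1 : MvPowerSeries (Fin 2) k)}) →+*
      MvPowerSeries (Fin 2) k ⧸ Ideal.span {(X 0 * X 1 : MvPowerSeries (Fin 2) k)} :=
    Ideal.Quotient.lift _ Θ (by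
      intro x hx
      obtain ⟨c, rfl⟩ := Ideal.mem_span_singleton'.1 hx
      rw [map_mul, hXY, mul_zero])
  have hΘbs : Function.Surjective Θb := by
    intro y
    obtain ⟨x, rfl⟩ := hΘs y
    exact ⟨Ideal.Quotient.mk _ x, Ideal.Quotient.lift_mk _ _ _⟩
  have hΘbi : Function.Injective Θb := injective_of_surjective_ringEnd Θb hΘbs
  have hkΘ : ∀ x, Θ x = 0 → x ∈ Ideal.span {(X 0 * X 1 : MvPowerSeries (Fin 2) k)} := by
    intro x hx
    have h1 : Θb (Ideal.Quotient.mk _ x) = 0 := by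
      rw [Ideal.Quotient.lift_mk]; exact hx
    have h2 := (injective_iff_map_eq_zero Θb).1 hΘbi _ h1
    exact Ideal.Quotient.eq_zero_iff_mem.1 h2
  intro x hx
  rw [RingHom.mem_ker] at hx
  have h1 := hkΘ (ρ x) (by rw [hΘ]; exact hx)
  obtain ⟨cb, hcb⟩ := Ideal.mem_span_singleton'.1 h1
  obtain ⟨c, rfl⟩ := hρ cb
  have h2 : x - c * (X 0 * X 1) ∈ RingHom.ker ρ := by
    rw [RingHom.mem_ker, map_sub, map_mul, ← hcb]
    have h1 : ρ (X 0 * X 1) = X 0 * X 1 := by
      rw [map_mul, hρdef, MvPowerSeries.map_X, MvPowerSeries.map_X]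
    rw [h1, sub_self]
  rw [hkρ] at h2
  have e : x = c * (X 0 * X 1 - C α) + (c * C α + (x - c * (X 0 * X 1))) := by ring
  rw [e]
  refine add_mem (Ideal.mem_sup_left (Ideal.mul_mem_left _ _ (Ideal.subset_span rfl)))
    (Ideal.mem_sup_right (add_mem (Ideal.mul_mem_left _ _ (Ideal.mem_map_of_mem _ hα)) h2))

end Node

section Flat

variable {A P M : Type*} [CommRing A] [CommRing P] [CommRing M] [Algebra A P] [Algebra A M]

/-- **Flatness step**: for a surjection `ψ : P → M` of `A`-algebras with `M` flat over `A`,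
`ker ψ ∩ 𝔪 P ⊆ 𝔪 ker ψ`. -/
theorem ker_inf_le_of_flat [Module.Flat A M] (ψ : P →ₐ[A] M) (hψ : Function.Surjective ψ)
    (𝔪 : Ideal A) :
    RingHom.ker ψ ⊓ 𝔪.map (algebraMap A P) ≤ 𝔪.map (algebraMap A P) * RingHom.ker ψ := by
  classical
  rintro x ⟨hxk, hxm⟩
  rw [SetLike.mem_coe, RingHom.mem_ker] at hxk
  rw [SetLike.mem_coe, Ideal.map, Ideal.span, Submodule.mem_span_image_iff_exists_fun] at hxm
  obtain ⟨t, ht, c, rfl⟩ := hxm
  -- relation in `M`
  have hrel : ∑ i : t, (i : A) • ψ (c i) = 0 := by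
    rw [← hxk, map_sum]
    refine Finset.sum_congr rfl fun i _ => ?_
    rw [smul_eq_mul, map_mul, AlgHom.commutes, Algebra.smul_def, mul_comm]
  obtain ⟨l, a, y, hy1, hy2⟩ := Module.Flat.isTrivialRelation_of_sum_smul_eq_zero (R := A) (M := M)
    (f := fun i : t => (i : A)) (x := fun i => ψ (c i)) hrel
  choose y' hy' using fun j => hψ (y j)
  -- corrected coefficients
  let κ : t → P := fun i => c i - ∑ j, algebraMap A P (a i j) * y' j
  have hκ : ∀ i, κ i ∈ RingHom.ker ψ := by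
    intro i
    rw [RingHom.mem_ker, map_sub, map_sum]
    have : ψ (c i) = ∑ j, a i j • y j := hy1 i
    rw [this, sub_eq_zero]
    refine Finset.sum_congr rfl fun j _ => ?_
    rw [map_mul, AlgHom.commutes, hy', Algebra.smul_def]
  have hsum : ∑ i : t, c i • algebraMap A P (i : A) = ∑ i : t, algebraMap A P (i : A) * κ i := by
    have h0 : ∑ i : t, algebraMap A P (i : A) * ∑ j, algebraMap A P (a i j) * y' j = 0 := by
      simp_rw [Finset.mul_sum]
      rw [Finset.sum_comm]
      refine Finset.sum_eq_zero fun j _ => ?_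
      have : ∑ i : t, algebraMap A P (i : A) * (algebraMap A P (a i j) * y' j) =
          algebraMap A P (∑ i : t, (i : A) * a i j) * y' j := by
        rw [map_sum, Finset.sum_mul]
        refine Finset.sum_congr rfl fun i _ => ?_
        rw [map_mul, mul_assoc]
      rw [this, hy2 j, map_zero, zero_mul]
    have h1 : ∑ i : t, algebraMap A P (i : A) * κ i =
        ∑ i : t, algebraMap A P (i : A) * c i -
          ∑ i : t, algebraMap A P (i : A) * ∑ j, algebraMap A P (a i j) * y' j := by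
      rw [← Finset.sum_sub_distrib]
      refine Finset.sum_congr rfl fun i _ => ?_
      simp only [κ, mul_sub]
    rw [h1, h0, sub_zero]
    refine Finset.sum_congr rfl fun i _ => ?_
    rw [smul_eq_mul, mul_comm]
  rw [hsum]
  refine Ideal.sum_mem _ fun i _ => Ideal.mul_mem_mul (Ideal.mem_map_of_mem _ (ht i.2)) (hκ i)

end Flat

end Groth.Agent.H76.NodeCompl
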