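import Mathlib
import Groth.Agent.H76.NodeComplC
import Groth.Agent.H76.NodeComplD

/-!
# Liu 10.3.20 (b): under flatness and a nodal closed fibre, `Â[[x,y]]/(xy - α) ≅ B̂`.
-/

set_option autoImplicit false
set_option linter.unusedSectionVars false
set_option linter.style.haveILetI false
universe u

namespace Groth.Agent.H76.NodeCompl

open IsLocalRing MvPowerSeries

section MainB

variable (A B : Type u) [CommRing A] [IsLocalRing A] [IsNoetherianRing A]
    [CommRing B] [IsLocalRing B] [IsNoetherianRing B] [Algebra A B] [IsLocalHom (algebraMap A B)]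

/-- The residue map `Â → k_A`. -/
noncomputable def resh : AdicCompletion (maximalIdeal A) A →+* ResidueField A :=
  ((RingEquiv.ofBijective _ (AdicCompletion.residueField_map_bijective A)).symm :
    ResidueField (AdicCompletion (maximalIdeal A) A) →+* ResidueField A).comp (residue _)

theorem resh_surjective : Function.Surjective (resh A) := by
  intro y
  obtain ⟨x, hx⟩ := residue_surjective
    ((RingEquiv.ofBijective _ (AdicCompletion.residueField_map_bijective A)) y)
  refine ⟨x, ?_⟩
  rw [resh, RingHom.comp_apply, hx]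
  exact RingEquiv.symm_apply_apply _ _

theorem ker_resh : RingHom.ker (resh A) = maximalIdeal (AdicCompletion (maximalIdeal A) A) := by
  ext x
  rw [RingHom.mem_ker, resh, RingHom.comp_apply, ← residue_eq_zero_iff]
  exact (RingEquiv.ofBijective _ (AdicCompletion.residueField_map_bijective A)).symm.map_eq_zero_iff

theorem map_C_eq :
    (maximalIdeal (AdicCompletion (maximalIdeal A) A)).map
      (C (σ := Fin 2) (R := AdicCompletion (maximalIdeal A) A)) =
    (maximalIdeal A).map
      (algebraMap A (MvPowerSeries (Fin 2) (AdicCompletion (maximalIdeal A) A))) := by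
  rw [AdicCompletion.maximalIdeal_eq_map, Ideal.map_map]
  congr 1
  refine RingHom.ext fun a => ?_
  rw [MvPowerSeries.algebraMap_apply]
  rfl

theorem map_C_le_maximalIdeal :
    (maximalIdeal (AdicCompletion (maximalIdeal A) A)).map
      (C (σ := Fin 2) (R := AdicCompletion (maximalIdeal A) A)) ≤
    maximalIdeal (MvPowerSeries (Fin 2) (AdicCompletion (maximalIdeal A) A)) := by
  rw [Ideal.map_le_iff_le_comap]
  intro a ha
  rw [Ideal.mem_comap, mem_maximalIdeal, mem_nonunits_iff] at *
  intro h
  apply ha
  have := h.map (MvPowerSeries.constantCoeff (σ := Fin 2)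
    (R := AdicCompletion (maximalIdeal A) A))
  rwa [MvPowerSeries.constantCoeff_C] at this

instance : IsScalarTower A B (AdicCompletion (maximalIdeal B) B) :=
  IsScalarTower.of_algebraMap_eq fun _ => rfl

theorem flat_compl [Module.Flat A B] : Module.Flat A (AdicCompletion (maximalIdeal B) B) :=
  Module.Flat.trans A B _

/-- The kernel of the surjection from the power series ring is `(xy - α)`. -/
theorem ker_le_span [Module.Flat A B]
    (e : AdicCompletion ((maximalIdeal B).map (Ideal.Quotient.mk
          ((maximalIdeal A).map (algebraMap A B))))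
          (B ⧸ (maximalIdeal A).map (algebraMap A B)) ≃+*
        (MvPowerSeries (Fin 2) (ResidueField A) ⧸
          Ideal.span {(X 0 * X 1 : MvPowerSeries (Fin 2) (ResidueField A))}))
    (α : AdicCompletion (maximalIdeal A) A)
    (hα : α ∈ maximalIdeal (AdicCompletion (maximalIdeal A) A))
    (ψ₀ : MvPowerSeries (Fin 2) (AdicCompletion (maximalIdeal A) A) →+*
      AdicCompletion (maximalIdeal B) B)
    (hs : Function.Surjective ψ₀) (hC : ∀ a, ψ₀ (C a) = φh A B a)
    (hk : ψ₀ (X 0 * X 1 - C α) = 0) :
    RingHom.ker ψ₀ ≤ Ideal.span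
      {(X 0 * X 1 - C α : MvPowerSeries (Fin 2) (AdicCompletion (maximalIdeal A) A))} := by
  classical
  haveI : IsNoetherianRing (AdicCompletion (maximalIdeal A) A) :=
    H63.isNoetherianRing_adicCompletion _
  set 𝔞 : Ideal B := (maximalIdeal A).map (algebraMap A B) with h𝔞
  set J : Ideal (B ⧸ 𝔞) := (maximalIdeal B).map (Ideal.Quotient.mk 𝔞) with hJ
  -- the map to the completed fibre ring
  let πh : AdicCompletion (maximalIdeal B) B →+* AdicCompletion J (B ⧸ 𝔞) :=
    H63.complMap (maximalIdeal B) J (Ideal.Quotient.mk 𝔞) le_rfl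
  have hπs : Function.Surjective πh :=
    H63.complMap_surjective (maximalIdeal B) J (Ideal.Quotient.mk 𝔞)
      ((isNoetherianRing_iff_ideal_fg _).1 inferInstance _)
      (((isNoetherianRing_iff_ideal_fg _).1 inferInstance _).map _) rfl
      Ideal.Quotient.mk_surjective
  have hπk : (maximalIdeal A).map (algebraMap A (AdicCompletion (maximalIdeal B) B)) ≤
      RingHom.ker πh := by
    rw [Ideal.map_le_iff_le_comap]
    intro m hm
    rw [Ideal.mem_comap, RingHom.mem_ker, algebraMap_eq_comp, RingHom.comp_apply]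
    show H63.complMap (maximalIdeal B) J (Ideal.Quotient.mk 𝔞) le_rfl _ = 0
    rw [H63.complMap_of]
    have : Ideal.Quotient.mk 𝔞 (algebraMap A B m) = 0 :=
      Ideal.Quotient.eq_zero_iff_mem.2 (Ideal.mem_map_of_mem _ hm)
    rw [this, map_zero]
  let θ : MvPowerSeries (Fin 2) (AdicCompletion (maximalIdeal A) A) →+*
      MvPowerSeries (Fin 2) (ResidueField A) ⧸
        Ideal.span {(X 0 * X 1 : MvPowerSeries (Fin 2) (ResidueField A))} :=
    (e : _ →+* _).comp (πh.comp ψ₀)
  have hθs : Function.Surjective θ :=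
    e.surjective.comp (hπs.comp hs)
  have hθ𝔪 : ∀ a ∈ maximalIdeal (AdicCompletion (maximalIdeal A) A), θ (C a) = 0 := by
    intro a ha
    show e (πh (ψ₀ (C a))) = 0
    rw [hC]
    have h1 : φh A B a ∈ RingHom.ker πh := by
      apply hπk
      rw [← map_φh]
      exact Ideal.mem_map_of_mem _ ha
    rw [(RingHom.mem_ker).1 h1, map_zero]
  have hθg : θ (X 0 * X 1 - C α) = 0 := by
    show e (πh (ψ₀ (X 0 * X 1 - C α))) = 0
    rw [hk, map_zero, map_zero]
  have hmod := ker_le_of_node (maximalIdeal (AdicCompletion (maximalIdeal A) A))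
    ((isNoetherianRing_iff_ideal_fg _).1 inferInstance _) (resh A) (resh_surjective A)
    (ker_resh A) α hα θ hθs hθ𝔪 hθg
  -- flatness step
  haveI : Module.Flat A (AdicCompletion (maximalIdeal B) B) := flat_compl A B
  let ψA : MvPowerSeries (Fin 2) (AdicCompletion (maximalIdeal A) A) →ₐ[A]
      AdicCompletion (maximalIdeal B) B :=
    { toRingHom := ψ₀
      commutes' := by
        intro a
        have h1 : algebraMap A (MvPowerSeries (Fin 2) (AdicCompletion (maximalIdeal A) A)) a =
            C (algebraMap A (AdicCompletion (maximalIdeal A) A) a) := by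
          rw [← MvPowerSeries.algebraMap_apply]
        simp only [RingHom.toMonoidHom_eq_coe, OneHom.toFun_eq_coe, MonoidHom.toOneHom_coe,
          MonoidHom.coe_coe]
        rw [h1, hC, φh_of] }
  have hflat := ker_inf_le_of_flat ψA hs (maximalIdeal A)
  have hkerA : RingHom.ker ψA = RingHom.ker ψ₀ := rfl
  rw [hkerA, ← map_C_eq] at hflat
  -- Nakayama
  have hg : (X 0 * X 1 - C α : MvPowerSeries (Fin 2) (AdicCompletion (maximalIdeal A) A)) ∈
      RingHom.ker ψ₀ := hk
  have hke : RingHom.ker ψ₀ ≤ RingHom.ker θ := by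
    intro x hx
    rw [RingHom.mem_ker] at hx ⊢
    show e (πh (ψ₀ x)) = 0
    rw [hx, map_zero, map_zero]
  refine Submodule.le_of_le_smul_of_le_jacobson_bot
    (I := (maximalIdeal (AdicCompletion (maximalIdeal A) A)).map
      (C (σ := Fin 2) (R := AdicCompletion (maximalIdeal A) A)))
    ((isNoetherianRing_iff_ideal_fg _).1 inferInstance _) ?_ ?_
  · rw [IsLocalRing.jacobson_eq_maximalIdeal ⊥ bot_ne_top]
    exact map_C_le_maximalIdeal A
  · intro x hx
    obtain ⟨y, hy, z, hz, rfl⟩ := Submodule.mem_sup.1 (hmod (hke hx))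
    have hyk : y ∈ RingHom.ker ψ₀ := by
      obtain ⟨c, rfl⟩ := Ideal.mem_span_singleton'.1 hy
      exact Ideal.mul_mem_left _ _ hg
    have hzk : z ∈ RingHom.ker ψ₀ := by
      have : z = (y + z) - y := by ring
      rw [this]
      exact sub_mem hx hyk
    exact Submodule.mem_sup.2 ⟨y, hy, z, hflat ⟨hzk, hz⟩, rfl⟩

/-- **Liu 10.3.20 (b)** in the form of S7925. -/
theorem main_b
    (hres : Function.Surjective (IsLocalRing.ResidueField.map (algebraMap A B)))
    (u v : B) (hu : u ∈ IsLocalRing.maximalIdeal B) (hv : v ∈ IsLocalRing.maximalIdeal B)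
    (huv : u * v ∈ (IsLocalRing.maximalIdeal A).map (algebraMap A B))
    (hgen : IsLocalRing.maximalIdeal B =
      Ideal.span {u, v} ⊔ (IsLocalRing.maximalIdeal A).map (algebraMap A B)) [Module.Flat A B]
    (e : AdicCompletion ((maximalIdeal B).map (Ideal.Quotient.mk
          ((maximalIdeal A).map (algebraMap A B))))
          (B ⧸ (maximalIdeal A).map (algebraMap A B)) ≃+*
        (MvPowerSeries (Fin 2) (ResidueField A) ⧸
          Ideal.span {(X 0 * X 1 : MvPowerSeries (Fin 2) (ResidueField A))})) :
    ∃ (α : AdicCompletion (IsLocalRing.maximalIdeal A) A)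
      (_ : α ∈ (IsLocalRing.maximalIdeal A).map
        (algebraMap A (AdicCompletion (IsLocalRing.maximalIdeal A) A)))
      (ψ : (MvPowerSeries (Fin 2) (AdicCompletion (IsLocalRing.maximalIdeal A) A) ⧸ Ideal.span
          {(MvPowerSeries.X 0 * MvPowerSeries.X 1 -
            MvPowerSeries.C α :
              MvPowerSeries (Fin 2) (AdicCompletion (IsLocalRing.maximalIdeal A) A))}) ≃ₐ[A]
        AdicCompletion (IsLocalRing.maximalIdeal B) B),
      ψ (Ideal.Quotient.mk _ (MvPowerSeries.X 0)) -
            algebraMap B (AdicCompletion (IsLocalRing.maximalIdeal B) B) u ∈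
          (IsLocalRing.maximalIdeal A).map
            (algebraMap A (AdicCompletion (IsLocalRing.maximalIdeal B) B)) ∧
        ψ (Ideal.Quotient.mk _ (MvPowerSeries.X 1)) -
            algebraMap B (AdicCompletion (IsLocalRing.maximalIdeal B) B) v ∈
          (IsLocalRing.maximalIdeal A).map
            (algebraMap A (AdicCompletion (IsLocalRing.maximalIdeal B) B)) := by
  obtain ⟨α, ψ₀, hα, hs, hC, hk, h0, h1⟩ := exists_data A B hres u v hu hv huv hgen
  have hker := ker_le_span A B e α hα ψ₀ hs hC hk
  have hbij : Function.Bijective (quotHom A B α ψ₀ hC hk) := by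
    constructor
    · rw [injective_iff_map_eq_zero]
      intro y hy
      obtain ⟨x, rfl⟩ := Ideal.Quotient.mk_surjective y
      rw [quotHom_mk] at hy
      exact Ideal.Quotient.eq_zero_iff_mem.2 (hker hy)
    · intro y
      obtain ⟨x, rfl⟩ := hs y
      exact ⟨Ideal.Quotient.mk _ x, rfl⟩
  refine ⟨α, ?_, AlgEquiv.ofBijective (quotHom A B α ψ₀ hC hk) hbij, ?_, ?_⟩
  · rw [← AdicCompletion.maximalIdeal_eq_map]; exact hα
  · rw [AlgEquiv.ofBijective_apply, quotHom_mk]; exact h0
  · rw [AlgEquiv.ofBijective_apply, quotHom_mk]; exact h1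

end MainB

end Groth.Agent.H76.NodeCompl
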