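import Mathlib
import Groth.Agent.H76.NodeComplA
import Groth.Agent.H76.NodeComplD

/-!
# Successive approximation for a nondegenerate binary quadratic form

Generalisation of `NodeComplA.exists_uv` from `xy` to `a x² + b xy + c y²` with unit
discriminant, and of `NodeComplD.ker_le_of_node` to an arbitrary hypersurface `G - h`.
-/

set_option autoImplicit false
set_option linter.unusedSectionVars false
set_option linter.style.haveILetI false

namespace Groth.Agent.H76.NodeCompl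

/-- The binary quadratic form `a U² + b U V + c V²`. -/
def quad {R : Type*} [CommRing R] (a b c U V : R) : R := a * U ^ 2 + b * U * V + c * V ^ 2

theorem quad_sub {R : Type*} [CommRing R] (a b c U V δ ε : R) :
    quad a b c (U - δ) (V - ε) =
      quad a b c U V - ((2 * a * U + b * V) * δ + (b * U + 2 * c * V) * ε) + quad a b c δ ε := by
  unfold quad; ring

theorem map_quad {R S F : Type*} [CommRing R] [CommRing S] [FunLike F R S] [RingHomClass F R S]
    (f : F) (a b c U V : R) :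
    f (quad a b c U V) = quad (f a) (f b) (f c) (f U) (f V) := by
  unfold quad; simp only [map_add, map_mul, map_pow]

variable {Ah Bh : Type*} [CommRing Ah] [CommRing Bh] {φ : Ah →+* Bh} {m : Ideal Ah}

theorem Decomp.quad {U V : Bh} (H : Decomp φ m U V) (a b c : Bh)
    (hd : IsUnit (b ^ 2 - 4 * a * c)) :
    Decomp φ m (2 * a * U + b * V) (b * U + 2 * c * V) := by
  obtain ⟨D, hD⟩ := hd
  intro β
  obtain ⟨a₀, s, t, ν, hν, hβ⟩ := H β
  refine ⟨a₀, -(↑D⁻¹ : Bh) * (2 * c * s - b * t), -(↑D⁻¹ : Bh) * (-b * s + 2 * a * t), ν, hν, ?_⟩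
  have h1 : (↑D⁻¹ : Bh) * (b ^ 2 - 4 * a * c) = 1 := by rw [← hD]; exact D.inv_mul
  rw [hβ]
  linear_combination (-(U * s) - V * t) * h1

theorem quad_mem_pow (a b c : Bh) {I : Ideal Bh} {i : ℕ} {β γ : Bh} (hβ : β ∈ I ^ i)
    (hγ : γ ∈ I ^ i) : NodeCompl.quad a b c β γ ∈ I ^ (i + i) := by
  unfold NodeCompl.quad
  rw [pow_add]
  refine add_mem (add_mem ?_ ?_) ?_
  · rw [pow_two, ← mul_assoc]
    exact Ideal.mul_mem_mul (Ideal.mul_mem_left _ _ hβ) hβ
  · exact Ideal.mul_mem_mul (Ideal.mul_mem_left _ _ hβ) hγ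
  · rw [pow_two, ← mul_assoc]
    exact Ideal.mul_mem_mul (Ideal.mul_mem_left _ _ hγ) hγ

theorem exists_step_quad {u v : Bh} (H : Decomp φ m u v) (a b c : Bh)
    (hd : IsUnit (b ^ 2 - 4 * a * c)) (j : ℕ) (h : Ah) (U V : Bh)
    (hU : U - u ∈ m.map φ) (hV : V - v ∈ m.map φ)
    (hUV : NodeCompl.quad a b c U V - φ h ∈ (m.map φ) ^ (j + 1)) :
    ∃ (h' : Ah) (U' V' : Bh), h' - h ∈ m ^ (j + 1) ∧ U' - U ∈ (m.map φ) ^ (j + 1) ∧
      V' - V ∈ (m.map φ) ^ (j + 1) ∧
      NodeCompl.quad a b c U' V' - φ h' ∈ (m.map φ) ^ (j + 2) := by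
  obtain ⟨a', β, γ, ε', ha', hβ, hγ, hε', he⟩ :=
    decomp_pow ((H.shift hU hV).quad a b c hd) (j + 1) _ hUV
  refine ⟨h + a', U - β, V - γ, by simpa using ha', by simpa using hβ, by simpa using hγ, ?_⟩
  have h1 : NodeCompl.quad a b c (U - β) (V - γ) - φ (h + a') =
      ε' + NodeCompl.quad a b c β γ := by
    rw [quad_sub, map_add]
    linear_combination he
  rw [h1]
  refine add_mem hε' ?_
  exact Ideal.pow_le_pow_right (by omega) (quad_mem_pow a b c hβ hγ)

/-- **Successive approximation, quadratic form version.** -/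
theorem exists_uv_quad [IsPrecomplete m Ah] [IsAdicComplete (m.map φ) Bh] (a b c : Bh)
    (hd : IsUnit (b ^ 2 - 4 * a * c)) (u v : Bh)
    (huv : NodeCompl.quad a b c u v ∈ m.map φ) (H : Decomp φ m u v) :
    ∃ (h : Ah) (u' v' : Bh), h ∈ m ∧ u' - u ∈ m.map φ ∧ v' - v ∈ m.map φ ∧
      NodeCompl.quad a b c u' v' = φ h := by
  obtain ⟨f, hfP, hfR⟩ := exists_seq (X := Ah × Bh × Bh)
    (fun j x => x.1 ∈ m ∧ x.2.1 - u ∈ m.map φ ∧ x.2.2 - v ∈ m.map φ ∧
      NodeCompl.quad a b c x.2.1 x.2.2 - φ x.1 ∈ (m.map φ) ^ (j + 1))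
    (fun j x y => y.1 - x.1 ∈ m ^ (j + 1) ∧ y.2.1 - x.2.1 ∈ (m.map φ) ^ (j + 1) ∧
      y.2.2 - x.2.2 ∈ (m.map φ) ^ (j + 1))
    (0, u, v) ⟨zero_mem _, by simp, by simp, by simpa using huv⟩
    (by
      rintro j ⟨h, U, V⟩ ⟨hh, hU, hV, hUV⟩
      obtain ⟨h', U', V', h1, h2, h3, h4⟩ := exists_step_quad H a b c hd j h U V hU hV hUV
      refine ⟨(h', U', V'), ⟨?_, ?_, ?_, h4⟩, h1, h2, h3⟩
      · have : h' = (h' - h) + h := by ring
        rw [this]
        exact add_mem (Ideal.pow_le_self (by omega) h1) hh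
      · have : U' - u = (U' - U) + (U - u) := by ring
        rw [this]
        exact add_mem (Ideal.pow_le_self (by omega) h2) hU
      · have : V' - v = (V' - V) + (V - v) := by ring
        rw [this]
        exact add_mem (Ideal.pow_le_self (by omega) h3) hV)
  obtain ⟨α, hα⟩ := exists_limit m (fun j => (f j).1)
    (fun j => Ideal.pow_le_pow_right (Nat.le_succ j) (hfR j).1)
  obtain ⟨u', hu'⟩ := exists_limit (m.map φ) (fun j => (f j).2.1)
    (fun j => Ideal.pow_le_pow_right (Nat.le_succ j) (hfR j).2.1)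
  obtain ⟨v', hv'⟩ := exists_limit (m.map φ) (fun j => (f j).2.2)
    (fun j => Ideal.pow_le_pow_right (Nat.le_succ j) (hfR j).2.2)
  refine ⟨α, u', v', ?_, ?_, ?_, ?_⟩
  · have h1 := hα 1
    rw [pow_one] at h1
    have : α = (f 1).1 - ((f 1).1 - α) := by ring
    rw [this]
    exact sub_mem (hfP 1).1 h1
  · have h1 := hu' 1
    rw [pow_one] at h1
    have : u' - u = ((f 1).2.1 - u) - ((f 1).2.1 - u') := by ring
    rw [this]
    exact sub_mem (hfP 1).2.1 h1
  · have h1 := hv' 1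
    rw [pow_one] at h1
    have : v' - v = ((f 1).2.2 - v) - ((f 1).2.2 - v') := by ring
    rw [this]
    exact sub_mem (hfP 1).2.2.1 h1
  · rw [← sub_eq_zero]
    apply eq_zero_of_forall_mem_pow (m.map φ)
    intro j
    -- `quad u' v' - quad U V` is divisible by the differences
    have e : NodeCompl.quad a b c u' v' - φ α =
        ((f j).2.1 - u') * (-(a * (u' + (f j).2.1)) - b * v') +
        ((f j).2.2 - v') * (-(b * (f j).2.1) - c * (v' + (f j).2.2)) +
        (NodeCompl.quad a b c (f j).2.1 (f j).2.2 - φ (f j).1) + φ ((f j).1 - α) := by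
      rw [map_sub]; unfold NodeCompl.quad; ring
    rw [e]
    refine add_mem (add_mem (add_mem (Ideal.mul_mem_right _ _ (hu' j))
      (Ideal.mul_mem_right _ _ (hv' j))) (Ideal.pow_le_pow_right (Nat.le_succ j) (hfP j).2.2.2)) ?_
    rw [← Ideal.map_pow]
    exact Ideal.mem_map_of_mem _ (hα j)

section Hypersurface

open MvPowerSeries

variable {Λ k : Type*} [CommRing Λ] [CommRing k] [IsNoetherianRing k] {σ : Type*} [Finite σ]

/-- **Kernel modulo `𝔪`, hypersurface version**: a surjective ring map from `Λ[[σ]]` onto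
`k[[σ]]/(g)` (`g` the reduction of `G`) that kills `𝔪` and `G - h` (`h ∈ 𝔪`, `Λ/𝔪 = k`) has kernel
inside `(G - h) + 𝔪 Λ[[σ]]`. -/
theorem ker_le_of_hypersurface (𝔪 : Ideal Λ) (h𝔪 : 𝔪.FG) (r : Λ →+* k)
    (hr : Function.Surjective r) (hker : RingHom.ker r = 𝔪) (h : Λ) (hh : h ∈ 𝔪)
    (G : MvPowerSeries σ Λ) (g : MvPowerSeries σ k) (hg : MvPowerSeries.map r G = g)
    (θ : MvPowerSeries σ Λ →+* MvPowerSeries σ k ⧸ Ideal.span {g})
    (hθ : Function.Surjective θ) (hθ𝔪 : ∀ a ∈ 𝔪, θ (C a) = 0)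
    (hθg : θ (G - C h) = 0) :
    RingHom.ker θ ≤ Ideal.span {(G - C h : MvPowerSeries σ Λ)} ⊔
      𝔪.map (C (σ := σ) (R := Λ)) := by
  classical
  have hρ : Function.Surjective (MvPowerSeries.map (σ := σ) r) := map_surjective r hr
  have hkρ : RingHom.ker (MvPowerSeries.map (σ := σ) r) = 𝔪.map (C (σ := σ) (R := Λ)) :=
    le_antisymm (ker_map_le r 𝔪 h𝔪 hker) (map_le_ker_map r 𝔪 hker)
  have hle : RingHom.ker (MvPowerSeries.map (σ := σ) r) ≤ RingHom.ker θ := by
    rw [hkρ, Ideal.map_le_iff_le_comap]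
    intro a ha
    exact hθ𝔪 a ha
  let Θ : MvPowerSeries σ k →+* MvPowerSeries σ k ⧸ Ideal.span {g} :=
    (MvPowerSeries.map (σ := σ) r).liftOfSurjective hρ ⟨θ, hle⟩
  have hΘ : ∀ x, Θ (MvPowerSeries.map r x) = θ x :=
    fun x => RingHom.liftOfSurjective_comp_apply (MvPowerSeries.map (σ := σ) r) hρ ⟨θ, hle⟩ x
  have hΘs : Function.Surjective Θ := by
    intro y
    obtain ⟨x, rfl⟩ := hθ y
    exact ⟨MvPowerSeries.map r x, hΘ x⟩
  have hXY : Θ g = 0 := by
    have h3 : Θ g = Θ (MvPowerSeries.map r G) := congrArg Θ hg.symm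
    rw [h3, hΘ]
    have h2 : G = (G - C h) + C h := by ring
    rw [h2, map_add, hθg, hθ𝔪 h hh, add_zero]
  let Θb : (MvPowerSeries σ k ⧸ Ideal.span {g}) →+* MvPowerSeries σ k ⧸ Ideal.span {g} :=
    Ideal.Quotient.lift _ Θ (by
      intro x hx
      obtain ⟨c, rfl⟩ := Ideal.mem_span_singleton'.1 hx
      rw [map_mul, hXY, mul_zero])
  have hΘbs : Function.Surjective Θb := by
    intro y
    obtain ⟨x, rfl⟩ := hΘs y
    exact ⟨Ideal.Quotient.mk _ x, Ideal.Quotient.lift_mk _ _ _⟩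
  have hΘbi : Function.Injective Θb := injective_of_surjective_ringEnd Θb hΘbs
  have hkΘ : ∀ x, Θ x = 0 → x ∈ Ideal.span {g} := by
    intro x hx
    have h1 : Θb (Ideal.Quotient.mk _ x) = 0 := by
      rw [Ideal.Quotient.lift_mk]; exact hx
    have h2 := (injective_iff_map_eq_zero Θb).1 hΘbi _ h1
    exact Ideal.Quotient.eq_zero_iff_mem.1 h2
  intro x hx
  rw [RingHom.mem_ker] at hx
  have h1 := hkΘ (MvPowerSeries.map r x) (by rw [hΘ]; exact hx)
  obtain ⟨cb, hcb⟩ := Ideal.mem_span_singleton'.1 h1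
  obtain ⟨c, rfl⟩ := hρ cb
  have h2 : x - c * G ∈ RingHom.ker (MvPowerSeries.map (σ := σ) r) := by
    rw [RingHom.mem_ker, map_sub, map_mul, hg, ← hcb, sub_self]
  rw [hkρ] at h2
  have e : x = c * (G - C h) + (c * C h + (x - c * G)) := by ring
  rw [e]
  refine add_mem (Ideal.mem_sup_left (Ideal.mul_mem_left _ _ (Ideal.subset_span rfl)))
    (Ideal.mem_sup_right (add_mem (Ideal.mul_mem_left _ _ (Ideal.mem_map_of_mem _ hh)) h2))

end Hypersurface

end Groth.Agent.H76.NodeCompl
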