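import Mathlib
import Groth.Agent.H76.NodeComplE
import Groth.Agent.H76.NodeComplF
import Groth.Agent.H97.ComplIso
import Groth.Agent.H44.MvPSDecomp

/-!
# Completed local ring of a flat family at a (possibly non-split) node of the closed fibre

`A → B` a flat local homomorphism of Noetherian local rings, `σ : B → F` a surjection with kernel
`𝔪_A B` (so `F` is the local ring of the closed fibre), and an isomorphism of the completion of `F`
with `k[[x,y]]/(a x² + b xy + c y²)`, `b² - 4ac ≠ 0`, compatible with `A → k = κ(A)`.  Then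
`B̂ ≅ Â[[x,y]]/(a' x² + b' xy + c' y² - h)` for any lifts `a', b', c'` and some `h ∈ 𝔪_Â`.
-/

set_option autoImplicit false
set_option linter.unusedSectionVars false
set_option linter.style.haveILetI false
universe u

namespace Groth.Agent.H76.NodeCompl

open IsLocalRing MvPowerSeries

section KerMod

variable (A B : Type u) [CommRing A] [IsLocalRing A] [IsNoetherianRing A]
    [CommRing B] [IsLocalRing B] [IsNoetherianRing B] [Algebra A B] [IsLocalHom (algebraMap A B)]

/-- Flatness + Nakayama: a kernel that is `(G)` modulo `𝔪_A` is `(G)`. -/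
theorem ker_le_of_mod [Module.Flat A B]
    (G : MvPowerSeries (Fin 2) (AdicCompletion (maximalIdeal A) A))
    (ψ₀ : MvPowerSeries (Fin 2) (AdicCompletion (maximalIdeal A) A) →+*
      AdicCompletion (maximalIdeal B) B)
    (hs : Function.Surjective ψ₀) (hC : ∀ a, ψ₀ (C a) = φh A B a)
    (hk : ψ₀ G = 0)
    (hmod : RingHom.ker ψ₀ ≤ Ideal.span {G} ⊔
      (maximalIdeal (AdicCompletion (maximalIdeal A) A)).map
        (C (σ := Fin 2) (R := AdicCompletion (maximalIdeal A) A))) :
    RingHom.ker ψ₀ ≤ Ideal.span {G} := by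
  classical
  haveI : IsNoetherianRing (AdicCompletion (maximalIdeal A) A) :=
    H63.isNoetherianRing_adicCompletion _
  haveI : Module.Flat A (AdicCompletion (maximalIdeal B) B) := flat_compl A B
  let ψA : MvPowerSeries (Fin 2) (AdicCompletion (maximalIdeal A) A) →ₐ[A]
      AdicCompletion (maximalIdeal B) B :=
    { toRingHom := ψ₀
      commutes' := by
        intro a
        have h1 : algebraMap A (MvPowerSeries (Fin 2) (AdicCompletion (maximalIdeal A) A)) a =
            C (algebraMap A (AdicCompletion (maximalIdeal A) A) a) := by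
          rw [← MvPowerSeries.algebraMap_apply]
        simp only [RingHom.toMonoidHom_eq_coe, OneHom.toFun_eq_coe, MonoidHom.toOneHom_coe,
          MonoidHom.coe_coe]
        rw [h1, hC, φh_of] }
  have hflat := ker_inf_le_of_flat ψA hs (maximalIdeal A)
  have hkerA : RingHom.ker ψA = RingHom.ker ψ₀ := rfl
  rw [hkerA, ← map_C_eq] at hflat
  have hg : G ∈ RingHom.ker ψ₀ := hk
  refine Submodule.le_of_le_smul_of_le_jacobson_bot
    (I := (maximalIdeal (AdicCompletion (maximalIdeal A) A)).map
      (C (σ := Fin 2) (R := AdicCompletion (maximalIdeal A) A)))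
    ((isNoetherianRing_iff_ideal_fg _).1 inferInstance _) ?_ ?_
  · rw [IsLocalRing.jacobson_eq_maximalIdeal ⊥ bot_ne_top]
    exact map_C_le_maximalIdeal A
  · intro x hx
    obtain ⟨y, hy, z, hz, rfl⟩ := Submodule.mem_sup.1 (hmod hx)
    have hyk : y ∈ RingHom.ker ψ₀ := by
      obtain ⟨c, rfl⟩ := Ideal.mem_span_singleton'.1 hy
      exact Ideal.mul_mem_left _ _ hg
    have hzk : z ∈ RingHom.ker ψ₀ := by
      have : z = (y + z) - y := by ring
      rw [this]
      exact sub_mem hx hyk
    exact Submodule.mem_sup.2 ⟨y, hy, z, hflat ⟨hzk, hz⟩, rfl⟩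

end KerMod

section Fibre

variable (A B F : Type u) [CommRing A] [IsLocalRing A] [IsNoetherianRing A]
    [CommRing B] [IsLocalRing B] [IsNoetherianRing B] [Algebra A B] [IsLocalHom (algebraMap A B)]
    [CommRing F] [IsLocalRing F] [IsNoetherianRing F]
    (σ : B →+* F)

theorem map_σ_eq (hσ : Function.Surjective σ) : (maximalIdeal B).map σ = maximalIdeal F :=
  IsLocalRing.map_maximalIdeal_of_surjective σ hσ

/-- The map from `B̂` to the completed fibre ring. -/
noncomputable def πh (hσ : Function.Surjective σ) :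
    AdicCompletion (maximalIdeal B) B →+* AdicCompletion (maximalIdeal F) F :=
  H63.complMap (maximalIdeal B) (maximalIdeal F) σ (map_σ_eq B F σ hσ).le

theorem πh_surjective (hσ : Function.Surjective σ) : Function.Surjective (πh B F σ hσ) :=
  H63.complMap_surjective (maximalIdeal B) (maximalIdeal F) σ
    ((isNoetherianRing_iff_ideal_fg _).1 inferInstance _)
    ((isNoetherianRing_iff_ideal_fg _).1 inferInstance _) (map_σ_eq B F σ hσ) hσ

theorem πh_of (hσ : Function.Surjective σ) (b : B) :
    πh B F σ hσ (algebraMap B _ b) = algebraMap F (AdicCompletion (maximalIdeal F) F) (σ b) :=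
  H63.complMap_of _ _ _ _ b

theorem map_le_ker_πh (hσ : Function.Surjective σ)
    (hkσ : RingHom.ker σ = (maximalIdeal A).map (algebraMap A B)) :
    (maximalIdeal A).map (algebraMap A (AdicCompletion (maximalIdeal B) B)) ≤
      RingHom.ker (πh B F σ hσ) := by
  rw [Ideal.map_le_iff_le_comap]
  intro m hm
  rw [Ideal.mem_comap, RingHom.mem_ker, algebraMap_eq_comp, RingHom.comp_apply, πh_of]
  have : σ (algebraMap A B m) = 0 := by
    rw [← RingHom.mem_ker, hkσ]
    exact Ideal.mem_map_of_mem _ hm
  rw [this, map_zero]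

/-- The kernel of `B̂ → F̂` is `𝔪_A B̂` (closedness of ideals in the complete Noetherian local
ring `B̂`). -/
theorem ker_πh_le (hσ : Function.Surjective σ)
    (hkσ : RingHom.ker σ = (maximalIdeal A).map (algebraMap A B)) :
    RingHom.ker (πh B F σ hσ) ≤
      (maximalIdeal A).map (algebraMap A (AdicCompletion (maximalIdeal B) B)) := by
  haveI : IsNoetherianRing (AdicCompletion (maximalIdeal B) B) :=
    H63.isNoetherianRing_adicCompletion _
  set 𝔫 : Ideal (AdicCompletion (maximalIdeal B) B) :=
    (maximalIdeal A).map (algebraMap A (AdicCompletion (maximalIdeal B) B)) with h𝔫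
  have h𝔫' : 𝔫 = ((maximalIdeal A).map (algebraMap A B)).map
      (algebraMap B (AdicCompletion (maximalIdeal B) B)) := by
    rw [h𝔫, Ideal.map_map]; rfl
  intro x hx
  rw [RingHom.mem_ker] at hx
  -- `x ∈ 𝔫 + 𝔪^n` for all `n`
  have key : ∀ n : ℕ, x ∈ 𝔫 ⊔ (maximalIdeal (AdicCompletion (maximalIdeal B) B)) ^ n := by
    intro n
    obtain ⟨b, hb⟩ := Ideal.Quotient.mk_surjective (AdicCompletion.evalₐ (maximalIdeal B) n x)
    have h1 : AdicCompletion.evalₐ (maximalIdeal F) n (πh B F σ hσ x) = 0 := by
      rw [hx, map_zero]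
    rw [πh, H63.evalₐ_complMap, ← hb, Ideal.quotientMap_mk, Ideal.Quotient.eq_zero_iff_mem,
      ← map_σ_eq B F σ hσ, ← Ideal.map_pow] at h1
    obtain ⟨c, hc, hcb⟩ := (Ideal.mem_map_iff_of_surjective σ hσ).1 h1
    have h2 : b - c ∈ (maximalIdeal A).map (algebraMap A B) := by
      rw [← hkσ, RingHom.mem_ker, map_sub, hcb, sub_self]
    have h3 : x - algebraMap B _ b ∈
        (maximalIdeal (AdicCompletion (maximalIdeal B) B)) ^ n := by
      rw [AdicCompletion.maximalIdeal_eq_map,
        ← H97.ComplIso.ker_evalₐ (maximalIdeal B)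
          ((isNoetherianRing_iff_ideal_fg _).1 inferInstance _) n, RingHom.mem_ker]
      show AdicCompletion.evalₐ (maximalIdeal B) n (x - algebraMap B _ b) = 0
      rw [map_sub, ← hb]
      have : AdicCompletion.evalₐ (maximalIdeal B) n
          (algebraMap B (AdicCompletion (maximalIdeal B) B) b) = Ideal.Quotient.mk _ b :=
        AdicCompletion.evalₐ_of _ _ _
      rw [this, sub_self]
    have h4 : algebraMap B (AdicCompletion (maximalIdeal B) B) c ∈
        (maximalIdeal (AdicCompletion (maximalIdeal B) B)) ^ n := by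
      rw [AdicCompletion.maximalIdeal_eq_map, ← Ideal.map_pow]
      exact Ideal.mem_map_of_mem _ hc
    have e : x = algebraMap B _ (b - c) + ((x - algebraMap B _ b) + algebraMap B _ c) := by
      rw [map_sub]; ring
    rw [e]
    refine add_mem (Ideal.mem_sup_left ?_) (Ideal.mem_sup_right (add_mem h3 h4))
    rw [h𝔫']
    exact Ideal.mem_map_of_mem _ h2
  -- Hausdorffness of `B̂ ⧸ 𝔫`
  have hH : IsHausdorff (maximalIdeal (AdicCompletion (maximalIdeal B) B))
      (AdicCompletion (maximalIdeal B) B ⧸ 𝔫) := inferInstance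
  have h0 : Ideal.Quotient.mk 𝔫 x = 0 := by
    refine IsHausdorff.haus hH _ fun n => ?_
    rw [SModEq.zero]
    obtain ⟨y, hy, z, hz, rfl⟩ := Submodule.mem_sup.1 (key n)
    rw [map_add, Ideal.Quotient.eq_zero_iff_mem.2 hy, zero_add]
    have : Ideal.Quotient.mk 𝔫 z = z • (1 : AdicCompletion (maximalIdeal B) B ⧸ 𝔫) := by
      rw [Algebra.smul_def, mul_one]; rfl
    rw [this]
    exact Submodule.smul_mem_smul hz Submodule.mem_top
  exact Ideal.Quotient.eq_zero_iff_mem.1 h0

end Fibre

end Groth.Agent.H76.NodeCompl
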