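import Mathlib
import Groth.Agent.H76.NodeComplG

/-!
# The completed local ring at a node of the closed fibre: main algebraic theorem
-/

set_option autoImplicit false
set_option linter.unusedSectionVars false
set_option linter.style.haveILetI false
universe u

namespace Groth.Agent.H76.NodeCompl

open IsLocalRing MvPowerSeries

section Aug

variable {k : Type*} [Field k] (g : MvPowerSeries (Fin 2) k) (hg : constantCoeff g = 0)

include hg in
theorem not_isUnit_mk_X (i : Fin 2) :
    ¬ IsUnit (Ideal.Quotient.mk (Ideal.span {g}) (X i : MvPowerSeries (Fin 2) k)) := by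
  intro hu
  let ε : (MvPowerSeries (Fin 2) k ⧸ Ideal.span {g}) →+* k :=
    Ideal.Quotient.lift _ (constantCoeff (σ := Fin 2) (R := k)) (by
      intro x hx
      obtain ⟨c, rfl⟩ := Ideal.mem_span_singleton'.1 hx
      rw [map_mul, hg, mul_zero])
  have := hu.map ε
  rw [Ideal.Quotient.lift_mk, MvPowerSeries.constantCoeff_X] at this
  exact not_isUnit_zero this

theorem exists_decomp_ps (f : MvPowerSeries (Fin 2) k) :
    ∃ l₀ l₁ : MvPowerSeries (Fin 2) k, f = C (constantCoeff f) + X 0 * l₀ + X 1 * l₁ := by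
  have h0 : constantCoeff (f - C (constantCoeff f)) = 0 := by
    rw [map_sub, MvPowerSeries.constantCoeff_C, sub_self]
  have := Groth.Agent.H44.eq_sum_X_mul_leadPart (f - C (constantCoeff f)) h0
  rw [Fin.sum_univ_two] at this
  exact ⟨Groth.Agent.H44.leadPart (f - C (constantCoeff f)) 0,
    Groth.Agent.H44.leadPart (f - C (constantCoeff f)) 1, by linear_combination this⟩

end Aug

section Main

variable (A B F : Type u) [CommRing A] [IsLocalRing A] [IsNoetherianRing A]
    [CommRing B] [IsLocalRing B] [IsNoetherianRing B] [Algebra A B] [IsLocalHom (algebraMap A B)]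
    [CommRing F] [IsLocalRing F] [IsNoetherianRing F]
    (σ : B →+* F)

theorem resh_of (x : A) :
    resh A (algebraMap A (AdicCompletion (maximalIdeal A) A) x) = residue A x := by
  rw [resh, RingHom.comp_apply, ← IsLocalRing.ResidueField.map_residue, RingEquiv.coe_toRingHom,
    RingEquiv.symm_apply_eq]
  rfl

/-- every element of `Â` is an element of `A` modulo the maximal ideal. -/
theorem exists_sub_mem_maximalIdeal_self (x : AdicCompletion (maximalIdeal A) A) :
    ∃ a : A, x - algebraMap A _ a ∈ maximalIdeal (AdicCompletion (maximalIdeal A) A) := by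
  obtain ⟨a, ha⟩ := residue_surjective (resh A x)
  refine ⟨a, ?_⟩
  rw [← ker_resh, RingHom.mem_ker, map_sub, resh_of, ha, sub_self]

/-- **Main theorem, power series level.** -/
theorem exists_data_quad [Module.Flat A B]
    (hσ : Function.Surjective σ)
    (hkσ : RingHom.ker σ = (maximalIdeal A).map (algebraMap A B))
    (a b c : ResidueField A) (hd : b ^ 2 - 4 * a * c ≠ 0)
    (g : MvPowerSeries (Fin 2) (ResidueField A))
    (hgdef : g = quad (C a) (C b) (C c) (X 0 : MvPowerSeries (Fin 2) (ResidueField A)) (X 1))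
    (e : AdicCompletion (maximalIdeal F) F ≃+*
      (MvPowerSeries (Fin 2) (ResidueField A) ⧸ Ideal.span {g}))
    (he : ∀ x : A, e (algebraMap F _ (σ (algebraMap A B x))) =
      Ideal.Quotient.mk _ (C (residue A x)))
    (a' b' c' : AdicCompletion (maximalIdeal A) A)
    (ha' : resh A a' = a) (hb' : resh A b' = b) (hc' : resh A c' = c) :
    ∃ (h : AdicCompletion (maximalIdeal A) A)
      (ψ₀ : MvPowerSeries (Fin 2) (AdicCompletion (maximalIdeal A) A) →+*
        AdicCompletion (maximalIdeal B) B),
      h ∈ maximalIdeal (AdicCompletion (maximalIdeal A) A) ∧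
      Function.Surjective ψ₀ ∧ (∀ x, ψ₀ (C x) = φh A B x) ∧
      RingHom.ker ψ₀ = Ideal.span
        {quad (C a') (C b') (C c')
          (X 0 : MvPowerSeries (Fin 2) (AdicCompletion (maximalIdeal A) A)) (X 1) - C h} := by
  classical
  haveI : IsNoetherianRing (AdicCompletion (maximalIdeal A) A) :=
    H63.isNoetherianRing_adicCompletion _
  haveI : IsNoetherianRing (AdicCompletion (maximalIdeal B) B) :=
    H63.isNoetherianRing_adicCompletion _
  have hg0 : constantCoeff g = 0 := by
    rw [hgdef, map_quad]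
    simp [quad]
  -- the map `θB : B̂ → N`
  let θB : AdicCompletion (maximalIdeal B) B →+*
      MvPowerSeries (Fin 2) (ResidueField A) ⧸ Ideal.span {g} :=
    (e : _ →+* _).comp (πh B F σ hσ)
  have hθBs : Function.Surjective θB := e.surjective.comp (πh_surjective B F σ hσ)
  set 𝔫 : Ideal (AdicCompletion (maximalIdeal B) B) :=
    (maximalIdeal (AdicCompletion (maximalIdeal A) A)).map (φh A B) with h𝔫
  have hkθ : ∀ x, θB x = 0 ↔ x ∈ 𝔫 := by
    intro x
    rw [h𝔫, map_φh]
    constructor
    · intro hx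
      apply ker_πh_le A B F σ hσ hkσ
      rw [RingHom.mem_ker]
      exact (map_eq_zero_iff _ e.injective).1 hx
    · intro hx
      have := map_le_ker_πh A B F σ hσ hkσ hx
      rw [RingHom.mem_ker] at this
      show e (πh B F σ hσ x) = 0
      rw [this, map_zero]
  -- compatibility with `Â → k`
  have hθφ : ∀ x, θB (φh A B x) = Ideal.Quotient.mk _ (C (resh A x)) := by
    intro x
    obtain ⟨x₀, hx₀⟩ := exists_sub_mem_maximalIdeal_self A x
    have h1 : θB (φh A B (x - algebraMap A _ x₀)) = 0 :=
      (hkθ _).2 (Ideal.mem_map_of_mem _ hx₀)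
    have h2 : resh A (x - algebraMap A _ x₀) = 0 := by
      rw [← RingHom.mem_ker, ker_resh]; exact hx₀
    rw [map_sub, map_sub, sub_eq_zero] at h1
    rw [map_sub, sub_eq_zero] at h2
    rw [h1, h2, φh_of, resh_of]
    show e (πh B F σ hσ (algebraMap B _ (algebraMap A B x₀))) = _
    rw [πh_of, he]
  -- coordinates
  obtain ⟨U₀, hU₀⟩ := hθBs (Ideal.Quotient.mk _ (X 0))
  obtain ⟨V₀, hV₀⟩ := hθBs (Ideal.Quotient.mk _ (X 1))
  -- the discriminant is a unit
  have hdu : IsUnit ((φh A B b') ^ 2 - 4 * φh A B a' * φh A B c') := by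
    have h1 : IsUnit (b' ^ 2 - 4 * a' * c') := by
      by_contra hnu
      have h2 : b' ^ 2 - 4 * a' * c' ∈ maximalIdeal (AdicCompletion (maximalIdeal A) A) := hnu
      rw [← ker_resh, RingHom.mem_ker] at h2
      apply hd
      rw [← ha', ← hb', ← hc']
      simpa only [map_sub, map_mul, map_pow, map_ofNat] using h2
    have := h1.map (φh A B)
    simpa only [map_sub, map_mul, map_pow, map_ofNat] using this
  -- the quadratic form lies in `𝔫`
  have hq : quad (φh A B a') (φh A B b') (φh A B c') U₀ V₀ ∈ 𝔫 := by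
    rw [← hkθ, map_quad, hθφ, hθφ, hθφ, hU₀, hV₀, ha', hb', hc', ← map_quad, ← hgdef]
    exact Ideal.Quotient.eq_zero_iff_mem.2 (Ideal.subset_span rfl)
  -- decomposition
  have hdec : Decomp (φh A B) (maximalIdeal (AdicCompletion (maximalIdeal A) A)) U₀ V₀ := by
    intro β
    obtain ⟨f, hf⟩ := Ideal.Quotient.mk_surjective (θB β)
    obtain ⟨l₀, l₁, hl⟩ := exists_decomp_ps f
    obtain ⟨x₀, hx₀⟩ := resh_surjective A (constantCoeff f)
    obtain ⟨s, hs⟩ := hθBs (Ideal.Quotient.mk _ l₀)
    obtain ⟨t, ht⟩ := hθBs (Ideal.Quotient.mk _ l₁)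
    refine ⟨x₀, s, t, β - (φh A B x₀ + U₀ * s + V₀ * t), ?_, by ring⟩
    rw [← hkθ, map_sub, map_add, map_add, map_mul, map_mul, hθφ, hU₀, hV₀, hs, ht, hx₀, ← hf,
      ← map_mul, ← map_mul, ← map_add, ← map_add, ← hl, sub_self]
  haveI := isAdicComplete_map_φh A B
  obtain ⟨h, u', v', hh, hu', hv', huv'⟩ :=
    exists_uv_quad (φh A B a') (φh A B b') (φh A B c') hdu U₀ V₀ hq hdec
  -- membership in the maximal ideal
  have hnle : 𝔫 ≤ maximalIdeal (AdicCompletion (maximalIdeal B) B) := map_φh_le A B
  have hU₀m : U₀ ∈ maximalIdeal (AdicCompletion (maximalIdeal B) B) := by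
    by_contra hnu
    have hu : IsUnit U₀ := by
      by_contra h'; exact hnu h'
    have := hu.map θB
    rw [hU₀] at this
    exact not_isUnit_mk_X g hg0 0 this
  have hV₀m : V₀ ∈ maximalIdeal (AdicCompletion (maximalIdeal B) B) := by
    by_contra hnu
    have hu : IsUnit V₀ := by
      by_contra h'; exact hnu h'
    have := hu.map θB
    rw [hV₀] at this
    exact not_isUnit_mk_X g hg0 1 this
  have hu'm : u' ∈ maximalIdeal (AdicCompletion (maximalIdeal B) B) := by
    have : u' = (u' - U₀) + U₀ := by ring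
    rw [this]
    exact add_mem (hnle hu') hU₀m
  have hv'm : v' ∈ maximalIdeal (AdicCompletion (maximalIdeal B) B) := by
    have : v' = (v' - V₀) + V₀ := by ring
    rw [this]
    exact add_mem (hnle hv') hV₀m
  letI : Algebra (AdicCompletion (maximalIdeal A) A) (AdicCompletion (maximalIdeal B) B) :=
    (φh A B).toAlgebra
  have hsurj : Function.Surjective ((residue (AdicCompletion (maximalIdeal B) B)).comp
      (algebraMap (AdicCompletion (maximalIdeal A) A) (AdicCompletion (maximalIdeal B) B))) := by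
    intro y
    obtain ⟨β, rfl⟩ := residue_surjective y
    obtain ⟨x₀, s, t, ν, hν, hβ⟩ := hdec β
    refine ⟨x₀, ?_⟩
    rw [RingHom.comp_apply]
    show residue _ (φh A B x₀) = _
    symm
    rw [← sub_eq_zero, ← map_sub, residue_eq_zero_iff]
    have : β - φh A B x₀ = U₀ * s + V₀ * t + ν := by rw [hβ]; ring
    rw [this]
    exact add_mem (add_mem (Ideal.mul_mem_right _ _ hU₀m) (Ideal.mul_mem_right _ _ hV₀m))
      (hnle hν)
  have hmaxle : maximalIdeal (AdicCompletion (maximalIdeal B) B) ≤
      Ideal.span (Set.range ![u', v']) ⊔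
        (maximalIdeal (AdicCompletion (maximalIdeal A) A)).map
          (algebraMap (AdicCompletion (maximalIdeal A) A) (AdicCompletion (maximalIdeal B) B)) := by
    show _ ≤ _ ⊔ 𝔫
    intro β hβm
    obtain ⟨x₀, s, t, ν, hν, hβ⟩ := hdec β
    have hx₀ : x₀ ∈ maximalIdeal (AdicCompletion (maximalIdeal A) A) := by
      by_contra hnu
      have hu : IsUnit x₀ := by
        by_contra h'; exact hnu h'
      have h1 := hu.map (φh A B)
      have h2 : φh A B x₀ ∈ maximalIdeal (AdicCompletion (maximalIdeal B) B) := by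
        have : φh A B x₀ = β - (U₀ * s + V₀ * t + ν) := by rw [hβ]; ring
        rw [this]
        exact sub_mem hβm (add_mem (add_mem (Ideal.mul_mem_right _ _ hU₀m)
          (Ideal.mul_mem_right _ _ hV₀m)) (hnle hν))
      exact h2 h1
    have e1 : β = (u' * s + v' * t) +
        (φh A B x₀ - (u' - U₀) * s - (v' - V₀) * t + ν) := by rw [hβ]; ring
    rw [e1]
    refine add_mem (Ideal.mem_sup_left (add_mem
      (Ideal.mul_mem_right _ _ (Ideal.subset_span ⟨0, rfl⟩))
      (Ideal.mul_mem_right _ _ (Ideal.subset_span ⟨1, rfl⟩)))) (Ideal.mem_sup_right ?_)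
    exact add_mem (sub_mem (sub_mem (Ideal.mem_map_of_mem _ hx₀) (Ideal.mul_mem_right _ _ hu'))
      (Ideal.mul_mem_right _ _ hv')) hν
  obtain ⟨ψ, hψX, hψs⟩ := exists_ps_surjective (AdicCompletion (maximalIdeal A) A)
    (AdicCompletion (maximalIdeal B) B) hsurj 2 ![u', v']
    (by intro i; fin_cases i <;> simp [hu'm, hv'm]) hmaxle
  have hC : ∀ x, ψ (C x) = φh A B x := by
    intro x
    have := ψ.commutes x
    rwa [MvPowerSeries.algebraMap_apply, Algebra.algebraMap_self, RingHom.id_apply] at this
  have h0 : ψ (X 0) = u' := hψX 0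
  have h1 : ψ (X 1) = v' := hψX 1
  set G : MvPowerSeries (Fin 2) (AdicCompletion (maximalIdeal A) A) :=
    quad (C a') (C b') (C c') (X 0) (X 1) with hGdef
  have hkG : ψ.toRingHom (G - C h) = 0 := by
    show ψ (G - C h) = 0
    rw [map_sub, hGdef, map_quad, hC, hC, hC, hC, h0, h1, huv', sub_self]
  refine ⟨h, ψ.toRingHom, hh, hψs, hC, le_antisymm ?_ ?_⟩
  · -- the kernel is contained in `(G - h)`
    apply ker_le_of_mod A B (G - C h) ψ.toRingHom hψs hC hkG
    let θ : MvPowerSeries (Fin 2) (AdicCompletion (maximalIdeal A) A) →+*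
        MvPowerSeries (Fin 2) (ResidueField A) ⧸ Ideal.span {g} := θB.comp ψ.toRingHom
    have hθs : Function.Surjective θ := hθBs.comp hψs
    have hθ𝔪 : ∀ x ∈ maximalIdeal (AdicCompletion (maximalIdeal A) A), θ (C x) = 0 := by
      intro x hx
      show θB (ψ (C x)) = 0
      rw [hC, hkθ]
      exact Ideal.mem_map_of_mem _ hx
    have hθg : θ (G - C h) = 0 := by
      show θB (ψ.toRingHom (G - C h)) = 0
      rw [hkG, map_zero]
    have hmapG : MvPowerSeries.map (resh A) G = g := by
      rw [hGdef, hgdef, map_quad, MvPowerSeries.map_C, MvPowerSeries.map_C, MvPowerSeries.map_C,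
        MvPowerSeries.map_X, MvPowerSeries.map_X, ha', hb', hc']
    have hmod := ker_le_of_hypersurface (maximalIdeal (AdicCompletion (maximalIdeal A) A))
      ((isNoetherianRing_iff_ideal_fg _).1 inferInstance _) (resh A) (resh_surjective A)
      (ker_resh A) h hh G g hmapG θ hθs hθ𝔪 hθg
    intro x hx
    apply hmod
    rw [RingHom.mem_ker] at hx ⊢
    show θB (ψ.toRingHom x) = 0
    rw [hx, map_zero]
  · rw [Ideal.span_le]
    rintro x hx
    rw [Set.mem_singleton_iff] at hx
    rw [hx]
    exact hkG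

/-- **Main theorem, isomorphism form** (general nondegenerate quadratic form). -/
theorem exists_equiv_quad [Module.Flat A B]
    (hσ : Function.Surjective σ)
    (hkσ : RingHom.ker σ = (maximalIdeal A).map (algebraMap A B))
    (a b c : ResidueField A) (hd : b ^ 2 - 4 * a * c ≠ 0)
    (g : MvPowerSeries (Fin 2) (ResidueField A))
    (hgdef : g = quad (C a) (C b) (C c) (X 0 : MvPowerSeries (Fin 2) (ResidueField A)) (X 1))
    (e : AdicCompletion (maximalIdeal F) F ≃+*
      (MvPowerSeries (Fin 2) (ResidueField A) ⧸ Ideal.span {g}))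
    (he : ∀ x : A, e (algebraMap F _ (σ (algebraMap A B x))) =
      Ideal.Quotient.mk _ (C (residue A x)))
    (a' b' c' : AdicCompletion (maximalIdeal A) A)
    (ha' : resh A a' = a) (hb' : resh A b' = b) (hc' : resh A c' = c)
    (G : AdicCompletion (maximalIdeal A) A →
      MvPowerSeries (Fin 2) (AdicCompletion (maximalIdeal A) A))
    (hG : ∀ h, G h = quad (C a') (C b') (C c')
          (X 0 : MvPowerSeries (Fin 2) (AdicCompletion (maximalIdeal A) A)) (X 1) - C h) :
    ∃ h ∈ maximalIdeal (AdicCompletion (maximalIdeal A) A),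
      ∃ e' : AdicCompletion (maximalIdeal B) B ≃+*
        (MvPowerSeries (Fin 2) (AdicCompletion (maximalIdeal A) A) ⧸ Ideal.span {G h}),
        ∀ x : A, e' (algebraMap B _ (algebraMap A B x)) =
          Ideal.Quotient.mk _ (C (algebraMap A (AdicCompletion (maximalIdeal A) A) x)) := by
  obtain ⟨h, ψ₀, hh, hs, hC, hker⟩ :=
    exists_data_quad A B F σ hσ hkσ a b c hd g hgdef e he a' b' c' ha' hb' hc'
  rw [← hG h] at hker
  refine ⟨h, hh, (RingHom.quotientKerEquivOfSurjective hs).symm.trans
    (Ideal.quotEquivOfEq hker), fun x => ?_⟩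
  have h1 : algebraMap B (AdicCompletion (maximalIdeal B) B) (algebraMap A B x) =
      ψ₀ (C (algebraMap A (AdicCompletion (maximalIdeal A) A) x)) := by
    rw [hC, φh_of]; rfl
  rw [h1, RingEquiv.trans_apply]
  have h2 : (RingHom.quotientKerEquivOfSurjective hs).symm
      (ψ₀ (C (algebraMap A (AdicCompletion (maximalIdeal A) A) x))) =
      Ideal.Quotient.mk _ (C (algebraMap A (AdicCompletion (maximalIdeal A) A) x)) := by
    rw [RingEquiv.symm_apply_eq]
    rfl
  rw [h2]
  rfl

end Main

end Groth.Agent.H76.NodeCompl
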