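import Mathlib
import Groth.Prelude.Def_Curv2
import Groth.Agent.H76.NodeComplH
import Groth.Agent.H49.FibreStalk
import Groth.Agent.H6.StalkOverAffine

/-!
# Scheme-level translation: completed local ring at a node of a fibre
-/

set_option autoImplicit false
set_option linter.unusedSectionVars false
set_option linter.style.haveILetI false
universe u

open AlgebraicGeometry CategoryTheory IsLocalRing

namespace Groth.Agent.H76.NodeCompl

/-- Local homomorphisms out of a stalk are determined by the induced morphism of schemes. -/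
theorem eq_of_SpecMap_comp_fromSpecStalk_eq {X : Scheme.{u}} {R : CommRingCat.{u}} [IsLocalRing R]
    (x : X) (φ₁ φ₂ : X.presheaf.stalk x ⟶ R) (h₁ : IsLocalHom φ₁.hom) (h₂ : IsLocalHom φ₂.hom)
    (h : Spec.map φ₁ ≫ X.fromSpecStalk x = Spec.map φ₂ ≫ X.fromSpecStalk x) : φ₁ = φ₂ := by
  have key := (SpecToEquivOfLocalRing X R).symm.injective
    (a₁ := ⟨x, φ₁, h₁⟩) (a₂ := ⟨x, φ₂, h₂⟩) h
  obtain ⟨e₁, e₂⟩ := SpecToEquivOfLocalRing_eq_iff.mp key
  have h3 : (X.presheaf.stalkCongr (.of_eq e₁)).hom = 𝟙 _ := by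
    rw [TopCat.Presheaf.stalkCongr_hom]
    exact TopCat.Presheaf.stalkSpecializes_refl _ _
  exact e₂.trans (by rw [h3]; exact Category.id_comp φ₂)

section Scheme

variable {T S : Scheme.{u}} (f : T ⟶ S) (t : T)

/-- The surjection `O_{T,t} → O_{T_s,t}` onto the local ring of the fibre. -/
noncomputable def fibMap :
    T.presheaf.stalk t ⟶ (f.fiber (f t)).presheaf.stalk (f.asFiber t) :=
  (T.presheaf.stalkCongr (.of_eq (f.fiberι_asFiber t).symm)).hom ≫
    (f.fiberι (f t)).stalkMap (f.asFiber t)

theorem SpecMap_fibMap :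
    Spec.map (fibMap f t) ≫ T.fromSpecStalk t =
      (f.fiber (f t)).fromSpecStalk (f.asFiber t) ≫ f.fiberι (f t) := by
  rw [fibMap, TopCat.Presheaf.stalkCongr_hom, Spec.map_comp, Category.assoc,
    Scheme.SpecMap_stalkSpecializes_fromSpecStalk, Scheme.SpecMap_stalkMap_fromSpecStalk]

instance : IsLocalHom (fibMap f t).hom := by
  rw [fibMap, CommRingCat.hom_comp]
  haveI : IsLocalHom (T.presheaf.stalkCongr (.of_eq (f.fiberι_asFiber t).symm)).hom.hom :=
    isLocalHom_of_iso _
  exact RingHom.isLocalHom_comp _ _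

/-- The structure map `κ(s) → O_{T_s,t}` of the fibre. -/
noncomputable def fibStr :
    S.residueField (f t) ⟶ (f.fiber (f t)).presheaf.stalk (f.asFiber t) :=
  CommRingCat.ofHom (@Curv2.stalkMap (S.residueField (f t)) _ (f.fiber (f t))
    ⟨f.fiberToSpecResidueField (f t)⟩ (f.asFiber t))

theorem stalkMap_fibMap : f.stalkMap t ≫ fibMap f t = S.residue (f t) ≫ fibStr f t := by
  apply eq_of_SpecMap_comp_fromSpecStalk_eq (f t)
  · rw [CommRingCat.hom_comp]
    exact RingHom.isLocalHom_comp _ _
  · rw [CommRingCat.hom_comp]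
    haveI : IsLocalHom (fibStr f t).hom := inferInstance
    haveI : IsLocalHom (S.residue (f t)).hom :=
      IsLocalHom.of_surjective _ (S.residue_surjective (f t))
    exact RingHom.isLocalHom_comp _ _
  · rw [Spec.map_comp, Category.assoc, Scheme.SpecMap_stalkMap_fromSpecStalk,
      ← Category.assoc, SpecMap_fibMap, Category.assoc, f.fiber_fac, Spec.map_comp,
      Category.assoc]
    have h1 := @Groth.Agent.H6.StalkOverAffine.fromSpecStalk_comp_over (S.residueField (f t)) _
      (f.fiber (f t)) ⟨f.fiberToSpecResidueField (f t)⟩ (f.asFiber t)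
    rw [← Category.assoc]
    erw [h1]
    rfl

theorem fibMap_surjective : Function.Surjective (fibMap f t).hom := by
  rw [fibMap, CommRingCat.hom_comp]
  exact ((f.fiberι (f t)).stalkMap_surjective (f.asFiber t)).comp
    (ConcreteCategory.bijective_of_isIso
      (T.presheaf.stalkCongr (.of_eq (f.fiberι_asFiber t).symm)).hom).2

theorem ker_fibMap :
    RingHom.ker (fibMap f t).hom =
      Ideal.map (f.stalkMap t).hom (maximalIdeal (S.presheaf.stalk (f t))) := by
  set c := (T.presheaf.stalkCongr (.of_eq (f.fiberι_asFiber t).symm)).hom with hc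
  have hcb : Function.Bijective c.hom := ConcreteCategory.bijective_of_isIso c
  have hnat := Scheme.Hom.stalkMap_congr f f rfl t _ (f.fiberι_asFiber t).symm
  set cS := (S.presheaf.stalkCongr (.of_eq
    ((rfl : f = f) ▸ (f.fiberι_asFiber t).symm ▸ rfl :
      f t = f (f.fiberι (f t) (f.asFiber t))))).hom with hcS
  have hcSb : Function.Bijective cS.hom := ConcreteCategory.bijective_of_isIso cS
  have h1 : RingHom.ker (fibMap f t).hom =
      Ideal.comap c.hom (RingHom.ker ((f.fiberι (f t)).stalkMap (f.asFiber t)).hom) := by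
    rw [fibMap, CommRingCat.hom_comp, RingHom.comap_ker]
  rw [h1, Groth.Agent.H49.FibreStalk.ker_stalkMap_fiberι, Groth.Agent.H49.FibreStalk.fibreIdeal]
  have h2 : maximalIdeal (S.presheaf.stalk (f (f.fiberι (f t) (f.asFiber t)))) =
      Ideal.map cS.hom (maximalIdeal (S.presheaf.stalk (f t))) :=
    (IsLocalRing.map_maximalIdeal_of_surjective cS.hom hcSb.2).symm
  rw [h2, Ideal.map_map, ← CommRingCat.hom_comp, ← hnat, CommRingCat.hom_comp, ← Ideal.map_map,
    Ideal.comap_map_of_bijective _ hcb]

end Scheme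

end Groth.Agent.H76.NodeCompl
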