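import Mathlib
import Groth.Agent.H76.NodeComplS

/-!
# Completion of a flat family at a node of a fibre (scheme form)
-/

set_option autoImplicit false
set_option linter.unusedSectionVars false
set_option linter.style.haveILetI false
universe u

open AlgebraicGeometry CategoryTheory IsLocalRing

namespace Groth.Agent.H76.NodeCompl

theorem isNoetherianRing_of_essFiniteType' {A B : Type*} [CommRing A] [CommRing B] [Algebra A B]
    [IsNoetherianRing A] [Algebra.EssFiniteType A B] : IsNoetherianRing B := by
  haveI : IsNoetherianRing (Algebra.EssFiniteType.subalgebra A B) :=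
    Algebra.FiniteType.isNoetherianRing A _
  exact IsLocalization.isNoetherianRing (Algebra.EssFiniteType.submonoid A B) B inferInstance

/-- General form: a flat family at a point whose fibre local ring has completion
`κ[[x,y]]/(a x² + b xy + c y²)`, `b² - 4ac ≠ 0`. -/
theorem completion_at_fibre_node {T S : Scheme.{u}} (f : T ⟶ S) [LocallyOfFiniteType f] (t : T)
    [IsNoetherianRing (S.presheaf.stalk (f t))] (hfl : (f.stalkMap t).hom.Flat)
    (a b c : S.residueField (f t)) (hd : b ^ 2 - 4 * a * c ≠ 0)
    (g : MvPowerSeries (Fin 2) (S.residueField (f t)))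
    (hgdef : g = quad (MvPowerSeries.C a) (MvPowerSeries.C b) (MvPowerSeries.C c)
      (MvPowerSeries.X 0 : MvPowerSeries (Fin 2) (S.residueField (f t))) (MvPowerSeries.X 1))
    (e : Curv2.cpl ((f.fiber (f t)).presheaf.stalk (f.asFiber t)) ≃+*
      (MvPowerSeries (Fin 2) (S.residueField (f t)) ⧸ Ideal.span {g}))
    (he : ∀ r : S.residueField (f t),
      e (algebraMap ((f.fiber (f t)).presheaf.stalk (f.asFiber t)) _
        ((fibStr f t).hom r)) = Ideal.Quotient.mk _ (MvPowerSeries.C r))
    (a' b' c' : Curv2.cpl (S.presheaf.stalk (f t)))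
    (ha' : resh (S.presheaf.stalk (f t)) a' = a) (hb' : resh (S.presheaf.stalk (f t)) b' = b)
    (hc' : resh (S.presheaf.stalk (f t)) c' = c)
    (G : Curv2.cpl (S.presheaf.stalk (f t)) →
      MvPowerSeries (Fin 2) (Curv2.cpl (S.presheaf.stalk (f t))))
    (hG : ∀ h, G h = quad (MvPowerSeries.C a') (MvPowerSeries.C b') (MvPowerSeries.C c')
      (MvPowerSeries.X 0 : MvPowerSeries (Fin 2) (Curv2.cpl (S.presheaf.stalk (f t))))
      (MvPowerSeries.X 1) - MvPowerSeries.C h) :
    ∃ h ∈ IsLocalRing.maximalIdeal (Curv2.cpl (S.presheaf.stalk (f t))),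
      ∃ e' : Curv2.cpl (T.presheaf.stalk t) ≃+*
          (MvPowerSeries (Fin 2) (Curv2.cpl (S.presheaf.stalk (f t))) ⧸ Ideal.span {G h}),
        ∀ x : S.presheaf.stalk (f t),
          e' (algebraMap (T.presheaf.stalk t) (Curv2.cpl (T.presheaf.stalk t))
            ((f.stalkMap t).hom x)) =
            Ideal.Quotient.mk _ (MvPowerSeries.C
              (algebraMap (S.presheaf.stalk (f t)) (Curv2.cpl (S.presheaf.stalk (f t))) x)) := by
  letI : Algebra (S.presheaf.stalk (f t)) (T.presheaf.stalk t) := (f.stalkMap t).hom.toAlgebra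
  haveI : IsLocalHom (algebraMap (S.presheaf.stalk (f t)) (T.presheaf.stalk t)) :=
    (inferInstance : IsLocalHom (f.stalkMap t).hom)
  haveI : Module.Flat (S.presheaf.stalk (f t)) (T.presheaf.stalk t) := hfl
  haveI : Algebra.EssFiniteType (S.presheaf.stalk (f t)) (T.presheaf.stalk t) :=
    LocallyOfFiniteType.stalkMap f t
  haveI : IsNoetherianRing (T.presheaf.stalk t) :=
    isNoetherianRing_of_essFiniteType' (A := S.presheaf.stalk (f t))
  haveI : IsNoetherianRing ((f.fiber (f t)).presheaf.stalk (f.asFiber t)) :=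
    isNoetherianRing_of_surjective _ _ (fibMap f t).hom (fibMap_surjective f t)
  refine exists_equiv_quad (S.presheaf.stalk (f t)) (T.presheaf.stalk t)
    ((f.fiber (f t)).presheaf.stalk (f.asFiber t)) (fibMap f t).hom (fibMap_surjective f t)
    (ker_fibMap f t) a b c hd g hgdef e ?_ a' b' c' ha' hb' hc' G hG
  intro x
  have h1 : (fibMap f t).hom ((f.stalkMap t).hom x) =
      (fibStr f t).hom ((S.residue (f t)).hom x) := by
    have := stalkMap_fibMap f t
    exact congrArg (fun φ => φ.hom x) this
  show e (algebraMap _ _ ((fibMap f t).hom ((f.stalkMap t).hom x))) = _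
  rw [h1, he]
  rfl

end Groth.Agent.H76.NodeCompl
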