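import Mathlib
import Groth.Agent.H76.NodeComplA

/-!
# Equivariant successive approximation

The approximation of `NodeComplA.exists_uv` in the presence of an involution `σ` of `Bh` fixing
the image of `Ah`, when `u`, `v` are eigenvectors of `σ` (eigenvalues `ξ₂`, `ξ₁` of square one)
and `2` is invertible: the corrected coordinates are again eigenvectors, and `(1 - ξ₁ξ₂) φ α = 0`.
-/

set_option autoImplicit false
set_option linter.unusedSectionVars false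
set_option linter.style.haveILetI false

namespace Groth.Agent.H76.NodeEq

open Groth.Agent.H76.NodeCompl

variable {Ah Bh : Type*} [CommRing Ah] [CommRing Bh] {φ : Ah →+* Bh} {m : Ideal Ah}

theorem σ_mem_pow (σ : Bh →+* Bh) (hσφ : ∀ a, σ (φ a) = φ a) (j : ℕ) {x : Bh}
    (hx : x ∈ (m.map φ) ^ j) : σ x ∈ (m.map φ) ^ j := by
  rw [← Ideal.map_pow] at hx ⊢
  refine Submodule.span_induction (p := fun x _ => σ x ∈ Ideal.map φ (m ^ j)) ?_ ?_ ?_ ?_ hx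
  · rintro _ ⟨μ, hμ, rfl⟩
    rw [hσφ]
    exact Ideal.mem_map_of_mem _ hμ
  · rw [map_zero]; exact zero_mem _
  · intro x y _ _ hx hy
    rw [map_add]; exact add_mem hx hy
  · intro r x _ hx
    rw [smul_eq_mul, map_mul]
    exact Ideal.mul_mem_left _ _ hx

/-- The data of an involution with eigenvalues. -/
structure Data (φ : Ah →+* Bh) where
  σ : Bh →+* Bh
  hσσ : ∀ x, σ (σ x) = x
  hσφ : ∀ a, σ (φ a) = φ a
  i2 : Bh
  hi2 : 2 * i2 = 1
  ξ₁ : Bh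
  ξ₂ : Bh
  hξ₁ : ξ₁ * ξ₁ = 1
  hξ₂ : ξ₂ * ξ₂ = 1
  hσξ₁ : σ ξ₁ = ξ₁
  hσξ₂ : σ ξ₂ = ξ₂
  e : Ah
  he : φ e = i2 * (1 + ξ₁ * ξ₂)

namespace Data

variable (D : Data φ)

theorem σ_i2 : D.σ D.i2 = D.i2 := by
  have h1 : D.σ (2 * D.i2) = 1 := by rw [D.hi2, map_one]
  rw [map_mul, map_ofNat] at h1
  have : D.σ D.i2 = (2 * D.i2) * D.σ D.i2 := by rw [D.hi2, one_mul]
  rw [this]
  linear_combination D.i2 * h1

theorem exists_step {u v : Bh} (H : Decomp φ m u v) (j : ℕ) (a : Ah) (U V : Bh)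
    (hU : U - u ∈ m.map φ) (hV : V - v ∈ m.map φ)
    (hσU : D.σ U = D.ξ₂ * U) (hσV : D.σ V = D.ξ₁ * V)
    (ha : (1 - D.ξ₁ * D.ξ₂) * φ a = 0)
    (hUV : U * V - φ a ∈ (m.map φ) ^ (j + 1)) :
    ∃ (a' : Ah) (U' V' : Bh), a' - a ∈ m ^ (j + 1) ∧ U' - U ∈ (m.map φ) ^ (j + 1) ∧
      V' - V ∈ (m.map φ) ^ (j + 1) ∧ D.σ U' = D.ξ₂ * U' ∧ D.σ V' = D.ξ₁ * V' ∧
      (1 - D.ξ₁ * D.ξ₂) * φ a' = 0 ∧
      U' * V' - φ a' ∈ (m.map φ) ^ (j + 2) := by
  obtain ⟨a', b, c, ε', ha', hb, hc, hε', h⟩ := decomp_pow (H.shift hU hV) (j + 1) _ hUV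
  have hσb := σ_mem_pow D.σ D.hσφ (j + 1) hb
  have hσc := σ_mem_pow D.σ D.hσφ (j + 1) hc
  have hσε' := σ_mem_pow D.σ D.hσφ (j + 2) hε'
  -- apply `σ` to the decomposition
  have hσ : D.ξ₁ * D.ξ₂ * (U * V) - φ a =
      φ a' + D.ξ₂ * U * D.σ b + D.ξ₁ * V * D.σ c + D.σ ε' := by
    have := congrArg D.σ h
    rw [map_sub, map_mul, hσU, hσV, D.hσφ, map_add, map_add, map_add, D.hσφ, map_mul, map_mul,
      hσU, hσV] at this
    linear_combination this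
  set bt := D.i2 * (b + D.ξ₁ * D.σ b) with hbt
  set ct := D.i2 * (c + D.ξ₂ * D.σ c) with hct
  set εt := D.i2 * (ε' + D.ξ₁ * D.ξ₂ * D.σ ε') with hεt
  have hbtm : bt ∈ (m.map φ) ^ (j + 1) :=
    Ideal.mul_mem_left _ _ (add_mem hb (Ideal.mul_mem_left _ _ hσb))
  have hctm : ct ∈ (m.map φ) ^ (j + 1) :=
    Ideal.mul_mem_left _ _ (add_mem hc (Ideal.mul_mem_left _ _ hσc))
  have hεtm : εt ∈ (m.map φ) ^ (j + 2) :=
    Ideal.mul_mem_left _ _ (add_mem hε' (Ideal.mul_mem_left _ _ hσε'))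
  have hσbt : D.σ bt = D.ξ₁ * bt := by
    rw [hbt, map_mul, map_add, map_mul, D.hσσ, D.σ_i2, D.hσξ₁]
    linear_combination (-(D.i2 * D.σ b)) * D.hξ₁
  have hσct : D.σ ct = D.ξ₂ * ct := by
    rw [hct, map_mul, map_add, map_mul, D.hσσ, D.σ_i2, D.hσξ₂]
    linear_combination (-(D.i2 * D.σ c)) * D.hξ₂
  -- symmetrised decomposition
  have hsym : U * V - φ a = φ (D.e * a') + U * bt + V * ct + εt := by
    rw [map_mul, D.he, hbt, hct, hεt]
    linear_combination (D.i2) * h + (D.i2 * D.ξ₁ * D.ξ₂) * hσ +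
      (-(D.i2 * (U * V) * D.ξ₂ * D.ξ₂) + D.i2 * D.ξ₂ * V * D.σ c) * D.hξ₁ +
      (-(D.i2 * (U * V)) + D.i2 * D.ξ₁ * U * D.σ b) * D.hξ₂ - D.i2 * ha -
      (U * V - φ a) * D.hi2
  refine ⟨a + D.e * a', U - ct, V - bt, ?_, by simpa using hctm, by simpa using hbtm, ?_, ?_, ?_, ?_⟩
  · have : a + D.e * a' - a = D.e * a' := by ring
    rw [this]
    exact Ideal.mul_mem_left _ _ ha'
  · rw [map_sub, hσU, hσct]; ring
  · rw [map_sub, hσV, hσbt]; ring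
  · rw [map_add, map_mul, D.he]
    linear_combination ha - (D.i2 * φ a' * D.ξ₂ * D.ξ₂) * D.hξ₁ - (D.i2 * φ a') * D.hξ₂
  · have h1 : (U - ct) * (V - bt) - φ (a + D.e * a') = εt + ct * bt := by
      rw [map_add]
      linear_combination hsym
    rw [h1]
    refine add_mem hεtm ?_
    have h2 : ct * bt ∈ (m.map φ) ^ ((j + 1) + (j + 1)) := by
      rw [pow_add]; exact Ideal.mul_mem_mul hctm hbtm
    exact Ideal.pow_le_pow_right (by omega) h2

/-- **Equivariant successive approximation.** -/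
theorem exists_uv [IsPrecomplete m Ah] [IsAdicComplete (m.map φ) Bh] (u v : Bh)
    (hσu : D.σ u = D.ξ₂ * u) (hσv : D.σ v = D.ξ₁ * v)
    (huv : u * v ∈ m.map φ) (H : Decomp φ m u v) :
    ∃ (α : Ah) (u' v' : Bh), α ∈ m ∧ u' - u ∈ m.map φ ∧ v' - v ∈ m.map φ ∧
      D.σ u' = D.ξ₂ * u' ∧ D.σ v' = D.ξ₁ * v' ∧ (1 - D.ξ₁ * D.ξ₂) * φ α = 0 ∧
      u' * v' = φ α := by
  obtain ⟨f, hfP, hfR⟩ := exists_seq (X := Ah × Bh × Bh)
    (fun j x => x.1 ∈ m ∧ x.2.1 - u ∈ m.map φ ∧ x.2.2 - v ∈ m.map φ ∧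
      D.σ x.2.1 = D.ξ₂ * x.2.1 ∧ D.σ x.2.2 = D.ξ₁ * x.2.2 ∧
      (1 - D.ξ₁ * D.ξ₂) * φ x.1 = 0 ∧
      x.2.1 * x.2.2 - φ x.1 ∈ (m.map φ) ^ (j + 1))
    (fun j x y => y.1 - x.1 ∈ m ^ (j + 1) ∧ y.2.1 - x.2.1 ∈ (m.map φ) ^ (j + 1) ∧
      y.2.2 - x.2.2 ∈ (m.map φ) ^ (j + 1))
    (0, u, v) ⟨zero_mem _, by simp, by simp, hσu, hσv, by simp, by simpa using huv⟩
    (by
      rintro j ⟨a, U, V⟩ ⟨ha, hU, hV, hσU, hσV, hae, hUV⟩
      obtain ⟨a', U', V', h1, h2, h3, h4, h5, h6, h7⟩ :=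
        D.exists_step H j a U V hU hV hσU hσV hae hUV
      refine ⟨(a', U', V'), ⟨?_, ?_, ?_, h4, h5, h6, h7⟩, h1, h2, h3⟩
      · have : a' = (a' - a) + a := by ring
        rw [this]
        exact add_mem (Ideal.pow_le_self (by omega) h1) ha
      · have : U' - u = (U' - U) + (U - u) := by ring
        rw [this]
        exact add_mem (Ideal.pow_le_self (by omega) h2) hU
      · have : V' - v = (V' - V) + (V - v) := by ring
        rw [this]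
        exact add_mem (Ideal.pow_le_self (by omega) h3) hV)
  obtain ⟨α, hα⟩ := exists_limit m (fun j => (f j).1)
    (fun j => Ideal.pow_le_pow_right (Nat.le_succ j) (hfR j).1)
  obtain ⟨u', hu'⟩ := exists_limit (m.map φ) (fun j => (f j).2.1)
    (fun j => Ideal.pow_le_pow_right (Nat.le_succ j) (hfR j).2.1)
  obtain ⟨v', hv'⟩ := exists_limit (m.map φ) (fun j => (f j).2.2)
    (fun j => Ideal.pow_le_pow_right (Nat.le_succ j) (hfR j).2.2)
  refine ⟨α, u', v', ?_, ?_, ?_, ?_, ?_, ?_, ?_⟩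
  · have h1 := hα 1
    rw [pow_one] at h1
    have : α = (f 1).1 - ((f 1).1 - α) := by ring
    rw [this]
    exact sub_mem (hfP 1).1 h1
  · have h1 := hu' 1
    rw [pow_one] at h1
    have : u' - u = ((f 1).2.1 - u) - ((f 1).2.1 - u') := by ring
    rw [this]
    exact sub_mem (hfP 1).2.1 h1
  · have h1 := hv' 1
    rw [pow_one] at h1
    have : v' - v = ((f 1).2.2 - v) - ((f 1).2.2 - v') := by ring
    rw [this]
    exact sub_mem (hfP 1).2.2.1 h1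
  · rw [← sub_eq_zero]
    apply eq_zero_of_forall_mem_pow (m.map φ)
    intro j
    have e : D.σ u' - D.ξ₂ * u' =
        -(D.σ ((f j).2.1 - u')) + D.ξ₂ * ((f j).2.1 - u') := by
      rw [map_sub, (hfP j).2.2.2.1]; ring
    rw [e]
    exact add_mem (neg_mem (σ_mem_pow D.σ D.hσφ j (hu' j))) (Ideal.mul_mem_left _ _ (hu' j))
  · rw [← sub_eq_zero]
    apply eq_zero_of_forall_mem_pow (m.map φ)
    intro j
    have e : D.σ v' - D.ξ₁ * v' =
        -(D.σ ((f j).2.2 - v')) + D.ξ₁ * ((f j).2.2 - v') := by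
      rw [map_sub, (hfP j).2.2.2.2.1]; ring
    rw [e]
    exact add_mem (neg_mem (σ_mem_pow D.σ D.hσφ j (hv' j))) (Ideal.mul_mem_left _ _ (hv' j))
  · apply eq_zero_of_forall_mem_pow (m.map φ)
    intro j
    have e : (1 - D.ξ₁ * D.ξ₂) * φ α = -((1 - D.ξ₁ * D.ξ₂) * φ ((f j).1 - α)) := by
      rw [map_sub]
      linear_combination (hfP j).2.2.2.2.2.1
    rw [e]
    refine neg_mem (Ideal.mul_mem_left _ _ ?_)
    rw [← Ideal.map_pow]
    exact Ideal.mem_map_of_mem _ (hα j)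
  · rw [← sub_eq_zero]
    apply eq_zero_of_forall_mem_pow (m.map φ)
    intro j
    have e : u' * v' - φ α = -(((f j).2.1 - u') * v') - (f j).2.1 * ((f j).2.2 - v') +
        ((f j).2.1 * (f j).2.2 - φ (f j).1) + φ ((f j).1 - α) := by
      rw [map_sub]; ring
    rw [e]
    refine add_mem (add_mem (sub_mem (neg_mem (Ideal.mul_mem_right _ _ (hu' j)))
      (Ideal.mul_mem_left _ _ (hv' j)))
      (Ideal.pow_le_pow_right (Nat.le_succ j) (hfP j).2.2.2.2.2.2)) ?_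
    rw [← Ideal.map_pow]
    exact Ideal.mem_map_of_mem _ (hα j)

end Data

end Groth.Agent.H76.NodeEq
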