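import Mathlib
import Groth.Prelude.Def_W4c1arstab1appArSing
import Groth.Agent.H76.ArSingJ

/-!
# Eigen-coordinates for a branch-preserving involution of the node `k[[x,y]]/(y² - x²)`
-/

set_option autoImplicit false
set_option linter.unusedSectionVars false
set_option linter.style.haveILetI false
universe u

namespace Groth.Agent.H76.NodeEq

open Groth.Agent.H76.ArSing

section node

variable (k : Type u) [Field k]

local notation "𝒩" => ArSing.ring k 1
local notation "P" => PowerSeries k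

/-- the constant term -/
noncomputable def ε : 𝒩 →+* k :=
  (PowerSeries.constantCoeff (R := k)).comp (β₁ k : 𝒩 →+* P)

theorem ε_apply (a : 𝒩) : ε k a = PowerSeries.constantCoeff (β₁ k a) := rfl

theorem ε_apply' (a : 𝒩) : ε k a = PowerSeries.constantCoeff (β₂ k a) := by
  rw [ε_apply, constantCoeff_β₁_eq]

theorem ε_algebraMap (c : k) : ε k (algebraMap k 𝒩 c) = c := by
  rw [ε_apply, AlgHom.commutes]
  exact PowerSeries.constantCoeff_C c

variable (h2 : (2 : k) ≠ 0)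
include h2

theorem isUnit_of_ε_ne_zero (z : 𝒩) (hz : ε k z ≠ 0) : IsUnit z := by
  have h1 : IsUnit (β₁ k z) := by
    rw [PowerSeries.isUnit_iff_constantCoeff]; exact isUnit_iff_ne_zero.2 hz
  have h2' : IsUnit (β₂ k z) := by
    rw [PowerSeries.isUnit_iff_constantCoeff, ← ε_apply']; exact isUnit_iff_ne_zero.2 hz
  obtain ⟨p, hp⟩ := h1.exists_right_inv
  obtain ⟨q, hq⟩ := h2'.exists_right_inv
  have hcc : PowerSeries.constantCoeff p = PowerSeries.constantCoeff q := by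
    have e1 := congrArg PowerSeries.constantCoeff hp
    have e2 := congrArg PowerSeries.constantCoeff hq
    rw [map_mul, map_one, ← ε_apply] at e1
    rw [map_mul, map_one, ← ε_apply'] at e2
    have : ε k z * PowerSeries.constantCoeff p = ε k z * PowerSeries.constantCoeff q := by
      rw [e1, e2]
    exact mul_left_cancel₀ hz this
  obtain ⟨z', hz1, hz2⟩ := β_surjective k h2 p q hcc
  refine IsUnit.of_mul_eq_one z' ?_
  apply β_ext k h2
  · rw [map_mul, map_one, hz1, hp]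
  · rw [map_mul, map_one, hz2, hq]

/-- every `k`-algebra endomorphism preserves the constant term -/
theorem ε_algHom (χ : 𝒩 →ₐ[k] 𝒩) (a : 𝒩) : ε k (χ a) = ε k a := by
  set c := ε k a with hc
  set b := a - algebraMap k 𝒩 c with hb
  have hεb : ε k b = 0 := by rw [hb, map_sub, ε_algebraMap, ← hc, sub_self]
  have key : ε k (χ b) = 0 := by
    by_contra hd
    set d := ε k (χ b) with hdd
    have hz : ε k (b - algebraMap k 𝒩 d) ≠ 0 := by
      rw [map_sub, hεb, ε_algebraMap, zero_sub]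
      exact neg_ne_zero.2 hd
    have hu := isUnit_of_ε_ne_zero k h2 _ hz
    have hu' := (hu.map χ).map (ε k)
    rw [map_sub, map_sub, AlgHom.commutes, ε_algebraMap, ← hdd, sub_self] at hu'
    exact not_isUnit_zero hu'
  have : a = b + algebraMap k 𝒩 c := by rw [hb]; ring
  rw [this, map_add, map_add, key, AlgHom.commutes, ε_algebraMap, zero_add]

/-- **One branch**: eigen-coordinate along the branch `βa` for an involution preserving the
other branch `βb`. -/
theorem exists_eigen_branch (βa βb : 𝒩 →ₐ[k] P)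
    (hext : ∀ a b : 𝒩, βa a = βa b → βb a = βb b → a = b)
    (hsurj : ∀ p q : P, PowerSeries.constantCoeff p = PowerSeries.constantCoeff q →
      ∃ a : 𝒩, βa a = p ∧ βb a = q)
    (hεa : ∀ a : 𝒩, PowerSeries.constantCoeff (βa a) = ε k a)
    (hεb : ∀ a : 𝒩, PowerSeries.constantCoeff (βb a) = ε k a)
    (σb : 𝒩 →ₐ[k] 𝒩) (hσσ : ∀ a, σb (σb a) = a)
    (hkb : ∀ a, βb a = 0 → βb (σb a) = 0)
    (u : 𝒩) (hu₁ : βa u = PowerSeries.X) (hu₂ : βb u = 0) :
    ∃ (ξ : k) (u' : 𝒩) (w : P), ξ * ξ = 1 ∧ σb u' = algebraMap k 𝒩 ξ * u' ∧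
      βa u' = PowerSeries.X * w ∧ PowerSeries.constantCoeff w = 1 ∧ βb u' = 0 := by
  have hb0 : βb (σb u) = 0 := hkb u hu₂
  have hcc0 : PowerSeries.constantCoeff (βa (σb u)) = 0 := by
    rw [hεa, ← hεb, hb0, map_zero]
  obtain ⟨a₁, ha₁⟩ := PowerSeries.X_dvd_iff.2 hcc0
  set ξ := PowerSeries.constantCoeff a₁ with hξ
  obtain ⟨A₁, hA1, hA2⟩ := hsurj a₁ (PowerSeries.C ξ) (by rw [PowerSeries.constantCoeff_C])
  have hσu : σb u = u * A₁ := by
    apply hext
    · rw [map_mul, hu₁, hA1, ha₁]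
    · rw [map_mul, hu₂, zero_mul, hb0]
  have hεA : ε k A₁ = ξ := by rw [← hεa, hA1]
  have hξξ : ξ * ξ = 1 := by
    have h1 : u = u * A₁ * σb A₁ := by
      conv_lhs => rw [← hσσ u, hσu, map_mul, hσu]
    have h3 := congrArg βa h1
    rw [map_mul, map_mul, hu₁, hA1, mul_assoc] at h3
    have h4 : a₁ * βa (σb A₁) = 1 := by
      have : PowerSeries.X * 1 = PowerSeries.X * (a₁ * βa (σb A₁)) := by rw [mul_one]; exact h3
      exact (mul_left_cancel₀ PowerSeries.X_ne_zero this).symm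
    have h5 := congrArg PowerSeries.constantCoeff h4
    rw [map_mul, map_one, hεa, ε_algHom k h2 σb, hεA] at h5
    exact h5
  have hi : (2 : k)⁻¹ * 2 = 1 := inv_mul_cancel₀ h2
  refine ⟨ξ, algebraMap k 𝒩 (2 : k)⁻¹ * (u + algebraMap k 𝒩 ξ * σb u),
    PowerSeries.C (2 : k)⁻¹ * (1 + PowerSeries.C ξ * a₁), hξξ, ?_, ?_, ?_, ?_⟩
  · rw [map_mul, map_add, map_mul, hσσ, AlgHom.commutes, AlgHom.commutes]
    have h6 : algebraMap k 𝒩 ξ * algebraMap k 𝒩 ξ = 1 := by rw [← map_mul, hξξ, map_one]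
    linear_combination (-(algebraMap k 𝒩 (2 : k)⁻¹ * σb u)) * h6
  · rw [map_mul, map_add, map_mul, AlgHom.commutes, AlgHom.commutes, hu₁, ha₁]
    rw [PowerSeries.algebraMap_apply, PowerSeries.algebraMap_apply, Algebra.algebraMap_self,
      RingHom.id_apply, RingHom.id_apply]
    ring
  · rw [map_mul, map_add, map_one, map_mul, PowerSeries.constantCoeff_C,
      PowerSeries.constantCoeff_C, ← hξ, hξξ]
    rw [show (1 : k) + 1 = 2 by norm_num]
    exact hi
  · rw [map_mul, map_add, map_mul, hu₂, hb0, mul_zero, add_zero, mul_zero]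

/-- **Eigen-coordinates** for an involution of the node preserving both branches. -/
theorem exists_eigen_coords (σb : 𝒩 →ₐ[k] 𝒩) (hσσ : ∀ a, σb (σb a) = a)
    (hk1 : ∀ a, β₁ k a = 0 → β₁ k (σb a) = 0) (hk2 : ∀ a, β₂ k a = 0 → β₂ k (σb a) = 0) :
    ∃ (ξ₁ ξ₂ : k) (u' v' : 𝒩), ξ₁ * ξ₁ = 1 ∧ ξ₂ * ξ₂ = 1 ∧
      σb u' = algebraMap k 𝒩 ξ₂ * u' ∧ σb v' = algebraMap k 𝒩 ξ₁ * v' ∧ u' * v' = 0 ∧
      ε k u' = 0 ∧ ε k v' = 0 ∧
      ∀ a : 𝒩, ∃ s t : 𝒩, a = algebraMap k 𝒩 (ε k a) + u' * s + v' * t := by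
  have hi : (2 : k)⁻¹ * 2 = 1 := inv_mul_cancel₀ h2
  have hC2 : PowerSeries.C (2 : k)⁻¹ * (PowerSeries.X + PowerSeries.X) = (PowerSeries.X : P) := by
    have : (PowerSeries.C (2 : k)⁻¹ : P) * 2 = 1 := by
      have e2 : (2 : P) = PowerSeries.C (2 : k) := (map_ofNat _ 2).symm
      rw [e2, ← map_mul, hi, map_one]
    linear_combination (PowerSeries.X : P) * this
  have halg : ∀ c : k, algebraMap k P c = PowerSeries.C c := fun c => by
    rw [PowerSeries.algebraMap_apply, Algebra.algebraMap_self, RingHom.id_apply]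
  obtain ⟨ξ₂, u', w₁, hξ₂, hσu, hu1, hw₁, hu2⟩ := exists_eigen_branch k h2 (β₁ k) (β₂ k)
    (β_ext k h2) (β_surjective k h2) (fun a => (ε_apply k a).symm) (fun a => (ε_apply' k a).symm)
    σb hσσ hk2 (algebraMap k 𝒩 (2 : k)⁻¹ * (ArSing.x k 1 + ArSing.y k 1))
    (by rw [map_mul, map_add, AlgHom.commutes, β₁_x, β₁_y, halg]; exact hC2)
    (by rw [map_mul, map_add, β₂_x, β₂_y, add_neg_cancel, mul_zero])
  obtain ⟨ξ₁, v', w₂, hξ₁, hσv, hv2, hw₂, hv1⟩ := exists_eigen_branch k h2 (β₂ k) (β₁ k)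
    (fun a b h h' => β_ext k h2 a b h' h)
    (fun p q h => by
      obtain ⟨a, ha1, ha2⟩ := β_surjective k h2 q p h.symm
      exact ⟨a, ha2, ha1⟩)
    (fun a => (ε_apply' k a).symm) (fun a => (ε_apply k a).symm)
    σb hσσ hk1 (algebraMap k 𝒩 (2 : k)⁻¹ * (ArSing.x k 1 - ArSing.y k 1))
    (by rw [map_mul, map_sub, AlgHom.commutes, β₂_x, β₂_y, halg, sub_neg_eq_add]; exact hC2)
    (by rw [map_mul, map_sub, β₁_x, β₁_y, sub_self, mul_zero])
  refine ⟨ξ₁, ξ₂, u', v', hξ₁, hξ₂, hσu, hσv, ?_, ?_, ?_, ?_⟩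
  · apply β_ext k h2
    · rw [map_mul, hv1, mul_zero, map_zero]
    · rw [map_mul, hu2, zero_mul, map_zero]
  · rw [ε_apply', hu2, map_zero]
  · rw [ε_apply, hv1, map_zero]
  · intro a
    have hP : PowerSeries.constantCoeff (β₁ k a - PowerSeries.C (ε k a)) = 0 := by
      rw [map_sub, PowerSeries.constantCoeff_C, ← ε_apply, sub_self]
    have hQ : PowerSeries.constantCoeff (β₂ k a - PowerSeries.C (ε k a)) = 0 := by
      rw [map_sub, PowerSeries.constantCoeff_C, ← ε_apply', sub_self]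
    obtain ⟨P₁, hP₁⟩ := PowerSeries.X_dvd_iff.2 hP
    obtain ⟨Q₁, hQ₁⟩ := PowerSeries.X_dvd_iff.2 hQ
    have hw₁u : IsUnit w₁ := by
      rw [PowerSeries.isUnit_iff_constantCoeff, hw₁]; exact isUnit_one
    have hw₂u : IsUnit w₂ := by
      rw [PowerSeries.isUnit_iff_constantCoeff, hw₂]; exact isUnit_one
    obtain ⟨w₁i, hw₁i⟩ := hw₁u.exists_right_inv
    obtain ⟨w₂i, hw₂i⟩ := hw₂u.exists_right_inv
    obtain ⟨s, hs1, hs2⟩ := β_surjective k h2 (w₁i * P₁)
      (PowerSeries.C (PowerSeries.constantCoeff (w₁i * P₁)))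
      (by rw [PowerSeries.constantCoeff_C])
    obtain ⟨t, ht1, ht2⟩ := β_surjective k h2
      (PowerSeries.C (PowerSeries.constantCoeff (w₂i * Q₁))) (w₂i * Q₁)
      (by rw [PowerSeries.constantCoeff_C])
    refine ⟨s, t, ?_⟩
    apply β_ext k h2
    · rw [map_add, map_add, map_mul, map_mul, hu1, hv1, zero_mul, add_zero, hs1, AlgHom.commutes,
        halg]
      linear_combination hP₁ - (PowerSeries.X * P₁) * hw₁i
    · rw [map_add, map_add, map_mul, map_mul, hu2, hv2, zero_mul, add_zero, ht2, AlgHom.commutes,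
        halg]
      linear_combination hQ₁ - (PowerSeries.X * Q₁) * hw₂i

end node

end Groth.Agent.H76.NodeEq
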