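import Mathlib
import Groth.Prelude.Def_W4c1arstab1appArSing
import Groth.Agent.H76.NodeComplC
import Groth.Agent.H76.NodeComplH
import Groth.Agent.H61.QuotComplete

/-!
# A surjection from `k[[x,y]]/(y² - x²)` onto `k[[x,y]]/(xy)` (`2` invertible)
-/

set_option autoImplicit false
set_option linter.unusedSectionVars false
set_option linter.style.haveILetI false
universe u

namespace Groth.Agent.H76.NodeEq

open MvPowerSeries IsLocalRing Groth.Agent.H76.NodeCompl

section

variable (k : Type u) [Field k]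

local notation "𝒩" => ArSing.ring k 1
local notation "Nxy" => MvPowerSeries (Fin 2) k ⧸ Ideal.span {(X 0 * X 1 : MvPowerSeries (Fin 2) k)}

theorem nontrivial_Nxy : Nontrivial Nxy := by
  apply Ideal.Quotient.nontrivial_iff.2
  intro h
  have h1 : (1 : MvPowerSeries (Fin 2) k) ∈ Ideal.span {(X 0 * X 1 : MvPowerSeries (Fin 2) k)} := by
    rw [h]; trivial
  obtain ⟨c, hc⟩ := Ideal.mem_span_singleton'.1 h1
  have := congrArg (constantCoeff (σ := Fin 2) (R := k)) hc
  rw [map_mul, map_mul, constantCoeff_X, zero_mul, mul_zero, map_one] at this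
  exact zero_ne_one this

/-- the class of `X i` in `k[[x,y]]/(xy)` -/
noncomputable def xi (i : Fin 2) : Nxy := Ideal.Quotient.mk _ (X i)

theorem xi_mul : xi k 0 * xi k 1 = 0 := by
  rw [xi, xi, ← map_mul]
  exact Ideal.Quotient.eq_zero_iff_mem.2 (Ideal.subset_span rfl)

theorem mk_mem_span_xi (f : MvPowerSeries (Fin 2) k) (hf : constantCoeff f = 0) :
    Ideal.Quotient.mk (Ideal.span {(X 0 * X 1 : MvPowerSeries (Fin 2) k)}) f ∈
      Ideal.span {xi k 0, xi k 1} := by
  obtain ⟨l₀, l₁, hl⟩ := exists_decomp_ps f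
  rw [hf, map_zero, zero_add] at hl
  rw [hl, map_add, map_mul, map_mul]
  exact add_mem (Ideal.mul_mem_right _ _ (Ideal.subset_span (Set.mem_insert _ _)))
    (Ideal.mul_mem_right _ _ (Ideal.subset_span (Set.mem_insert_of_mem _ rfl)))

theorem exists_surjective_to_Nxy (h2 : (2 : k) ≠ 0) :
    ∃ Ψ : 𝒩 →+* Nxy, Function.Surjective Ψ := by
  classical
  haveI := nontrivial_Nxy k
  haveI : IsLocalRing Nxy :=
    IsLocalRing.of_surjective' (Ideal.Quotient.mk _) Ideal.Quotient.mk_surjective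
  haveI : IsAdicComplete (maximalIdeal (MvPowerSeries (Fin 2) k)) (MvPowerSeries (Fin 2) k) :=
    H61.ps_isAdicComplete 2
  haveI : IsAdicComplete (maximalIdeal Nxy) Nxy := H61.isAdicComplete_quotient _
  have hxm : ∀ i, xi k i ∈ maximalIdeal Nxy := by
    intro i hu
    exact not_isUnit_mk_X (X 0 * X 1) (by simp) i hu
  have hmax : maximalIdeal Nxy ≤ Ideal.span {xi k 0, xi k 1} := by
    intro z hz
    obtain ⟨f, rfl⟩ := Ideal.Quotient.mk_surjective z
    have hf0 : constantCoeff f = 0 := by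
      by_contra hne
      have hu : IsUnit f := by
        rw [MvPowerSeries.isUnit_iff_constantCoeff]; exact isUnit_iff_ne_zero.2 hne
      exact hz (hu.map _)
    exact mk_mem_span_xi k f hf0
  have hsurj : Function.Surjective ((residue Nxy).comp (algebraMap k Nxy)) := by
    intro y
    obtain ⟨z, rfl⟩ := residue_surjective y
    obtain ⟨f, rfl⟩ := Ideal.Quotient.mk_surjective z
    refine ⟨constantCoeff f, ?_⟩
    rw [RingHom.comp_apply]
    symm
    rw [← sub_eq_zero, ← map_sub, residue_eq_zero_iff]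
    have h1 : Ideal.Quotient.mk (Ideal.span {(X 0 * X 1 : MvPowerSeries (Fin 2) k)}) f -
        algebraMap k Nxy (constantCoeff f) =
        Ideal.Quotient.mk _ (f - C (constantCoeff f)) := by
      rw [map_sub]; rfl
    rw [h1]
    have h3 : Ideal.span {xi k 0, xi k 1} ≤ maximalIdeal Nxy := by
      rw [Ideal.span_le]
      rintro _ (rfl | rfl)
      · exact hxm 0
      · exact hxm 1
    exact h3 (mk_mem_span_xi k _ (by rw [map_sub, constantCoeff_C, sub_self]))
  have hi : (2 : k)⁻¹ * 2 = 1 := inv_mul_cancel₀ h2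
  have hgen : maximalIdeal Nxy ≤
      Ideal.span (Set.range ![xi k 0 + xi k 1, xi k 0 - xi k 1]) ⊔
        (maximalIdeal k).map (algebraMap k Nxy) := by
    refine hmax.trans (le_trans ?_ le_sup_left)
    have hA : (algebraMap k Nxy (2 : k)⁻¹) * 2 = 1 := by
      have : (2 : Nxy) = algebraMap k Nxy 2 := (map_ofNat _ 2).symm
      rw [this, ← map_mul, hi, map_one]
    have m0 : xi k 0 + xi k 1 ∈ Ideal.span (Set.range ![xi k 0 + xi k 1, xi k 0 - xi k 1]) :=
      Ideal.subset_span ⟨0, rfl⟩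
    have m1 : xi k 0 - xi k 1 ∈ Ideal.span (Set.range ![xi k 0 + xi k 1, xi k 0 - xi k 1]) :=
      Ideal.subset_span ⟨1, rfl⟩
    rw [Ideal.span_le]
    rintro _ (rfl | rfl)
    · have e : algebraMap k Nxy (2 : k)⁻¹ * ((xi k 0 + xi k 1) + (xi k 0 - xi k 1)) = xi k 0 := by
        linear_combination (xi k 0) * hA
      have hm := Ideal.mul_mem_left _ (algebraMap k Nxy (2 : k)⁻¹) (add_mem m0 m1)
      rw [e] at hm
      exact hm
    · have e : algebraMap k Nxy (2 : k)⁻¹ * ((xi k 0 + xi k 1) - (xi k 0 - xi k 1)) = xi k 1 := by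
        linear_combination (xi k 1) * hA
      have hm := Ideal.mul_mem_left _ (algebraMap k Nxy (2 : k)⁻¹) (sub_mem m0 m1)
      rw [e] at hm
      exact hm
  obtain ⟨ψ, hψX, hψs⟩ := exists_ps_surjective k Nxy hsurj 2
    ![xi k 0 + xi k 1, xi k 0 - xi k 1]
    (by
      intro i
      fin_cases i
      · exact add_mem (hxm 0) (hxm 1)
      · exact sub_mem (hxm 0) (hxm 1)) hgen
  have h0 : ψ (X 0) = xi k 0 + xi k 1 := hψX 0
  have h1 : ψ (X 1) = xi k 0 - xi k 1 := hψX 1
  refine ⟨Ideal.Quotient.lift _ ψ.toRingHom ?_, ?_⟩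
  · intro a ha
    obtain ⟨c, rfl⟩ := Ideal.mem_span_singleton'.1 ha
    show ψ (c * ArSing.eqn k 1) = 0
    rw [map_mul, ArSing.eqn, map_sub, map_pow, map_pow, h0, h1]
    linear_combination (-4 * ψ c) * xi_mul k
  · intro z
    obtain ⟨f, rfl⟩ := hψs z
    exact ⟨Ideal.Quotient.mk _ f, Ideal.Quotient.lift_mk _ _ _⟩

end

end Groth.Agent.H76.NodeEq
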