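import Mathlib
import Groth.Prelude.Def_W4c1arstab1appArSing
import Groth.Agent.H76.NodeEqA
import Groth.Agent.H76.NodeEqB
import Groth.Agent.H76.NodeEqC

/-!
# Node deformations with involution: reduction to the closed fibre
-/

set_option autoImplicit false
set_option linter.unusedSectionVars false
set_option linter.style.haveILetI false
universe u

namespace Groth.Agent.H76.NodeEq

open MvPowerSeries IsLocalRing Groth.Agent.H76.NodeCompl Groth.Agent.H76.ArSing

section

variable (k : Type u) [Field k] {S : Type u} [CommRing S] [Algebra k S]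

local notation "𝒩" => ArSing.ring k 1
local notation "P" => PowerSeries k

/-- A branch of the node pulls back to a minimal prime over the kernel. -/
theorem comap_ker_mem_minimalPrimes (θ : S →ₐ[k] 𝒩) (hθ : Function.Surjective θ)
    (β : 𝒩 →ₐ[k] P) (g₁ g₂ : 𝒩) (hg : g₁ * g₂ = 0) (hker : RingHom.ker β = Ideal.span {g₁})
    (hβg : β g₂ ≠ 0) :
    Ideal.comap θ (RingHom.ker β) ∈ (RingHom.ker θ).minimalPrimes := by
  haveI : (RingHom.ker β).IsPrime := RingHom.ker_isPrime β
  refine ⟨⟨Ideal.comap_isPrime _ _, ?_⟩, ?_⟩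
  · intro s hs
    rw [Ideal.mem_comap, RingHom.mem_ker] at *
    rw [hs, map_zero]
  · rintro Q ⟨hQp, hQn⟩ hQP
    haveI := hQp
    have hQ' : (Ideal.map θ Q).IsPrime := Ideal.map_isPrime_of_surjective hθ hQn
    have hcm : Ideal.comap θ (Ideal.map θ Q) = Q := by
      rw [Ideal.comap_map_of_surjective θ hθ]
      exact sup_eq_left.2 (by
        intro s hs
        rw [Ideal.mem_comap, Ideal.mem_bot] at hs
        exact hQn hs)
    have hQ'le : Ideal.map θ Q ≤ RingHom.ker β := by
      rw [Ideal.map_le_iff_le_comap]; exact hQP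
    have h0 : g₁ * g₂ ∈ Ideal.map θ Q := by rw [hg]; exact zero_mem _
    rcases hQ'.mem_or_mem h0 with h1 | h1
    · rw [← hcm]
      apply Ideal.comap_mono
      rw [hker, Ideal.span_le, Set.singleton_subset_iff]
      exact h1
    · exact absurd (hQ'le h1) hβg

end

end Groth.Agent.H76.NodeEq
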