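import Mathlib
import Groth.Agent.H76.NodeComplC
import Groth.Agent.H76.NodeComplD
import Groth.Agent.H76.NodeComplF

/-!
# Node deformations over a complete base: from coordinates to an isomorphism

`R → S` flat, both complete Noetherian local.  If `u v = t` with `t ∈ 𝔪_R`, the coordinates `u, v`
together with `𝔪_R` generate `𝔪_S`, the residue fields agree, and `S` admits a surjection onto
the formal node `k[[x,y]]/(xy)` (`k = R/𝔪_R`) killing `𝔪_R`, then `S ≅ R[[x,y]]/(xy - t)`.
-/

set_option autoImplicit false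
set_option linter.unusedSectionVars false
set_option linter.style.haveILetI false
universe u

namespace Groth.Agent.H76.NodeEq

open MvPowerSeries IsLocalRing Groth.Agent.H76.NodeCompl

theorem map_C_le_maximalIdeal' (R : Type*) [CommRing R] [IsLocalRing R] :
    (maximalIdeal R).map (C (σ := Fin 2) (R := R)) ≤ maximalIdeal (MvPowerSeries (Fin 2) R) := by
  rw [Ideal.map_le_iff_le_comap]
  intro a ha
  rw [Ideal.mem_comap, mem_maximalIdeal, mem_nonunits_iff] at *
  intro h
  apply ha
  have := h.map (MvPowerSeries.constantCoeff (σ := Fin 2) (R := R))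
  rwa [MvPowerSeries.constantCoeff_C] at this

theorem exists_equiv_of_coords (R S : Type u) [CommRing R] [IsLocalRing R] [IsNoetherianRing R]
    [IsAdicComplete (maximalIdeal R) R] [CommRing S] [IsLocalRing S] [IsNoetherianRing S]
    [IsAdicComplete (maximalIdeal S) S] [Algebra R S] [Module.Flat R S]
    (k : Type u) [Field k] (r : R →+* k) (hr : Function.Surjective r)
    (Θ : S →+* MvPowerSeries (Fin 2) k ⧸ Ideal.span {(X 0 * X 1 : MvPowerSeries (Fin 2) k)})
    (hΘ : Function.Surjective Θ) (hΘm : ∀ a ∈ maximalIdeal R, Θ (algebraMap R S a) = 0)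
    (hv : Function.Surjective ((residue S).comp (algebraMap R S)))
    (u v : S) (hu : u ∈ maximalIdeal S) (hv' : v ∈ maximalIdeal S) (t : R)
    (ht : t ∈ maximalIdeal R) (huv : u * v = algebraMap R S t)
    (hgen : maximalIdeal S ≤
      Ideal.span (Set.range ![u, v]) ⊔ (maximalIdeal R).map (algebraMap R S)) :
    ∃ f : S ≃ₐ[R] (MvPowerSeries (Fin 2) R ⧸
        Ideal.span {(X 0 * X 1 - C t : MvPowerSeries (Fin 2) R)}),
      f.symm (Ideal.Quotient.mk _ (X 0)) = u ∧ f.symm (Ideal.Quotient.mk _ (X 1)) = v := by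
  classical
  obtain ⟨ψ, hψX, hψs⟩ := exists_ps_surjective R S hv 2 ![u, v]
    (by
      intro i
      fin_cases i
      · exact hu
      · exact hv') hgen
  have h0 : ψ (X 0) = u := hψX 0
  have h1 : ψ (X 1) = v := hψX 1
  have hC : ∀ a : R, ψ (C a) = algebraMap R S a := by
    intro a
    have : (C a : MvPowerSeries (Fin 2) R) = algebraMap R (MvPowerSeries (Fin 2) R) a := by
      rw [MvPowerSeries.algebraMap_apply, Algebra.algebraMap_self, RingHom.id_apply]
    rw [this, ψ.commutes]
  have hG : ψ (X 0 * X 1 - C t) = 0 := by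
    rw [map_sub, map_mul, h0, h1, hC, huv, sub_self]
  have hkr : RingHom.ker r = maximalIdeal R :=
    IsLocalRing.eq_maximalIdeal (RingHom.ker_isMaximal_of_surjective r hr)
  have hmod : RingHom.ker (Θ.comp ψ.toRingHom) ≤
      Ideal.span {(X 0 * X 1 - C t : MvPowerSeries (Fin 2) R)} ⊔
        (maximalIdeal R).map (C (σ := Fin 2) (R := R)) :=
    ker_le_of_hypersurface (maximalIdeal R) ((isNoetherianRing_iff_ideal_fg _).1 inferInstance _)
      r hr hkr t ht (X 0 * X 1) (X 0 * X 1)
      (by rw [map_mul, MvPowerSeries.map_X, MvPowerSeries.map_X])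
      (Θ.comp ψ.toRingHom) (hΘ.comp hψs)
      (fun a ha => by
        show Θ (ψ (C a)) = 0
        rw [hC]; exact hΘm a ha)
      (by
        show Θ (ψ (X 0 * X 1 - C t)) = 0
        rw [hG, map_zero])
  have hflat := ker_inf_le_of_flat ψ hψs (maximalIdeal R)
  have hmapC : (maximalIdeal R).map (algebraMap R (MvPowerSeries (Fin 2) R)) =
      (maximalIdeal R).map (C (σ := Fin 2) (R := R)) := by
    congr 1
  rw [hmapC] at hflat
  have hg : (X 0 * X 1 - C t : MvPowerSeries (Fin 2) R) ∈ RingHom.ker ψ := hG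
  have hker : RingHom.ker ψ ≤ Ideal.span {(X 0 * X 1 - C t : MvPowerSeries (Fin 2) R)} := by
    refine Submodule.le_of_le_smul_of_le_jacobson_bot
      (I := (maximalIdeal R).map (C (σ := Fin 2) (R := R)))
      ((isNoetherianRing_iff_ideal_fg _).1 inferInstance _) ?_ ?_
    · rw [IsLocalRing.jacobson_eq_maximalIdeal ⊥ bot_ne_top]
      exact map_C_le_maximalIdeal' R
    · intro x hx
      have hx' : x ∈ RingHom.ker (Θ.comp ψ.toRingHom) := by
        rw [RingHom.mem_ker] at hx ⊢
        show Θ (ψ x) = 0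
        rw [hx, map_zero]
      obtain ⟨y, hy, z, hz, rfl⟩ := Submodule.mem_sup.1 (hmod hx')
      have hyk : y ∈ RingHom.ker ψ := by
        obtain ⟨c, rfl⟩ := Ideal.mem_span_singleton'.1 hy
        exact Ideal.mul_mem_left _ _ hg
      have hzk : z ∈ RingHom.ker ψ := by
        have : z = (y + z) - y := by ring
        rw [this]
        exact sub_mem hx hyk
      exact Submodule.mem_sup.2 ⟨y, hy, z, hflat ⟨hzk, hz⟩, rfl⟩
  let ψb : (MvPowerSeries (Fin 2) R ⧸
      Ideal.span {(X 0 * X 1 - C t : MvPowerSeries (Fin 2) R)}) →ₐ[R] S :=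
    Ideal.Quotient.liftₐ _ ψ (by
      intro a ha
      obtain ⟨c, rfl⟩ := Ideal.mem_span_singleton'.1 ha
      rw [map_mul, hG, mul_zero])
  have hψb : ∀ x, ψb (Ideal.Quotient.mk _ x) = ψ x := fun x => rfl
  have hinj : Function.Injective ψb := by
    rw [injective_iff_map_eq_zero]
    intro z hz
    obtain ⟨x, rfl⟩ := Ideal.Quotient.mk_surjective z
    rw [hψb] at hz
    exact Ideal.Quotient.eq_zero_iff_mem.2 (hker hz)
  have hsurj : Function.Surjective ψb := by
    intro s
    obtain ⟨x, rfl⟩ := hψs s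
    exact ⟨Ideal.Quotient.mk _ x, hψb x⟩
  refine ⟨(AlgEquiv.ofBijective ψb ⟨hinj, hsurj⟩).symm, ?_, ?_⟩
  · rw [AlgEquiv.symm_symm, AlgEquiv.ofBijective_apply, hψb, h0]
  · rw [AlgEquiv.symm_symm, AlgEquiv.ofBijective_apply, hψb, h1]

end Groth.Agent.H76.NodeEq
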