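import Mathlib
import Groth.Prelude.Def_W4c1arstab1appArSing
import Groth.Agent.H76.NodeEqD
import Groth.Agent.H76.NodeEqE
import Groth.Agent.H19.ComplSmaller

/-!
# Node deformations with a branch-preserving involution: the normal form
-/

set_option autoImplicit false
set_option linter.unusedSectionVars false
set_option linter.style.haveILetI false
universe u

namespace Groth.Agent.H76.NodeEq

open MvPowerSeries IsLocalRing Groth.Agent.H76.NodeCompl Groth.Agent.H76.ArSing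

theorem main (k R S : Type u) [Field k] (h2 : (2 : k) ≠ 0)
    [CommRing R] [IsLocalRing R] [IsNoetherianRing R] [IsAdicComplete (maximalIdeal R) R]
    [CommRing S] [IsLocalRing S] [IsNoetherianRing S] [IsAdicComplete (maximalIdeal S) S]
    [Algebra k R] [Algebra R S] [Algebra k S] [IsScalarTower k R S]
    [IsLocalHom (algebraMap R S)] [Module.Flat R S]
    (e : (S ⧸ Ideal.map (algebraMap R S) (maximalIdeal R)) ≃ₐ[k] ArSing.ring k 1)
    (σ : S ≃ₐ[R] S) (hσ : ∀ s, σ (σ s) = s)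
    (hbr : ∀ P ∈ (Ideal.map (algebraMap R S) (maximalIdeal R)).minimalPrimes,
      Ideal.map (σ : S →+* S) P = P) :
    ∃ (t : R) (ξ₁ ξ₂ : k), ξ₁ ^ 2 = 1 ∧ ξ₂ ^ 2 = 1 ∧ (ξ₁ = -ξ₂ → t = 0) ∧
      ∃ f : S ≃ₐ[R] (MvPowerSeries (Fin 2) R ⧸
          Ideal.span {(X 0 * X 1 - C t : MvPowerSeries (Fin 2) R)}),
        f (σ (f.symm (Ideal.Quotient.mk _ (X 0)))) =
          algebraMap k R ξ₂ • Ideal.Quotient.mk _ (X 0) ∧
        f (σ (f.symm (Ideal.Quotient.mk _ (X 1)))) =
          algebraMap k R ξ₁ • Ideal.Quotient.mk _ (X 1) := by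
  classical
  -- the reduction map
  let θ : S →ₐ[k] ArSing.ring k 1 :=
    (e : _ →ₐ[k] ArSing.ring k 1).comp
      (Ideal.Quotient.mkₐ k (Ideal.map (algebraMap R S) (maximalIdeal R)))
  have hθs : Function.Surjective θ :=
    e.surjective.comp (Ideal.Quotient.mkₐ_surjective k _)
  have hθk : ∀ s, θ s = 0 ↔ s ∈ Ideal.map (algebraMap R S) (maximalIdeal R) := by
    intro s
    show e (Ideal.Quotient.mk _ s) = 0 ↔ _
    rw [map_eq_zero_iff e e.injective, Ideal.Quotient.eq_zero_iff_mem]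
  have hkerθ : RingHom.ker θ = Ideal.map (algebraMap R S) (maximalIdeal R) := by
    ext s
    rw [RingHom.mem_ker]
    exact hθk s
  have hθalg : ∀ c : k, θ (algebraMap k S c) = algebraMap k (ArSing.ring k 1) c :=
    fun c => θ.commutes c
  have hσalg : ∀ c : k, σ (algebraMap k S c) = algebraMap k S c := by
    intro c
    rw [IsScalarTower.algebraMap_apply k R S, σ.commutes]
  -- the induced involution of the node
  have hσn : ∀ s ∈ Ideal.map (algebraMap R S) (maximalIdeal R),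
      σ s ∈ Ideal.map (algebraMap R S) (maximalIdeal R) := by
    intro s hs
    have := σ_mem_pow (φ := algebraMap R S) (m := maximalIdeal R) (σ : S →+* S)
      (fun a => σ.commutes a) 1 (by rwa [pow_one])
    rwa [pow_one] at this
  let σk : S →ₐ[k] S := (σ : S →ₐ[R] S).restrictScalars k
  let σb : ArSing.ring k 1 →ₐ[k] ArSing.ring k 1 :=
    AlgHom.liftOfSurjective θ hθs (θ.comp σk) (by
      intro s hs
      rw [RingHom.mem_ker] at hs ⊢
      show θ (σ s) = 0
      exact (hθk _).2 (hσn s ((hθk s).1 hs)))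
  have hσb : ∀ s, σb (θ s) = θ (σ s) := fun s => AlgHom.liftOfSurjective_apply θ hθs _ _ s
  have hσbσb : ∀ a, σb (σb a) = a := by
    intro a
    obtain ⟨s, rfl⟩ := hθs a
    rw [hσb, hσb, hσ]
  -- branches are preserved
  have hk : ∀ β : ArSing.ring k 1 →ₐ[k] PowerSeries k,
      Ideal.comap θ (RingHom.ker β) ∈ (RingHom.ker θ).minimalPrimes →
      ∀ a, β a = 0 → β (σb a) = 0 := by
    intro β hβ a ha
    obtain ⟨s, rfl⟩ := hθs a
    rw [hσb]
    have hP := hbr _ (by rw [← hkerθ]; exact hβ)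
    have hs : s ∈ Ideal.comap θ (RingHom.ker β) := ha
    have h1 : (σ : S →+* S) s ∈
        Ideal.map (σ : S →+* S) (Ideal.comap θ (RingHom.ker β)) :=
      Ideal.mem_map_of_mem _ hs
    rw [hP] at h1
    exact h1
  have h2P : (2 : PowerSeries k) * PowerSeries.X ≠ 0 := by
    intro h0
    have := congrArg (PowerSeries.coeff 1) h0
    have e2 : (2 : PowerSeries k) = PowerSeries.C (2 : k) := (map_ofNat _ 2).symm
    rw [e2, PowerSeries.coeff_C_mul, PowerSeries.coeff_one_X, mul_one, map_zero] at this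
    exact h2 this
  have hk1 : ∀ a, β₁ k a = 0 → β₁ k (σb a) = 0 :=
    hk (β₁ k) (comap_ker_mem_minimalPrimes k θ hθs (β₁ k) (ArSing.y k 1 - ArSing.x k 1)
      (ArSing.x k 1 + ArSing.y k 1)
      (by
        have := relation k 1
        linear_combination this) (ker_β₁ k)
      (by
        rw [map_add, β₁_x, β₁_y]
        intro h0
        apply h2P
        rw [← h0]; ring))
  have hk2 : ∀ a, β₂ k a = 0 → β₂ k (σb a) = 0 :=
    hk (β₂ k) (comap_ker_mem_minimalPrimes k θ hθs (β₂ k) (ArSing.x k 1 + ArSing.y k 1)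
      (ArSing.y k 1 - ArSing.x k 1)
      (by
        have := relation k 1
        linear_combination this) (ker_β₂ k)
      (by
        rw [map_sub, β₂_x, β₂_y]
        intro h0
        apply h2P
        have : (2 : PowerSeries k) * PowerSeries.X = -(-PowerSeries.X - PowerSeries.X) := by ring
        rw [this, h0, neg_zero]))
  obtain ⟨ξ₁, ξ₂, ub, vb, hξ₁, hξ₂, hσub, hσvb, hubvb, hεu, hεv, hdec⟩ :=
    exists_eigen_coords k h2 σb hσbσb hk1 hk2
  obtain ⟨U, hU⟩ := hθs ub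
  obtain ⟨V, hV⟩ := hθs vb
  have hi : (2 : k)⁻¹ * 2 = 1 := inv_mul_cancel₀ h2
  have hi2S : 2 * algebraMap k S (2 : k)⁻¹ = 1 := by
    have : (2 : S) = algebraMap k S 2 := (map_ofNat _ 2).symm
    rw [this, ← map_mul, mul_comm, hi, map_one]
  have hi2N : 2 * algebraMap k (ArSing.ring k 1) (2 : k)⁻¹ = 1 := by
    have : (2 : ArSing.ring k 1) = algebraMap k (ArSing.ring k 1) 2 := (map_ofNat _ 2).symm
    rw [this, ← map_mul, mul_comm, hi, map_one]
  have hX₁ : algebraMap k S ξ₁ * algebraMap k S ξ₁ = 1 := by rw [← map_mul, hξ₁, map_one]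
  have hX₂ : algebraMap k S ξ₂ * algebraMap k S ξ₂ = 1 := by rw [← map_mul, hξ₂, map_one]
  have hN₁ : algebraMap k (ArSing.ring k 1) ξ₁ * algebraMap k (ArSing.ring k 1) ξ₁ = 1 := by
    rw [← map_mul, hξ₁, map_one]
  have hN₂ : algebraMap k (ArSing.ring k 1) ξ₂ * algebraMap k (ArSing.ring k 1) ξ₂ = 1 := by
    rw [← map_mul, hξ₂, map_one]
  -- the data
  let D : Data (algebraMap R S) :=
    { σ := (σ : S →+* S)
      hσσ := hσ
      hσφ := σ.commutes
      i2 := algebraMap k S (2 : k)⁻¹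
      hi2 := hi2S
      ξ₁ := algebraMap k S ξ₁
      ξ₂ := algebraMap k S ξ₂
      hξ₁ := hX₁
      hξ₂ := hX₂
      hσξ₁ := hσalg ξ₁
      hσξ₂ := hσalg ξ₂
      e := algebraMap k R ((2 : k)⁻¹ * (1 + ξ₁ * ξ₂))
      he := by
        rw [← IsScalarTower.algebraMap_apply, map_mul, map_add, map_one, map_mul] }
  -- symmetrised lifts
  obtain ⟨u₀, hu₀⟩ : ∃ u₀ : S, u₀ = algebraMap k S (2 : k)⁻¹ * (U + algebraMap k S ξ₂ * σ U) :=
    ⟨_, rfl⟩
  obtain ⟨v₀, hv₀⟩ : ∃ v₀ : S, v₀ = algebraMap k S (2 : k)⁻¹ * (V + algebraMap k S ξ₁ * σ V) :=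
    ⟨_, rfl⟩
  have hθu₀ : θ u₀ = ub := by
    rw [hu₀, map_mul, map_add, map_mul, hθalg, hθalg, ← hσb, hU, hσub]
    linear_combination (ub) * hi2N + (algebraMap k (ArSing.ring k 1) (2 : k)⁻¹ * ub) * hN₂
  have hθv₀ : θ v₀ = vb := by
    rw [hv₀, map_mul, map_add, map_mul, hθalg, hθalg, ← hσb, hV, hσvb]
    linear_combination (vb) * hi2N + (algebraMap k (ArSing.ring k 1) (2 : k)⁻¹ * vb) * hN₁
  have hσu₀ : σ u₀ = algebraMap k S ξ₂ * u₀ := by
    rw [hu₀, map_mul, map_add, map_mul, hσ, hσalg, hσalg]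
    linear_combination (-(algebraMap k S (2 : k)⁻¹ * σ U)) * hX₂
  have hσv₀ : σ v₀ = algebraMap k S ξ₁ * v₀ := by
    rw [hv₀, map_mul, map_add, map_mul, hσ, hσalg, hσalg]
    linear_combination (-(algebraMap k S (2 : k)⁻¹ * σ V)) * hX₁
  have hdecS : Decomp (algebraMap R S) (maximalIdeal R) u₀ v₀ := by
    intro b
    obtain ⟨s, t, hst⟩ := hdec (θ b)
    obtain ⟨s', rfl⟩ := hθs s
    obtain ⟨t', rfl⟩ := hθs t
    refine ⟨algebraMap k R (ε k (θ b)), s', t',
      b - algebraMap R S (algebraMap k R (ε k (θ b))) - u₀ * s' - v₀ * t', ?_, by ring⟩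
    rw [← IsScalarTower.algebraMap_apply, ← hθk, map_sub, map_sub, map_sub, map_mul, map_mul,
      hθu₀, hθv₀, hθalg]
    linear_combination hst
  have huv₀ : u₀ * v₀ ∈ Ideal.map (algebraMap R S) (maximalIdeal R) := by
    rw [← hθk, map_mul, hθu₀, hθv₀, hubvb]
  have hle : Ideal.map (algebraMap R S) (maximalIdeal R) ≤ maximalIdeal S :=
    Ideal.map_le_iff_le_comap.2 (fun a ha => map_nonunit _ a ha)
  haveI : IsAdicComplete (Ideal.map (algebraMap R S) (maximalIdeal R)) S :=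
    H19.ComplSmaller.main _ (maximalIdeal S) hle ((isNoetherianRing_iff_ideal_fg S).1 inferInstance _)
  obtain ⟨α, u₂, v₂, hα, hu₂, hv₂, hσu₂, hσv₂, hαe, hu₂v₂⟩ :=
    D.exists_uv (m := maximalIdeal R) u₀ v₀ hσu₀ hσv₀ huv₀ hdecS
  have hθu₂ : θ u₂ = ub := by
    have : θ (u₂ - u₀) = 0 := (hθk _).2 hu₂
    rw [map_sub, hθu₀, sub_eq_zero] at this
    exact this
  have hθv₂ : θ v₂ = vb := by
    have : θ (v₂ - v₀) = 0 := (hθk _).2 hv₂
    rw [map_sub, hθv₀, sub_eq_zero] at this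
    exact this
  -- the parameter
  have hφt : algebraMap R S (D.e * α) = algebraMap R S α := by
    rw [map_mul, D.he]
    linear_combination (algebraMap R S α) * D.hi2 - D.i2 * hαe
  have ht : D.e * α ∈ maximalIdeal R := Ideal.mul_mem_left _ _ hα
  -- residue data
  let χ : S →+* k := (ε k).comp (θ : S →+* ArSing.ring k 1)
  have hχalg : ∀ c : k, χ (algebraMap k S c) = c := by
    intro c
    show ε k (θ (algebraMap k S c)) = c
    rw [hθalg, ε_algebraMap]
  have hχs : Function.Surjective χ := fun c => ⟨algebraMap k S c, hχalg c⟩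
  have hkχ : RingHom.ker χ = maximalIdeal S :=
    IsLocalRing.eq_maximalIdeal (RingHom.ker_isMaximal_of_surjective χ hχs)
  have hmS : ∀ s : S, s ∈ maximalIdeal S ↔ ε k (θ s) = 0 := by
    intro s
    rw [← hkχ, RingHom.mem_ker]
    rfl
  obtain ⟨Ψ, hΨ⟩ := exists_surjective_to_Nxy k h2
  have hgen : maximalIdeal S ≤ Ideal.span (Set.range ![u₂, v₂]) ⊔
      (maximalIdeal R).map (algebraMap R S) := by
    intro s hs
    have hεs := (hmS s).1 hs
    obtain ⟨a, b, hab⟩ := hdec (θ s)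
    obtain ⟨a', rfl⟩ := hθs a
    obtain ⟨b', rfl⟩ := hθs b
    rw [hεs, map_zero, zero_add] at hab
    have hν : s - (u₂ * a' + v₂ * b') ∈ Ideal.map (algebraMap R S) (maximalIdeal R) := by
      rw [← hθk, map_sub, map_add, map_mul, map_mul, hθu₂, hθv₂]
      linear_combination hab
    have : s = (u₂ * a' + v₂ * b') + (s - (u₂ * a' + v₂ * b')) := by ring
    rw [this]
    refine add_mem (Ideal.mem_sup_left (add_mem ?_ ?_)) (Ideal.mem_sup_right hν)
    · exact Ideal.mul_mem_right _ _ (Ideal.subset_span ⟨0, rfl⟩)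
    · exact Ideal.mul_mem_right _ _ (Ideal.subset_span ⟨1, rfl⟩)
  obtain ⟨f, hf0, hf1⟩ := exists_equiv_of_coords R S k
    (χ.comp (algebraMap R S))
    (fun c => ⟨algebraMap k R c, by
      show χ (algebraMap R S (algebraMap k R c)) = c
      rw [← IsScalarTower.algebraMap_apply, hχalg]⟩)
    (Ψ.comp (θ : S →+* ArSing.ring k 1)) (hΨ.comp hθs)
    (fun a ha => by
      show Ψ (θ (algebraMap R S a)) = 0
      rw [(hθk _).2 (Ideal.mem_map_of_mem _ ha), map_zero])
    (by
      intro y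
      obtain ⟨s, rfl⟩ := residue_surjective y
      refine ⟨algebraMap k R (χ s), ?_⟩
      rw [RingHom.comp_apply]
      symm
      rw [← sub_eq_zero, ← map_sub, residue_eq_zero_iff, ← IsScalarTower.algebraMap_apply,
        ← hkχ, RingHom.mem_ker, map_sub, hχalg, sub_self])
    u₂ v₂ ((hmS _).2 (by rw [hθu₂, hεu])) ((hmS _).2 (by rw [hθv₂, hεv])) (D.e * α) ht
    (hu₂v₂.trans hφt.symm) hgen
  refine ⟨D.e * α, ξ₁, ξ₂, by rw [pow_two, hξ₁], by rw [pow_two, hξ₂], ?_, f, ?_, ?_⟩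
  · intro h12
    have : (1 : k) + ξ₁ * ξ₂ = 0 := by
      rw [h12]
      linear_combination (-1 : k) * hξ₂
    show algebraMap k R ((2 : k)⁻¹ * (1 + ξ₁ * ξ₂)) * α = 0
    rw [this, mul_zero, map_zero, zero_mul]
  · rw [hf0]
    have h1 : σ u₂ = algebraMap k R ξ₂ • u₂ := by
      rw [Algebra.smul_def, ← IsScalarTower.algebraMap_apply]
      exact hσu₂
    rw [h1, map_smul, ← hf0, AlgEquiv.apply_symm_apply]
  · rw [hf1]
    have h1 : σ v₂ = algebraMap k R ξ₁ • v₂ := by
      rw [Algebra.smul_def, ← IsScalarTower.algebraMap_apply]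
      exact hσv₂
    rw [h1, map_smul, ← hf1, AlgEquiv.apply_symm_apply]

end Groth.Agent.H76.NodeEq
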