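import Mathlib
import Groth.Prelude.Def_W4c5spincurvestfNode
import Groth.Agent.H76.NodeComplA

/-!
# `xy - π` is a nonzerodivisor of `R[[x,y]]`, and the matrix factorization `(x p; q y)`
-/

set_option autoImplicit false
set_option linter.unusedSectionVars false
universe u

namespace Groth.Agent.H76.SpinNode

open MvPowerSeries IsLocalRing

variable {R : Type u} [CommRing R]

/-- the exponent of `xy` -/
noncomputable def exy : Fin 2 →₀ ℕ := Finsupp.single 0 1 + Finsupp.single 1 1

theorem X0X1_eq : (X 0 * X 1 : MvPowerSeries (Fin 2) R) = monomial exy 1 := by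
  rw [X, X, monomial_mul_monomial, one_mul, exy]

theorem coeff_add_mul_X0X1 (g : MvPowerSeries (Fin 2) R) (d : Fin 2 →₀ ℕ) :
    coeff (d + exy) (g * (X 0 * X 1)) = coeff d g := by
  rw [X0X1_eq, coeff_add_mul_monomial, mul_one]

/-- If `g * (xy - π) = 0` then every coefficient of `g` is divisible by every power of `π`. -/
theorem coeff_eq_pow_mul (π : R) (g : MvPowerSeries (Fin 2) R)
    (hg : g * (X 0 * X 1 - C π) = 0) (n : ℕ) (d : Fin 2 →₀ ℕ) :
    coeff d g = π ^ n * coeff (d + n • exy) g := by
  have h1 : g * (X 0 * X 1) = C π * g := by linear_combination hg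
  induction n generalizing d with
  | zero => simp
  | succ n ih =>
    rw [ih d, ← coeff_add_mul_X0X1 g (d + n • exy), h1, coeff_C_mul, pow_succ, mul_assoc]
    congr 3
    rw [succ_nsmul, add_assoc]

theorem eq_zero_of_mul_eq_zero (I : Ideal R) [IsHausdorff I R] (π : R) (hπ : π ∈ I)
    (g : MvPowerSeries (Fin 2) R) (hg : g * (X 0 * X 1 - C π) = 0) : g = 0 := by
  ext d
  rw [map_zero]
  apply Groth.Agent.H76.NodeCompl.eq_zero_of_forall_mem_pow I
  intro n
  rw [coeff_eq_pow_mul π g hg n d]
  exact Ideal.mul_mem_right _ _ (Ideal.pow_mem_pow hπ n)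

end Groth.Agent.H76.SpinNode
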