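import Mathlib
import Groth.Prelude.Def_W4c5spincurvestfNode
import Groth.Agent.H76.SpinNodeA

/-!
# The kernel of `α(p,q) = (x p; q y)` over `R[[x,y]]/(xy - pq)`
-/

set_option autoImplicit false
set_option linter.unusedSectionVars false
universe u

namespace Groth.Agent.H76.SpinNode

open MvPowerSeries IsLocalRing SpinCurv

variable (R : Type u) [CommRing R]

theorem algebraMap_node (π r : R) :
    algebraMap R (NodeRing R π) r = Ideal.Quotient.mk _ (C r : MvPowerSeries (Fin 2) R) := rfl

theorem node_rel (π : R) : NodeRing.x R π * NodeRing.y R π = algebraMap R (NodeRing R π) π := by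
  rw [algebraMap_node, ← sub_eq_zero, ← map_mul, ← map_sub]
  exact Ideal.Quotient.eq_zero_iff_mem.2 (Ideal.subset_span rfl)

theorem mulVec_nodeAlpha (p q : R) (v : Fin 2 → NodeRing R (p * q)) :
    Matrix.mulVec (nodeAlpha R p q) v =
      ![NodeRing.x R (p * q) * v 0 + algebraMap R _ p * v 1,
        algebraMap R _ q * v 0 + NodeRing.y R (p * q) * v 1] := by
  ext i
  fin_cases i
  · simp [nodeAlpha, Matrix.mulVec, dotProduct, Fin.sum_univ_two]
  · simp [nodeAlpha, Matrix.mulVec, dotProduct, Fin.sum_univ_two]

theorem ker_nodeAlpha (I : Ideal R) [IsHausdorff I R] (p q : R) (hpq : p * q ∈ I) :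
    LinearMap.ker (Matrix.mulVecLin (nodeAlpha R p q)) =
      Submodule.span (NodeRing R (p * q))
        {![algebraMap R (NodeRing R (p * q)) p, -NodeRing.x R (p * q)],
         ![NodeRing.y R (p * q), -algebraMap R (NodeRing R (p * q)) q]} := by
  have hrel : NodeRing.x R (p * q) * NodeRing.y R (p * q) =
      algebraMap R (NodeRing R (p * q)) p * algebraMap R (NodeRing R (p * q)) q :=
    (node_rel R (p * q)).trans (map_mul _ p q)
  apply le_antisymm
  · intro v hv
    rw [LinearMap.mem_ker, Matrix.mulVecLin_apply, mulVec_nodeAlpha] at hv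
    have h0 : NodeRing.x R (p * q) * v 0 + algebraMap R _ p * v 1 = 0 := congrFun hv 0
    have h1 : algebraMap R _ q * v 0 + NodeRing.y R (p * q) * v 1 = 0 := congrFun hv 1
    obtain ⟨a, ha⟩ := Ideal.Quotient.mk_surjective (v 0)
    obtain ⟨b, hb⟩ := Ideal.Quotient.mk_surjective (v 1)
    rw [← ha, ← hb, algebraMap_node, ← map_mul, ← map_mul, ← map_add,
      Ideal.Quotient.eq_zero_iff_mem] at h0 h1
    obtain ⟨c₁, hc₁⟩ := Ideal.mem_span_singleton'.1 h0
    obtain ⟨c₂, hc₂⟩ := Ideal.mem_span_singleton'.1 h1
    have hCpq : (C (p * q) : MvPowerSeries (Fin 2) R) = C p * C q := map_mul _ _ _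
    rw [hCpq] at hc₁ hc₂
    have ea : a = X 1 * c₁ - C p * c₂ := by
      rw [← sub_eq_zero]
      apply eq_zero_of_mul_eq_zero I (p * q) hpq
      rw [hCpq]
      linear_combination (-X 1) * hc₁ + (C p) * hc₂
    have eb : b = X 0 * c₂ - C q * c₁ := by
      rw [← sub_eq_zero]
      apply eq_zero_of_mul_eq_zero I (p * q) hpq
      rw [hCpq]
      linear_combination (-X 0) * hc₂ + (C q) * hc₁
    have hv' : v = (Ideal.Quotient.mk _ c₁ : NodeRing R (p * q)) •
          ![NodeRing.y R (p * q), -algebraMap R (NodeRing R (p * q)) q] +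
        (-(Ideal.Quotient.mk _ c₂ : NodeRing R (p * q))) •
          ![algebraMap R (NodeRing R (p * q)) p, -NodeRing.x R (p * q)] := by
      ext i
      fin_cases i
      · show v 0 = _
        rw [← ha, ea]
        simp [algebraMap_node]
        ring
      · show v 1 = _
        rw [← hb, eb]
        simp [algebraMap_node]
        ring
    rw [hv']
    exact Submodule.add_mem _
      (Submodule.smul_mem _ _ (Submodule.subset_span (Set.mem_insert_of_mem _ rfl)))
      (Submodule.smul_mem _ _ (Submodule.subset_span (Set.mem_insert _ _)))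
  · rw [Submodule.span_le]
    rintro v (rfl | rfl)
    · rw [SetLike.mem_coe, LinearMap.mem_ker, Matrix.mulVecLin_apply, mulVec_nodeAlpha]
      ext i
      fin_cases i
      · simp
        ring
      · simp
        linear_combination (-1 : NodeRing R (p * q)) * hrel
    · rw [SetLike.mem_coe, LinearMap.mem_ker, Matrix.mulVecLin_apply, mulVec_nodeAlpha]
      ext i
      fin_cases i
      · simp
        linear_combination hrel
      · simp
        ring

end Groth.Agent.H76.SpinNode
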