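import Mathlib
import Groth.Prelude.Def_W4c5spincurvestfNode
import Groth.Agent.H76.SpinNodeB

/-!
# One-variable series inside `R[[x,y]]/(xy - π)`: injectivity of `(f, g) ↦ α(p,q)(f(x), g(y))`
-/

set_option autoImplicit false
set_option linter.unusedSectionVars false
universe u

namespace Groth.Agent.H76.SpinNode

open MvPowerSeries IsLocalRing SpinCurv

variable {R : Type u} [CommRing R]

/-- coefficients of a one-variable series viewed in `R[[x,y]]`, on the axis -/
theorem coeff_single_toMv (i : Fin 2) (n : ℕ) (f : PowerSeries R) :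
    coeff (Finsupp.single i n) (PowerSeries.toMvPowerSeries (σ := Fin 2) i f) =
      PowerSeries.coeff n f := by
  have h := coeff_embDomain_rename (R := R) (Function.Embedding.punit i) f
    (Finsupp.single PUnit.unit n)
  rw [Finsupp.embDomain_single] at h
  exact h

/-- coefficients of a one-variable series viewed in `R[[x,y]]`, off the axis -/
theorem coeff_toMv_eq_zero (i j : Fin 2) (hij : j ≠ i) (d : Fin 2 →₀ ℕ) (hd : d j ≠ 0)
    (f : PowerSeries R) :
    coeff d (PowerSeries.toMvPowerSeries (σ := Fin 2) i f) = 0 := by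
  apply coeff_rename_eq_zero
  rintro ⟨x, rfl⟩
  apply hd
  apply Finsupp.mapDomain_of_notMem_range
  rintro ⟨_, h⟩
  exact hij h.symm

/-- If `g * (xy - π)` has no mixed monomial, the coefficients of `g` are divisible by all powers
of `π`. -/
theorem coeff_eq_pow_mul' (π : R) (g : MvPowerSeries (Fin 2) R)
    (hg : ∀ d, coeff (d + exy) (g * (X 0 * X 1 - C π)) = 0) (n : ℕ) (d : Fin 2 →₀ ℕ) :
    coeff d g = π ^ n * coeff (d + n • exy) g := by
  have h1 : ∀ d, coeff d g = π * coeff (d + exy) g := by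
    intro d
    have := hg d
    rw [mul_sub, map_sub, coeff_add_mul_X0X1, mul_comm g (C π), coeff_C_mul] at this
    exact sub_eq_zero.1 this
  induction n generalizing d with
  | zero => simp
  | succ n ih =>
    rw [ih d, h1 (d + n • exy), pow_succ, mul_assoc]
    congr 3
    rw [succ_nsmul, add_assoc]

theorem eq_zero_of_no_mixed (I : Ideal R) [IsHausdorff I R] (π : R) (hπ : π ∈ I)
    (g : MvPowerSeries (Fin 2) R)
    (hg : ∀ d, coeff (d + exy) (g * (X 0 * X 1 - C π)) = 0) : g = 0 := by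
  ext d
  rw [map_zero]
  apply Groth.Agent.H76.NodeCompl.eq_zero_of_forall_mem_pow I
  intro n
  rw [coeff_eq_pow_mul' π g hg n d]
  exact Ideal.mul_mem_right _ _ (Ideal.pow_mem_pow hπ n)

theorem coeff_add_X_mul (i : Fin 2) (d : Fin 2 →₀ ℕ) (h : MvPowerSeries (Fin 2) R) :
    coeff (d + Finsupp.single i 1) (X i * h) = coeff d h := by
  rw [add_comm, X, coeff_add_monomial_mul, one_mul]

theorem exy_apply_zero : exy 0 = 1 := by simp [exy]

theorem exy_apply_one : exy 1 = 1 := by simp [exy]

/-- `X0 * f(x) + r * g(y)` has no mixed monomials. -/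
theorem no_mixed_aux0 (r : R) (f g : PowerSeries R) (d : Fin 2 →₀ ℕ) :
    coeff (d + exy) (X 0 * PowerSeries.toMvPowerSeries (σ := Fin 2) 0 f +
      C r * PowerSeries.toMvPowerSeries (σ := Fin 2) 1 g) = 0 := by
  rw [map_add, coeff_C_mul, coeff_toMv_eq_zero 1 0 (by decide) _ _ g, mul_zero, add_zero]
  · have : d + exy = (d + Finsupp.single 1 1) + Finsupp.single 0 1 := by
      rw [exy]; abel
    rw [this, coeff_add_X_mul]
    apply coeff_toMv_eq_zero 0 1 (by decide)
    simp
  · simp [exy_apply_zero]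

/-- `r * f(x) + X1 * g(y)` has no mixed monomials. -/
theorem no_mixed_aux1 (r : R) (f g : PowerSeries R) (d : Fin 2 →₀ ℕ) :
    coeff (d + exy) (C r * PowerSeries.toMvPowerSeries (σ := Fin 2) 0 f +
      X 1 * PowerSeries.toMvPowerSeries (σ := Fin 2) 1 g) = 0 := by
  rw [map_add, coeff_C_mul, coeff_toMv_eq_zero 0 1 (by decide) _ _ f, mul_zero, zero_add]
  · have : d + exy = (d + Finsupp.single 0 1) + Finsupp.single 1 1 := by
      rw [exy]; abel
    rw [this, coeff_add_X_mul]
    apply coeff_toMv_eq_zero 1 0 (by decide)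
    simp
  · simp [exy_apply_one]

/-- If `X0 * f(x) + r * g(y) ∈ (xy - π)` then `f = 0`. -/
theorem eq_zero_of_mem0 (I : Ideal R) [IsHausdorff I R] (π : R) (hπ : π ∈ I) (r : R)
    (f g : PowerSeries R)
    (h : X 0 * PowerSeries.toMvPowerSeries (σ := Fin 2) 0 f +
      C r * PowerSeries.toMvPowerSeries (σ := Fin 2) 1 g ∈
        Ideal.span {(X 0 * X 1 - C π : MvPowerSeries (Fin 2) R)}) : f = 0 := by
  obtain ⟨c, hc⟩ := Ideal.mem_span_singleton'.1 h
  have hc0 : c = 0 := by
    apply eq_zero_of_no_mixed I π hπ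
    intro d
    rw [hc]
    exact no_mixed_aux0 r f g d
  rw [hc0, zero_mul] at hc
  ext n
  have h2 := congrArg (coeff (Finsupp.single 0 n + Finsupp.single 0 1)) hc
  rw [map_zero, map_add, coeff_add_X_mul, coeff_single_toMv, coeff_C_mul,
    coeff_toMv_eq_zero 1 0 (by decide) _ (by simp) g, mul_zero, add_zero] at h2
  rw [← h2, map_zero]

/-- If `r * f(x) + X1 * g(y) ∈ (xy - π)` then `g = 0`. -/
theorem eq_zero_of_mem1 (I : Ideal R) [IsHausdorff I R] (π : R) (hπ : π ∈ I) (r : R)
    (f g : PowerSeries R)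
    (h : C r * PowerSeries.toMvPowerSeries (σ := Fin 2) 0 f +
      X 1 * PowerSeries.toMvPowerSeries (σ := Fin 2) 1 g ∈
        Ideal.span {(X 0 * X 1 - C π : MvPowerSeries (Fin 2) R)}) : g = 0 := by
  obtain ⟨c, hc⟩ := Ideal.mem_span_singleton'.1 h
  have hc0 : c = 0 := by
    apply eq_zero_of_no_mixed I π hπ
    intro d
    rw [hc]
    exact no_mixed_aux1 r f g d
  rw [hc0, zero_mul] at hc
  ext n
  have h2 := congrArg (coeff (Finsupp.single 1 n + Finsupp.single 1 1)) hc
  rw [map_zero, map_add, coeff_add_X_mul, coeff_single_toMv, coeff_C_mul,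
    coeff_toMv_eq_zero 0 1 (by decide) _ (by simp) f, mul_zero, zero_add] at h2
  rw [← h2, map_zero]

variable (R)

/-- Injectivity of `(f, g) ↦ α(p,q) (f(x), g(y))`. -/
theorem injective_restrict (I : Ideal R) [IsHausdorff I R] (p q : R) (hpq : p * q ∈ I) :
    Function.Injective (fun fg : PowerSeries R × PowerSeries R =>
        Matrix.mulVec (nodeAlpha R p q)
          ![NodeRing.ofX R (p * q) fg.1, NodeRing.ofY R (p * q) fg.2]) := by
  rintro ⟨f, g⟩ ⟨f', g'⟩ h
  simp only at h
  have h' : Matrix.mulVec (nodeAlpha R p q)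
      ![NodeRing.ofX R (p * q) (f - f'), NodeRing.ofY R (p * q) (g - g')] = 0 := by
    have e : ![NodeRing.ofX R (p * q) (f - f'), NodeRing.ofY R (p * q) (g - g')] =
        ![NodeRing.ofX R (p * q) f, NodeRing.ofY R (p * q) g] -
          ![NodeRing.ofX R (p * q) f', NodeRing.ofY R (p * q) g'] := by
      ext i
      fin_cases i
      · simp [NodeRing.ofX, map_sub]
      · simp [NodeRing.ofY, map_sub]
    rw [e, Matrix.mulVec_sub, h, sub_self]
  rw [mulVec_nodeAlpha] at h'
  have h0 := congrFun h' 0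
  have h1 := congrFun h' 1
  simp only [Matrix.cons_val_zero, Matrix.cons_val_one, Pi.zero_apply] at h0 h1
  rw [algebraMap_node, ← map_mul, ← map_mul, ← map_add, Ideal.Quotient.eq_zero_iff_mem] at h0 h1
  have e0 := eq_zero_of_mem0 I (p * q) hpq p _ _ h0
  have e1 := eq_zero_of_mem1 I (p * q) hpq q _ _ h1
  rw [sub_eq_zero] at e0 e1
  rw [e0, e1]

end Groth.Agent.H76.SpinNode
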