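import Mathlib
import Groth.Prelude.Def_W4c5spincurvestfNode
import Groth.Agent.H76.SpinNodeC

/-!
# The image of `α(p,q)` is the image of its restriction to `R[[x]] × R[[y]]`
-/

set_option autoImplicit false
set_option linter.unusedSectionVars false
universe u

namespace Groth.Agent.H76.SpinNode

open MvPowerSeries IsLocalRing SpinCurv

variable {R : Type u} [CommRing R]

/-- Solve `u = h + π * (u / xy)` coefficientwise over a complete base. -/
theorem exists_geom_solve (I : Ideal R) [IsAdicComplete I R] (π : R) (hπ : π ∈ I)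
    (h : MvPowerSeries (Fin 2) R) :
    ∃ u : MvPowerSeries (Fin 2) R, ∀ d, coeff d u = coeff d h + π * coeff (d + exy) u := by
  have key : ∀ d : Fin 2 →₀ ℕ, ∃ L : R, ∀ N,
      (∑ n ∈ Finset.range N, π ^ n * coeff (d + n • exy) h) - L ∈ I ^ N := by
    intro d
    apply Groth.Agent.H76.NodeCompl.exists_limit I
    intro N
    rw [Finset.sum_range_succ, add_sub_cancel_left]
    exact Ideal.mul_mem_right _ _ (Ideal.pow_mem_pow hπ N)
  choose L hL using key
  refine ⟨fun d => L d, fun d => ?_⟩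
  show L d = coeff d h + π * L (d + exy)
  rw [← sub_eq_zero]
  apply Groth.Agent.H76.NodeCompl.eq_zero_of_forall_mem_pow I
  intro N
  have h1 := hL d (N + 1)
  have h2 := hL (d + exy) N
  have e : (∑ n ∈ Finset.range (N + 1), π ^ n * coeff (d + n • exy) h) =
      coeff d h + π * ∑ n ∈ Finset.range N, π ^ n * coeff (d + exy + n • exy) h := by
    rw [Finset.sum_range_succ', Finset.mul_sum, add_comm]
    congr 1
    · simp
    · apply Finset.sum_congr rfl
      intro n _
      have e3 : d + (n + 1) • exy = d + exy + n • exy := by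
        rw [succ_nsmul]; abel
      rw [e3, pow_succ]
      ring
  have e2 : L d - (coeff d h + π * L (d + exy)) =
      -((∑ n ∈ Finset.range (N + 1), π ^ n * coeff (d + n • exy) h) - L d) +
        π * ((∑ n ∈ Finset.range N, π ^ n * coeff (d + exy + n • exy) h) - L (d + exy)) := by
    rw [e]; ring
  rw [e2]
  exact add_mem (neg_mem (Ideal.pow_le_pow_right (Nat.le_succ N) h1)) (Ideal.mul_mem_left _ _ h2)

/-- shift: divide by `X i`, forgetting the terms not divisible by `X i` -/
noncomputable def Sh (i : Fin 2) (h : MvPowerSeries (Fin 2) R) : MvPowerSeries (Fin 2) R :=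
  fun d => coeff (d + Finsupp.single i 1) h

theorem coeff_Sh (i : Fin 2) (h : MvPowerSeries (Fin 2) R) (d : Fin 2 →₀ ℕ) :
    coeff d (Sh i h) = coeff (d + Finsupp.single i 1) h := rfl

theorem Sh_X_mul (i : Fin 2) (h : MvPowerSeries (Fin 2) R) : Sh i (X i * h) = h := by
  ext d
  rw [coeff_Sh, coeff_add_X_mul]

theorem Sh_C_mul (i : Fin 2) (r : R) (h : MvPowerSeries (Fin 2) R) :
    Sh i (C r * h) = C r * Sh i h := by
  ext d
  rw [coeff_Sh, coeff_C_mul, coeff_C_mul, coeff_Sh]

theorem Sh_add (i : Fin 2) (h h' : MvPowerSeries (Fin 2) R) :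
    Sh i (h + h') = Sh i h + Sh i h' := by
  ext d
  rw [coeff_Sh, map_add, map_add, coeff_Sh, coeff_Sh]

theorem Sh_sub (i : Fin 2) (h h' : MvPowerSeries (Fin 2) R) :
    Sh i (h - h') = Sh i h - Sh i h' := by
  ext d
  rw [coeff_Sh, map_sub, map_sub, coeff_Sh, coeff_Sh]

theorem Sh_neg (i : Fin 2) (h : MvPowerSeries (Fin 2) R) :
    Sh i (-h) = -Sh i h := by
  ext d
  rw [coeff_Sh, map_neg, map_neg, coeff_Sh]

/-- A series with no term divisible by `X j` is a series in the other variable `X i` alone. -/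
theorem exists_toMv_of_Sh_eq_zero (i j : Fin 2) (hij : j ≠ i) (h : MvPowerSeries (Fin 2) R)
    (hh : Sh j h = 0) : ∃ f : PowerSeries R, PowerSeries.toMvPowerSeries (σ := Fin 2) i f = h := by
  refine ⟨PowerSeries.mk fun n => coeff (Finsupp.single i n) h, ?_⟩
  ext d
  by_cases hd : d j = 0
  · have e : d = Finsupp.single i (d i) := by
      ext k
      have hk : k = i ∨ k = j := by
        fin_cases i <;> fin_cases j <;> fin_cases k <;> simp at hij ⊢
      rcases hk with rfl | rfl
      · simp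
      · rw [hd, Finsupp.single_apply, if_neg (Ne.symm hij)]
    rw [e, coeff_single_toMv, PowerSeries.coeff_mk]
  · rw [coeff_toMv_eq_zero i j hij d hd]
    have e : d = (d - Finsupp.single j 1) + Finsupp.single j 1 := by
      ext k
      by_cases hk : k = j
      · subst hk
        simp only [Finsupp.coe_add, Finsupp.coe_tsub, Pi.add_apply, Pi.sub_apply,
          Finsupp.single_eq_same]
        omega
      · simp [Ne.symm hk]
    have := congrArg (coeff (d - Finsupp.single j 1)) hh
    rw [coeff_Sh, ← e, map_zero] at this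
    exact this.symm

theorem Sh_comm (h : MvPowerSeries (Fin 2) R) : Sh 1 (Sh 0 h) = Sh 0 (Sh 1 h) := by
  ext d
  rw [coeff_Sh, coeff_Sh, coeff_Sh, coeff_Sh, add_right_comm]

theorem coeff_Sh_Sh (h : MvPowerSeries (Fin 2) R) (d : Fin 2 →₀ ℕ) :
    coeff d (Sh 1 (Sh 0 h)) = coeff (d + exy) h := by
  rw [coeff_Sh, coeff_Sh, exy, add_assoc, add_comm (Finsupp.single 1 1)]

/-- The decomposition: any pair `(a, b)` is, modulo the two obvious kernel vectors of `α(p,q)`,
of the form `(f(x), g(y))`. -/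
theorem exists_decomp (I : Ideal R) [IsAdicComplete I R] (p q : R) (hpq : p * q ∈ I)
    (a b : MvPowerSeries (Fin 2) R) :
    ∃ (f g : PowerSeries R) (c₁ c₂ : MvPowerSeries (Fin 2) R),
      a = PowerSeries.toMvPowerSeries (σ := Fin 2) 0 f + X 1 * c₁ + C p * c₂ ∧
      b = PowerSeries.toMvPowerSeries (σ := Fin 2) 1 g - C q * c₁ - X 0 * c₂ := by
  obtain ⟨u, hu⟩ := exists_geom_solve I (p * q) hpq (Sh 1 a + C p * Sh 1 (Sh 0 b))
  have hu' : u = Sh 1 a + C p * Sh 1 (Sh 0 b) + C (p * q) * Sh 1 (Sh 0 u) := by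
    ext d
    rw [hu d, map_add (coeff d) _ (C (p * q) * _), coeff_C_mul, coeff_Sh_Sh]
  set c₂ : MvPowerSeries (Fin 2) R := -Sh 0 b - C q * Sh 0 u with hc₂
  have h1 : Sh 1 (a - X 1 * u - C p * c₂) = 0 := by
    rw [Sh_sub, Sh_sub, Sh_X_mul, Sh_C_mul, hc₂, Sh_sub, Sh_neg, Sh_C_mul]
    rw [map_mul] at hu'
    linear_combination (-1 : MvPowerSeries (Fin 2) R) * hu'
  have h2 : Sh 0 (b + C q * u + X 0 * c₂) = 0 := by
    rw [Sh_add, Sh_add, Sh_X_mul, Sh_C_mul, hc₂]
    ring
  obtain ⟨f, hf⟩ := exists_toMv_of_Sh_eq_zero 0 1 (by decide) _ h1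
  obtain ⟨g, hg⟩ := exists_toMv_of_Sh_eq_zero 1 0 (by decide) _ h2
  refine ⟨f, g, u, c₂, ?_, ?_⟩
  · rw [hf]; ring
  · rw [hg]; ring

variable (R)

theorem range_restrict (I : Ideal R) [IsAdicComplete I R] (p q : R) (hpq : p * q ∈ I) :
    Set.range (fun fg : PowerSeries R × PowerSeries R =>
        Matrix.mulVec (nodeAlpha R p q)
          ![NodeRing.ofX R (p * q) fg.1, NodeRing.ofY R (p * q) fg.2]) =
      Set.range (Matrix.mulVec (nodeAlpha R p q)) := by
  have hrel : NodeRing.x R (p * q) * NodeRing.y R (p * q) =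
      algebraMap R (NodeRing R (p * q)) p * algebraMap R (NodeRing R (p * q)) q :=
    (node_rel R (p * q)).trans (map_mul _ p q)
  apply le_antisymm
  · rintro _ ⟨fg, rfl⟩
    exact ⟨_, rfl⟩
  · rintro _ ⟨v, rfl⟩
    obtain ⟨a, ha⟩ := Ideal.Quotient.mk_surjective (v 0)
    obtain ⟨b, hb⟩ := Ideal.Quotient.mk_surjective (v 1)
    obtain ⟨f, g, c₁, c₂, h1, h2⟩ := exists_decomp I p q hpq a b
    refine ⟨(f, g), ?_⟩
    simp only
    rw [mulVec_nodeAlpha, mulVec_nodeAlpha]
    have ha' : v 0 = NodeRing.ofX R (p * q) f + NodeRing.y R (p * q) * Ideal.Quotient.mk _ c₁ +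
        algebraMap R (NodeRing R (p * q)) p * Ideal.Quotient.mk _ c₂ := by
      rw [← ha, h1, algebraMap_node]
      simp only [map_add, map_mul]
    have hb' : v 1 = NodeRing.ofY R (p * q) g -
        algebraMap R (NodeRing R (p * q)) q * Ideal.Quotient.mk _ c₁ -
        NodeRing.x R (p * q) * Ideal.Quotient.mk _ c₂ := by
      rw [← hb, h2, algebraMap_node]
      simp only [map_sub, map_mul]
    ext i
    fin_cases i
    · simp only [Fin.zero_eta, Matrix.cons_val_zero, Matrix.cons_val_one]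
      rw [ha', hb']
      linear_combination (-(Ideal.Quotient.mk _ c₁ : NodeRing R (p * q))) * hrel
    · simp only [Fin.mk_one, Matrix.cons_val_zero, Matrix.cons_val_one]
      rw [ha', hb']
      linear_combination (Ideal.Quotient.mk _ c₂ : NodeRing R (p * q)) * hrel

end Groth.Agent.H76.SpinNode
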