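import Mathlib
import Groth.Agent.H76.SpinNodeD

/-!
# Ideals of `k[[x,y]]` containing `xy`: the order along an axis
-/

set_option autoImplicit false
set_option linter.unusedSectionVars false
universe u

namespace Groth.Agent.H76.NodeIdeal

open MvPowerSeries Groth.Agent.H76.SpinNode

variable {k : Type u} [Field k]

/-- restriction of a two-variable series to the `i`-axis -/
noncomputable def axis (i : Fin 2) (h : MvPowerSeries (Fin 2) k) : PowerSeries k :=
  PowerSeries.mk fun n => coeff (Finsupp.single i n) h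

theorem coeff_axis (i : Fin 2) (h : MvPowerSeries (Fin 2) k) (n : ℕ) :
    PowerSeries.coeff n (axis i h) = coeff (Finsupp.single i n) h := PowerSeries.coeff_mk _ _

theorem eq_single_of_apply_eq_zero (i j : Fin 2) (hij : j ≠ i) (d : Fin 2 →₀ ℕ) (hd : d j = 0) :
    d = Finsupp.single i (d i) := by
  ext l
  have hl : l = i ∨ l = j := by
    fin_cases i <;> fin_cases j <;> fin_cases l <;> simp at hij ⊢
  rcases hl with rfl | rfl
  · simp
  · rw [hd, Finsupp.single_apply, if_neg (Ne.symm hij)]

/-- `h = h(x_i) + x_j * (h / x_j)` -/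
theorem eq_axis_add (i j : Fin 2) (hij : j ≠ i) (h : MvPowerSeries (Fin 2) k) :
    h = PowerSeries.toMvPowerSeries (σ := Fin 2) i (axis i h) + X j * Sh j h := by
  ext d
  rw [map_add]
  by_cases hd : d j = 0
  · have e := eq_single_of_apply_eq_zero i j hij d hd
    have h2 : coeff d (X j * Sh j h) = 0 := by
      rw [X, coeff_monomial_mul, if_neg]
      intro hle
      have := hle j
      simp [hd] at this
    rw [h2, add_zero, e, coeff_single_toMv, coeff_axis]
  · rw [coeff_toMv_eq_zero i j hij d hd, zero_add]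
    have e : d = (d - Finsupp.single j 1) + Finsupp.single j 1 := by
      ext l
      by_cases hl : l = j
      · subst hl
        simp only [Finsupp.coe_add, Finsupp.coe_tsub, Pi.add_apply, Pi.sub_apply,
          Finsupp.single_eq_same]
        omega
      · simp [Ne.symm hl]
    rw [e, coeff_add_X_mul, coeff_Sh, ← e]

/-- If `h ∈ J ∋ x_i x_j` has order `n₀` along the `i`-axis then `x_i^(n₀+1) ∈ J`. -/
theorem X_pow_succ_mem (i j : Fin 2) (hij : j ≠ i) (J : Ideal (MvPowerSeries (Fin 2) k))
    (hJ : (X i * X j : MvPowerSeries (Fin 2) k) ∈ J) (h : MvPowerSeries (Fin 2) k) (hh : h ∈ J)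
    (n₀ : ℕ) (hmin : ∀ n < n₀, coeff (Finsupp.single i n) h = 0)
    (hne : coeff (Finsupp.single i n₀) h ≠ 0) :
    (X i ^ (n₀ + 1) : MvPowerSeries (Fin 2) k) ∈ J := by
  set ψ : PowerSeries k := PowerSeries.mk fun n => coeff (Finsupp.single i (n + n₀)) h with hψ
  have hf : axis i h = PowerSeries.X ^ n₀ * ψ := by
    ext n
    rw [coeff_axis, PowerSeries.coeff_X_pow_mul']
    split_ifs with hle
    · rw [hψ, PowerSeries.coeff_mk, Nat.sub_add_cancel hle]
    · exact hmin n (by omega)
  have hu : IsUnit ψ := by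
    rw [PowerSeries.isUnit_iff_constantCoeff, ← PowerSeries.coeff_zero_eq_constantCoeff_apply,
      hψ, PowerSeries.coeff_mk, zero_add]
    exact isUnit_iff_ne_zero.2 hne
  have hu' : IsUnit (PowerSeries.toMvPowerSeries (σ := Fin 2) i ψ) := hu.map _
  have e1 := eq_axis_add i j hij h
  rw [hf, map_mul, map_pow, PowerSeries.toMvPowerSeries_X] at e1
  have e2 : X i ^ (n₀ + 1) * PowerSeries.toMvPowerSeries (σ := Fin 2) i ψ =
      X i * h - (X i * X j) * Sh j h := by
    rw [pow_succ]
    linear_combination (-(X i : MvPowerSeries (Fin 2) k)) * e1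
  have h3 : X i ^ (n₀ + 1) * PowerSeries.toMvPowerSeries (σ := Fin 2) i ψ ∈ J := by
    rw [e2]
    exact J.sub_mem (J.mul_mem_left _ hh) (J.mul_mem_right _ hJ)
  obtain ⟨v, hv⟩ := hu'.exists_right_inv
  have : X i ^ (n₀ + 1) = X i ^ (n₀ + 1) * PowerSeries.toMvPowerSeries (σ := Fin 2) i ψ * v := by
    rw [mul_assoc, hv, mul_one]
  rw [this]
  exact J.mul_mem_right _ h3

/-- If `a` is the least positive exponent with `x_i^a ∈ J`, elements of `J` have order at least
`a - 1` along the `i`-axis. -/
theorem coeff_axis_eq_zero (i j : Fin 2) (hij : j ≠ i) (J : Ideal (MvPowerSeries (Fin 2) k))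
    (hJ : (X i * X j : MvPowerSeries (Fin 2) k) ∈ J) (a : ℕ)
    (hamin : ∀ a', 1 ≤ a' → a' < a → (X i ^ a' : MvPowerSeries (Fin 2) k) ∉ J)
    (h : MvPowerSeries (Fin 2) k) (hh : h ∈ J) (n : ℕ) (hn : n + 1 < a) :
    coeff (Finsupp.single i n) h = 0 := by
  induction n using Nat.strong_induction_on with
  | _ n ih =>
    by_contra hne
    exact hamin (n + 1) (by omega) hn
      (X_pow_succ_mem i j hij J hJ h hh n (fun n' hn' => ih n' hn' (by omega)) hne)

/-- Some power of `x_i` lies in an ideal of finite colength. -/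
theorem exists_X_pow_mem (i j : Fin 2) (hij : j ≠ i) (J : Ideal (MvPowerSeries (Fin 2) k))
    (hJ : (X i * X j : MvPowerSeries (Fin 2) k) ∈ J)
    [Module.Finite k (MvPowerSeries (Fin 2) k ⧸ J)] :
    ∃ a : ℕ, 1 ≤ a ∧ (X i ^ a : MvPowerSeries (Fin 2) k) ∈ J := by
  have hint : IsIntegral k (Ideal.Quotient.mk J (X i : MvPowerSeries (Fin 2) k)) :=
    Algebra.IsIntegral.isIntegral _
  obtain ⟨p, hp, hp0⟩ := hint
  have hp0' : Polynomial.aeval (Ideal.Quotient.mk J (X i : MvPowerSeries (Fin 2) k)) p = 0 := hp0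
  have e : Polynomial.aeval (Ideal.Quotient.mk J (X i : MvPowerSeries (Fin 2) k)) p =
      Ideal.Quotient.mk J (Polynomial.aeval (X i : MvPowerSeries (Fin 2) k) p) := by
    have := Polynomial.aeval_algHom_apply (Ideal.Quotient.mkₐ k J)
      (X i : MvPowerSeries (Fin 2) k) p
    exact this
  rw [e, Ideal.Quotient.eq_zero_iff_mem] at hp0'
  -- coefficients of `p(x_i)` along the axis
  have hax : ∀ n, coeff (Finsupp.single i n) (Polynomial.aeval (X i : MvPowerSeries (Fin 2) k) p) =
      p.coeff n := by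
    intro n
    have e2 : Polynomial.aeval (X i : MvPowerSeries (Fin 2) k) p =
        PowerSeries.toMvPowerSeries (σ := Fin 2) i (p : PowerSeries k) := by
      have : (Polynomial.aeval (X i : MvPowerSeries (Fin 2) k)) =
          (PowerSeries.toMvPowerSeries (σ := Fin 2) (R := k) i).comp
            (Polynomial.coeToPowerSeries.algHom k) := by
        apply Polynomial.algHom_ext
        simp [Polynomial.coeToPowerSeries.algHom_apply]
      rw [this, AlgHom.comp_apply, Polynomial.coeToPowerSeries.algHom_apply]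
      simp
    rw [e2, coeff_single_toMv, Polynomial.coeff_coe]
  have hpne : p ≠ 0 := hp.ne_zero
  have hex : ∃ n, p.coeff n ≠ 0 := by
    by_contra hcon
    push Not at hcon
    exact hpne (Polynomial.ext (by simpa using hcon))
  classical
  set n₀ := Nat.find hex with hn₀
  have h1 : p.coeff n₀ ≠ 0 := Nat.find_spec hex
  have h2 : ∀ n < n₀, p.coeff n = 0 := fun n hn => by
    have := Nat.find_min hex hn
    simpa using this
  refine ⟨n₀ + 1, by omega, X_pow_succ_mem i j hij J hJ _ hp0' n₀ ?_ ?_⟩
  · intro n hn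
    rw [hax, h2 n hn]
  · rw [hax]; exact h1

end Groth.Agent.H76.NodeIdeal
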