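import Mathlib
import Groth.Agent.H76.NodeIdealA
import Groth.Agent.S18434

/-!
# Ideals of finite colength of `k[[x,y]]` containing `xy`
-/

set_option autoImplicit false
set_option linter.unusedSectionVars false
universe u

namespace Groth.Agent.H76.NodeIdeal

open MvPowerSeries Groth.Agent.H76.SpinNode Groth.Agent.S18434

variable {k : Type u} [Field k]

section
variable (J : Ideal (MvPowerSeries (Fin 2) k))
  (hxy : (X 0 * X 1 : MvPowerSeries (Fin 2) k) ∈ J) (a b : ℕ) (ha : 1 ≤ a) (hb : 1 ≤ b)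
  (haJ : (X 0 ^ a : MvPowerSeries (Fin 2) k) ∈ J) (hbJ : (X 1 ^ b : MvPowerSeries (Fin 2) k) ∈ J)

include hxy ha hb haJ hbJ in
theorem mem_of_Phi_eq_zero (f : MvPowerSeries (Fin 2) k) (hf : Phi k a b f = 0) : f ∈ J := by
  obtain ⟨f1, f2, f3, rfl⟩ := decomp k a b ha hb f hf
  have e1 : (monomial (Finsupp.single 0 1 + Finsupp.single 1 1) 1 : MvPowerSeries (Fin 2) k) =
      X 0 * X 1 := by
    rw [X_def, X_def, monomial_mul_monomial, one_mul]
  rw [e1, ← X_pow_eq, ← X_pow_eq]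
  exact J.add_mem (J.add_mem (J.mul_mem_right _ hxy) (J.mul_mem_right _ haJ))
    (J.mul_mem_right _ hbJ)

include hxy ha hb haJ hbJ in
theorem monomial_mem (h : MvPowerSeries (Fin 2) k) (hh : h ∈ J) (m₀ : Fin 2 →₀ ℕ)
    (hc : coeff m₀ h ≠ 0) (hz : ∀ m ∈ S a b, m ≠ m₀ → coeff m h = 0) :
    (monomial m₀ 1 : MvPowerSeries (Fin 2) k) ∈ J := by
  classical
  have h1 : h - monomial m₀ (coeff m₀ h) ∈ J := by
    apply mem_of_Phi_eq_zero J hxy a b ha hb haJ hbJ
    ext ⟨m, hm⟩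
    rw [Phi_apply, map_sub, coeff_monomial, Pi.zero_apply]
    by_cases hmm : m = m₀
    · subst hmm; simp
    · change coeff m h - (if m = m₀ then _ else 0) = 0
      rw [if_neg hmm, sub_zero, hz m hm hmm]
  have h2 : monomial m₀ (coeff m₀ h) ∈ J := by
    have := J.sub_mem hh h1
    rwa [sub_sub_cancel] at this
  have h3 : (monomial m₀ 1 : MvPowerSeries (Fin 2) k) =
      C (coeff m₀ h)⁻¹ * monomial m₀ (coeff m₀ h) := by
    rw [← smul_eq_C_mul, ← map_smul, smul_eq_mul, inv_mul_cancel₀ hc]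
  rw [h3]
  exact J.mul_mem_left _ h2

variable (hamin : ∀ a', 1 ≤ a' → a' < a → (X 0 ^ a' : MvPowerSeries (Fin 2) k) ∉ J)
  (hbmin : ∀ b', 1 ≤ b' → b' < b → (X 1 ^ b' : MvPowerSeries (Fin 2) k) ∉ J)

include hxy hamin hbmin in
theorem eq_of_coeff_ne_zero (h : MvPowerSeries (Fin 2) k) (hh : h ∈ J) (m : Fin 2 →₀ ℕ)
    (hm : m ∈ S a b) (hne : coeff m h ≠ 0) :
    m = Finsupp.single 0 (a - 1) ∨ (m = Finsupp.single 1 (b - 1) ∧ 2 ≤ b) := by
  have hxy' : (X 1 * X 0 : MvPowerSeries (Fin 2) k) ∈ J := by rwa [mul_comm]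
  rcases (mem_S_iff a b m).1 hm with ⟨h1, h0⟩ | ⟨h0, h1, h1'⟩
  · left
    have e := eq_single0 m h1
    have : ¬ (m 0 + 1 < a) := fun hlt => hne (by
      rw [e]; exact coeff_axis_eq_zero 0 1 (by decide) J hxy a hamin h hh _ hlt)
    rw [e]; congr 1; omega
  · right
    have e := eq_single1 m h0
    have : ¬ (m 1 + 1 < b) := fun hlt => hne (by
      rw [e]; exact coeff_axis_eq_zero 1 0 (by decide) J hxy' b hbmin h hh _ hlt)
    refine ⟨?_, by omega⟩
    rw [e]; congr 1; omega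

end

end Groth.Agent.H76.NodeIdeal
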