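import Mathlib
import Groth.Agent.H76.NodeIdealB

set_option autoImplicit false
set_option linter.unusedSectionVars false
universe u

namespace Groth.Agent.H76.NodeIdeal

open MvPowerSeries Groth.Agent.H76.SpinNode Groth.Agent.S18434

variable {k : Type u} [Field k]

section
variable (J : Ideal (MvPowerSeries (Fin 2) k))
  (hxy : (X 0 * X 1 : MvPowerSeries (Fin 2) k) ∈ J) (a b : ℕ) (ha : 1 ≤ a) (hb : 1 ≤ b)
  (haJ : (X 0 ^ a : MvPowerSeries (Fin 2) k) ∈ J) (hbJ : (X 1 ^ b : MvPowerSeries (Fin 2) k) ∈ J)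
  (hamin : ∀ a', 1 ≤ a' → a' < a → (X 0 ^ a' : MvPowerSeries (Fin 2) k) ∉ J)
  (hbmin : ∀ b', 1 ≤ b' → b' < b → (X 1 ^ b' : MvPowerSeries (Fin 2) k) ∉ J)
  (hJtop : J ≠ ⊤)

theorem p_mem_S (ha : 1 ≤ a) : (Finsupp.single 0 (a - 1) : Fin 2 →₀ ℕ) ∈ S a b := by
  rw [mem_S_iff]; left; simp; omega

theorem q_mem_S (hb : 2 ≤ b) : (Finsupp.single 1 (b - 1) : Fin 2 →₀ ℕ) ∈ S a b := by
  rw [mem_S_iff]; right; simp; omega

theorem p_ne_q (hb : 2 ≤ b) :
    (Finsupp.single 0 (a - 1) : Fin 2 →₀ ℕ) ≠ Finsupp.single 1 (b - 1) := by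
  intro h
  have := congrArg (fun f => f 1) h
  simp at this
  omega

include hJtop in
/-- (F1) -/
theorem two_le_a (h : MvPowerSeries (Fin 2) k) (hh : h ∈ J)
    (hp : coeff (Finsupp.single 0 (a - 1)) h ≠ 0) (ha : 1 ≤ a) : 2 ≤ a := by
  by_contra hlt
  have ha1 : a = 1 := by omega
  subst ha1
  apply hJtop
  apply Ideal.eq_top_of_isUnit_mem _ hh
  rw [MvPowerSeries.isUnit_iff_constantCoeff]
  simp only [Nat.sub_self, Finsupp.single_zero] at hp
  exact isUnit_iff_ne_zero.2 (by simpa using hp)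

include hxy ha hb haJ hbJ hamin hbmin hJtop in
/-- (F2) -/
theorem q_of_p (h : MvPowerSeries (Fin 2) k) (hh : h ∈ J)
    (hp : coeff (Finsupp.single 0 (a - 1)) h ≠ 0) :
    2 ≤ b ∧ coeff (Finsupp.single 1 (b - 1)) h ≠ 0 := by
  by_contra hcon
  have h2a := two_le_a J a hJtop h hh hp ha
  have := monomial_mem J hxy a b ha hb haJ hbJ h hh _ hp (by
    intro m hm hmp
    by_contra hne
    rcases eq_of_coeff_ne_zero J hxy a b hamin hbmin h hh m hm hne with e | ⟨e, h2b⟩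
    · exact hmp e
    · exact hcon ⟨h2b, e ▸ hne⟩)
  rw [← X_pow_eq] at this
  exact hamin (a - 1) (by omega) (by omega) this

include hxy ha hb haJ hbJ hamin hbmin in
/-- (F3) -/
theorem p_of_q (h : MvPowerSeries (Fin 2) k) (hh : h ∈ J) (h2b : 2 ≤ b)
    (hq : coeff (Finsupp.single 1 (b - 1)) h ≠ 0) :
    coeff (Finsupp.single 0 (a - 1)) h ≠ 0 := by
  intro hcon
  have := monomial_mem J hxy a b ha hb haJ hbJ h hh _ hq (by
    intro m hm hmq
    by_contra hne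
    rcases eq_of_coeff_ne_zero J hxy a b hamin hbmin h hh m hm hne with e | ⟨e, -⟩
    · exact hne (e ▸ hcon)
    · exact hmq e)
  rw [← X_pow_eq] at this
  exact hbmin (b - 1) (by omega) (by omega) this

include hxy ha hb haJ hbJ hamin hbmin in
/-- an element of `J` with vanishing `p`-coefficient is killed by `Phi` -/
theorem Phi_eq_zero_of_p (h : MvPowerSeries (Fin 2) k) (hh : h ∈ J)
    (hp : coeff (Finsupp.single 0 (a - 1)) h = 0) : Phi k a b h = 0 := by
  ext ⟨m, hm⟩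
  rw [Phi_apply, Pi.zero_apply]
  by_contra hne
  rcases eq_of_coeff_ne_zero J hxy a b hamin hbmin h hh m hm hne with e | ⟨e, h2b⟩
  · exact hne (e ▸ hp)
  · exact p_of_q J hxy a b ha hb haJ hbJ hamin hbmin h hh h2b (e ▸ hne) hp


theorem X0_pow_mem (I : Ideal (MvPowerSeries (Fin 2) k)) (a' b' : ℕ) (hb' : 1 ≤ b') (c : k)
    (h1 : (X 0 * X 1 : MvPowerSeries (Fin 2) k) ∈ I)
    (h2 : (X 0 ^ a' + C c * X 1 ^ b' : MvPowerSeries (Fin 2) k) ∈ I) :
    (X 0 ^ (a' + 1) : MvPowerSeries (Fin 2) k) ∈ I := by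
  obtain ⟨b'', rfl⟩ : ∃ b'', b' = b'' + 1 := ⟨b' - 1, by omega⟩
  have : (X 0 ^ (a' + 1) : MvPowerSeries (Fin 2) k) =
      X 0 * (X 0 ^ a' + C c * X 1 ^ (b'' + 1)) - C c * X 1 ^ b'' * (X 0 * X 1) := by ring
  rw [this]; exact I.sub_mem (I.mul_mem_left _ h2) (I.mul_mem_left _ h1)

theorem X1_pow_mem (I : Ideal (MvPowerSeries (Fin 2) k)) (a' b' : ℕ) (ha' : 1 ≤ a') (c : k)
    (hc : c ≠ 0)
    (h1 : (X 0 * X 1 : MvPowerSeries (Fin 2) k) ∈ I)
    (h2 : (X 0 ^ a' + C c * X 1 ^ b' : MvPowerSeries (Fin 2) k) ∈ I) :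
    (X 1 ^ (b' + 1) : MvPowerSeries (Fin 2) k) ∈ I := by
  obtain ⟨a'', rfl⟩ : ∃ a'', a' = a'' + 1 := ⟨a' - 1, by omega⟩
  have hcc : C c⁻¹ * C c = (1 : MvPowerSeries (Fin 2) k) := by
    rw [← map_mul, inv_mul_cancel₀ hc, map_one]
  have : (X 1 ^ (b' + 1) : MvPowerSeries (Fin 2) k) =
      C c⁻¹ * (X 1 * (X 0 ^ (a'' + 1) + C c * X 1 ^ b') - X 0 ^ a'' * (X 0 * X 1)) := by
    linear_combination (-(X 1 ^ (b' + 1) : MvPowerSeries (Fin 2) k)) * hcc
  rw [this]
  exact I.mul_mem_left _ (I.sub_mem (I.mul_mem_left _ h2) (I.mul_mem_left _ h1))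

include hxy ha hb haJ hbJ hamin hbmin hJtop in
theorem case2 (h₀ : MvPowerSeries (Fin 2) k) (hh₀ : h₀ ∈ J) (hΦ : Phi k a b h₀ ≠ 0) :
    ∃ a' b' : ℕ, ∃ α : k, 1 ≤ a' ∧ 1 ≤ b' ∧ α ≠ 0 ∧
      J = Ideal.span {X 0 * X 1, X 0 ^ a' + C α * X 1 ^ b'} ∧
      Module.finrank k (MvPowerSeries (Fin 2) k ⧸ J) = a' + b' := by
  classical
  have hex : ∃ m ∈ S a b, coeff m h₀ ≠ 0 := by
    by_contra hcon
    push Not at hcon
    apply hΦ
    ext ⟨m, hm⟩
    exact hcon m hm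
  obtain ⟨m, hm, hne⟩ := hex
  have hp₀ : coeff (Finsupp.single 0 (a - 1)) h₀ ≠ 0 := by
    rcases eq_of_coeff_ne_zero J hxy a b hamin hbmin h₀ hh₀ m hm hne with e | ⟨e, h2b⟩
    · exact e ▸ hne
    · exact p_of_q J hxy a b ha hb haJ hbJ hamin hbmin h₀ hh₀ h2b (e ▸ hne)
  have h2a := two_le_a J a hJtop h₀ hh₀ hp₀ ha
  obtain ⟨h2b, hq₀⟩ := q_of_p J hxy a b ha hb haJ hbJ hamin hbmin hJtop h₀ hh₀ hp₀
  obtain ⟨a', rfl⟩ : ∃ a', a = a' + 1 := ⟨a - 1, by omega⟩
  obtain ⟨b', rfl⟩ : ∃ b', b = b' + 1 := ⟨b - 1, by omega⟩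
  have hp₀' : coeff (Finsupp.single 0 a') h₀ ≠ 0 := hp₀
  have hq₀' : coeff (Finsupp.single 1 b') h₀ ≠ 0 := hq₀
  set α₀ := coeff (Finsupp.single 0 a') h₀ with hα₀
  set β₀ := coeff (Finsupp.single 1 b') h₀ with hβ₀
  have hαne : β₀ / α₀ ≠ 0 := div_ne_zero hq₀' hp₀'
  set j₀ : MvPowerSeries (Fin 2) k := X 0 ^ a' + C (β₀ / α₀) * X 1 ^ b' with hj₀
  have hpq : (Finsupp.single 0 a' : Fin 2 →₀ ℕ) ≠ Finsupp.single 1 b' :=
    p_ne_q (a' + 1) (b' + 1) h2b
  have hcj : ∀ m, coeff m j₀ = (if m = Finsupp.single 0 a' then 1 else 0) +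
      (β₀ / α₀) * (if m = Finsupp.single 1 b' then 1 else 0) := by
    intro m
    rw [hj₀, map_add, coeff_C_mul, X_pow_eq, X_pow_eq, coeff_monomial, coeff_monomial]
  -- `j₀ ∈ J`
  have hj₀J : j₀ ∈ J := by
    have h1 : h₀ - C α₀ * j₀ ∈ J := by
      apply mem_of_Phi_eq_zero J hxy (a' + 1) (b' + 1) ha hb haJ hbJ
      ext ⟨m, hm⟩
      rw [Phi_apply, Pi.zero_apply, map_sub, coeff_C_mul, hcj]
      by_cases hmp : m = Finsupp.single 0 a'
      · subst hmp
        rw [if_pos rfl, if_neg hpq]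
        simp [hα₀]
      · rw [if_neg hmp]
        by_cases hmq : m = Finsupp.single 1 b'
        · subst hmq
          rw [if_pos rfl]
          field_simp
          simp [hβ₀]
        · rw [if_neg hmq]
          have : coeff m h₀ = 0 := by
            by_contra hne'
            rcases eq_of_coeff_ne_zero J hxy _ _ hamin hbmin h₀ hh₀ m hm hne' with e | ⟨e, -⟩
            · exact hmp e
            · exact hmq e
          rw [this]; ring
    have h2 : C α₀ * j₀ ∈ J := by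
      have := J.sub_mem hh₀ h1
      rwa [sub_sub_cancel] at this
    have h3 : j₀ = C α₀⁻¹ * (C α₀ * j₀) := by
      rw [← mul_assoc, ← map_mul, inv_mul_cancel₀ hp₀', map_one, one_mul]
    rw [h3]; exact J.mul_mem_left _ h2
  have hred : ∀ h ∈ J,
      Phi k (a' + 1) (b' + 1) (h - C (coeff (Finsupp.single 0 a') h) * j₀) = 0 := by
    intro h hh
    apply Phi_eq_zero_of_p J hxy (a' + 1) (b' + 1) ha hb haJ hbJ hamin hbmin
    · exact J.sub_mem hh (J.mul_mem_left _ hj₀J)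
    · change coeff (Finsupp.single 0 a') _ = 0
      rw [map_sub, coeff_C_mul, hcj, if_pos rfl, if_neg hpq]; ring
  refine ⟨a', b', β₀ / α₀, by omega, by omega, hαne, ?_, ?_⟩
  · set I : Ideal (MvPowerSeries (Fin 2) k) := Ideal.span {X 0 * X 1, j₀} with hI
    have hI1 : X 0 * X 1 ∈ I := Ideal.subset_span (by simp)
    have hI2 : j₀ ∈ I := Ideal.subset_span (by simp)
    have hIa := X0_pow_mem I a' b' (by omega) _ hI1 hI2
    have hIb := X1_pow_mem I a' b' (by omega) _ hαne hI1 hI2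
    apply le_antisymm
    · intro h hh
      have h1 := mem_of_Phi_eq_zero I hI1 _ _ ha hb hIa hIb _ (hred h hh)
      have := I.add_mem h1 (I.mul_mem_left (C (coeff (Finsupp.single 0 a') h)) hI2)
      rwa [sub_add_cancel] at this
    · rw [hI, Ideal.span_le]
      intro x hx
      simp only [Set.mem_insert_iff, Set.mem_singleton_iff] at hx
      rcases hx with rfl | rfl
      · exact hxy
      · exact hj₀J
  · set w₀ := Phi k (a' + 1) (b' + 1) j₀ with hw₀
    have hw₀ne : w₀ ≠ 0 := by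
      intro h0
      have := congrFun h0 ⟨Finsupp.single 0 a', p_mem_S (a' + 1) (b' + 1) ha⟩
      rw [hw₀, Phi_apply, hcj, if_pos rfl, if_neg hpq] at this
      simp at this
    let W : Submodule k (S (a' + 1) (b' + 1) → k) := Submodule.span k {w₀}
    let Ψ : MvPowerSeries (Fin 2) k →ₗ[k] ((S (a' + 1) (b' + 1) → k) ⧸ W) :=
      W.mkQ ∘ₗ Phi k (a' + 1) (b' + 1)
    have hΨ : Function.Surjective Ψ :=
      (Submodule.mkQ_surjective W).comp (Phi_surjective k _ _)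
    let Ψ₀ : MvPowerSeries (Fin 2) k →ₗ[k] (MvPowerSeries (Fin 2) k ⧸ J) :=
      (Ideal.Quotient.mkₐ k J).toLinearMap
    have hΨ₀ : Function.Surjective Ψ₀ := Ideal.Quotient.mk_surjective
    have hker : LinearMap.ker Ψ₀ = LinearMap.ker Ψ := by
      ext f
      rw [LinearMap.mem_ker, LinearMap.mem_ker]
      change Ideal.Quotient.mk J f = 0 ↔ W.mkQ (Phi k _ _ f) = 0
      rw [Ideal.Quotient.eq_zero_iff_mem, Submodule.mkQ_apply, Submodule.Quotient.mk_eq_zero,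
        Submodule.mem_span_singleton]
      constructor
      · intro hf
        refine ⟨coeff (Finsupp.single 0 a') f, ?_⟩
        have := hred f hf
        rw [map_sub, ← smul_eq_C_mul, map_smul, sub_eq_zero] at this
        exact this.symm
      · rintro ⟨c, hc⟩
        have h1 : f - C c * j₀ ∈ J := by
          apply mem_of_Phi_eq_zero J hxy _ _ ha hb haJ hbJ
          rw [map_sub, ← smul_eq_C_mul, map_smul, ← hc, sub_self]
        have := J.add_mem h1 (J.mul_mem_left (C c) hj₀J)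
        rwa [sub_add_cancel] at this
    let e1 := Ψ₀.quotKerEquivOfSurjective hΨ₀
    let e2 := Ψ.quotKerEquivOfSurjective hΨ
    let e3 := Submodule.quotEquivOfEq _ _ hker
    rw [LinearEquiv.finrank_eq (e1.symm ≪≫ₗ e3 ≪≫ₗ e2)]
    have h1 := Submodule.finrank_quotient_add_finrank W
    rw [finrank_span_singleton hw₀ne, Module.finrank_fintype_fun_eq_card, Fintype.card_coe,
      card_S _ _ ha hb] at h1
    omega

include hxy ha hb haJ hbJ in
theorem case1 (hall : ∀ h ∈ J, Phi k a b h = 0) :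
    J = Ideal.span {X 0 * X 1, X 0 ^ a, X 1 ^ b} ∧
      Module.finrank k (MvPowerSeries (Fin 2) k ⧸ J) + 1 = a + b := by
  constructor
  · set I : Ideal (MvPowerSeries (Fin 2) k) := Ideal.span {X 0 * X 1, X 0 ^ a, X 1 ^ b} with hI
    have hI1 : X 0 * X 1 ∈ I := Ideal.subset_span (by simp)
    have hI2 : X 0 ^ a ∈ I := Ideal.subset_span (by simp)
    have hI3 : X 1 ^ b ∈ I := Ideal.subset_span (by simp)
    apply le_antisymm
    · intro h hh
      exact mem_of_Phi_eq_zero I hI1 _ _ ha hb hI2 hI3 _ (hall h hh)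
    · rw [hI, Ideal.span_le]
      intro x hx
      simp only [Set.mem_insert_iff, Set.mem_singleton_iff] at hx
      rcases hx with rfl | rfl | rfl
      · exact hxy
      · exact haJ
      · exact hbJ
  · let Ψ₀ : MvPowerSeries (Fin 2) k →ₗ[k] (MvPowerSeries (Fin 2) k ⧸ J) :=
      (Ideal.Quotient.mkₐ k J).toLinearMap
    have hΨ₀ : Function.Surjective Ψ₀ := Ideal.Quotient.mk_surjective
    have hker : LinearMap.ker Ψ₀ = LinearMap.ker (Phi k a b) := by
      ext f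
      rw [LinearMap.mem_ker, LinearMap.mem_ker]
      change Ideal.Quotient.mk J f = 0 ↔ _
      rw [Ideal.Quotient.eq_zero_iff_mem]
      exact ⟨hall f, mem_of_Phi_eq_zero J hxy a b ha hb haJ hbJ f⟩
    let e1 := Ψ₀.quotKerEquivOfSurjective hΨ₀
    let e2 := (Phi k a b).quotKerEquivOfSurjective (Phi_surjective k a b)
    let e3 := Submodule.quotEquivOfEq _ _ hker
    rw [LinearEquiv.finrank_eq (e1.symm ≪≫ₗ e3 ≪≫ₗ e2), Module.finrank_fintype_fun_eq_card,
      Fintype.card_coe, card_S _ _ ha hb]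
    omega

end

end Groth.Agent.H76.NodeIdeal
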