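import Groth.Agent.H76.NodeAlg
import Groth.Agent.H76.NodeStructA
import Groth.Agent.H76.NodeStructB
import Groth.Agent.H76.NodeStructC

set_option autoImplicit false
universe u

/-!
# The thickness of a formal node is an isomorphism invariant

For a local ring `A` and `α β ∈ m_A`: an `A`-algebra isomorphism
`A[[x,y]]/(xy-α) ≃ A[[x,y]]/(xy-β)` forces `α ∈ (β)`.
-/

namespace Groth.Agent.H76.NodeIso

open MvPowerSeries IsLocalRing Groth.Agent.H76 Groth.Agent.H76.NodeStruct

section general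

variable (B : Type u) [CommRing B] (π : B)

/-- constant term `N → B/π`. -/
noncomputable def c0 : ArLef.NodeAlg B π →+* B ⧸ Ideal.span ({π} : Set B) := nodeAug B π

theorem c0_mk (f : MvPowerSeries (Fin 2) B) :
    c0 B π (Ideal.Quotient.mk _ f) = Ideal.Quotient.mk _ (constantCoeff f) := rfl

theorem constantCoeff_rho (i : Fin 2) (r : ArLef.NodeAlg B π) :
    constantCoeff (rho B π i r) = c0 B π r := by
  obtain ⟨f, rfl⟩ := Ideal.Quotient.mk_surjective r
  rw [rho_mk, killHom_apply, c0_mk, ← coeff_zero_eq_constantCoeff_apply, coeff_map,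
    coeff_killCompl, ← coeff_zero_eq_constantCoeff_apply]
  simp

/-- linear coefficient along the branch `i`. -/
noncomputable def l1 (i : Fin 2) (r : ArLef.NodeAlg B π) : B ⧸ Ideal.span ({π} : Set B) :=
  PowerSeries.coeff 1 (rho B π i r : PowerSeries (B ⧸ Ideal.span ({π} : Set B)))

theorem l1_add (i : Fin 2) (r s : ArLef.NodeAlg B π) :
    l1 B π i (r + s) = l1 B π i r + l1 B π i s := by
  unfold l1
  rw [map_add, map_add]

theorem l1_mul (i : Fin 2) (r s : ArLef.NodeAlg B π) :
    l1 B π i (r * s) = c0 B π r * l1 B π i s + l1 B π i r * c0 B π s := by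
  unfold l1
  rw [map_mul, PowerSeries.coeff_mul, Finset.Nat.antidiagonal_succ, Finset.sum_cons]
  simp only [Finset.Nat.antidiagonal_zero, Finset.map_singleton, Finset.sum_singleton,
    Function.Embedding.coe_prodMap, Function.Embedding.coeFn_mk, Prod.map_apply,
    Function.Embedding.refl_apply, Nat.succ_eq_add_one, zero_add]
  rw [PowerSeries.coeff_zero_eq_constantCoeff_apply, PowerSeries.coeff_zero_eq_constantCoeff_apply]
  have h1 : PowerSeries.constantCoeff (rho B π i r : PowerSeries _) = c0 B π r :=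
    constantCoeff_rho B π i r
  have h2 : PowerSeries.constantCoeff (rho B π i s : PowerSeries _) = c0 B π s :=
    constantCoeff_rho B π i s
  rw [h1, h2]

theorem l1_algebraMap (i : Fin 2) (b : B) :
    l1 B π i (algebraMap B (ArLef.NodeAlg B π) b) = 0 := by
  unfold l1
  rw [rho_algebraMap]
  have : (C (Ideal.Quotient.mk (Ideal.span ({π} : Set B)) b) :
      MvPowerSeries Unit (B ⧸ Ideal.span ({π} : Set B))) = PowerSeries.C (Ideal.Quotient.mk _ b) := rfl
  rw [this, PowerSeries.coeff_C]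
  simp

theorem l1_gen_self (i : Fin 2) : l1 B π i (gen B π i) = 1 := by
  unfold l1
  rw [rho_gen_self]
  have : (X () : MvPowerSeries Unit (B ⧸ Ideal.span ({π} : Set B))) = PowerSeries.X := rfl
  rw [this, PowerSeries.coeff_one_X]

theorem l1_gen_other (i j : Fin 2) (hij : j ≠ i) : l1 B π i (gen B π j) = 0 := by
  unfold l1
  rw [rho_gen_other B π i j hij, map_zero]

theorem c0_gen (i : Fin 2) : c0 B π (gen B π i) = 0 := by
  rw [c0_mk, constantCoeff_X, map_zero]

theorem c0_algebraMap (b : B) :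
    c0 B π (algebraMap B (ArLef.NodeAlg B π) b) = Ideal.Quotient.mk _ b :=
  nodeAug_algebraMap B π b

end general

section main

variable (A : Type u) [CommRing A] [IsLocalRing A]

theorem isUnit_of_residue_ne_zero (β : A) (hβ : β ∈ maximalIdeal A) (a : A)
    (h : IsUnit (Ideal.Quotient.mk (Ideal.span ({β} : Set A)) a)) : IsUnit a := by
  obtain ⟨u, hu⟩ := h.exists_right_inv
  obtain ⟨b, rfl⟩ := Ideal.Quotient.mk_surjective u
  rw [← map_mul, ← map_one (Ideal.Quotient.mk (Ideal.span ({β} : Set A))), Ideal.Quotient.eq] at hu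
  have h1 : a * b - 1 ∈ maximalIdeal A :=
    (Ideal.span_singleton_le_iff_mem (I := maximalIdeal A)).mpr hβ hu
  by_contra hna
  have h2 : a ∈ maximalIdeal A := (mem_maximalIdeal a).mpr hna
  have h3 : a * b ∈ maximalIdeal A := Ideal.mul_mem_right _ _ h2
  have h4 : (1 : A) ∈ maximalIdeal A := by
    have := Ideal.sub_mem _ h3 h1
    simpa using this
  exact (Ideal.ne_top_iff_one _).mp (maximalIdeal.isMaximal A).ne_top h4

theorem isUnit_of_c0 (β : A) (hβ : β ∈ maximalIdeal A) (r : ArLef.NodeAlg A β)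
    (h : IsUnit (c0 A β r)) : IsUnit r := by
  obtain ⟨f, rfl⟩ := Ideal.Quotient.mk_surjective r
  rw [c0_mk] at h
  have h1 := isUnit_of_residue_ne_zero A β hβ _ h
  have h2 : IsUnit f := MvPowerSeries.isUnit_iff_constantCoeff.mpr h1
  exact h2.map _

theorem nontrivial_quot (β : A) (hβ : β ∈ maximalIdeal A) :
    Nontrivial (A ⧸ Ideal.span ({β} : Set A)) := by
  apply Ideal.Quotient.nontrivial_iff.mpr
  intro h
  have : (1 : A) ∈ Ideal.span ({β} : Set A) := by rw [h]; trivial
  have h1 : (1 : A) ∈ maximalIdeal A :=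
    (Ideal.span_singleton_le_iff_mem (I := maximalIdeal A)).mpr hβ this
  exact (Ideal.ne_top_iff_one _).mp (maximalIdeal.isMaximal A).ne_top h1

theorem gen_not_isUnit (β : A) (hβ : β ∈ maximalIdeal A) (i : Fin 2) : ¬ IsUnit (gen A β i) := by
  intro h
  have h1 := h.map (c0 A β)
  rw [c0_gen] at h1
  have := nontrivial_quot A β hβ
  exact not_isUnit_zero h1

/-- residue map `A/β → κ(A)`. -/
noncomputable def res (β : A) (hβ : β ∈ maximalIdeal A) :
    A ⧸ Ideal.span ({β} : Set A) →+* ResidueField A :=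
  Ideal.Quotient.lift _ (residue A) (by
    intro a ha
    exact (residue_eq_zero_iff a).mpr
      ((Ideal.span_singleton_le_iff_mem (I := maximalIdeal A)).mpr hβ ha))

theorem isUnit_of_res_ne_zero (β : A) (hβ : β ∈ maximalIdeal A) (d : A ⧸ Ideal.span ({β} : Set A))
    (h : res A β hβ d ≠ 0) : IsUnit d := by
  obtain ⟨a, rfl⟩ := Ideal.Quotient.mk_surjective d
  have h1 : residue A a ≠ 0 := h
  have h2 : IsUnit a := by
    by_contra hna
    exact h1 ((residue_eq_zero_iff a).mpr ((mem_maximalIdeal a).mpr hna))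
  exact h2.map _

theorem res_eq_zero_of_not_isUnit (β : A) (hβ : β ∈ maximalIdeal A)
    (d : A ⧸ Ideal.span ({β} : Set A)) (h : ¬ IsUnit d) : res A β hβ d = 0 := by
  by_contra h1
  exact h (isUnit_of_res_ne_zero A β hβ d h1)

theorem mem_span_of_algEquiv (α β : A) (hα : α ∈ maximalIdeal A) (hβ : β ∈ maximalIdeal A)
    (φ : ArLef.NodeAlg A α ≃ₐ[A] ArLef.NodeAlg A β) : α ∈ Ideal.span ({β} : Set A) := by
  set x' := φ (gen A α 0) with hx'
  set y' := φ (gen A α 1) with hy'
  have hxy : x' * y' = algebraMap A (ArLef.NodeAlg A β) α := by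
    rw [hx', hy', ← map_mul, gen_mul_gen, φ.commutes]
  set a := c0 A β x' with ha
  set a' := c0 A β y' with ha'
  have h0 : a * a' = Ideal.Quotient.mk _ α := by
    rw [ha, ha', ← map_mul, hxy, c0_algebraMap]
  have hl : ∀ i : Fin 2, a * l1 A β i y' + l1 A β i x' * a' = 0 := by
    intro i
    rw [ha, ha', ← l1_mul, hxy, l1_algebraMap]
  -- nonunits
  have hnu : ∀ i : Fin 2, ¬ IsUnit (c0 A β (φ (gen A α i))) := by
    intro i h
    have h1 := isUnit_of_c0 A β hβ _ h
    have h2 := h1.map φ.symm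
    rw [AlgEquiv.symm_apply_apply] at h2
    exact gen_not_isUnit A α hα i h2
  have hra : res A β hβ a = 0 := res_eq_zero_of_not_isUnit A β hβ a (hnu 0)
  have hra' : res A β hβ a' = 0 := res_eq_zero_of_not_isUnit A β hβ a' (hnu 1)
  -- preimages of the generators
  have key : ∀ j : Fin 2, ∃ P₁ P₂ : ResidueField A, ∀ i : Fin 2,
      res A β hβ (l1 A β i (gen A β j)) =
        res A β hβ (l1 A β i x') * P₁ + res A β hβ (l1 A β i y') * P₂ := by
    intro j
    obtain ⟨p, hp⟩ := φ.surjective (gen A β j)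
    obtain ⟨b, p₁, p₂, hdec⟩ := exists_decomp A α p
    refine ⟨res A β hβ (c0 A β (φ p₁)), res A β hβ (c0 A β (φ p₂)), fun i => ?_⟩
    have h1 : gen A β j = algebraMap A (ArLef.NodeAlg A β) b + x' * φ p₁ + y' * φ p₂ := by
      rw [← hp, hdec, map_add, map_add, map_mul, map_mul, φ.commutes]
    conv_lhs => rw [h1]
    rw [l1_add, l1_add, l1_algebraMap, l1_mul, l1_mul, zero_add, map_add, map_add, map_add,
      map_mul, map_mul, map_mul, map_mul, ← ha, ← ha', hra, hra']
    ring
  obtain ⟨P₁, P₂, hP⟩ := key 0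
  obtain ⟨Q₁, Q₂, hQ⟩ := key 1
  have e00 := hP 0
  have e10 := hP 1
  have e01 := hQ 0
  have e11 := hQ 1
  rw [l1_gen_self, map_one] at e00 e11
  rw [l1_gen_other A β 1 0 (by decide), map_zero] at e10
  rw [l1_gen_other A β 0 1 (by decide), map_zero] at e01
  set d := l1 A β 0 x' * l1 A β 1 y' - l1 A β 0 y' * l1 A β 1 x' with hd
  have hdet : res A β hβ d * (P₁ * Q₂ - P₂ * Q₁) = 1 := by
    rw [hd, map_sub, map_mul, map_mul]
    linear_combination (-(res A β hβ (l1 A β 1 x') * Q₁ + res A β hβ (l1 A β 1 y') * Q₂)) * e00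
      + (res A β hβ (l1 A β 0 x') * Q₁ + res A β hβ (l1 A β 0 y') * Q₂) * e10
      + 0 * e01 - 1 * e11 + e00 * 0
  have hdu : IsUnit d := by
    apply isUnit_of_res_ne_zero A β hβ
    intro h
    rw [h, zero_mul] at hdet
    exact zero_ne_one hdet
  have had : a * d = 0 := by
    rw [hd]
    linear_combination (l1 A β 0 x') * hl 1 - (l1 A β 1 x') * hl 0
  have ha0 : a = 0 := by
    obtain ⟨u, hu⟩ := hdu
    rw [← hu] at had
    exact u.mul_left_eq_zero.mp had
  rw [ha0, zero_mul] at h0
  exact Ideal.Quotient.eq_zero_iff_mem.mp h0.symm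

theorem span_eq_of_algEquiv (α β : A) (hα : α ∈ maximalIdeal A) (hβ : β ∈ maximalIdeal A)
    (φ : ArLef.NodeAlg A α ≃ₐ[A] ArLef.NodeAlg A β) :
    Ideal.span ({α} : Set A) = Ideal.span ({β} : Set A) :=
  le_antisymm
    ((Ideal.span_singleton_le_iff_mem (I := Ideal.span ({β} : Set A))).mpr
      (mem_span_of_algEquiv A α β hα hβ φ))
    ((Ideal.span_singleton_le_iff_mem (I := Ideal.span ({α} : Set A))).mpr
      (mem_span_of_algEquiv A β α hβ hα φ.symm))

end main

end Groth.Agent.H76.NodeIso
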