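import Groth.Agent.H76.NodeStructC

set_option autoImplicit false
universe u

namespace Groth.Agent.H76.NodeStruct

open MvPowerSeries IsLocalRing

section dvr

variable (B : Type u) [CommRing B] [IsDomain B] [IsDiscreteValuationRing B] (π : B)
  (hπ : Irreducible π)

include hπ

theorem isDomain_quot : IsDomain (B ⧸ Ideal.span ({π} : Set B)) := by
  have := span_irreducible_isPrime B π hπ
  exact Ideal.Quotient.isDomain _

theorem span_gen_isPrime (j : Fin 2) :
    (Ideal.span ({gen B π j} : Set (ArLef.NodeAlg B π))).IsPrime := by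
  have := isDomain_quot B π hπ
  have hi : ∃ i : Fin 2, j ≠ i := by
    fin_cases j
    · exact ⟨1, by decide⟩
    · exact ⟨0, by decide⟩
  obtain ⟨i, hij⟩ := hi
  rw [← ker_rho B π i j hij]
  exact RingHom.ker_isPrime _

theorem gen_notMem_span_gen (i j : Fin 2) (hij : j ≠ i) :
    gen B π i ∉ Ideal.span ({gen B π j} : Set (ArLef.NodeAlg B π)) := by
  have := isDomain_quot B π hπ
  rw [← ker_rho B π i j hij, RingHom.mem_ker, rho_gen_self]
  intro h
  have := congrArg (coeff (Finsupp.single () 1)) h
  rw [coeff_X, if_pos rfl, map_zero] at this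
  exact one_ne_zero this

theorem nontrivial_node : Nontrivial (ArLef.NodeAlg B π) := by
  have := isDomain_quot B π hπ
  exact (rho B π 0).domain_nontrivial

theorem isLocalRing_node : IsLocalRing (ArLef.NodeAlg B π) := by
  have := nontrivial_node B π hπ
  exact IsLocalRing.of_surjective' (Ideal.Quotient.mk _) Ideal.Quotient.mk_surjective

theorem gen_mul_eq_zero (i : Fin 2) (z : ArLef.NodeAlg B π) (hz : gen B π i * z = 0) : z = 0 := by
  apply nodeAlg_pi_pow_mul_eq_zero B π hπ 1
  rw [pow_one, ← gen_mul_gen]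
  by_cases hi : i = 0
  · subst hi
    calc gen B π 0 * gen B π 1 * z = gen B π 1 * (gen B π 0 * z) := by ring
      _ = 0 := by rw [hz, mul_zero]
  · have hi1 : i = 1 := by fin_cases i <;> simp_all
    subst hi1
    calc gen B π 0 * gen B π 1 * z = gen B π 0 * (gen B π 1 * z) := by ring
      _ = 0 := by rw [hz, mul_zero]

theorem gen_not_isUnit (i : Fin 2) : ¬ IsUnit (gen B π i) := by
  have := isDomain_quot B π hπ
  intro h
  have hj : ∃ j : Fin 2, i ≠ j := by
    fin_cases i
    · exact ⟨1, by decide⟩
    · exact ⟨0, by decide⟩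
  obtain ⟨j, hij⟩ := hj
  have h1 := h.map (rho B π j)
  rw [rho_gen_other B π j i hij] at h1
  exact not_isUnit_zero h1

end dvr

end Groth.Agent.H76.NodeStruct
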