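import Groth.Agent.H76.NodeStructD

set_option autoImplicit false
universe u

namespace Groth.Agent.H76.NodeStruct

open MvPowerSeries IsLocalRing

section fix

variable (B : Type u) [CommRing B] [IsDomain B] [IsDiscreteValuationRing B] (π : B)
  (hπ : Irreducible π)

include hπ

theorem span_gen_le_jacobson :
    Ideal.span ({gen B π 0, gen B π 1} : Set (ArLef.NodeAlg B π)) ≤ Ideal.jacobson ⊥ := by
  have := isLocalRing_node B π hπ
  rw [IsLocalRing.jacobson_eq_maximalIdeal ⊥ bot_ne_top, Ideal.span_le]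
  rintro x (rfl | rfl)
  · exact (mem_maximalIdeal _).mpr (gen_not_isUnit B π hπ 0)
  · exact (mem_maximalIdeal _).mpr (gen_not_isUnit B π hπ 1)

/-- The fixed ideal of a ring endomorphism of the node algebra is generated by the images of
the differences on `B`, `t` and `e`. -/
theorem fixIdeal_eq (σ : ArLef.NodeAlg B π →+* ArLef.NodeAlg B π) (J : Ideal (ArLef.NodeAlg B π))
    (hJ : J ≤ ArLef.fixIdeal σ)
    (hB : ∀ b : B, σ (algebraMap B _ b) - algebraMap B _ b ∈ J)
    (h0 : σ (gen B π 0) - gen B π 0 ∈ J) (h1 : σ (gen B π 1) - gen B π 1 ∈ J) :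
    ArLef.fixIdeal σ = J := by
  apply le_antisymm _ hJ
  have hfg : (ArLef.fixIdeal σ).FG := IsNoetherian.noetherian _
  refine Submodule.le_of_le_smul_of_le_jacobson_bot hfg (span_gen_le_jacobson B π hπ) ?_
  unfold ArLef.fixIdeal
  rw [Ideal.span_le]
  rintro _ ⟨r, rfl⟩
  obtain ⟨b, r₁, r₂, rfl⟩ := exists_decomp B π r
  have hfix : ∀ r, σ r - r ∈ Ideal.span (Set.range fun r => σ r - r) :=
    fun r => Ideal.subset_span ⟨r, rfl⟩
  have key : σ (algebraMap B _ b + gen B π 0 * r₁ + gen B π 1 * r₂) -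
      (algebraMap B _ b + gen B π 0 * r₁ + gen B π 1 * r₂) =
      ((σ (algebraMap B _ b) - algebraMap B _ b) + (σ (gen B π 0) - gen B π 0) * σ r₁ +
        (σ (gen B π 1) - gen B π 1) * σ r₂) +
      (gen B π 0 * (σ r₁ - r₁) + gen B π 1 * (σ r₂ - r₂)) := by
    rw [map_add, map_add, map_mul, map_mul]
    ring
  show σ (algebraMap B _ b + gen B π 0 * r₁ + gen B π 1 * r₂) -
      (algebraMap B _ b + gen B π 0 * r₁ + gen B π 1 * r₂) ∈ J ⊔ _
  rw [key]
  refine Submodule.add_mem_sup ?_ ?_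
  · exact J.add_mem (J.add_mem (hB b) (J.mul_mem_right _ h0)) (J.mul_mem_right _ h1)
  · refine Submodule.add_mem _ ?_ ?_
    · exact Submodule.smul_mem_smul (Ideal.subset_span (by simp)) (hfix r₁)
    · exact Submodule.smul_mem_smul (Ideal.subset_span (by simp)) (hfix r₂)

end fix

end Groth.Agent.H76.NodeStruct
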