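import Groth.Agent.H76.NodeStructE

set_option autoImplicit false
universe u

namespace Groth.Agent.H76.NodeStruct

open MvPowerSeries IsLocalRing

theorem isUnit_of_prime_eq_mul {R : Type*} [CommRing R] (p y a : R)
    (hp : ∀ z, p * z = 0 → z = 0) (hpj : p ∈ Ideal.jacobson (⊥ : Ideal R))
    (hy : (Ideal.span ({y} : Set R)).IsPrime) (hy0 : y ≠ 0) (h : y = p * a) : IsUnit a := by
  have hmem : p * a ∈ Ideal.span ({y} : Set R) := h ▸ Ideal.mem_span_singleton_self y
  rcases hy.mem_or_mem hmem with h1 | h1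
  · -- `p ∈ (y)`
    obtain ⟨c, hc⟩ := Ideal.mem_span_singleton'.mp h1
    have : p * (1 - c * a) = 0 := by
      rw [mul_sub, mul_one, sub_eq_zero]
      calc p = c * y := hc.symm
        _ = p * (c * a) := by rw [h]; ring
    have h2 := hp _ this
    exact IsUnit.of_mul_eq_one c (by rw [mul_comm]; exact (sub_eq_zero.mp h2).symm)
  · -- `a ∈ (y)`
    obtain ⟨c, hc⟩ := Ideal.mem_span_singleton'.mp h1
    have hu : IsUnit (1 - c * p) := by
      have := (Ideal.mem_jacobson_bot.mp hpj) (-c)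
      rw [mul_comm] at this
      convert this using 1
      ring
    have h3 : (1 - c * p) * a = 0 := by
      rw [sub_mul, one_mul, sub_eq_zero]
      calc a = c * y := hc.symm
        _ = c * p * a := by rw [h]; ring
    have ha : a = 0 := by
      have := congrArg (fun x => ((hu.unit⁻¹ : Rˣ) : R) * x) h3
      simp only [mul_zero] at this
      rwa [← mul_assoc, IsUnit.val_inv_mul, one_mul] at this
    exact absurd (by rw [h, ha, mul_zero]) hy0

section auto

variable (B : Type u) [CommRing B] [IsDomain B] [IsDiscreteValuationRing B] (π : B)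
  (hπ : Irreducible π)

include hπ

theorem gen_mem_jacobson (i : Fin 2) : gen B π i ∈ Ideal.jacobson (⊥ : Ideal (ArLef.NodeAlg B π)) := by
  apply span_gen_le_jacobson B π hπ
  apply Ideal.subset_span
  fin_cases i <;> simp

theorem gen_ne_zero (i : Fin 2) : gen B π i ≠ 0 := by
  have := nontrivial_node B π hπ
  intro h
  have := gen_mul_eq_zero B π hπ i 1 (by rw [h, zero_mul])
  exact one_ne_zero this

/-- A ring automorphism of the node algebra preserving `(π)` stabilizes or switches the branches. -/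
theorem stabilizes_or_switches (σ : ArLef.NodeAlg B π ≃+* ArLef.NodeAlg B π)
    (hσ : Associated (σ (algebraMap B (ArLef.NodeAlg B π) π)) (algebraMap B (ArLef.NodeAlg B π) π)) :
    (∃ α β : (ArLef.NodeAlg B π)ˣ, σ (gen B π 0) = (α : ArLef.NodeAlg B π) * gen B π 0 ∧
        σ (gen B π 1) = (β : ArLef.NodeAlg B π) * gen B π 1) ∨
      (∃ α β : (ArLef.NodeAlg B π)ˣ, σ (gen B π 0) = (α : ArLef.NodeAlg B π) * gen B π 1 ∧
        σ (gen B π 1) = (β : ArLef.NodeAlg B π) * gen B π 0) := by
  obtain ⟨u, hu⟩ := hσ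
  rw [← gen_mul_gen, map_mul] at hu
  -- primes
  have hprime0 := span_gen_isPrime B π hπ 0
  have hσprime : ∀ i, (Ideal.span ({σ (gen B π i)} : Set (ArLef.NodeAlg B π))).IsPrime := by
    intro i
    have h0 := span_gen_isPrime B π hπ i
    have h1 := Ideal.map_isPrime_of_equiv σ (I := Ideal.span ({gen B π i} : Set _))
    rwa [Ideal.map_span, Set.image_singleton] at h1
  have hσne : ∀ i, σ (gen B π i) ≠ 0 := fun i h =>
    gen_ne_zero B π hπ i (σ.injective (h.trans (map_zero σ).symm))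
  have hmem : σ (gen B π 0) * σ (gen B π 1) ∈ Ideal.span ({gen B π 0} : Set (ArLef.NodeAlg B π)) := by
    rw [Ideal.mem_span_singleton]
    refine ⟨gen B π 1 * ↑u⁻¹, ?_⟩
    rw [← mul_assoc, ← hu]
    simp [mul_assoc]
  rcases hprime0.mem_or_mem hmem with h0 | h1
  · left
    obtain ⟨a, ha⟩ := Ideal.mem_span_singleton.mp h0
    have hau := isUnit_of_prime_eq_mul (gen B π 0) _ a (gen_mul_eq_zero B π hπ 0)
      (gen_mem_jacobson B π hπ 0) (hσprime 0) (hσne 0) ha
    have hb : gen B π 0 * ((hau.unit : ArLef.NodeAlg B π) * (u : ArLef.NodeAlg B π) * σ (gen B π 1) -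
        gen B π 1) = 0 := by
      rw [mul_sub, sub_eq_zero, ← hu, ha]
      simp only [IsUnit.unit_spec]
      ring
    have hb' := sub_eq_zero.mp (gen_mul_eq_zero B π hπ 0 _ hb)
    refine ⟨hau.unit, (hau.unit * u)⁻¹, ?_, ?_⟩
    · rw [ha, IsUnit.unit_spec, mul_comm]
    · calc σ (gen B π 1) = ↑(hau.unit * u)⁻¹ * (↑(hau.unit * u) * σ (gen B π 1)) := by
            rw [← mul_assoc, Units.inv_mul, one_mul]
        _ = ↑(hau.unit * u)⁻¹ * gen B π 1 := by rw [Units.val_mul, hb']
  · right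
    obtain ⟨a, ha⟩ := Ideal.mem_span_singleton.mp h1
    have hau := isUnit_of_prime_eq_mul (gen B π 0) _ a (gen_mul_eq_zero B π hπ 0)
      (gen_mem_jacobson B π hπ 0) (hσprime 1) (hσne 1) ha
    have hb : gen B π 0 * ((hau.unit : ArLef.NodeAlg B π) * (u : ArLef.NodeAlg B π) * σ (gen B π 0) -
        gen B π 1) = 0 := by
      rw [mul_sub, sub_eq_zero, ← hu, ha]
      simp only [IsUnit.unit_spec]
      ring
    have hb' := sub_eq_zero.mp (gen_mul_eq_zero B π hπ 0 _ hb)
    refine ⟨(hau.unit * u)⁻¹, hau.unit, ?_, ?_⟩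
    · calc σ (gen B π 0) = ↑(hau.unit * u)⁻¹ * (↑(hau.unit * u) * σ (gen B π 0)) := by
            rw [← mul_assoc, Units.inv_mul, one_mul]
        _ = ↑(hau.unit * u)⁻¹ * gen B π 1 := by rw [Units.val_mul, hb']
    · rw [ha, IsUnit.unit_spec, mul_comm]

end auto

end Groth.Agent.H76.NodeStruct
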