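import Groth.Agent.H76.NodeStructF

set_option autoImplicit false
universe u

namespace Groth.Agent.H76.NodeStruct

open MvPowerSeries IsLocalRing

section stab

variable (B : Type u) [CommRing B] [IsDomain B] [IsDiscreteValuationRing B] (π : B)
  (hπ : Irreducible π)

include hπ

theorem pi_mul_eq_zero (z : ArLef.NodeAlg B π)
    (hz : algebraMap B (ArLef.NodeAlg B π) π * z = 0) : z = 0 :=
  nodeAlg_pi_pow_mul_eq_zero B π hπ 1 z (by rwa [pow_one])

/-- fixed ideal of a branch-stabilizing `B`-automorphism -/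
theorem fixIdeal_of_stabilizes (σ : ArLef.NodeAlg B π ≃ₐ[B] ArLef.NodeAlg B π)
    (hσ : σ ≠ AlgEquiv.refl)
    (ht : Associated (σ (gen B π 0)) (gen B π 0))
    (he : Associated (σ (gen B π 1)) (gen B π 1)) :
    ∃ g : ArLef.NodeAlg B π, g ≠ 0 ∧
      ArLef.fixIdeal σ = Ideal.span {g} *
        Ideal.span ({gen B π 0, gen B π 1} : Set (ArLef.NodeAlg B π)) := by
  obtain ⟨u, hu⟩ := ht
  obtain ⟨v, hv⟩ := he
  set t := gen B π 0 with ht_def
  set e := gen B π 1 with he_def
  set α : ArLef.NodeAlg B π := ↑u⁻¹ with hα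
  set β : ArLef.NodeAlg B π := ↑v⁻¹ with hβ
  have hσt : σ t = α * t := by
    calc σ t = ↑u⁻¹ * (σ t * ↑u) := by rw [mul_comm (σ t), ← mul_assoc, Units.inv_mul, one_mul]
      _ = α * t := by rw [hu]
  have hσe : σ e = β * e := by
    calc σ e = ↑v⁻¹ * (σ e * ↑v) := by rw [mul_comm (σ e), ← mul_assoc, Units.inv_mul, one_mul]
      _ = β * e := by rw [hv]
  have hte : t * e = algebraMap B _ π := gen_mul_gen B π
  have hαβ : α * β = 1 := by
    have h1 : σ (t * e) = t * e := by rw [hte, AlgEquiv.commutes]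
    rw [map_mul, hσt, hσe] at h1
    have h2 : algebraMap B (ArLef.NodeAlg B π) π * (α * β - 1) = 0 := by
      rw [← hte]
      linear_combination h1
    exact sub_eq_zero.mp (pi_mul_eq_zero B π hπ _ h2)
  set g := α - 1 with hg
  have hgt : σ t - t = g * t := by rw [hσt, hg]; ring
  have hge : σ e - e = -β * (g * e) := by
    rw [hσe, hg]
    linear_combination e * hαβ
  have hge' : g * e = -α * (σ e - e) := by
    rw [hge]
    linear_combination (- g * e) * hαβ
  set J := Ideal.span {g} * Ideal.span ({t, e} : Set (ArLef.NodeAlg B π)) with hJ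
  have hfix : ∀ r, σ r - r ∈ ArLef.fixIdeal σ := fun r => Ideal.subset_span ⟨r, rfl⟩
  have hgtJ : g * t ∈ J := Ideal.mul_mem_mul (Ideal.mem_span_singleton_self g)
    (Ideal.subset_span (by simp))
  have hgeJ : g * e ∈ J := Ideal.mul_mem_mul (Ideal.mem_span_singleton_self g)
    (Ideal.subset_span (by simp))
  have hJle : J ≤ ArLef.fixIdeal σ := by
    rw [hJ, Ideal.span_singleton_mul_le_iff]
    intro z hz
    obtain ⟨a, b, rfl⟩ := Ideal.mem_span_pair.mp hz
    have : g * (a * t + b * e) = a * (σ t - t) + (-(b * α)) * (σ e - e) := by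
      rw [hgt]
      linear_combination b * hge'
    rw [this]
    exact Ideal.add_mem _ (Ideal.mul_mem_left _ _ (hfix t)) (Ideal.mul_mem_left _ _ (hfix e))
  have hfixeq : ArLef.fixIdeal σ = J := by
    refine fixIdeal_eq B π hπ (σ : ArLef.NodeAlg B π →+* ArLef.NodeAlg B π) J hJle ?_ ?_ ?_
    · intro b
      have : (σ : ArLef.NodeAlg B π →+* ArLef.NodeAlg B π) (algebraMap B _ b) = algebraMap B _ b :=
        σ.commutes b
      rw [this, sub_self]
      exact J.zero_mem
    · show σ t - t ∈ J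
      rw [hgt]
      exact hgtJ
    · show σ e - e ∈ J
      rw [hge]
      exact J.mul_mem_left _ hgeJ
  refine ⟨g, ?_, hfixeq⟩
  intro hg0
  apply hσ
  have hJ0 : J = ⊥ := by rw [hJ, hg0, Ideal.span_singleton_zero, Ideal.bot_mul]
  ext r
  have := hfix r
  rw [hfixeq, hJ0, Ideal.mem_bot, sub_eq_zero] at this
  exact this

end stab

end Groth.Agent.H76.NodeStruct
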