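import Groth.Agent.H76.NodeStructG

set_option autoImplicit false
universe u

namespace Groth.Agent.H76.NodeStruct

open MvPowerSeries IsLocalRing

section switch

variable (B : Type u) [CommRing B] [IsDomain B] [IsDiscreteValuationRing B] (π : B)
  (hπ : Irreducible π)

include hπ

/-- an element `α e - t` with `α` a unit is not in `(t)` nor `(e)`. -/
theorem unit_mul_sub_notMem (α : ArLef.NodeAlg B π) (hα : IsUnit α) :
    α * gen B π 1 - gen B π 0 ∉ Ideal.span ({gen B π 0} : Set (ArLef.NodeAlg B π)) ∧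
    α * gen B π 1 - gen B π 0 ∉ Ideal.span ({gen B π 1} : Set (ArLef.NodeAlg B π)) := by
  constructor
  · intro h
    have h1 : α * gen B π 1 ∈ Ideal.span ({gen B π 0} : Set (ArLef.NodeAlg B π)) := by
      have := Ideal.add_mem _ h (Ideal.mem_span_singleton_self (gen B π 0))
      simpa using this
    have h2 : gen B π 1 ∈ Ideal.span ({gen B π 0} : Set (ArLef.NodeAlg B π)) := by
      have := Ideal.mul_mem_left _ (↑hα.unit⁻¹ : ArLef.NodeAlg B π) h1
      rwa [← mul_assoc, IsUnit.val_inv_mul, one_mul] at this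
    exact gen_notMem_span_gen B π hπ 1 0 (by decide) h2
  · intro h
    have h1 : gen B π 0 ∈ Ideal.span ({gen B π 1} : Set (ArLef.NodeAlg B π)) := by
      have := Ideal.sub_mem _ (Ideal.mul_mem_left _ α (Ideal.mem_span_singleton_self (gen B π 1))) h
      simpa using this
    exact gen_notMem_span_gen B π hπ 0 1 (by decide) h1

/-- `(t, e)² ⊆ (t², e)` and `t ∉ (t², e)` -/
theorem notMem_sq_of_sub (α : ArLef.NodeAlg B π) :
    α * gen B π 1 - gen B π 0 ∉
      (Ideal.span ({gen B π 0, gen B π 1} : Set (ArLef.NodeAlg B π))) ^ 2 := by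
  set t := gen B π 0
  set e := gen B π 1
  intro h
  have hle : (Ideal.span ({t, e} : Set (ArLef.NodeAlg B π))) ^ 2 ≤
      Ideal.span ({t ^ 2, e} : Set (ArLef.NodeAlg B π)) := by
    rw [pow_two, Ideal.span_pair_mul_span_pair, Ideal.span_le]
    intro x hx
    simp only [Set.mem_insert_iff, Set.mem_singleton_iff] at hx
    rcases hx with rfl | rfl | rfl | rfl
    · rw [← pow_two]; exact Ideal.subset_span (by simp)
    · exact Ideal.mul_mem_left _ _ (Ideal.subset_span (by simp))
    · exact Ideal.mul_mem_right _ _ (Ideal.subset_span (by simp))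
    · exact Ideal.mul_mem_left _ _ (Ideal.subset_span (by simp))
  have h1 := hle h
  have h2 : t ∈ Ideal.span ({t ^ 2, e} : Set (ArLef.NodeAlg B π)) := by
    have := Ideal.sub_mem _ (Ideal.mul_mem_left _ α (Ideal.subset_span (show e ∈ ({t ^ 2, e} : Set _) by simp))) h1
    simpa using this
  obtain ⟨a, b, hab⟩ := Ideal.mem_span_pair.mp h2
  have h3 : t * (1 - a * t) ∈ Ideal.span ({e} : Set (ArLef.NodeAlg B π)) := by
    rw [Ideal.mem_span_singleton]
    exact ⟨b, by linear_combination -hab⟩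
  have hprime := span_gen_isPrime B π hπ 1
  rcases hprime.mem_or_mem h3 with h4 | h4
  · exact gen_notMem_span_gen B π hπ 0 1 (by decide) h4
  · have hu : IsUnit (1 - a * t) := by
      have := (Ideal.mem_jacobson_bot.mp (gen_mem_jacobson B π hπ 0)) (-a)
      convert this using 1
      ring
    exact hprime.ne_top (Ideal.eq_top_of_isUnit_mem _ h4 hu)

/-- divisibility: if `t e z = h w` with `h ∉ (t)`, `h ∉ (e)`, then `z ∈ (h)`. -/
theorem mem_span_of_pi_mul_mem (h z : ArLef.NodeAlg B π)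
    (h0 : h ∉ Ideal.span ({gen B π 0} : Set (ArLef.NodeAlg B π)))
    (h1 : h ∉ Ideal.span ({gen B π 1} : Set (ArLef.NodeAlg B π)))
    (hz : algebraMap B (ArLef.NodeAlg B π) π * z ∈ Ideal.span ({h} : Set (ArLef.NodeAlg B π))) :
    z ∈ Ideal.span ({h} : Set (ArLef.NodeAlg B π)) := by
  set t := gen B π 0
  set e := gen B π 1
  obtain ⟨w, hw⟩ := Ideal.mem_span_singleton'.mp hz
  rw [← gen_mul_gen] at hw
  have hp0 := span_gen_isPrime B π hπ 0
  have hp1 := span_gen_isPrime B π hπ 1
  -- `t ∣ w`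
  have hw0 : w * h ∈ Ideal.span ({t} : Set (ArLef.NodeAlg B π)) := by
    rw [hw, Ideal.mem_span_singleton]
    exact ⟨e * z, by ring⟩
  have hw0' : w ∈ Ideal.span ({t} : Set (ArLef.NodeAlg B π)) :=
    (hp0.mem_or_mem hw0).resolve_right h0
  obtain ⟨w₁, rfl⟩ := Ideal.mem_span_singleton'.mp hw0'
  have e1 : e * z = w₁ * h := by
    apply sub_eq_zero.mp
    apply gen_mul_eq_zero B π hπ 0
    linear_combination -hw
  have hw1 : w₁ * h ∈ Ideal.span ({e} : Set (ArLef.NodeAlg B π)) := by
    rw [← e1, Ideal.mem_span_singleton]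
    exact ⟨z, rfl⟩
  have hw1' : w₁ ∈ Ideal.span ({e} : Set (ArLef.NodeAlg B π)) :=
    (hp1.mem_or_mem hw1).resolve_right h1
  obtain ⟨w₂, rfl⟩ := Ideal.mem_span_singleton'.mp hw1'
  have e2 : z = w₂ * h := by
    apply sub_eq_zero.mp
    apply gen_mul_eq_zero B π hπ 1
    linear_combination e1
  rw [e2]
  exact Ideal.mul_mem_left _ _ (Ideal.mem_span_singleton_self h)

end switch

end Groth.Agent.H76.NodeStruct
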