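import Groth.Agent.H76.NodeStructH

set_option autoImplicit false
universe u

namespace Groth.Agent.H76.NodeStruct

open MvPowerSeries IsLocalRing

section switch2

variable (B : Type u) [CommRing B] [IsDomain B] [IsDiscreteValuationRing B] (π : B)
  (hπ : Irreducible π)

include hπ

/-- fixed ideal of a branch-switching `B`-automorphism -/
theorem fixIdeal_of_switches (σ : ArLef.NodeAlg B π ≃ₐ[B] ArLef.NodeAlg B π)
    (ht : Associated (σ (gen B π 0)) (gen B π 1))
    (he : Associated (σ (gen B π 1)) (gen B π 0)) :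
    ∃ h : ArLef.NodeAlg B π, ArLef.fixIdeal σ = Ideal.span {h} ∧
      h ∉ (Ideal.span ({gen B π 0, gen B π 1} : Set (ArLef.NodeAlg B π))) ^ 2 ∧
      IsSMulRegular (ArLef.NodeAlg B π ⧸ Ideal.span ({h} : Set (ArLef.NodeAlg B π))) π := by
  obtain ⟨u, hu⟩ := ht
  obtain ⟨v, hv⟩ := he
  set t := gen B π 0 with ht_def
  set e := gen B π 1 with he_def
  set α : ArLef.NodeAlg B π := ↑u⁻¹ with hα
  set β : ArLef.NodeAlg B π := ↑v⁻¹ with hβ
  have hαu : IsUnit α := (u⁻¹).isUnit
  have hσt : σ t = α * e := by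
    calc σ t = ↑u⁻¹ * (σ t * ↑u) := by rw [mul_comm (σ t), ← mul_assoc, Units.inv_mul, one_mul]
      _ = α * e := by rw [hu]
  have hσe : σ e = β * t := by
    calc σ e = ↑v⁻¹ * (σ e * ↑v) := by rw [mul_comm (σ e), ← mul_assoc, Units.inv_mul, one_mul]
      _ = β * t := by rw [hv]
  have hte : t * e = algebraMap B _ π := gen_mul_gen B π
  have hαβ : α * β = 1 := by
    have h1 : σ (t * e) = t * e := by rw [hte, AlgEquiv.commutes]
    rw [map_mul, hσt, hσe] at h1
    have h2 : algebraMap B (ArLef.NodeAlg B π) π * (α * β - 1) = 0 := by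
      rw [← hte]
      linear_combination h1
    exact sub_eq_zero.mp (pi_mul_eq_zero B π hπ _ h2)
  set h := α * e - t with hh
  have hfix : ∀ r, σ r - r ∈ ArLef.fixIdeal σ := fun r => Ideal.subset_span ⟨r, rfl⟩
  have h0 : σ t - t = h := by rw [hσt]
  have h1 : σ e - e = -β * h := by
    rw [hσe, hh]
    linear_combination e * hαβ
  have hfixeq : ArLef.fixIdeal σ = Ideal.span {h} := by
    refine fixIdeal_eq B π hπ (σ : ArLef.NodeAlg B π →+* ArLef.NodeAlg B π) _ ?_ ?_ ?_ ?_
    · rw [Ideal.span_singleton_le_iff_mem, ← h0]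
      exact hfix t
    · intro b
      have : (σ : ArLef.NodeAlg B π →+* ArLef.NodeAlg B π) (algebraMap B _ b) = algebraMap B _ b :=
        σ.commutes b
      rw [this, sub_self]
      exact Ideal.zero_mem _
    · show σ t - t ∈ _
      rw [h0]
      exact Ideal.mem_span_singleton_self h
    · show σ e - e ∈ _
      rw [h1]
      exact Ideal.mul_mem_left _ _ (Ideal.mem_span_singleton_self h)
  refine ⟨h, hfixeq, notMem_sq_of_sub B π hπ α, ?_⟩
  obtain ⟨hn0, hn1⟩ := unit_mul_sub_notMem B π hπ α hαu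
  intro x y hxy
  obtain ⟨a, rfl⟩ := Ideal.Quotient.mk_surjective x
  obtain ⟨b, rfl⟩ := Ideal.Quotient.mk_surjective y
  have h2 : (Ideal.Quotient.mk (Ideal.span ({h} : Set (ArLef.NodeAlg B π))))
      (algebraMap B _ π * (a - b)) = 0 := by
    have e1 : ∀ c : ArLef.NodeAlg B π, π • (Ideal.Quotient.mk (Ideal.span ({h} : Set _)) c) =
        Ideal.Quotient.mk (Ideal.span ({h} : Set _)) (algebraMap B _ π * c) := by
      intro c
      show Ideal.Quotient.mk (Ideal.span ({h} : Set _)) (π • c) = _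
      exact congrArg _ (Algebra.smul_def π c)
    simp only at hxy
    rw [e1, e1] at hxy
    rw [mul_sub, map_sub, hxy, sub_self]
  rw [Ideal.Quotient.eq_zero_iff_mem] at h2
  have h3 := mem_span_of_pi_mul_mem B π hπ h (a - b) hn0 hn1 h2
  rw [Ideal.Quotient.eq]
  exact h3

end switch2

end Groth.Agent.H76.NodeStruct
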