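import Groth.Agent.H76.NodeStructI
import Groth.Agent.S15315

set_option autoImplicit false
universe u

namespace Groth.Agent.H76.NodeStruct

open MvPowerSeries IsLocalRing

section len

variable (B : Type u) [CommRing B] [IsDomain B] [IsDiscreteValuationRing B] (π : B)
  (hπ : Irreducible π)

include hπ

theorem isUnit_or_mem_span (r : ArLef.NodeAlg B π) :
    IsUnit r ∨ r ∈ Ideal.span ({gen B π 0, gen B π 1} : Set (ArLef.NodeAlg B π)) := by
  obtain ⟨b, r₁, r₂, rfl⟩ := exists_decomp B π r
  have hmem : gen B π 0 * r₁ + gen B π 1 * r₂ ∈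
      Ideal.span ({gen B π 0, gen B π 1} : Set (ArLef.NodeAlg B π)) :=
    Ideal.add_mem _ (Ideal.mul_mem_right _ _ (Ideal.subset_span (by simp)))
      (Ideal.mul_mem_right _ _ (Ideal.subset_span (by simp)))
  by_cases hb : IsUnit b
  · left
    have hloc := isLocalRing_node B π hπ
    have h1 : IsUnit (algebraMap B (ArLef.NodeAlg B π) b) := hb.map _
    have h2 : gen B π 0 * r₁ + gen B π 1 * r₂ ∈ maximalIdeal (ArLef.NodeAlg B π) := by
      have := span_gen_le_jacobson B π hπ hmem
      rwa [IsLocalRing.jacobson_eq_maximalIdeal ⊥ bot_ne_top] at this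
    by_contra hnu
    have h3 : algebraMap B (ArLef.NodeAlg B π) b + gen B π 0 * r₁ + gen B π 1 * r₂ ∈
        maximalIdeal (ArLef.NodeAlg B π) := (mem_maximalIdeal _).mpr hnu
    have h4 : algebraMap B (ArLef.NodeAlg B π) b ∈ maximalIdeal (ArLef.NodeAlg B π) := by
      have := Ideal.sub_mem _ h3 h2
      convert this using 1
      ring
    exact (mem_maximalIdeal _).mp h4 h1
  · right
    have hbm : b ∈ maximalIdeal B := (mem_maximalIdeal b).mpr hb
    rw [hπ.maximalIdeal_eq, Ideal.mem_span_singleton] at hbm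
    obtain ⟨c, rfl⟩ := hbm
    rw [add_assoc]
    refine Ideal.add_mem _ ?_ hmem
    rw [map_mul, ← gen_mul_gen, mul_assoc]
    exact Ideal.mul_mem_right _ _ (Ideal.subset_span (by simp))

theorem maximalIdeal_isMaximal :
    (Ideal.span ({gen B π 0, gen B π 1} : Set (ArLef.NodeAlg B π))).IsMaximal := by
  have hloc := isLocalRing_node B π hπ
  have : Ideal.span ({gen B π 0, gen B π 1} : Set (ArLef.NodeAlg B π)) =
      maximalIdeal (ArLef.NodeAlg B π) := by
    apply le_antisymm
    · have := span_gen_le_jacobson B π hπ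
      rwa [IsLocalRing.jacobson_eq_maximalIdeal ⊥ bot_ne_top] at this
    · intro r hr
      exact (isUnit_or_mem_span B π hπ r).resolve_left ((mem_maximalIdeal r).mp hr)
  rw [this]
  exact maximalIdeal.isMaximal _

theorem length_quot_maximal :
    Module.length (ArLef.NodeAlg B π) (ArLef.NodeAlg B π ⧸
      Ideal.span ({gen B π 0, gen B π 1} : Set (ArLef.NodeAlg B π))) = 1 := by
  rw [Module.length_eq_one_iff, isSimpleModule_iff_isCoatom]
  exact (maximalIdeal_isMaximal B π hπ).out

/-- `e` is regular modulo `h` if `h ∉ (e)`. -/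
theorem gen_one_regular_mod (h : ArLef.NodeAlg B π)
    (h1 : h ∉ Ideal.span ({gen B π 1} : Set (ArLef.NodeAlg B π))) :
    IsSMulRegular (ArLef.NodeAlg B π ⧸ Ideal.span ({h} : Set (ArLef.NodeAlg B π))) (gen B π 1) := by
  intro x y hxy
  obtain ⟨a, rfl⟩ := Ideal.Quotient.mk_surjective x
  obtain ⟨b, rfl⟩ := Ideal.Quotient.mk_surjective y
  simp only at hxy
  have h2 : (Ideal.Quotient.mk (Ideal.span ({h} : Set (ArLef.NodeAlg B π))))
      (gen B π 1 * (a - b)) = 0 := by
    have e1 : ∀ c : ArLef.NodeAlg B π, gen B π 1 • (Ideal.Quotient.mk (Ideal.span ({h} : Set _)) c) =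
        Ideal.Quotient.mk (Ideal.span ({h} : Set _)) (gen B π 1 * c) := fun c => rfl
    rw [e1, e1] at hxy
    rw [mul_sub, map_sub, hxy, sub_self]
  rw [Ideal.Quotient.eq_zero_iff_mem] at h2
  obtain ⟨w, hw⟩ := Ideal.mem_span_singleton'.mp h2
  have hp1 := span_gen_isPrime B π hπ 1
  have hw1 : w * h ∈ Ideal.span ({gen B π 1} : Set (ArLef.NodeAlg B π)) := by
    rw [hw, Ideal.mem_span_singleton]
    exact ⟨a - b, rfl⟩
  obtain ⟨w₂, rfl⟩ := Ideal.mem_span_singleton'.mp ((hp1.mem_or_mem hw1).resolve_right h1)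
  have e2 : a - b = w₂ * h := by
    apply sub_eq_zero.mp
    apply gen_mul_eq_zero B π hπ 1
    linear_combination -hw
  rw [Ideal.Quotient.eq, e2]
  exact Ideal.mul_mem_left _ _ (Ideal.mem_span_singleton_self h)

/-- length of `N/(h, e^n)` when `(h, e) = (t, e)` and `h ∉ (e)`. -/
theorem length_quot_pow (h : ArLef.NodeAlg B π)
    (h1 : h ∉ Ideal.span ({gen B π 1} : Set (ArLef.NodeAlg B π)))
    (hspan : Ideal.span ({gen B π 1, h} : Set (ArLef.NodeAlg B π)) =
      Ideal.span ({gen B π 0, gen B π 1} : Set (ArLef.NodeAlg B π))) (n : ℕ) :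
    Module.length (ArLef.NodeAlg B π) (ArLef.NodeAlg B π ⧸
      (Ideal.span ({gen B π 1 ^ n} : Set (ArLef.NodeAlg B π)) ⊔ Ideal.span {h})) = n := by
  induction n with
  | zero =>
    rw [pow_zero, Ideal.span_singleton_one, top_sup_eq]
    simp
  | succ n ih =>
    have := Groth.Agent.S15315.result (ArLef.NodeAlg B π) (gen B π 1) h
      (Ideal.span ({gen B π 1 ^ n} : Set (ArLef.NodeAlg B π))) (gen_one_regular_mod B π hπ h h1)
    rw [Ideal.span_singleton_mul_span_singleton, ← pow_succ', hspan, length_quot_maximal B π hπ,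
      ih] at this
    rw [this]
    push_cast
    ring

end len

end Groth.Agent.H76.NodeStruct
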