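import Groth.Agent.H76.NodeStructJ

set_option autoImplicit false
set_option linter.unusedSectionVars false
universe u

namespace Groth.Agent.H76.NodeStruct

open MvPowerSeries IsLocalRing

section switchlen

variable (B : Type u) [CommRing B] [IsDomain B] [IsDiscreteValuationRing B] (π : B)
  (hπ : Irreducible π)

include hπ

theorem mem_span_of_pi_pow_mul_mem (h z : ArLef.NodeAlg B π)
    (h0 : h ∉ Ideal.span ({gen B π 0} : Set (ArLef.NodeAlg B π)))
    (h1 : h ∉ Ideal.span ({gen B π 1} : Set (ArLef.NodeAlg B π))) (k : ℕ)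
    (hz : algebraMap B (ArLef.NodeAlg B π) π ^ k * z ∈ Ideal.span ({h} : Set (ArLef.NodeAlg B π))) :
    z ∈ Ideal.span ({h} : Set (ArLef.NodeAlg B π)) := by
  induction k with
  | zero => simpa using hz
  | succ k ih =>
    apply ih
    apply mem_span_of_pi_mul_mem B π hπ h _ h0 h1
    rw [← mul_assoc, ← pow_succ']
    exact hz

omit hπ in
/-- `ϖ^k ≡ α^k e^{2k}` modulo `h = α e - t`. -/
theorem exists_pi_pow_eq (α : ArLef.NodeAlg B π) (k : ℕ) :
    ∃ q : ArLef.NodeAlg B π, algebraMap B (ArLef.NodeAlg B π) π ^ k =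
      α ^ k * gen B π 1 ^ (2 * k) + (α * gen B π 1 - gen B π 0) * q := by
  induction k with
  | zero => exact ⟨0, by simp⟩
  | succ k ih =>
    obtain ⟨q, hq⟩ := ih
    refine ⟨q * algebraMap B (ArLef.NodeAlg B π) π - α ^ k * gen B π 1 ^ (2 * k) * gen B π 1, ?_⟩
    have hte := gen_mul_gen B π
    rw [pow_succ, hq]
    have : 2 * (k + 1) = 2 * k + 2 := by ring
    rw [this, pow_add]
    linear_combination (α ^ k * gen B π 1 ^ (2 * k)) * (-hte)

/-- the switching case with ramification `j`. -/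
theorem fixIdeal_switch_length (j : ℕ) (hj : 1 ≤ j) (γ : B) (hγ : IsUnit γ)
    (σ : ArLef.NodeAlg B π ≃+* ArLef.NodeAlg B π)
    (hσB : ∀ b : B, σ (algebraMap B (ArLef.NodeAlg B π) b) - algebraMap B (ArLef.NodeAlg B π) b ∈
      Ideal.span ({algebraMap B (ArLef.NodeAlg B π) (π ^ j)} : Set (ArLef.NodeAlg B π)))
    (hσπ : σ (algebraMap B (ArLef.NodeAlg B π) π) = algebraMap B (ArLef.NodeAlg B π) (π + γ * π ^ j))
    (ht : Associated (σ (gen B π 0)) (gen B π 1)) (he : Associated (σ (gen B π 1)) (gen B π 0)) :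
    (∀ g : ArLef.NodeAlg B π, ArLef.fixIdeal σ ≤ Ideal.span ({g} : Set (ArLef.NodeAlg B π)) → IsUnit g) ∧
      Module.length (ArLef.NodeAlg B π) (ArLef.NodeAlg B π ⧸ ArLef.fixIdeal σ) =
        ((2 * j - 1 : ℕ) : ℕ∞) := by
  obtain ⟨u, hu⟩ := ht
  obtain ⟨v, hv⟩ := he
  set t := gen B π 0 with ht_def
  set e := gen B π 1 with he_def
  set ϖ := algebraMap B (ArLef.NodeAlg B π) π with hϖ
  set Γ := algebraMap B (ArLef.NodeAlg B π) γ with hΓ
  set α : ArLef.NodeAlg B π := ↑u⁻¹ with hα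
  set β : ArLef.NodeAlg B π := ↑v⁻¹ with hβ
  have hαu : IsUnit α := (u⁻¹).isUnit
  have hΓu : IsUnit Γ := hγ.map _
  have hσt : σ t = α * e := by
    calc σ t = ↑u⁻¹ * (σ t * ↑u) := by rw [mul_comm (σ t), ← mul_assoc, Units.inv_mul, one_mul]
      _ = α * e := by rw [hu]
  have hσe : σ e = β * t := by
    calc σ e = ↑v⁻¹ * (σ e * ↑v) := by rw [mul_comm (σ e), ← mul_assoc, Units.inv_mul, one_mul]
      _ = β * t := by rw [hv]
  have hte : t * e = ϖ := gen_mul_gen B π
  obtain ⟨j', rfl⟩ : ∃ j', j = j' + 1 := ⟨j - 1, by omega⟩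
  have hσϖ : σ ϖ = ϖ + Γ * ϖ ^ (j' + 1) := by
    rw [hσπ, map_add, map_mul, map_pow]
  have hαβ : α * β = 1 + Γ * ϖ ^ j' := by
    have h1 : σ (t * e) = ϖ + Γ * ϖ ^ (j' + 1) := by rw [hte, hσϖ]
    rw [map_mul, hσt, hσe] at h1
    have h2 : ϖ * (α * β - (1 + Γ * ϖ ^ j')) = 0 := by
      rw [pow_succ] at h1
      rw [← hte] at h1 ⊢
      linear_combination h1
    exact sub_eq_zero.mp (pi_mul_eq_zero B π hπ _ h2)
  set h := α * e - t with hh
  have hfix : ∀ r, σ r - r ∈ ArLef.fixIdeal σ := fun r => Ideal.subset_span ⟨r, rfl⟩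
  have h0 : σ t - t = h := by rw [hσt]
  have h1 : σ e - e = Γ * (ϖ ^ j' * e) - β * h := by
    rw [hσe, hh]
    linear_combination e * hαβ
  obtain ⟨hn0, hn1⟩ := unit_mul_sub_notMem B π hπ α hαu
  -- the ideal `J`
  set J := Ideal.span ({e ^ (2 * (j' + 1) - 1)} : Set (ArLef.NodeAlg B π)) ⊔ Ideal.span {h} with hJ
  have hexp : 2 * (j' + 1) - 1 = 2 * j' + 1 := by omega
  have hhJ : h ∈ J := Ideal.mem_sup_right (Ideal.mem_span_singleton_self h)
  have heJ : e ^ (2 * j' + 1) ∈ J := by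
    rw [hJ, hexp]
    exact Ideal.mem_sup_left (Ideal.mem_span_singleton_self _)
  obtain ⟨q, hq⟩ := exists_pi_pow_eq B π α j'
  have hpeJ : ϖ ^ j' * e ∈ J := by
    have : ϖ ^ j' * e = α ^ j' * e ^ (2 * j' + 1) + (h * (q * e)) := by
      rw [hq, pow_succ]
      ring
    rw [this]
    exact J.add_mem (J.mul_mem_left _ heJ) (J.mul_mem_right _ hhJ)
  have hpJ : ϖ ^ (j' + 1) ∈ J := by
    have : ϖ ^ (j' + 1) = t * (ϖ ^ j' * e) := by rw [pow_succ, ← hte]; ring
    rw [this]
    exact J.mul_mem_left _ hpeJ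
  -- `ϖ^j ∈ fixIdeal`
  have hpfix : ϖ ^ (j' + 1) ∈ ArLef.fixIdeal σ := by
    have h2 : Γ * ϖ ^ (j' + 1) ∈ ArLef.fixIdeal σ := by
      have := hfix ϖ
      rwa [hσϖ, add_sub_cancel_left] at this
    have := Ideal.mul_mem_left _ (↑hΓu.unit⁻¹ : ArLef.NodeAlg B π) h2
    rwa [← mul_assoc, IsUnit.val_inv_mul, one_mul] at this
  have hhfix : h ∈ ArLef.fixIdeal σ := h0 ▸ hfix t
  have hJle : J ≤ ArLef.fixIdeal σ := by
    rw [hJ, hexp]
    refine sup_le ?_ ((Ideal.span_singleton_le_iff_mem _).mpr hhfix)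
    rw [Ideal.span_singleton_le_iff_mem]
    -- `ϖ^j' e ∈ fixIdeal`
    have h3 : ϖ ^ j' * e ∈ ArLef.fixIdeal σ := by
      have h4 : Γ * (ϖ ^ j' * e) ∈ ArLef.fixIdeal σ := by
        have : Γ * (ϖ ^ j' * e) = (σ e - e) + β * h := by rw [h1]; ring
        rw [this]
        exact Ideal.add_mem _ (hfix e) (Ideal.mul_mem_left _ _ hhfix)
      have := Ideal.mul_mem_left _ (↑hΓu.unit⁻¹ : ArLef.NodeAlg B π) h4
      rwa [← mul_assoc, IsUnit.val_inv_mul, one_mul] at this
    have h5 : α ^ j' * e ^ (2 * j' + 1) ∈ ArLef.fixIdeal σ := by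
      have : α ^ j' * e ^ (2 * j' + 1) = ϖ ^ j' * e - h * (q * e) := by
        rw [hq, pow_succ]
        ring
      rw [this]
      exact Ideal.sub_mem _ h3 (Ideal.mul_mem_right _ _ hhfix)
    have hαj : IsUnit (α ^ j') := hαu.pow j'
    have := Ideal.mul_mem_left _ (↑hαj.unit⁻¹ : ArLef.NodeAlg B π) h5
    rwa [← mul_assoc, IsUnit.val_inv_mul, one_mul] at this
  have hfixeq : ArLef.fixIdeal σ = J := by
    refine fixIdeal_eq B π hπ (σ : ArLef.NodeAlg B π →+* ArLef.NodeAlg B π) J hJle ?_ ?_ ?_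
    · intro b
      have := hσB b
      rw [map_pow] at this
      exact (Ideal.span_singleton_le_iff_mem _).mpr hpJ this
    · show σ t - t ∈ J
      rw [h0]
      exact hhJ
    · show σ e - e ∈ J
      rw [h1]
      exact J.sub_mem (J.mul_mem_left _ hpeJ) (J.mul_mem_left _ hhJ)
  constructor
  · intro g hg
    have hhg : h ∈ Ideal.span ({g} : Set (ArLef.NodeAlg B π)) := hg hhfix
    obtain ⟨c, hc⟩ := Ideal.mem_span_singleton'.mp hhg
    rcases isUnit_or_mem_span B π hπ g with hgu | hgm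
    · exact hgu
    · rcases isUnit_or_mem_span B π hπ c with hcu | hcm
      · -- `(g) = (h)`
        have hgh : g ∈ Ideal.span ({h} : Set (ArLef.NodeAlg B π)) := by
          rw [Ideal.mem_span_singleton']
          refine ⟨↑hcu.unit⁻¹, ?_⟩
          rw [← hc, mul_comm c g, mul_comm, mul_assoc, IsUnit.mul_val_inv, mul_one]
        have h6 : ϖ ^ (j' + 1) * 1 ∈ Ideal.span ({h} : Set (ArLef.NodeAlg B π)) := by
          rw [mul_one]
          exact (Ideal.span_singleton_le_iff_mem _).mpr hgh (hg hpfix)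
        have h7 := mem_span_of_pi_pow_mul_mem B π hπ h 1 hn0 hn1 (j' + 1) h6
        have h8 : (1 : ArLef.NodeAlg B π) ∈ Ideal.span ({g} : Set (ArLef.NodeAlg B π)) :=
          (Ideal.span_singleton_le_iff_mem _).mpr hhg h7
        obtain ⟨d, hd⟩ := Ideal.mem_span_singleton'.mp h8
        exact IsUnit.of_mul_eq_one d (by rw [mul_comm]; exact hd)
      · exfalso
        apply notMem_sq_of_sub B π hπ α
        show h ∈ _
        rw [← hc, pow_two]
        exact Ideal.mul_mem_mul hcm hgm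
  · rw [hfixeq, hJ]
    have hspan : Ideal.span ({e, h} : Set (ArLef.NodeAlg B π)) =
        Ideal.span ({t, e} : Set (ArLef.NodeAlg B π)) := by
      apply le_antisymm
      · rw [Ideal.span_le]
        rintro x (rfl | rfl)
        · exact Ideal.subset_span (by simp)
        · rw [hh]
          exact Ideal.sub_mem _ (Ideal.mul_mem_left _ _ (Ideal.subset_span (by simp)))
            (Ideal.subset_span (by simp))
      · rw [Ideal.span_le]
        rintro x (rfl | rfl)
        · have : t = α * e - h := by rw [hh]; ring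
          rw [this]
          exact Ideal.sub_mem _ (Ideal.mul_mem_left _ _ (Ideal.subset_span (by simp)))
            (Ideal.subset_span (by simp))
        · exact Ideal.subset_span (by simp)
    exact length_quot_pow B π hπ h hn1 hspan _

end switchlen

end Groth.Agent.H76.NodeStruct
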