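import Groth.Agent.H76.NodeStructL

set_option autoImplicit false
set_option linter.unusedSectionVars false
universe u

namespace Groth.Agent.H76.NodeStruct

open MvPowerSeries IsLocalRing

theorem span_pair_eq_sup {A : Type*} [CommRing A] (x y : A) :
    Ideal.span ({x, y} : Set A) = Ideal.span {x} ⊔ Ideal.span {y} := Ideal.span_insert x {y}

theorem span_singleton_mul_span_pair' {A : Type*} [CommRing A] (e x y : A) :
    Ideal.span ({e} : Set A) * Ideal.span {x, y} = Ideal.span {e * x, e * y} := by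
  rw [Ideal.span_mul_span']
  congr 1
  simp [Set.singleton_mul, Set.image_pair]

section stablen

variable (B : Type u) [CommRing B] [IsDomain B] [IsDiscreteValuationRing B] (π : B)
  (hπ : Irreducible π)

include hπ

/-- the stabilizing case with ramification `j`. -/
theorem fixIdeal_stab_length (j : ℕ) (hj : 1 ≤ j) (γ : B) (hγ : IsUnit γ)
    (σ : ArLef.NodeAlg B π ≃+* ArLef.NodeAlg B π)
    (hσB : ∀ b : B, σ (algebraMap B (ArLef.NodeAlg B π) b) - algebraMap B (ArLef.NodeAlg B π) b ∈
      Ideal.span ({algebraMap B (ArLef.NodeAlg B π) (π ^ j)} : Set (ArLef.NodeAlg B π)))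
    (hσπ : σ (algebraMap B (ArLef.NodeAlg B π) π) = algebraMap B (ArLef.NodeAlg B π) (π + γ * π ^ j))
    (α β : (ArLef.NodeAlg B π)ˣ)
    (ht : σ (gen B π 0) = (α : ArLef.NodeAlg B π) * gen B π 0)
    (he : σ (gen B π 1) = (β : ArLef.NodeAlg B π) * gen B π 1)
    (htb : ¬ (gen B π 0 ∣ (β : ArLef.NodeAlg B π) - 1))
    (hea : ¬ (gen B π 1 ∣ (α : ArLef.NodeAlg B π) - 1)) :
    Module.length (ArLef.NodeAlg B π) (ArLef.NodeAlg B π ⧸ ArLef.fixIdeal σ) =
      (j : ℕ∞) * (Module.length (ArLef.NodeAlg B π) (ArLef.NodeAlg B π ⧸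
          Ideal.span ({gen B π 0, (β : ArLef.NodeAlg B π) - 1} : Set (ArLef.NodeAlg B π))) +
        Module.length (ArLef.NodeAlg B π) (ArLef.NodeAlg B π ⧸
          Ideal.span ({gen B π 1, (α : ArLef.NodeAlg B π) - 1} : Set (ArLef.NodeAlg B π)))) + 1 := by
  set N := ArLef.NodeAlg B π with hN
  set t : N := gen B π 0 with ht_def
  set e : N := gen B π 1 with he_def
  set ϖ : N := algebraMap B N π with hϖ
  set Γ : N := algebraMap B N γ with hΓ
  have hΓu : IsUnit Γ := hγ.map _
  have hte : t * e = ϖ := gen_mul_gen B π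
  obtain ⟨j', rfl⟩ : ∃ j', j = j' + 1 := ⟨j - 1, by omega⟩
  have hσϖ : σ ϖ = ϖ + Γ * ϖ ^ (j' + 1) := by
    rw [hσπ, map_add, map_mul, map_pow]
  have hαβ : (α : N) * β = 1 + Γ * ϖ ^ j' := by
    have h1 : σ (t * e) = ϖ + Γ * ϖ ^ (j' + 1) := by rw [hte, hσϖ]
    rw [map_mul, ht, he] at h1
    have h2 : ϖ * ((α : N) * β - (1 + Γ * ϖ ^ j')) = 0 := by
      rw [pow_succ] at h1
      rw [← hte] at h1 ⊢
      linear_combination h1
    exact sub_eq_zero.mp (pi_mul_eq_zero B π hπ _ h2)
  set a : N := (α : N) - 1 with ha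
  set b : N := (β : N) - 1 with hb
  have hab : b * α = Γ * ϖ ^ j' - a := by
    rw [ha, hb]
    linear_combination hαβ
  have hfix : ∀ r, σ r - r ∈ ArLef.fixIdeal σ := fun r => Ideal.subset_span ⟨r, rfl⟩
  have h0 : σ t - t = t * a := by rw [ht, ha]; ring
  have h1 : σ e - e = b * e := by rw [he, hb]; ring
  have hp0 := span_gen_isPrime B π hπ 0
  have hp1 := span_gen_isPrime B π hπ 1
  have hbt : b ∉ Ideal.span ({t} : Set N) := fun h => htb (Ideal.mem_span_singleton.mp h)
  have hae : a ∉ Ideal.span ({e} : Set N) := fun h => hea (Ideal.mem_span_singleton.mp h)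
  have het : e ∉ Ideal.span ({t} : Set N) := gen_notMem_span_gen B π hπ 1 0 (by decide)
  have hte' : t ∉ Ideal.span ({e} : Set N) := gen_notMem_span_gen B π hπ 0 1 (by decide)
  -- `b = α⁻¹ (Γ ϖ^j' - a)`
  have hb_eq : b = ↑α⁻¹ * (Γ * ϖ ^ j' - a) := by
    rw [← hab, mul_comm b, ← mul_assoc, Units.inv_mul, one_mul]
  -- the ideal
  set c : N := t ^ j' * e ^ (j' + 1) with hc
  have htc : t * c = ϖ ^ (j' + 1) := by
    rw [hc, ← hte]
    ring
  have hec : c = e * ϖ ^ j' := by
    rw [hc, ← hte]
    ring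
  set K₁ : Ideal N := Ideal.span {a, c} with hK₁
  set J : Ideal N := Ideal.span {t} * K₁ ⊔ Ideal.span {b * e} with hJ
  have htaJ : t * a ∈ J := Ideal.mem_sup_left
    (Ideal.mul_mem_mul (Ideal.mem_span_singleton_self t) (Ideal.subset_span (by simp)))
  have hpJ : ϖ ^ (j' + 1) ∈ J := by
    rw [← htc]
    exact Ideal.mem_sup_left
      (Ideal.mul_mem_mul (Ideal.mem_span_singleton_self t) (Ideal.subset_span (by simp)))
  have hbeJ : b * e ∈ J := Ideal.mem_sup_right (Ideal.mem_span_singleton_self _)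
  have hpfix : ϖ ^ (j' + 1) ∈ ArLef.fixIdeal σ := by
    have h2 : Γ * ϖ ^ (j' + 1) ∈ ArLef.fixIdeal σ := by
      have := hfix ϖ
      rwa [hσϖ, add_sub_cancel_left] at this
    have := Ideal.mul_mem_left _ (↑hΓu.unit⁻¹ : N) h2
    rwa [← mul_assoc, IsUnit.val_inv_mul, one_mul] at this
  have hJle : J ≤ ArLef.fixIdeal σ := by
    rw [hJ]
    refine sup_le ?_ ?_
    · rw [Ideal.span_singleton_mul_le_iff]
      intro z hz
      obtain ⟨p, q, rfl⟩ := Ideal.mem_span_pair.mp hz
      have : t * (p * a + q * c) = p * (σ t - t) + q * ϖ ^ (j' + 1) := by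
        rw [h0, ← htc]; ring
      rw [this]
      exact Ideal.add_mem _ (Ideal.mul_mem_left _ _ (hfix t)) (Ideal.mul_mem_left _ _ hpfix)
    · rw [Ideal.span_singleton_le_iff_mem, ← h1]
      exact hfix e
  have hfixeq : ArLef.fixIdeal σ = J := by
    refine fixIdeal_eq B π hπ (σ : N →+* N) J hJle ?_ ?_ ?_
    · intro x
      have := hσB x
      rw [map_pow] at this
      exact (Ideal.span_singleton_le_iff_mem _).mpr hpJ this
    · show σ t - t ∈ J
      rw [h0]
      exact htaJ
    · show σ e - e ∈ J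
      rw [h1]
      exact hbeJ
  rw [hfixeq, hJ]
  -- Step 1
  have reg1 : IsSMulRegular (N ⧸ Ideal.span ({b * e} : Set N)) t := by
    refine regular_mod_of_prime t (b * e) hp0 (gen_mul_eq_zero B π hπ 0) ?_
    intro h
    rcases hp0.mem_or_mem h with h | h
    · exact hbt h
    · exact het h
  have step1 := Groth.Agent.S15315.result N t (b * e) K₁ reg1
  -- Step 2
  have reg2 : IsSMulRegular (N ⧸ Ideal.span ({t} : Set N)) e :=
    regular_mod_of_prime e t hp1 (gen_mul_eq_zero B π hπ 1) hte'
  have step2 := Groth.Agent.S15315.result N e t (Ideal.span ({b} : Set N)) reg2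
  have id2 : Ideal.span ({e} : Set N) * Ideal.span {b} ⊔ Ideal.span {t} =
      Ideal.span ({t, b * e} : Set N) := by
    rw [Ideal.span_singleton_mul_span_singleton, span_pair_eq_sup, sup_comm, mul_comm e b]
  have id2' : Ideal.span ({b} : Set N) ⊔ Ideal.span {t} = Ideal.span ({t, b} : Set N) := by
    rw [span_pair_eq_sup, sup_comm]
  have id2'' : Ideal.span ({e, t} : Set N) = Ideal.span ({t, e} : Set N) := by
    rw [Set.pair_comm]
  rw [id2, id2', id2'', length_quot_maximal B π hπ] at step2
  -- Step 3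
  have reg3 : IsSMulRegular (N ⧸ Ideal.span ({a} : Set N)) e :=
    regular_mod_of_prime e a hp1 (gen_mul_eq_zero B π hπ 1) hae
  have step3 := Groth.Agent.S15315.result N e a (Ideal.span ({b, ϖ ^ j'} : Set N)) reg3
  have id3 : Ideal.span ({e} : Set N) * Ideal.span {b, ϖ ^ j'} ⊔ Ideal.span {a} =
      K₁ ⊔ Ideal.span {b * e} := by
    rw [hK₁, span_singleton_mul_span_pair', span_pair_eq_sup, span_pair_eq_sup, hec,
      mul_comm e b]
    rw [sup_comm, sup_comm (Ideal.span {b * e}), sup_assoc]
  -- Step 4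
  have id4 : Ideal.span ({b, ϖ ^ j'} : Set N) ⊔ Ideal.span {a} =
      Ideal.span ({ϖ ^ j'} : Set N) ⊔ Ideal.span {a} := by
    apply le_antisymm
    · refine sup_le ?_ le_sup_right
      rw [Ideal.span_le]
      rintro x (rfl | rfl)
      · show b ∈ _
        rw [hb_eq]
        refine Ideal.mul_mem_left _ _ (Ideal.sub_mem _ ?_ ?_)
        · exact Ideal.mem_sup_left (Ideal.mul_mem_left _ _ (Ideal.mem_span_singleton_self _))
        · exact Ideal.mem_sup_right (Ideal.mem_span_singleton_self _)
      · exact Ideal.mem_sup_left (Ideal.mem_span_singleton_self _)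
    · refine sup_le ?_ le_sup_right
      rw [Ideal.span_singleton_le_iff_mem]
      exact Ideal.mem_sup_left (Ideal.subset_span (by simp))
  -- Step 5
  have step5 : Module.length N (N ⧸ (Ideal.span ({ϖ ^ j'} : Set N) ⊔ Ideal.span {a})) =
      (j' : ℕ∞) * (Module.length N (N ⧸ Ideal.span ({t, b} : Set N)) +
        Module.length N (N ⧸ Ideal.span ({e, a} : Set N))) := by
    rcases Nat.eq_zero_or_pos j' with hj0 | hjpos
    · subst hj0
      rw [pow_zero, Ideal.span_singleton_one, top_sup_eq]
      simp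
    · obtain ⟨j'', rfl⟩ : ∃ j'', j' = j'' + 1 := ⟨j' - 1, by omega⟩
      have hat : a ∉ Ideal.span ({t} : Set N) := by
        intro h
        have h3 : b * α ∈ Ideal.span ({t} : Set N) := by
          rw [hab]
          refine Ideal.sub_mem _ ?_ h
          have hϖ' : ϖ ^ (j'' + 1) = t * (e * ϖ ^ j'') := by rw [pow_succ, ← hte]; ring
          rw [hϖ', Ideal.mem_span_singleton]
          exact ⟨Γ * (e * ϖ ^ j''), by ring⟩
        have h4 := Ideal.mul_mem_right (↑α⁻¹ : N) _ h3
        rw [mul_assoc, Units.mul_inv, mul_one] at h4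
        exact hbt h4
      have regt : IsSMulRegular (N ⧸ Ideal.span ({a} : Set N)) t :=
        regular_mod_of_prime t a hp0 (gen_mul_eq_zero B π hπ 0) hat
      have regϖ : IsSMulRegular (N ⧸ Ideal.span ({a} : Set N)) ϖ := by
        rw [← hte]
        exact regt.mul reg3
      rw [length_pow_general ϖ a regϖ (j'' + 1)]
      congr 1
      have step6 := Groth.Agent.S15315.result N t a (Ideal.span ({e} : Set N)) regt
      have id6 : Ideal.span ({t} : Set N) * Ideal.span {e} ⊔ Ideal.span {a} =
          Ideal.span ({ϖ, a} : Set N) := by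
        rw [Ideal.span_singleton_mul_span_singleton, hte, span_pair_eq_sup]
      have id6' : Ideal.span ({e} : Set N) ⊔ Ideal.span {a} = Ideal.span ({e, a} : Set N) := by
        rw [span_pair_eq_sup]
      have id6'' : Ideal.span ({t, a} : Set N) = Ideal.span ({t, b} : Set N) := by
        have hϖt : ϖ ^ (j'' + 1) ∈ Ideal.span ({t} : Set N) := by
          have hϖ' : ϖ ^ (j'' + 1) = t * (e * ϖ ^ j'') := by rw [pow_succ, ← hte]; ring
          rw [hϖ', Ideal.mem_span_singleton]
          exact ⟨e * ϖ ^ j'', rfl⟩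
        apply le_antisymm
        · rw [Ideal.span_le]
          rintro x (rfl | rfl)
          · exact Ideal.subset_span (by simp)
          · show a ∈ _
            have : a = Γ * ϖ ^ (j'' + 1) - b * α := by rw [hab]; ring
            rw [this, span_pair_eq_sup]
            refine Ideal.sub_mem _ ?_ ?_
            · exact Ideal.mem_sup_left (Ideal.mul_mem_left _ _ hϖt)
            · exact Ideal.mem_sup_right (Ideal.mul_mem_right _ _ (Ideal.mem_span_singleton_self _))
        · rw [Ideal.span_le]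
          rintro x (rfl | rfl)
          · exact Ideal.subset_span (by simp)
          · show b ∈ _
            rw [hb_eq, span_pair_eq_sup]
            refine Ideal.mul_mem_left _ _ (Ideal.sub_mem _ ?_ ?_)
            · exact Ideal.mem_sup_left (Ideal.mul_mem_left _ _ hϖt)
            · exact Ideal.mem_sup_right (Ideal.mem_span_singleton_self _)
      rw [id6, id6', id6''] at step6
      exact step6
  rw [step1, ← id3, step3, id4, step5, step2]
  push_cast
  ring

end stablen

end Groth.Agent.H76.NodeStruct
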