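import Groth.Agent.H76.NodeStructL

set_option autoImplicit false
set_option linter.unusedSectionVars false
universe u

namespace Groth.Agent.H76.NodeStruct

open IsLocalRing PowerSeries

section ps

variable (B : Type u) [CommRing B] [IsDomain B] [IsDiscreteValuationRing B] (π : B)
  (hπ : Irreducible π)

include hπ

omit hπ in
theorem X_mem_jacobson_ps : (X : PowerSeries B) ∈ Ideal.jacobson (⊥ : Ideal (PowerSeries B)) := by
  rw [IsLocalRing.jacobson_eq_maximalIdeal ⊥ bot_ne_top, mem_maximalIdeal, mem_nonunits_iff]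
  intro h
  have := PowerSeries.isUnit_constantCoeff _ h
  rw [PowerSeries.constantCoeff_X] at this
  exact not_isUnit_zero this

omit hπ in
/-- fixed ideal of a ring endomorphism of `B[[t]]` -/
theorem fixIdeal_ps_eq (σ : PowerSeries B →+* PowerSeries B) (J : Ideal (PowerSeries B))
    (hJ : J ≤ ArLef.fixIdeal σ)
    (hB : ∀ b : B, σ (C b) - C b ∈ J) (h0 : σ X - X ∈ J) :
    ArLef.fixIdeal σ = J := by
  apply le_antisymm _ hJ
  have hfg : (ArLef.fixIdeal σ).FG := IsNoetherian.noetherian _
  have hjac : Ideal.span ({X} : Set (PowerSeries B)) ≤ Ideal.jacobson ⊥ :=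
    (Ideal.span_singleton_le_iff_mem _).mpr (X_mem_jacobson_ps B)
  refine Submodule.le_of_le_smul_of_le_jacobson_bot hfg hjac ?_
  unfold ArLef.fixIdeal
  rw [Ideal.span_le]
  rintro _ ⟨r, rfl⟩
  have hfix : ∀ r, σ r - r ∈ Ideal.span (Set.range fun r => σ r - r) :=
    fun r => Ideal.subset_span ⟨r, rfl⟩
  set r₁ : PowerSeries B := PowerSeries.mk fun p => PowerSeries.coeff (p + 1) r with hr₁
  have hr : r = X * r₁ + C (constantCoeff r) := r.eq_X_mul_shift_add_const
  have key : σ r - r = ((σ (C (constantCoeff r)) - C (constantCoeff r)) + (σ X - X) * σ r₁) +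
      X * (σ r₁ - r₁) := by
    conv_lhs => rw [hr]
    rw [map_add, map_mul]
    ring
  show σ r - r ∈ J ⊔ _
  rw [key]
  refine Submodule.add_mem_sup ?_ ?_
  · exact J.add_mem (hB _) (J.mul_mem_right _ h0)
  · exact Submodule.smul_mem_smul (Ideal.mem_span_singleton_self X) (hfix r₁)

/-- kernel of the reduction map on power series -/
theorem exists_eq_C_mul_of_map_residue_eq_zero (g : PowerSeries B)
    (hg : PowerSeries.map (IsLocalRing.residue B) g = 0) : ∃ g' : PowerSeries B, g = C π * g' := by
  have h : ∀ n, ∃ c : B, PowerSeries.coeff n g = π * c := by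
    intro n
    have := congrArg (PowerSeries.coeff n) hg
    rw [PowerSeries.coeff_map, map_zero, IsLocalRing.residue_eq_zero_iff, hπ.maximalIdeal_eq,
      Ideal.mem_span_singleton'] at this
    obtain ⟨c, hc⟩ := this
    exact ⟨c, by rw [← hc, mul_comm]⟩
  choose c hc using h
  refine ⟨PowerSeries.mk c, ?_⟩
  ext n
  rw [hc n, PowerSeries.coeff_C_mul, PowerSeries.coeff_mk]

theorem ker_map_residue :
    RingHom.ker (PowerSeries.map (IsLocalRing.residue B)) = Ideal.span ({C π} : Set (PowerSeries B)) := by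
  apply le_antisymm
  · intro g hg
    obtain ⟨g', rfl⟩ := exists_eq_C_mul_of_map_residue_eq_zero B π hπ g hg
    exact Ideal.mul_mem_right _ _ (Ideal.mem_span_singleton_self _)
  · rw [Ideal.span_singleton_le_iff_mem, RingHom.mem_ker, PowerSeries.map_C]
    have : IsLocalRing.residue B π = 0 := by
      rw [IsLocalRing.residue_eq_zero_iff, hπ.maximalIdeal_eq]
      exact Ideal.mem_span_singleton_self π
    rw [this, map_zero]

theorem span_C_pi_isPrime : (Ideal.span ({C π} : Set (PowerSeries B))).IsPrime := by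
  rw [← ker_map_residue B π hπ]
  exact RingHom.ker_isPrime _

end ps

end Groth.Agent.H76.NodeStruct
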