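import Groth.Agent.H76.NodeStructN
import Groth.Agent.H76.NodeStructM

set_option autoImplicit false
set_option linter.unusedSectionVars false
universe u

namespace Groth.Agent.H76.NodeStruct

open IsLocalRing PowerSeries

section ps2

variable (B : Type u) [CommRing B] [IsDomain B] [IsDiscreteValuationRing B] (π : B)
  (hπ : Irreducible π)

include hπ

omit hπ in
theorem map_residue_surjective :
    Function.Surjective (PowerSeries.map (IsLocalRing.residue B)) := by
  intro g
  refine ⟨PowerSeries.mk fun n => Function.surjInv IsLocalRing.residue_surjective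
    (PowerSeries.coeff n g), ?_⟩
  ext n
  rw [PowerSeries.coeff_map, PowerSeries.coeff_mk]
  exact Function.surjInv_eq IsLocalRing.residue_surjective _

/-- length over `B[[t]]` of `B[[t]]/(π, f)` equals the length over `k[[t]]` of `k[[t]]/(f̄)`. -/
theorem length_quot_pi_ps (f : PowerSeries B) :
    Module.length (PowerSeries B) (PowerSeries B ⧸ Ideal.span ({C π, f} : Set (PowerSeries B))) =
      Module.length (PowerSeries (ResidueField B)) (PowerSeries (ResidueField B) ⧸
        Ideal.span ({PowerSeries.map (IsLocalRing.residue B) f} :
          Set (PowerSeries (ResidueField B)))) := by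
  have hφsurj := map_residue_surjective B
  let _ : Algebra (PowerSeries B) (PowerSeries (ResidueField B)) :=
    (PowerSeries.map (IsLocalRing.residue B)).toAlgebra
  have h1 := Module.length_eq_of_surjective (S := PowerSeries B) (R := PowerSeries (ResidueField B))
    (M := PowerSeries (ResidueField B) ⧸ Ideal.span ({PowerSeries.map (IsLocalRing.residue B) f} :
          Set (PowerSeries (ResidueField B)))) hφsurj
  refine Eq.trans ?_ h1
  let g : PowerSeries B →ₗ[PowerSeries B] (PowerSeries (ResidueField B) ⧸
      Ideal.span ({PowerSeries.map (IsLocalRing.residue B) f} : Set (PowerSeries (ResidueField B)))) :=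
    ((Submodule.mkQ _).restrictScalars (PowerSeries B)) ∘ₗ
      (Algebra.linearMap (PowerSeries B) (PowerSeries (ResidueField B)))
  have hg : Function.Surjective g := by
    intro y
    obtain ⟨r, rfl⟩ := Submodule.mkQ_surjective _ y
    obtain ⟨s, rfl⟩ := hφsurj r
    exact ⟨s, rfl⟩
  have hker : LinearMap.ker g =
      (Ideal.span ({C π, f} : Set (PowerSeries B)) : Submodule (PowerSeries B) (PowerSeries B)) := by
    ext x
    rw [LinearMap.mem_ker]
    have : g x = Submodule.mkQ _ (PowerSeries.map (IsLocalRing.residue B) x) := rfl
    rw [this, Submodule.mkQ_apply, Submodule.Quotient.mk_eq_zero]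
    have h2 : Ideal.span ({PowerSeries.map (IsLocalRing.residue B) f} :
        Set (PowerSeries (ResidueField B))) =
        Ideal.map (PowerSeries.map (IsLocalRing.residue B)) (Ideal.span ({f} : Set (PowerSeries B))) := by
      rw [Ideal.map_span, Set.image_singleton]
    rw [h2, ← Ideal.mem_comap, Ideal.comap_map_of_surjective _ hφsurj,
      ← RingHom.ker_eq_comap_bot, ker_map_residue B π hπ, span_pair_eq_sup, sup_comm]
  exact ((Submodule.quotEquivOfEq _ _ hker).symm.trans
    (LinearMap.quotKerEquivOfSurjective g hg)).length_eq

end ps2

end Groth.Agent.H76.NodeStruct
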