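import Groth.Agent.H76.NodeStructO

set_option autoImplicit false
set_option linter.unusedSectionVars false
universe u

namespace Groth.Agent.H76.NodeStruct

open IsLocalRing PowerSeries

section ps3

variable (B : Type u) [CommRing B] [IsDomain B] [IsDiscreteValuationRing B] (π : B)
  (hπ : Irreducible π)

include hπ

theorem length_fixIdeal_ps (j : ℕ) (_hj : 1 ≤ j) (γ : B) (hγ : IsUnit γ)
    (σ : PowerSeries B ≃+* PowerSeries B)
    (hσB : ∀ b : B, σ (algebraMap B (PowerSeries B) b) - algebraMap B (PowerSeries B) b ∈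
      Ideal.span ({algebraMap B (PowerSeries B) (π ^ j)} : Set (PowerSeries B)))
    (hσπ : σ (algebraMap B (PowerSeries B) π) = algebraMap B (PowerSeries B) (π + γ * π ^ j))
    (h0 : ¬ (algebraMap B (PowerSeries B) π ∣ σ PowerSeries.X - PowerSeries.X)) :
    Module.length (PowerSeries B) (PowerSeries B ⧸ ArLef.fixIdeal σ) =
      (j : ℕ∞) * Module.length (PowerSeries (IsLocalRing.ResidueField B))
        (PowerSeries (IsLocalRing.ResidueField B) ⧸
          Ideal.span ({PowerSeries.map (IsLocalRing.residue B) (σ PowerSeries.X - PowerSeries.X)} :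
            Set (PowerSeries (IsLocalRing.ResidueField B)))) := by
  have halg : ∀ b : B, algebraMap B (PowerSeries B) b = C b := fun b => rfl
  simp only [halg] at hσB hσπ h0
  set f : PowerSeries B := σ X - X with hf
  have hfix : ∀ r, σ r - r ∈ ArLef.fixIdeal σ := fun r => Ideal.subset_span ⟨r, rfl⟩
  have hγu : IsUnit (C γ : PowerSeries B) := hγ.map _
  set J : Ideal (PowerSeries B) := Ideal.span {(C π) ^ j} ⊔ Ideal.span {f} with hJ
  have hpfix : (C π : PowerSeries B) ^ j ∈ ArLef.fixIdeal σ := by
    have h2 : C γ * (C π : PowerSeries B) ^ j ∈ ArLef.fixIdeal σ := by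
      have := hfix (C π)
      rwa [hσπ, map_add, add_sub_cancel_left, map_mul, map_pow] at this
    have := Ideal.mul_mem_left _ (↑hγu.unit⁻¹ : PowerSeries B) h2
    rwa [← mul_assoc, IsUnit.val_inv_mul, one_mul] at this
  have hJle : J ≤ ArLef.fixIdeal σ :=
    sup_le ((Ideal.span_singleton_le_iff_mem _).mpr hpfix)
      ((Ideal.span_singleton_le_iff_mem _).mpr (hfix X))
  have hfixeq : ArLef.fixIdeal σ = J := by
    refine fixIdeal_ps_eq B (σ : PowerSeries B →+* PowerSeries B) J hJle ?_ ?_
    · intro b
      have := hσB b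
      rw [map_pow] at this
      exact (le_sup_left : Ideal.span {(C π : PowerSeries B) ^ j} ≤ J) this
    · exact Ideal.mem_sup_right (Ideal.mem_span_singleton_self f)
  have hCπ0 : (C π : PowerSeries B) ≠ 0 := by
    intro h
    have := congrArg PowerSeries.constantCoeff h
    rw [PowerSeries.constantCoeff_C, map_zero] at this
    exact hπ.ne_zero this
  have reg : IsSMulRegular (PowerSeries B ⧸ Ideal.span ({f} : Set (PowerSeries B))) (C π : PowerSeries B) := by
    refine regular_mod_of_prime (C π) f (span_C_pi_isPrime B π hπ) ?_ ?_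
    · intro z hz
      exact (mul_eq_zero.mp hz).resolve_left hCπ0
    · intro h
      exact h0 (Ideal.mem_span_singleton.mp h)
  rw [hfixeq, hJ, length_pow_general (C π) f reg j, length_quot_pi_ps B π hπ f]

end ps3

end Groth.Agent.H76.NodeStruct
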