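import Mathlib

set_option autoImplicit false
universe u

namespace Groth.Agent.H76.NodeStruct

/-- Mayer–Vietoris for lengths of quotients by ideals. -/
theorem length_inf_add_length_sup {A : Type u} [CommRing A] (J₁ J₂ : Ideal A) :
    Module.length A (A ⧸ (J₁ ⊓ J₂)) + Module.length A (A ⧸ (J₁ ⊔ J₂)) =
      Module.length A (A ⧸ J₁) + Module.length A (A ⧸ J₂) := by
  let f : (A ⧸ (J₁ ⊓ J₂)) →ₗ[A] (A ⧸ J₁) × (A ⧸ J₂) :=
    LinearMap.prod (Submodule.mapQ (J₁ ⊓ J₂) J₁ LinearMap.id inf_le_left)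
      (Submodule.mapQ (J₁ ⊓ J₂) J₂ LinearMap.id inf_le_right)
  let g : (A ⧸ J₁) × (A ⧸ J₂) →ₗ[A] (A ⧸ (J₁ ⊔ J₂)) :=
    (Submodule.mapQ J₁ (J₁ ⊔ J₂) LinearMap.id le_sup_left).comp (LinearMap.fst A _ _) -
      (Submodule.mapQ J₂ (J₁ ⊔ J₂) LinearMap.id le_sup_right).comp (LinearMap.snd A _ _)
  have hf : Function.Injective f := by
    rw [injective_iff_map_eq_zero]
    intro y hy
    obtain ⟨x, rfl⟩ := Submodule.Quotient.mk_surjective _ y
    have h1 : f (Submodule.Quotient.mk x) = (Submodule.Quotient.mk x, Submodule.Quotient.mk x) := rfl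
    rw [h1, Prod.mk_eq_zero, Submodule.Quotient.mk_eq_zero, Submodule.Quotient.mk_eq_zero] at hy
    rw [Submodule.Quotient.mk_eq_zero]
    exact ⟨hy.1, hy.2⟩
  have hg : Function.Surjective g := by
    intro y
    obtain ⟨x, rfl⟩ := Submodule.Quotient.mk_surjective _ y
    refine ⟨(Submodule.Quotient.mk x, 0), ?_⟩
    show Submodule.mapQ J₁ (J₁ ⊔ J₂) LinearMap.id le_sup_left (Submodule.Quotient.mk x) -
      Submodule.mapQ J₂ (J₁ ⊔ J₂) LinearMap.id le_sup_right 0 = _
    rw [map_zero, sub_zero]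
    rfl
  have H : Function.Exact f g := by
    rintro ⟨y₁, y₂⟩
    obtain ⟨x₁, rfl⟩ := Submodule.Quotient.mk_surjective _ y₁
    obtain ⟨x₂, rfl⟩ := Submodule.Quotient.mk_surjective _ y₂
    have hgz : g (Submodule.Quotient.mk x₁, Submodule.Quotient.mk x₂) =
        Submodule.Quotient.mk (x₁ - x₂) := rfl
    rw [hgz, Submodule.Quotient.mk_eq_zero]
    constructor
    · intro hz
      obtain ⟨j₁, hj₁, j₂, hj₂, hsum⟩ := Submodule.mem_sup.mp hz
      refine ⟨Submodule.Quotient.mk (x₁ - j₁), ?_⟩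
      have h1 : f (Submodule.Quotient.mk (x₁ - j₁)) =
          (Submodule.Quotient.mk (x₁ - j₁), Submodule.Quotient.mk (x₁ - j₁)) := rfl
      rw [h1, Prod.mk.injEq, Submodule.Quotient.eq, Submodule.Quotient.eq]
      constructor
      · have : x₁ - j₁ - x₁ = -j₁ := by ring
        rw [this]
        exact J₁.neg_mem hj₁
      · have : x₁ - j₁ - x₂ = j₂ := by
          have : x₁ - x₂ = j₁ + j₂ := hsum.symm
          linear_combination this
        rw [this]
        exact hj₂
    · rintro ⟨y, hy⟩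
      obtain ⟨x, rfl⟩ := Submodule.Quotient.mk_surjective _ y
      have h1 : f (Submodule.Quotient.mk x) = (Submodule.Quotient.mk x, Submodule.Quotient.mk x) := rfl
      rw [h1, Prod.mk.injEq, Submodule.Quotient.eq, Submodule.Quotient.eq] at hy
      have : x₁ - x₂ = -(x - x₁) + (x - x₂) := by ring
      rw [this]
      exact Submodule.add_mem_sup (J₁.neg_mem hy.1) hy.2
  have := Module.length_eq_add_of_exact f g hf hg H
  rw [Module.length_prod] at this
  exact this.symm

end Groth.Agent.H76.NodeStruct
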