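import Groth.Agent.H76.NodeStructC
import Groth.Agent.H76.NodeStructQ0

set_option autoImplicit false
set_option linter.unusedSectionVars false
universe u

namespace Groth.Agent.H76.NodeStruct

open MvPowerSeries IsLocalRing

section field

variable (k : Type u) [Field k]

theorem span_zero_isPrime : (Ideal.span ({(0 : k)} : Set k)).IsPrime := by
  rw [Ideal.span_singleton_eq_bot.mpr rfl]
  exact Ideal.isPrime_bot

theorem isDomain_quot_zero : IsDomain (k ⧸ Ideal.span ({(0 : k)} : Set k)) := by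
  have := span_zero_isPrime k
  exact Ideal.Quotient.isDomain _

theorem nontrivial_node0 : Nontrivial (ArLef.NodeAlg k 0) := by
  have := isDomain_quot_zero k
  exact (rho k 0 0).domain_nontrivial

theorem isLocalRing_node0 : IsLocalRing (ArLef.NodeAlg k 0) := by
  have := nontrivial_node0 k
  exact IsLocalRing.of_surjective' (Ideal.Quotient.mk _) Ideal.Quotient.mk_surjective

theorem gen_not_isUnit0 (i : Fin 2) : ¬ IsUnit (gen k 0 i) := by
  have := isDomain_quot_zero k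
  intro h
  have hj : ∃ j : Fin 2, i ≠ j := by
    fin_cases i
    · exact ⟨1, by decide⟩
    · exact ⟨0, by decide⟩
  obtain ⟨j, hij⟩ := hj
  have h1 := h.map (rho k 0 j)
  rw [rho_gen_other k 0 j i hij] at h1
  exact not_isUnit_zero h1

theorem span_gen_le_jacobson0 :
    Ideal.span ({gen k 0 0, gen k 0 1} : Set (ArLef.NodeAlg k 0)) ≤ Ideal.jacobson ⊥ := by
  have := isLocalRing_node0 k
  rw [IsLocalRing.jacobson_eq_maximalIdeal ⊥ bot_ne_top, Ideal.span_le]
  rintro x (rfl | rfl)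
  · exact (mem_maximalIdeal _).mpr (gen_not_isUnit0 k 0)
  · exact (mem_maximalIdeal _).mpr (gen_not_isUnit0 k 1)

theorem fixIdeal_eq0 (σ : ArLef.NodeAlg k 0 →+* ArLef.NodeAlg k 0) (J : Ideal (ArLef.NodeAlg k 0))
    (hJ : J ≤ ArLef.fixIdeal σ)
    (hB : ∀ b : k, σ (algebraMap k _ b) - algebraMap k _ b ∈ J)
    (h0 : σ (gen k 0 0) - gen k 0 0 ∈ J) (h1 : σ (gen k 0 1) - gen k 0 1 ∈ J) :
    ArLef.fixIdeal σ = J := by
  apply le_antisymm _ hJ
  have hfg : (ArLef.fixIdeal σ).FG := IsNoetherian.noetherian _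
  refine Submodule.le_of_le_smul_of_le_jacobson_bot hfg (span_gen_le_jacobson0 k) ?_
  unfold ArLef.fixIdeal
  rw [Ideal.span_le]
  rintro _ ⟨r, rfl⟩
  obtain ⟨b, r₁, r₂, rfl⟩ := exists_decomp k 0 r
  have hfix : ∀ r, σ r - r ∈ Ideal.span (Set.range fun r => σ r - r) :=
    fun r => Ideal.subset_span ⟨r, rfl⟩
  have key : σ (algebraMap k _ b + gen k 0 0 * r₁ + gen k 0 1 * r₂) -
      (algebraMap k _ b + gen k 0 0 * r₁ + gen k 0 1 * r₂) =
      ((σ (algebraMap k _ b) - algebraMap k _ b) + (σ (gen k 0 0) - gen k 0 0) * σ r₁ +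
        (σ (gen k 0 1) - gen k 0 1) * σ r₂) +
      (gen k 0 0 * (σ r₁ - r₁) + gen k 0 1 * (σ r₂ - r₂)) := by
    rw [map_add, map_add, map_mul, map_mul]
    ring
  show σ (algebraMap k _ b + gen k 0 0 * r₁ + gen k 0 1 * r₂) -
      (algebraMap k _ b + gen k 0 0 * r₁ + gen k 0 1 * r₂) ∈ J ⊔ _
  rw [key]
  refine Submodule.add_mem_sup ?_ ?_
  · exact J.add_mem (J.add_mem (hB b) (J.mul_mem_right _ h0)) (J.mul_mem_right _ h1)
  · refine Submodule.add_mem _ ?_ ?_
    · exact Submodule.smul_mem_smul (Ideal.subset_span (by simp)) (hfix r₁)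
    · exact Submodule.smul_mem_smul (Ideal.subset_span (by simp)) (hfix r₂)

theorem isUnit_or_mem_span0 (r : ArLef.NodeAlg k 0) :
    IsUnit r ∨ r ∈ Ideal.span ({gen k 0 0, gen k 0 1} : Set (ArLef.NodeAlg k 0)) := by
  obtain ⟨b, r₁, r₂, rfl⟩ := exists_decomp k 0 r
  have hmem : gen k 0 0 * r₁ + gen k 0 1 * r₂ ∈
      Ideal.span ({gen k 0 0, gen k 0 1} : Set (ArLef.NodeAlg k 0)) :=
    Ideal.add_mem _ (Ideal.mul_mem_right _ _ (Ideal.subset_span (by simp)))
      (Ideal.mul_mem_right _ _ (Ideal.subset_span (by simp)))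
  by_cases hb : b = 0
  · right
    have hz : algebraMap k (ArLef.NodeAlg k 0) b = 0 := by rw [hb]; exact map_zero _
    rw [hz, zero_add]
    exact hmem
  · left
    have hloc := isLocalRing_node0 k
    have h1 : IsUnit (algebraMap k (ArLef.NodeAlg k 0) b) := (isUnit_iff_ne_zero.mpr hb).map _
    have h2 : gen k 0 0 * r₁ + gen k 0 1 * r₂ ∈ maximalIdeal (ArLef.NodeAlg k 0) := by
      have := span_gen_le_jacobson0 k hmem
      rwa [IsLocalRing.jacobson_eq_maximalIdeal ⊥ bot_ne_top] at this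
    by_contra hnu
    have h3 : algebraMap k (ArLef.NodeAlg k 0) b + gen k 0 0 * r₁ + gen k 0 1 * r₂ ∈
        maximalIdeal (ArLef.NodeAlg k 0) := (mem_maximalIdeal _).mpr hnu
    have h4 : algebraMap k (ArLef.NodeAlg k 0) b ∈ maximalIdeal (ArLef.NodeAlg k 0) := by
      have := Ideal.sub_mem _ h3 h2
      convert this using 1
      ring
    exact (mem_maximalIdeal _).mp h4 h1

theorem length_quot_maximal0 :
    Module.length (ArLef.NodeAlg k 0) (ArLef.NodeAlg k 0 ⧸
      Ideal.span ({gen k 0 0, gen k 0 1} : Set (ArLef.NodeAlg k 0))) = 1 := by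
  have hloc := isLocalRing_node0 k
  have : Ideal.span ({gen k 0 0, gen k 0 1} : Set (ArLef.NodeAlg k 0)) =
      maximalIdeal (ArLef.NodeAlg k 0) := by
    apply le_antisymm
    · have := span_gen_le_jacobson0 k
      rwa [IsLocalRing.jacobson_eq_maximalIdeal ⊥ bot_ne_top] at this
    · intro r hr
      exact (isUnit_or_mem_span0 k r).resolve_left ((mem_maximalIdeal r).mp hr)
  rw [Module.length_eq_one_iff, isSimpleModule_iff_isCoatom, this]
  exact (maximalIdeal.isMaximal _).out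


theorem span_gen_inf_span_gen0 :
    Ideal.span ({gen k 0 0} : Set (ArLef.NodeAlg k 0)) ⊓
      Ideal.span ({gen k 0 1} : Set (ArLef.NodeAlg k 0)) = ⊥ := by
  have hdom := isDomain_quot_zero k
  rw [eq_bot_iff]
  rintro x ⟨h0, h1⟩
  obtain ⟨r, rfl⟩ := Ideal.mem_span_singleton'.mp h0
  have h1' : r * gen k 0 0 ∈ RingHom.ker (rho k 0 0) := by
    rw [ker_rho k 0 0 1 (by decide)]; exact h1
  rw [RingHom.mem_ker, map_mul, rho_gen_self] at h1'
  have hX : (X () : MvPowerSeries Unit (k ⧸ Ideal.span ({(0 : k)} : Set k))) ≠ 0 := by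
    intro h
    have h1 := congrArg (coeff (Finsupp.single () 1)) h
    rw [coeff_X, if_pos rfl, map_zero] at h1
    exact one_ne_zero h1
  have hr : rho k 0 0 r = 0 := (mul_eq_zero.mp h1').resolve_right hX
  have hr' : r ∈ RingHom.ker (rho k 0 0) := hr
  rw [ker_rho k 0 0 1 (by decide)] at hr'
  obtain ⟨s, rfl⟩ := Ideal.mem_span_singleton'.mp hr'
  show s * gen k 0 1 * gen k 0 0 = 0
  have : gen k 0 0 * gen k 0 1 = 0 := by
    rw [gen_mul_gen]; exact map_zero _
  calc s * gen k 0 1 * gen k 0 0 = s * (gen k 0 0 * gen k 0 1) := by ring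
    _ = 0 := by rw [this, mul_zero]

/-- the fixed ideal of a `k`-algebra endomorphism scaling the two branches -/
theorem fixIdeal_scale0 (σ : ArLef.NodeAlg k 0 →ₐ[k] ArLef.NodeAlg k 0)
    (α β : ArLef.NodeAlg k 0)
    (ht : σ (gen k 0 0) = α * gen k 0 0) (he : σ (gen k 0 1) = β * gen k 0 1) :
    ArLef.fixIdeal σ = Ideal.span ({(α - 1) * gen k 0 0, (β - 1) * gen k 0 1} :
      Set (ArLef.NodeAlg k 0)) := by
  have e0 : σ (gen k 0 0) - gen k 0 0 = (α - 1) * gen k 0 0 := by rw [ht]; ring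
  have e1 : σ (gen k 0 1) - gen k 0 1 = (β - 1) * gen k 0 1 := by rw [he]; ring
  refine fixIdeal_eq0 k (σ : ArLef.NodeAlg k 0 →+* ArLef.NodeAlg k 0) _ ?_ ?_ ?_ ?_
  · rw [Ideal.span_le]
    rintro x (rfl | rfl)
    · rw [← e0]; exact Ideal.subset_span ⟨_, rfl⟩
    · rw [← e1]; exact Ideal.subset_span ⟨_, rfl⟩
  · intro b
    have : σ (algebraMap k _ b) = algebraMap k _ b := σ.commutes b
    show σ (algebraMap k _ b) - algebraMap k _ b ∈ _
    rw [this, sub_self]
    exact Ideal.zero_mem _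
  · show σ (gen k 0 0) - gen k 0 0 ∈ _
    rw [e0]; exact Ideal.subset_span (by simp)
  · show σ (gen k 0 1) - gen k 0 1 ∈ _
    rw [e1]; exact Ideal.subset_span (by simp)

theorem length_branches0 (a b : ArLef.NodeAlg k 0) :
    Module.length (ArLef.NodeAlg k 0) (ArLef.NodeAlg k 0 ⧸
        Ideal.span ({a * gen k 0 0, b * gen k 0 1} : Set (ArLef.NodeAlg k 0))) + 1 =
      Module.length (ArLef.NodeAlg k 0) (ArLef.NodeAlg k 0 ⧸
        (Ideal.span ({a * gen k 0 0, b * gen k 0 1} : Set (ArLef.NodeAlg k 0)) ⊔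
          Ideal.span ({gen k 0 0} : Set (ArLef.NodeAlg k 0)))) +
      Module.length (ArLef.NodeAlg k 0) (ArLef.NodeAlg k 0 ⧸
        (Ideal.span ({a * gen k 0 0, b * gen k 0 1} : Set (ArLef.NodeAlg k 0)) ⊔
          Ideal.span ({gen k 0 1} : Set (ArLef.NodeAlg k 0)))) := by
  set I := Ideal.span ({a * gen k 0 0, b * gen k 0 1} : Set (ArLef.NodeAlg k 0)) with hI
  have hIle : I ≤ Ideal.span ({gen k 0 0, gen k 0 1} : Set (ArLef.NodeAlg k 0)) := by
    rw [hI, Ideal.span_le]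
    rintro x (rfl | rfl)
    · exact Ideal.mul_mem_left _ _ (Ideal.subset_span (by simp))
    · exact Ideal.mul_mem_left _ _ (Ideal.subset_span (by simp))
  have hsup : (I ⊔ Ideal.span ({gen k 0 0} : Set (ArLef.NodeAlg k 0))) ⊔
      (I ⊔ Ideal.span ({gen k 0 1} : Set (ArLef.NodeAlg k 0))) =
      Ideal.span ({gen k 0 0, gen k 0 1} : Set (ArLef.NodeAlg k 0)) := by
    apply le_antisymm
    · refine sup_le (sup_le hIle ?_) (sup_le hIle ?_)
      · exact Ideal.span_mono (by simp)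
      · exact Ideal.span_mono (by simp)
    · rw [Ideal.span_le]
      rintro x (rfl | rfl)
      · exact Ideal.mem_sup_left (Ideal.mem_sup_right (Ideal.mem_span_singleton_self _))
      · exact Ideal.mem_sup_right (Ideal.mem_sup_right (Ideal.mem_span_singleton_self _))
  have hinf : (I ⊔ Ideal.span ({gen k 0 0} : Set (ArLef.NodeAlg k 0))) ⊓
      (I ⊔ Ideal.span ({gen k 0 1} : Set (ArLef.NodeAlg k 0))) = I := by
    apply le_antisymm _ (le_inf le_sup_left le_sup_left)
    rintro x ⟨h0, h1⟩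
    obtain ⟨i₁, hi₁, y₁, hy₁, rfl⟩ := Submodule.mem_sup.mp h0
    obtain ⟨i₂, hi₂, y₂, hy₂, hx⟩ := Submodule.mem_sup.mp h1
    obtain ⟨r, rfl⟩ := Ideal.mem_span_singleton'.mp hy₁
    obtain ⟨s, rfl⟩ := Ideal.mem_span_singleton'.mp hy₂
    -- r t - s e = i₂ - i₁ ∈ I
    have hd : i₂ - i₁ ∈ I := I.sub_mem hi₂ hi₁
    rw [hI, Ideal.mem_span_pair] at hd
    obtain ⟨u, v, huv⟩ := hd
    have hz : (r - u * a) * gen k 0 0 = (s + v * b) * gen k 0 1 := by
      have : i₁ + r * gen k 0 0 = i₂ + s * gen k 0 1 := hx.symm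
      linear_combination this - huv
    have hmem : (r - u * a) * gen k 0 0 ∈
        Ideal.span ({gen k 0 0} : Set (ArLef.NodeAlg k 0)) ⊓
          Ideal.span ({gen k 0 1} : Set (ArLef.NodeAlg k 0)) := by
      refine ⟨Ideal.mul_mem_left _ _ (Ideal.mem_span_singleton_self _), ?_⟩
      rw [hz]
      exact Ideal.mul_mem_left _ _ (Ideal.mem_span_singleton_self _)
    rw [span_gen_inf_span_gen0] at hmem
    have hz0 : (r - u * a) * gen k 0 0 = 0 := hmem
    have hrt : r * gen k 0 0 = u * (a * gen k 0 0) := by linear_combination hz0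
    refine I.add_mem hi₁ ?_
    rw [hrt]
    exact Ideal.mul_mem_left _ _ (Ideal.subset_span (by simp))
  have hMV := length_inf_add_length_sup (I ⊔ Ideal.span ({gen k 0 0} : Set (ArLef.NodeAlg k 0)))
    (I ⊔ Ideal.span ({gen k 0 1} : Set (ArLef.NodeAlg k 0)))
  rw [hinf, hsup, length_quot_maximal0] at hMV
  exact hMV

end field

end Groth.Agent.H76.NodeStruct
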