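import Groth.Agent.H76.NodeStructM

set_option autoImplicit false
set_option linter.unusedSectionVars false
universe u

namespace Groth.Agent.H76.NodeStruct

open MvPowerSeries IsLocalRing

section general

variable {A : Type u} [CommRing A]

theorem span_pair_le' {x y : A} {I : Ideal A} (hx : x ∈ I) (hy : y ∈ I) :
    Ideal.span ({x, y} : Set A) ≤ I := by
  rw [Ideal.span_le]
  rintro z (rfl | rfl)
  · exact hx
  · exact hy

theorem colon_span_mul (d : A) (hd : ∀ z, d * z = 0 → z = 0) (K : Ideal A) :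
    (Ideal.span {d} * K).colon ({d} : Set A) = K := by
  ext r
  rw [Submodule.mem_colon_singleton, smul_eq_mul, Ideal.mem_span_singleton_mul]
  constructor
  · rintro ⟨z, hz, hzr⟩
    have h1 : d * (z - r) = 0 := by rw [mul_sub, hzr]; ring
    have h2 := hd _ h1
    rw [sub_eq_zero] at h2
    rwa [← h2]
  · intro hr
    exact ⟨r, hr, mul_comm _ _⟩

theorem length_mul_general [IsNoetherianRing A] (x y z : A)
    (hreg : IsSMulRegular (A ⧸ Ideal.span ({z} : Set A)) x) :
    Module.length A (A ⧸ (Ideal.span ({x * y} : Set A) ⊔ Ideal.span {z})) =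
      Module.length A (A ⧸ Ideal.span ({x, z} : Set A)) +
        Module.length A (A ⧸ Ideal.span ({y, z} : Set A)) := by
  have := Groth.Agent.S15315.result A x z (Ideal.span ({y} : Set A)) hreg
  rw [Ideal.span_singleton_mul_span_singleton] at this
  rw [this, span_pair_eq_sup y z]

end general

section stab

variable (B : Type u) [CommRing B] [IsDomain B] [IsDiscreteValuationRing B] (π : B)
  (hπ : Irreducible π)

include hπ

theorem gen_pow_mul_eq_zero (i : Fin 2) (n : ℕ) (z : ArLef.NodeAlg B π)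
    (hz : gen B π i ^ n * z = 0) : z = 0 := by
  induction n with
  | zero => simpa using hz
  | succ n ih =>
    apply ih
    apply gen_mul_eq_zero B π hπ i
    rw [← mul_assoc, ← pow_succ']
    exact hz

/-- the standing relations in the branch-stabilizing case. -/
theorem stab_setup (j : ℕ) (hj : 1 ≤ j) (γ : B) (hγ : IsUnit γ)
    (σ : ArLef.NodeAlg B π ≃+* ArLef.NodeAlg B π)
    (hσB : ∀ b : B, σ (algebraMap B (ArLef.NodeAlg B π) b) - algebraMap B (ArLef.NodeAlg B π) b ∈
      Ideal.span ({algebraMap B (ArLef.NodeAlg B π) (π ^ j)} : Set (ArLef.NodeAlg B π)))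
    (hσπ : σ (algebraMap B (ArLef.NodeAlg B π) π) = algebraMap B (ArLef.NodeAlg B π) (π + γ * π ^ j))
    (α β : (ArLef.NodeAlg B π)ˣ)
    (ht : σ (gen B π 0) = (α : ArLef.NodeAlg B π) * gen B π 0)
    (he : σ (gen B π 1) = (β : ArLef.NodeAlg B π) * gen B π 1) :
    ((α : ArLef.NodeAlg B π) * β = 1 + algebraMap B (ArLef.NodeAlg B π) γ *
        (algebraMap B (ArLef.NodeAlg B π) π) ^ (j - 1)) ∧
      ArLef.fixIdeal σ = Ideal.span ({(algebraMap B (ArLef.NodeAlg B π) π) ^ j,
        ((α : ArLef.NodeAlg B π) - 1) * gen B π 0,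
        ((β : ArLef.NodeAlg B π) - 1) * gen B π 1} : Set (ArLef.NodeAlg B π)) := by
  set N := ArLef.NodeAlg B π with hN
  set t : N := gen B π 0 with ht_def
  set e : N := gen B π 1 with he_def
  set ϖ : N := algebraMap B N π with hϖ
  set Γ : N := algebraMap B N γ with hΓ
  have hΓu : IsUnit Γ := hγ.map _
  have hte : t * e = ϖ := gen_mul_gen B π
  obtain ⟨j', rfl⟩ : ∃ j', j = j' + 1 := ⟨j - 1, by omega⟩
  have hσϖ : σ ϖ = ϖ + Γ * ϖ ^ (j' + 1) := by
    rw [hσπ, map_add, map_mul, map_pow]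
  have hαβ : (α : N) * β = 1 + Γ * ϖ ^ j' := by
    have h1 : σ (t * e) = ϖ + Γ * ϖ ^ (j' + 1) := by rw [hte, hσϖ]
    rw [map_mul, ht, he] at h1
    have h2 : ϖ * ((α : N) * β - (1 + Γ * ϖ ^ j')) = 0 := by
      rw [pow_succ] at h1
      rw [← hte] at h1 ⊢
      linear_combination h1
    exact sub_eq_zero.mp (pi_mul_eq_zero B π hπ _ h2)
  refine ⟨by simpa using hαβ, ?_⟩
  have hfix : ∀ r, σ r - r ∈ ArLef.fixIdeal σ := fun r => Ideal.subset_span ⟨r, rfl⟩
  have h0 : σ t - t = ((α : N) - 1) * t := by rw [ht]; ring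
  have h1 : σ e - e = ((β : N) - 1) * e := by rw [he]; ring
  have hpfix : ϖ ^ (j' + 1) ∈ ArLef.fixIdeal σ := by
    have h2 : Γ * ϖ ^ (j' + 1) ∈ ArLef.fixIdeal σ := by
      have := hfix ϖ
      rwa [hσϖ, add_sub_cancel_left] at this
    have := Ideal.mul_mem_left _ (↑hΓu.unit⁻¹ : N) h2
    rwa [← mul_assoc, IsUnit.val_inv_mul, one_mul] at this
  set J : Ideal N := Ideal.span ({ϖ ^ (j' + 1), ((α : N) - 1) * t, ((β : N) - 1) * e} : Set N)
    with hJ
  have hJle : J ≤ ArLef.fixIdeal σ := by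
    rw [hJ, Ideal.span_le]
    rintro x (rfl | rfl | rfl)
    · exact hpfix
    · rw [← h0]; exact hfix t
    · rw [← h1]; exact hfix e
  refine fixIdeal_eq B π hπ (σ : N →+* N) J hJle ?_ ?_ ?_
  · intro x
    have := hσB x
    rw [map_pow] at this
    refine (Ideal.span_singleton_le_iff_mem _).mpr ?_ this
    exact Ideal.subset_span (Or.inl rfl)
  · show σ t - t ∈ J
    rw [h0]
    exact Ideal.subset_span (by simp)
  · show σ e - e ∈ J
    rw [h1]
    exact Ideal.subset_span (by simp)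

end stab

end Groth.Agent.H76.NodeStruct
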