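import Groth.Agent.H76.NodeStructR

set_option autoImplicit false
set_option linter.unusedSectionVars false
universe u

namespace Groth.Agent.H76.NodeStruct

open MvPowerSeries IsLocalRing

section stab

variable (B : Type u) [CommRing B] [IsDomain B] [IsDiscreteValuationRing B] (π : B)
  (hπ : Irreducible π)

include hπ

local notation "𝒩" => ArLef.NodeAlg B π

set_option maxHeartbeats 800000 in
/-- residual fixed-point length, both branches in the divisorial part with multiplicities
`i₁ ≤ i₂ < j`. -/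
theorem colon_length_mid (j i₁ i₂ : ℕ) (h12 : i₁ ≤ i₂) (h2j : i₂ < j) (γ : B) (hγ : IsUnit γ)
    (σ : ArLef.NodeAlg B π ≃+* ArLef.NodeAlg B π)
    (hσB : ∀ c : B, σ (algebraMap B (ArLef.NodeAlg B π) c) - algebraMap B (ArLef.NodeAlg B π) c ∈
      Ideal.span ({algebraMap B (ArLef.NodeAlg B π) (π ^ j)} : Set (ArLef.NodeAlg B π)))
    (hσπ : σ (algebraMap B (ArLef.NodeAlg B π) π) = algebraMap B (ArLef.NodeAlg B π) (π + γ * π ^ j))
    (α β : (ArLef.NodeAlg B π)ˣ)
    (ht : σ (gen B π 0) = (α : ArLef.NodeAlg B π) * gen B π 0)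
    (he : σ (gen B π 1) = (β : ArLef.NodeAlg B π) * gen B π 1)
    (a b : ArLef.NodeAlg B π)
    (ha : (α : ArLef.NodeAlg B π) - 1 = gen B π 0 ^ i₁ * gen B π 1 ^ i₂ * a)
    (hb : (β : ArLef.NodeAlg B π) - 1 = gen B π 0 ^ i₁ * gen B π 1 ^ i₂ * b)
    (hea : ¬ (gen B π 1 ∣ a)) (htb : ¬ (gen B π 0 ∣ b)) :
    Module.length (ArLef.NodeAlg B π) (ArLef.NodeAlg B π ⧸
        (ArLef.fixIdeal σ).colon ({gen B π 0 ^ i₁ * gen B π 1 ^ i₂} : Set (ArLef.NodeAlg B π))) =
      1 + ((j - i₁ : ℕ) : ℕ∞) * Module.length (ArLef.NodeAlg B π) (ArLef.NodeAlg B π ⧸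
          Ideal.span ({gen B π 0, b} : Set (ArLef.NodeAlg B π))) +
        ((j - i₂ : ℕ) : ℕ∞) * Module.length (ArLef.NodeAlg B π) (ArLef.NodeAlg B π ⧸
          Ideal.span ({gen B π 1, a} : Set (ArLef.NodeAlg B π))) := by
  obtain ⟨hαβ, hfixeq⟩ := stab_setup B π hπ j (by omega) γ hγ σ hσB hσπ α β ht he
  set t : 𝒩 := gen B π 0 with ht_def
  set e : 𝒩 := gen B π 1 with he_def
  set ϖ : 𝒩 := algebraMap B 𝒩 π with hϖ
  set Γ : 𝒩 := algebraMap B 𝒩 γ with hΓ
  have hΓu : IsUnit Γ := hγ.map _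
  have hte : t * e = ϖ := gen_mul_gen B π
  obtain ⟨p, hp⟩ : ∃ p, j = i₁ + (p + 1) := ⟨j - i₁ - 1, by omega⟩
  obtain ⟨q, hq⟩ : ∃ q, j = i₂ + (q + 1) := ⟨j - i₂ - 1, by omega⟩
  have hqp : q ≤ p := by omega
  have hm1 : j - i₁ = p + 1 := by omega
  have hm2 : j - i₂ = q + 1 := by omega
  have hj1a : j - 1 = i₁ + p := by omega
  have hj1b : j - 1 = i₂ + q := by omega
  set d : 𝒩 := t ^ i₁ * e ^ i₂ with hd
  have hdreg : ∀ z, d * z = 0 → z = 0 := by
    intro z hz
    apply gen_pow_mul_eq_zero B π hπ 1 i₂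
    apply gen_pow_mul_eq_zero B π hπ 0 i₁
    rw [← mul_assoc]
    exact hz
  have hϖj : ϖ ^ j = d * (t * (t ^ p * e ^ (q + 1))) := by
    rw [← hte, mul_pow, hd]
    nth_rewrite 1 [hp]
    nth_rewrite 1 [hq]
    ring
  have hϖj1 : ϖ ^ (j - 1) = d * (t ^ p * e ^ q) := by
    rw [← hte, mul_pow, hd]
    nth_rewrite 1 [hj1a]
    nth_rewrite 1 [hj1b]
    ring
  -- the relation between `a` and `b`
  have hα : (α : 𝒩) = 1 + d * a := by rw [← ha]; ring
  have hβ : (β : 𝒩) = 1 + d * b := by rw [← hb]; ring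
  have hab : b * α = Γ * (t ^ p * e ^ q) - a := by
    have h1 : d * (a + b + d * a * b - Γ * (t ^ p * e ^ q)) = 0 := by
      have := hαβ
      rw [hϖj1, hα, hβ] at this
      linear_combination this
    have h2 := hdreg _ h1
    rw [hα]
    linear_combination h2
  have hb_eq : b = ↑α⁻¹ * (Γ * (t ^ p * e ^ q) - a) := by
    rw [← hab, mul_comm b, ← mul_assoc, Units.inv_mul, one_mul]
  have hp0 := span_gen_isPrime B π hπ 0
  have hp1 := span_gen_isPrime B π hπ 1
  have hbt : b ∉ Ideal.span ({t} : Set 𝒩) := fun h => htb (Ideal.mem_span_singleton.mp h)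
  have hae : a ∉ Ideal.span ({e} : Set 𝒩) := fun h => hea (Ideal.mem_span_singleton.mp h)
  have het : e ∉ Ideal.span ({t} : Set 𝒩) := gen_notMem_span_gen B π hπ 1 0 (by decide)
  have hte' : t ∉ Ideal.span ({e} : Set 𝒩) := gen_notMem_span_gen B π hπ 0 1 (by decide)
  -- the colon ideal
  set c : 𝒩 := t ^ p * e ^ (q + 1) with hc
  set K₁ : Ideal 𝒩 := Ideal.span {a, c} with hK₁
  set K : Ideal 𝒩 := Ideal.span {t} * K₁ ⊔ Ideal.span {b * e} with hK
  have hfixK : ArLef.fixIdeal σ = Ideal.span {d} * K := by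
    rw [hfixeq, hK, hK₁, Ideal.mul_sup, ← mul_assoc, Ideal.span_singleton_mul_span_singleton,
      Ideal.span_singleton_mul_span_singleton, span_singleton_mul_span_pair']
    apply le_antisymm
    · rw [Ideal.span_le]
      rintro x (rfl | rfl | rfl)
      · rw [hϖj]
        refine Ideal.mem_sup_left (Ideal.subset_span ?_)
        right
        show d * (t * c) = d * t * c
        ring
      · refine Ideal.mem_sup_left (Ideal.subset_span ?_)
        left
        show ((α : 𝒩) - 1) * t = d * t * a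
        rw [ha]; ring
      · refine Ideal.mem_sup_right ?_
        have : ((β : 𝒩) - 1) * e = d * (b * e) := by rw [hb]; ring
        rw [this]
        exact Ideal.mem_span_singleton_self _
    · refine sup_le ?_ ?_
      · rw [Ideal.span_le]
        rintro x (rfl | rfl)
        · refine Ideal.subset_span ?_
          right; left
          show d * t * a = ((α : 𝒩) - 1) * t
          rw [ha]; ring
        · refine Ideal.subset_span ?_
          left
          show d * t * c = ϖ ^ j
          rw [hϖj]; ring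
      · rw [Ideal.span_singleton_le_iff_mem]
        refine Ideal.subset_span ?_
        right; right
        show d * (b * e) = ((β : 𝒩) - 1) * e
        rw [hb]; ring
  rw [hfixK, colon_span_mul d hdreg K, hK]
  -- Step 1
  have reg1 : IsSMulRegular (𝒩 ⧸ Ideal.span ({b * e} : Set 𝒩)) t := by
    refine regular_mod_of_prime t (b * e) hp0 (gen_mul_eq_zero B π hπ 0) ?_
    intro h
    rcases hp0.mem_or_mem h with h | h
    · exact hbt h
    · exact het h
  have step1 := Groth.Agent.S15315.result 𝒩 t (b * e) K₁ reg1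
  -- Step 2
  have reg2 : IsSMulRegular (𝒩 ⧸ Ideal.span ({t} : Set 𝒩)) e :=
    regular_mod_of_prime e t hp1 (gen_mul_eq_zero B π hπ 1) hte'
  have step2 := Groth.Agent.S15315.result 𝒩 e t (Ideal.span ({b} : Set 𝒩)) reg2
  have id2 : Ideal.span ({e} : Set 𝒩) * Ideal.span {b} ⊔ Ideal.span {t} =
      Ideal.span ({t, b * e} : Set 𝒩) := by
    rw [Ideal.span_singleton_mul_span_singleton, span_pair_eq_sup, sup_comm, mul_comm e b]
  have id2' : Ideal.span ({b} : Set 𝒩) ⊔ Ideal.span {t} = Ideal.span ({t, b} : Set 𝒩) := by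
    rw [span_pair_eq_sup, sup_comm]
  have id2'' : Ideal.span ({e, t} : Set 𝒩) = Ideal.span ({t, e} : Set 𝒩) := by
    rw [Set.pair_comm]
  rw [id2, id2', id2'', length_quot_maximal B π hπ] at step2
  -- Step 3
  have reg3 : IsSMulRegular (𝒩 ⧸ Ideal.span ({a} : Set 𝒩)) e :=
    regular_mod_of_prime e a hp1 (gen_mul_eq_zero B π hπ 1) hae
  have step3 := Groth.Agent.S15315.result 𝒩 e a (Ideal.span ({b, t ^ p * e ^ q} : Set 𝒩)) reg3
  have id3 : Ideal.span ({e} : Set 𝒩) * Ideal.span {b, t ^ p * e ^ q} ⊔ Ideal.span {a} =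
      K₁ ⊔ Ideal.span {b * e} := by
    have hec : c = e * (t ^ p * e ^ q) := by rw [hc]; ring
    rw [hK₁, span_singleton_mul_span_pair', span_pair_eq_sup, span_pair_eq_sup, hec,
      mul_comm e b]
    rw [sup_comm, sup_comm (Ideal.span {b * e}), sup_assoc]
  -- Step 4
  have id4 : Ideal.span ({b, t ^ p * e ^ q} : Set 𝒩) ⊔ Ideal.span {a} =
      Ideal.span ({t ^ p * e ^ q} : Set 𝒩) ⊔ Ideal.span {a} := by
    apply le_antisymm
    · refine sup_le (span_pair_le' ?_ ?_) le_sup_right
      · rw [hb_eq]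
        refine Ideal.mul_mem_left _ _ (Ideal.sub_mem _ ?_ ?_)
        · exact Ideal.mem_sup_left (Ideal.mul_mem_left _ _ (Ideal.mem_span_singleton_self _))
        · exact Ideal.mem_sup_right (Ideal.mem_span_singleton_self _)
      · exact Ideal.mem_sup_left (Ideal.mem_span_singleton_self _)
    · refine sup_le ?_ le_sup_right
      rw [Ideal.span_singleton_le_iff_mem]
      exact Ideal.mem_sup_left (Ideal.subset_span (by simp))
  -- Step 5
  have step5 : Module.length 𝒩 (𝒩 ⧸ (Ideal.span ({t ^ p * e ^ q} : Set 𝒩) ⊔ Ideal.span {a})) =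
      (p : ℕ∞) * Module.length 𝒩 (𝒩 ⧸ Ideal.span ({t, b} : Set 𝒩)) +
        (q : ℕ∞) * Module.length 𝒩 (𝒩 ⧸ Ideal.span ({e, a} : Set 𝒩)) := by
    rcases Nat.eq_zero_or_pos p with hp0' | hppos
    · subst hp0'
      have hq0 : q = 0 := by omega
      subst hq0
      rw [pow_zero, pow_zero, one_mul, Ideal.span_singleton_one, top_sup_eq]
      simp
    · have htp : t ^ p ∈ Ideal.span ({t} : Set 𝒩) := by
        obtain ⟨p', rfl⟩ : ∃ p', p = p' + 1 := ⟨p - 1, by omega⟩
        rw [pow_succ]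
        exact Ideal.mul_mem_left _ _ (Ideal.mem_span_singleton_self _)
      have hat : a ∉ Ideal.span ({t} : Set 𝒩) := by
        intro h
        have h3 : b * α ∈ Ideal.span ({t} : Set 𝒩) := by
          rw [hab]
          refine Ideal.sub_mem _ ?_ h
          exact Ideal.mul_mem_left _ _ (Ideal.mul_mem_right _ _ htp)
        have h4 := Ideal.mul_mem_right (↑α⁻¹ : 𝒩) _ h3
        rw [mul_assoc, Units.mul_inv, mul_one] at h4
        exact hbt h4
      have regt : IsSMulRegular (𝒩 ⧸ Ideal.span ({a} : Set 𝒩)) t :=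
        regular_mod_of_prime t a hp0 (gen_mul_eq_zero B π hπ 0) hat
      have regtp : IsSMulRegular (𝒩 ⧸ Ideal.span ({a} : Set 𝒩)) (t ^ p) := regt.pow p
      rw [length_mul_general (t ^ p) (e ^ q) a regtp, span_pair_eq_sup (t ^ p) a,
        span_pair_eq_sup (e ^ q) a, length_pow_general t a regt p, length_pow_general e a reg3 q]
      have id6 : Ideal.span ({t, a} : Set 𝒩) = Ideal.span ({t, b} : Set 𝒩) := by
        apply le_antisymm
        · refine span_pair_le' (Ideal.subset_span (by simp)) ?_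
          have : a = Γ * (t ^ p * e ^ q) - b * α := by rw [hab]; ring
          rw [this, span_pair_eq_sup]
          refine Ideal.sub_mem _ ?_ ?_
          · exact Ideal.mem_sup_left (Ideal.mul_mem_left _ _ (Ideal.mul_mem_right _ _ htp))
          · exact Ideal.mem_sup_right (Ideal.mul_mem_right _ _ (Ideal.mem_span_singleton_self _))
        · refine span_pair_le' (Ideal.subset_span (by simp)) ?_
          rw [hb_eq, span_pair_eq_sup]
          refine Ideal.mul_mem_left _ _ (Ideal.sub_mem _ ?_ ?_)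
          · exact Ideal.mem_sup_left (Ideal.mul_mem_left _ _ (Ideal.mul_mem_right _ _ htp))
          · exact Ideal.mem_sup_right (Ideal.mem_span_singleton_self _)
      rw [id6]
  rw [step1, ← id3, step3, id4, step5, step2, hm1, hm2]
  push_cast
  ring

end stab

end Groth.Agent.H76.NodeStruct
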