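import Groth.Agent.H76.NodeStructR

set_option autoImplicit false
set_option linter.unusedSectionVars false
universe u

namespace Groth.Agent.H76.NodeStruct

open MvPowerSeries IsLocalRing

section stab

variable (B : Type u) [CommRing B] [IsDomain B] [IsDiscreteValuationRing B] (π : B)
  (hπ : Irreducible π)

include hπ

local notation "𝒩" => ArLef.NodeAlg B π

set_option maxHeartbeats 800000 in
/-- residual fixed-point length, second branch in the divisorial part with maximal multiplicity. -/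
theorem colon_length_max (j i₁ : ℕ) (h1 : i₁ < j) (γ : B) (hγ : IsUnit γ)
    (σ : ArLef.NodeAlg B π ≃+* ArLef.NodeAlg B π)
    (hσB : ∀ c : B, σ (algebraMap B (ArLef.NodeAlg B π) c) - algebraMap B (ArLef.NodeAlg B π) c ∈
      Ideal.span ({algebraMap B (ArLef.NodeAlg B π) (π ^ j)} : Set (ArLef.NodeAlg B π)))
    (hσπ : σ (algebraMap B (ArLef.NodeAlg B π) π) = algebraMap B (ArLef.NodeAlg B π) (π + γ * π ^ j))
    (α β : (ArLef.NodeAlg B π)ˣ)
    (ht : σ (gen B π 0) = (α : ArLef.NodeAlg B π) * gen B π 0)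
    (he : σ (gen B π 1) = (β : ArLef.NodeAlg B π) * gen B π 1)
    (a b : ArLef.NodeAlg B π)
    (ha : (α : ArLef.NodeAlg B π) - 1 = gen B π 0 ^ i₁ * gen B π 1 ^ j * a)
    (hb : (β : ArLef.NodeAlg B π) - 1 = gen B π 0 ^ i₁ * gen B π 1 ^ (j - 1) * b)
    (htb : ¬ (gen B π 0 ∣ b)) :
    Module.length (ArLef.NodeAlg B π) (ArLef.NodeAlg B π ⧸
        (ArLef.fixIdeal σ).colon ({gen B π 0 ^ i₁ * gen B π 1 ^ j} : Set (ArLef.NodeAlg B π))) +
        ((j - 1 - i₁ : ℕ) : ℕ∞) =
      ((j - i₁ : ℕ) : ℕ∞) * Module.length (ArLef.NodeAlg B π) (ArLef.NodeAlg B π ⧸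
          Ideal.span ({gen B π 0, b} : Set (ArLef.NodeAlg B π))) := by
  obtain ⟨hαβ, hfixeq⟩ := stab_setup B π hπ j (by omega) γ hγ σ hσB hσπ α β ht he
  set t : 𝒩 := gen B π 0 with ht_def
  set e : 𝒩 := gen B π 1 with he_def
  set ϖ : 𝒩 := algebraMap B 𝒩 π with hϖ
  set Γ : 𝒩 := algebraMap B 𝒩 γ with hΓ
  have hΓu : IsUnit Γ := hγ.map _
  have hte : t * e = ϖ := gen_mul_gen B π
  obtain ⟨p, hp⟩ : ∃ p, j = i₁ + (p + 1) := ⟨j - i₁ - 1, by omega⟩
  have hm1 : j - i₁ = p + 1 := by omega
  have hm2 : j - 1 - i₁ = p := by omega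
  have hj1a : j - 1 = i₁ + p := by omega
  obtain ⟨j', hj'⟩ : ∃ j', j = j' + 1 := ⟨j - 1, by omega⟩
  have hj'1 : j - 1 = j' := by omega
  set d' : 𝒩 := t ^ i₁ * e ^ j' with hd'
  set d : 𝒩 := t ^ i₁ * e ^ j with hd
  have hdd' : d = d' * e := by rw [hd, hd', hj']; ring
  have hd'reg : ∀ z, d' * z = 0 → z = 0 := by
    intro z hz
    apply gen_pow_mul_eq_zero B π hπ 1 j'
    apply gen_pow_mul_eq_zero B π hπ 0 i₁
    rw [← mul_assoc]
    exact hz
  have hdreg : ∀ z, d * z = 0 → z = 0 := by
    intro z hz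
    apply gen_pow_mul_eq_zero B π hπ 1 j
    apply gen_pow_mul_eq_zero B π hπ 0 i₁
    rw [← mul_assoc]
    exact hz
  have hϖj : ϖ ^ j = d * (t * t ^ p) := by
    rw [← hte, mul_pow, hd]
    nth_rewrite 1 [hp]
    ring
  have hϖj1 : ϖ ^ (j - 1) = d' * t ^ p := by
    rw [← hte, mul_pow, hd', hj'1]
    have : j' = i₁ + p := by omega
    nth_rewrite 1 [this]
    ring
  have hα : (α : 𝒩) = 1 + d' * e * a := by
    have : (α : 𝒩) = 1 + d * a := by rw [← ha]; ring
    rw [this, hdd']
  have hβ : (β : 𝒩) = 1 + d' * b := by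
    have : (β : 𝒩) - 1 = d' * b := by rw [hb, hj'1]
    rw [← this]; ring
  have hab : b * α = Γ * t ^ p - e * a := by
    have h1 : d' * (e * a + b + d' * e * a * b - Γ * t ^ p) = 0 := by
      have := hαβ
      rw [hϖj1, hα, hβ] at this
      linear_combination this
    have h2 := hd'reg _ h1
    rw [hα]
    linear_combination h2
  have hb_eq : b = ↑α⁻¹ * (Γ * t ^ p - e * a) := by
    rw [← hab, mul_comm b, ← mul_assoc, Units.inv_mul, one_mul]
  have htp_eq : t ^ p = ↑hΓu.unit⁻¹ * (b * α + e * a) := by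
    rw [hab]
    have : Γ * t ^ p - e * a + e * a = Γ * t ^ p := by ring
    rw [this, ← mul_assoc, IsUnit.val_inv_mul, one_mul]
  have hp0 := span_gen_isPrime B π hπ 0
  have hp1 := span_gen_isPrime B π hπ 1
  have hbt : b ∉ Ideal.span ({t} : Set 𝒩) := fun h => htb (Ideal.mem_span_singleton.mp h)
  have het : e ∉ Ideal.span ({t} : Set 𝒩) := gen_notMem_span_gen B π hπ 1 0 (by decide)
  have hte' : t ∉ Ideal.span ({e} : Set 𝒩) := gen_notMem_span_gen B π hπ 0 1 (by decide)
  have hbe : b ∉ Ideal.span ({e} : Set 𝒩) := by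
    intro h
    have h3 : t ^ p ∈ Ideal.span ({e} : Set 𝒩) := by
      rw [htp_eq]
      refine Ideal.mul_mem_left _ _ (Ideal.add_mem _ (Ideal.mul_mem_right _ _ h) ?_)
      exact Ideal.mul_mem_right _ _ (Ideal.mem_span_singleton_self _)
    exact hte' (hp1.mem_of_pow_mem _ h3)
  -- the colon ideal
  set K₁ : Ideal 𝒩 := Ideal.span {a, t ^ p} with hK₁
  set K : Ideal 𝒩 := Ideal.span {t} * K₁ ⊔ Ideal.span {b} with hK
  have hfixK : ArLef.fixIdeal σ = Ideal.span {d} * K := by
    rw [hfixeq, hK, hK₁, Ideal.mul_sup, ← mul_assoc, Ideal.span_singleton_mul_span_singleton,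
      Ideal.span_singleton_mul_span_singleton, span_singleton_mul_span_pair']
    apply le_antisymm
    · rw [Ideal.span_le]
      rintro x (rfl | rfl | rfl)
      · rw [hϖj]
        refine Ideal.mem_sup_left (Ideal.subset_span ?_)
        right
        show d * (t * t ^ p) = d * t * t ^ p
        ring
      · refine Ideal.mem_sup_left (Ideal.subset_span ?_)
        left
        show ((α : 𝒩) - 1) * t = d * t * a
        rw [ha]; ring
      · refine Ideal.mem_sup_right ?_
        have : ((β : 𝒩) - 1) * e = d * b := by rw [hb, hj'1, hdd', hd']; ring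
        rw [this]
        exact Ideal.mem_span_singleton_self _
    · refine sup_le ?_ ?_
      · refine span_pair_le' (Ideal.subset_span ?_) (Ideal.subset_span ?_)
        · right; left
          show d * t * a = ((α : 𝒩) - 1) * t
          rw [ha]; ring
        · left
          show d * t * t ^ p = ϖ ^ j
          rw [hϖj]; ring
      · rw [Ideal.span_singleton_le_iff_mem]
        refine Ideal.subset_span ?_
        right; right
        show d * b = ((β : 𝒩) - 1) * e
        rw [hb, hj'1, hdd', hd']; ring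
  rw [hfixK, colon_span_mul d hdreg K, hK]
  -- Step 1
  have reg1 : IsSMulRegular (𝒩 ⧸ Ideal.span ({b} : Set 𝒩)) t :=
    regular_mod_of_prime t b hp0 (gen_mul_eq_zero B π hπ 0) hbt
  have step1 := Groth.Agent.S15315.result 𝒩 t b K₁ reg1
  -- (a, t^p, b) = (a, b)
  have idA : K₁ ⊔ Ideal.span {b} = Ideal.span ({a, b} : Set 𝒩) := by
    rw [hK₁]
    apply le_antisymm
    · refine sup_le (span_pair_le' (Ideal.subset_span (by simp)) ?_) ?_
      · rw [htp_eq]
        refine Ideal.mul_mem_left _ _ (Ideal.add_mem _ ?_ ?_)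
        · exact Ideal.mul_mem_right _ _ (Ideal.subset_span (by simp))
        · exact Ideal.mul_mem_left _ _ (Ideal.subset_span (by simp))
      · rw [Ideal.span_singleton_le_iff_mem]
        exact Ideal.subset_span (by simp)
    · refine span_pair_le' ?_ ?_
      · exact Ideal.mem_sup_left (Ideal.subset_span (by simp))
      · exact Ideal.mem_sup_right (Ideal.mem_span_singleton_self _)
  -- e regular mod b
  have rege : IsSMulRegular (𝒩 ⧸ Ideal.span ({b} : Set 𝒩)) e :=
    regular_mod_of_prime e b hp1 (gen_mul_eq_zero B π hπ 1) hbe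
  have stepB := length_mul_general e a b rege
  have idC : Ideal.span ({e * a} : Set 𝒩) ⊔ Ideal.span {b} =
      Ideal.span ({t ^ p} : Set 𝒩) ⊔ Ideal.span {b} := by
    apply le_antisymm
    · refine sup_le ?_ le_sup_right
      rw [Ideal.span_singleton_le_iff_mem]
      have : e * a = Γ * t ^ p - b * α := by rw [hab]; ring
      rw [this]
      refine Ideal.sub_mem _ ?_ ?_
      · exact Ideal.mem_sup_left (Ideal.mul_mem_left _ _ (Ideal.mem_span_singleton_self _))
      · exact Ideal.mem_sup_right (Ideal.mul_mem_right _ _ (Ideal.mem_span_singleton_self _))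
    · refine sup_le ?_ le_sup_right
      rw [Ideal.span_singleton_le_iff_mem, htp_eq]
      refine Ideal.mul_mem_left _ _ (Ideal.add_mem _ ?_ ?_)
      · exact Ideal.mem_sup_right (Ideal.mul_mem_right _ _ (Ideal.mem_span_singleton_self _))
      · exact Ideal.mem_sup_left (Ideal.mem_span_singleton_self _)
  have stepD := length_pow_general t b reg1 p
  -- (e, b) = (t^p, e)
  have idE : Ideal.span ({e, b} : Set 𝒩) = Ideal.span ({t ^ p} : Set 𝒩) ⊔ Ideal.span {e} := by
    apply le_antisymm
    · refine span_pair_le' (Ideal.mem_sup_right (Ideal.mem_span_singleton_self _)) ?_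
      rw [hb_eq]
      refine Ideal.mul_mem_left _ _ (Ideal.sub_mem _ ?_ ?_)
      · exact Ideal.mem_sup_left (Ideal.mul_mem_left _ _ (Ideal.mem_span_singleton_self _))
      · exact Ideal.mem_sup_right (Ideal.mul_mem_right _ _ (Ideal.mem_span_singleton_self _))
    · refine sup_le ?_ ?_
      · rw [Ideal.span_singleton_le_iff_mem, htp_eq]
        refine Ideal.mul_mem_left _ _ (Ideal.add_mem _ ?_ ?_)
        · exact Ideal.mul_mem_right _ _ (Ideal.subset_span (by simp))
        · exact Ideal.mul_mem_right _ _ (Ideal.subset_span (by simp))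
      · rw [Ideal.span_singleton_le_iff_mem]
        exact Ideal.subset_span (by simp)
  have regte : IsSMulRegular (𝒩 ⧸ Ideal.span ({e} : Set 𝒩)) t :=
    regular_mod_of_prime t e hp0 (gen_mul_eq_zero B π hπ 0) het
  have stepF := length_pow_general t e regte p
  rw [length_quot_maximal B π hπ, mul_one] at stepF
  rw [idC, stepD, idE, stepF] at stepB
  rw [step1, idA, hm1, hm2]
  push_cast
  rw [add_mul, one_mul, stepB]
  ring

end stab

end Groth.Agent.H76.NodeStruct
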