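import Mathlib

set_option autoImplicit false
universe u
open TensorProduct

namespace Groth.Agent.H76.PicNil

variable {R : Type u} [CommRing R] (I : Ideal R)

lemma le_jacobson_bot_of_isNilpotent (hI : IsNilpotent I) : I ≤ (⊥ : Ideal R).jacobson := by
  obtain ⟨k, hk⟩ := hI
  intro x hx
  have h1 : x ^ k ∈ I ^ k := Ideal.pow_mem_pow hx k
  rw [hk] at h1
  exact Ideal.radical_le_jacobson ⟨k, h1⟩

lemma mem_smul_top_of_one_tmul_eq_zero {M : Type*} [AddCommGroup M] [Module R M] (y : M)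
    (h : (1 : R ⧸ I) ⊗ₜ[R] y = 0) : y ∈ I • (⊤ : Submodule R M) := by
  have h2 := congrArg (TensorProduct.quotTensorEquivQuotSMul M I) h
  rw [TensorProduct.quotTensorEquivQuotSMul_mk_one_tmul, map_zero] at h2
  exact (Submodule.Quotient.mk_eq_zero _).1 h2

lemma one_tmul_smul {M : Type*} [AddCommGroup M] [Module R M] (r : R) (m : M) :
    (1 : R ⧸ I) ⊗ₜ[R] (r • m) = (Ideal.Quotient.mk I r) • ((1 : R ⧸ I) ⊗ₜ[R] m) := by
  rw [TensorProduct.smul_tmul', smul_eq_mul, mul_one, ← TensorProduct.smul_tmul]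
  congr 1
  rw [Algebra.smul_def, mul_one]
  rfl

/-- A finite projective module whose reduction modulo an ideal in the Jacobson radical is free of
rank one is free of rank one. -/
theorem nonempty_linearEquiv_of_baseChange {M : Type*} [AddCommGroup M] [Module R M]
    [Module.Finite R M] [Module.Projective R M] (hI : I ≤ (⊥ : Ideal R).jacobson)
    (e : (R ⧸ I) ⊗[R] M ≃ₗ[R ⧸ I] (R ⧸ I)) : Nonempty (M ≃ₗ[R] R) := by
  obtain ⟨m₀, hm₀⟩ : ∃ m₀ : M, (1 : R ⧸ I) ⊗ₜ[R] m₀ = e.symm 1 := by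
    have hs : Function.Surjective (TensorProduct.mk R (R ⧸ I) M 1) :=
      TensorProduct.mk_surjective R M (R ⧸ I) Ideal.Quotient.mk_surjective
    exact hs (e.symm 1)
  let φ : R →ₗ[R] M := LinearMap.toSpanSingleton R M m₀
  have hφ : ∀ r, φ r = r • m₀ := fun r => rfl
  have he0 : e ((1 : R ⧸ I) ⊗ₜ[R] m₀) = 1 := by rw [hm₀]; exact e.apply_symm_apply 1
  have hsurj : Function.Surjective φ := by
    rw [← LinearMap.range_eq_top, eq_top_iff]
    apply Submodule.le_of_le_smul_of_le_jacobson_bot (I := I) Module.Finite.fg_top hI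
    intro m _
    obtain ⟨r, hr⟩ := Ideal.Quotient.mk_surjective (e ((1 : R ⧸ I) ⊗ₜ[R] m))
    have hz : (1 : R ⧸ I) ⊗ₜ[R] (m - r • m₀) = 0 := by
      apply e.injective
      rw [map_zero, tmul_sub, map_sub, one_tmul_smul, map_smul, he0, smul_eq_mul, mul_one, hr,
        sub_self]
    have hmem := mem_smul_top_of_one_tmul_eq_zero I _ hz
    exact Submodule.mem_sup.2 ⟨r • m₀, ⟨r, rfl⟩, m - r • m₀, hmem, by abel⟩
  obtain ⟨σ, hσ⟩ := Module.projective_lifting_property φ LinearMap.id hsurj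
  have hσ' : ∀ m, φ (σ m) = m := fun m => LinearMap.congr_fun hσ m
  have hker : LinearMap.ker φ = ⊥ := by
    set q : R := 1 - σ (φ 1) with hq
    have hqk : q ∈ LinearMap.ker φ := by
      rw [LinearMap.mem_ker, hq, map_sub, hσ', sub_self]
    have hkq : ∀ k ∈ LinearMap.ker φ, k = k • q := by
      intro k hk
      have h1 : σ (φ k) = 0 := by rw [LinearMap.mem_ker.1 hk, map_zero]
      have h2 : φ k = k • φ 1 := by rw [← map_smul, smul_eq_mul, mul_one]
      rw [h2, map_smul] at h1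
      rw [hq, smul_sub, h1, sub_zero, smul_eq_mul, mul_one]
    have hKI : ∀ k ∈ LinearMap.ker φ, k ∈ I := by
      intro k hk
      have h1 := one_tmul_smul I k m₀
      rw [show k • m₀ = 0 from hk, tmul_zero] at h1
      have h2 := congrArg e h1
      rw [map_zero, map_smul, he0, smul_eq_mul, mul_one] at h2
      exact Ideal.Quotient.eq_zero_iff_mem.1 h2.symm
    apply Submodule.eq_bot_of_le_smul_of_le_jacobson_bot I _ ?_ ?_ hI
    · have : LinearMap.ker φ = Submodule.span R {q} := by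
        apply le_antisymm
        · intro k hk
          rw [hkq k hk]
          exact Submodule.smul_mem _ _ (Submodule.subset_span rfl)
        · rw [Submodule.span_singleton_le_iff_mem]; exact hqk
      rw [this]
      exact Submodule.fg_span_singleton q
    · intro k hk
      rw [hkq k hk]
      exact Submodule.smul_mem_smul (hKI k hk) hqk
  exact ⟨(LinearEquiv.ofBijective φ ⟨LinearMap.ker_eq_bot.1 hker, hsurj⟩).symm⟩


theorem isNilpotent_of_mem_ker_mapMatrix (hI : IsNilpotent I) {n : ℕ}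
    (X : Matrix (Fin n) (Fin n) R)
    (hX : X ∈ RingHom.ker ((Ideal.Quotient.mk I).mapMatrix (m := Fin n))) : IsNilpotent X := by
  obtain ⟨k, hk⟩ := hI
  have hX' : ∀ i j, X i j ∈ I := by
    intro i j
    have h0 : (Ideal.Quotient.mk I).mapMatrix X = 0 := (RingHom.mem_ker).1 hX
    have := Matrix.ext_iff.2 h0 i j
    simp only [RingHom.mapMatrix_apply, Matrix.map_apply, Matrix.zero_apply] at this
    exact Ideal.Quotient.eq_zero_iff_mem.1 this
  have hpow : ∀ m : ℕ, ∀ i j, (X ^ m) i j ∈ I ^ m := by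
    intro m
    induction m with
    | zero => intro i j; simp
    | succ m ih =>
      intro i j
      have hXm : X ^ (m + 1) = X ^ m * X := pow_succ X m
      rw [hXm, Matrix.mul_apply, pow_succ]
      exact Ideal.sum_mem _ fun l _ => Ideal.mul_mem_mul (ih i l) (hX' l j)
  refine ⟨k, ?_⟩
  ext i j
  have := hpow k i j
  rw [hk] at this
  simpa using this

/-- Finite projective modules lift along quotients by nilpotent ideals. -/
theorem exists_projective_lift (hI : IsNilpotent I) (N : Type u) [AddCommGroup N]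
    [Module (R ⧸ I) N] [Module.Finite (R ⧸ I) N] [Module.Projective (R ⧸ I) N] :
    ∃ (M : Type u) (_ : AddCommGroup M) (_ : Module R M), Module.Finite R M ∧
      Module.Projective R M ∧ Nonempty ((R ⧸ I) ⊗[R] M ≃ₗ[R ⧸ I] N) := by
  classical
  obtain ⟨n, π, hπ⟩ := Module.Finite.exists_fin' (R ⧸ I) N
  obtain ⟨s, hs⟩ := Module.projective_lifting_property π LinearMap.id hπ
  have hs' : ∀ x, π (s x) = x := fun x => LinearMap.congr_fun hs x
  let E : (Fin n → R ⧸ I) →ₗ[R ⧸ I] (Fin n → R ⧸ I) := s ∘ₗ π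
  have hEE : E ∘ₗ E = E := by
    apply LinearMap.ext
    intro x
    simp [E, hs']
  let P : Matrix (Fin n) (Fin n) (R ⧸ I) := LinearMap.toMatrix' E
  have hP : IsIdempotentElem P := by
    change P * P = P
    rw [← LinearMap.toMatrix'_comp, hEE]
  let F := (Ideal.Quotient.mk I).mapMatrix (m := Fin n)
  have hrange : P ∈ F.range := by
    refine ⟨Matrix.of fun i j => Quotient.out (P i j), ?_⟩
    ext i j
    simp [F]
  obtain ⟨P', hP', hFP'⟩ := exists_isIdempotentElem_eq_of_ker_isNilpotent F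
    (isNilpotent_of_mem_ker_mapMatrix I hI) P hrange hP
  let p : (Fin n → R) →ₗ[R] (Fin n → R) := Matrix.toLin' P'
  have hpp : ∀ v, p (p v) = p v := by
    intro v
    simp only [p, Matrix.toLin'_apply, Matrix.mulVec_mulVec]
    rw [hP'.eq]
  let ι : LinearMap.range p →ₗ[R] (Fin n → R) := (LinearMap.range p).subtype
  let ρ : (Fin n → R) →ₗ[R] LinearMap.range p := p.rangeRestrict
  have hρι : ρ ∘ₗ ι = LinearMap.id := by
    apply LinearMap.ext
    rintro ⟨x, v, rfl⟩
    apply Subtype.ext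
    simp [ρ, ι, hpp]
  have hιρ : ι ∘ₗ ρ = p := by
    apply LinearMap.ext
    intro v
    rfl
  refine ⟨LinearMap.range p, inferInstance, inferInstance, inferInstance,
    Module.Projective.of_split ι ρ hρι, ⟨?_⟩⟩
  let τ : (R ⧸ I) ⊗[R] (Fin n → R) ≃ₗ[R ⧸ I] (Fin n → R ⧸ I) :=
    TensorProduct.piScalarRight R (R ⧸ I) (R ⧸ I) (Fin n)
  have hE : E = Matrix.toLin' P := (Matrix.toLin'_toMatrix' E).symm
  have hτ : ∀ x, τ ((p.baseChange (R ⧸ I)) x) = E (τ x) := by
    intro x
    induction x using TensorProduct.induction_on with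
    | zero => simp
    | tmul a v =>
      simp only [LinearMap.baseChange_tmul, τ, TensorProduct.piScalarRight_apply,
        TensorProduct.piScalarRightHom_tmul]
      ext j
      simp only [p, hE, Matrix.toLin'_apply, Matrix.mulVec, dotProduct, ← hFP', F,
        RingHom.mapMatrix_apply, Matrix.map_apply, Algebra.smul_def,
        Ideal.Quotient.algebraMap_eq, map_sum, map_mul, Finset.sum_mul]
      apply Finset.sum_congr rfl
      intro l _
      ring
    | add x y hx hy => simp only [map_add, hx, hy]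
  let Ψ : (R ⧸ I) ⊗[R] LinearMap.range p →ₗ[R ⧸ I] N :=
    π ∘ₗ τ.toLinearMap ∘ₗ (ι.baseChange (R ⧸ I))
  let Φ : N →ₗ[R ⧸ I] (R ⧸ I) ⊗[R] LinearMap.range p :=
    (ρ.baseChange (R ⧸ I)) ∘ₗ τ.symm.toLinearMap ∘ₗ s
  refine LinearEquiv.ofLinearMap Ψ Φ ?_ ?_
  · apply LinearMap.ext
    intro x
    simp only [Ψ, Φ, LinearMap.comp_apply, LinearEquiv.coe_coe, LinearMap.id_apply]
    have h1 : (ι.baseChange (R ⧸ I)) ((ρ.baseChange (R ⧸ I)) (τ.symm (s x))) =
        (p.baseChange (R ⧸ I)) (τ.symm (s x)) := by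
      rw [← LinearMap.comp_apply, ← LinearMap.baseChange_comp, hιρ]
    rw [h1, hτ, τ.apply_symm_apply]
    simp [E, hs']
  · apply LinearMap.ext
    intro y
    simp only [Ψ, Φ, LinearMap.comp_apply, LinearEquiv.coe_coe, LinearMap.id_apply]
    have h2 : s (π (τ ((ι.baseChange (R ⧸ I)) y))) =
        τ ((p.baseChange (R ⧸ I)) ((ι.baseChange (R ⧸ I)) y)) := (hτ _).symm
    rw [h2, τ.symm_apply_apply, ← LinearMap.comp_apply, ← LinearMap.comp_apply,
      ← LinearMap.baseChange_comp, ← LinearMap.baseChange_comp]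
    have h3 : (ρ ∘ₗ p) ∘ₗ ι = LinearMap.id := by
      apply LinearMap.ext
      rintro ⟨x, v, rfl⟩
      apply Subtype.ext
      simp [ρ, ι, hpp]
    rw [h3, LinearMap.baseChange_id]
    rfl


open CommRing in
theorem pic_mapAlgebra_quotient_bijective (hI : IsNilpotent I) :
    Function.Bijective (Pic.mapAlgebra R (R ⧸ I)) := by
  have hJ := le_jacobson_bot_of_isNilpotent I hI
  constructor
  · rw [injective_iff_map_eq_one]
    intro M hM
    rw [Pic.mapAlgebra_apply, Pic.mk_eq_one_iff] at hM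
    obtain ⟨e⟩ := hM
    obtain ⟨e'⟩ := nonempty_linearEquiv_of_baseChange I hJ e
    rw [← Pic.mk_eq_self (M := M), Pic.mk_eq_one_iff]
    exact ⟨e'⟩
  · intro N
    obtain ⟨M₁, _, _, hfin₁, hproj₁, ⟨e₁⟩⟩ := exists_projective_lift I hI N
    obtain ⟨M₂, _, _, hfin₂, hproj₂, ⟨e₂⟩⟩ :=
      exists_projective_lift I hI (Module.Dual (R ⧸ I) N)
    have eT : (R ⧸ I) ⊗[R] (M₁ ⊗[R] M₂) ≃ₗ[R ⧸ I] (R ⧸ I) :=
      (AlgebraTensorModule.distribBaseChange R (R ⧸ I) M₁ M₂) ≪≫ₗ (TensorProduct.congr e₁ e₂) ≪≫ₗ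
        (TensorProduct.comm _ _ _) ≪≫ₗ Module.Invertible.linearEquiv (R ⧸ I) N
    obtain ⟨eT'⟩ := nonempty_linearEquiv_of_baseChange I hJ eT
    have : Module.Invertible R M₁ := Module.Invertible.left eT'
    refine ⟨Pic.mk R M₁, ?_⟩
    rw [Pic.mapAlgebra_apply, Pic.mk_eq_iff]
    exact ⟨(AlgebraTensorModule.congr (LinearEquiv.refl _ _) (Pic.mk.linearEquiv R M₁)) ≪≫ₗ e₁⟩

open CommRing in
theorem pic_mapRingHom_bijective {A' A : Type u} [CommRing A'] [CommRing A]
    (f : A' →+* A) (hf : Function.Surjective f) (hker : IsNilpotent (RingHom.ker f)) :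
    Function.Bijective (CommRing.Pic.mapRingHom f) := by
  let e : A' ⧸ RingHom.ker f ≃+* A := RingHom.quotientKerEquivOfSurjective hf
  have hcomp : f = e.toRingHom.comp (Ideal.Quotient.mk (RingHom.ker f)) := by
    ext x
    simp [e]
  have h1 : Function.Bijective (Pic.mapRingHom (Ideal.Quotient.mk (RingHom.ker f))) := by
    rw [show Ideal.Quotient.mk (RingHom.ker f) = algebraMap A' (A' ⧸ RingHom.ker f) from rfl,
      Pic.mapRingHom_algebraMap]
    exact pic_mapAlgebra_quotient_bijective _ hker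
  have h2 : Function.Bijective (Pic.mapRingHom e.toRingHom) := by
    refine Function.bijective_iff_has_inverse.2 ⟨Pic.mapRingHom e.symm.toRingHom, ?_, ?_⟩
    · intro M
      rw [Pic.mapRingHom_mapRingHom]
      have : e.symm.toRingHom.comp e.toRingHom = RingHom.id _ := by ext; simp
      rw [this, Pic.mapRingHom_id_apply]
    · intro M
      rw [Pic.mapRingHom_mapRingHom]
      have : e.toRingHom.comp e.symm.toRingHom = RingHom.id _ := by ext; simp
      rw [this, Pic.mapRingHom_id_apply]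
  rw [hcomp, ← Pic.mapRingHom_comp_mapRingHom]
  exact h2.comp h1

end Groth.Agent.H76.PicNil
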