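import Mathlib

set_option autoImplicit false

namespace Groth.Agent.H76

open Submodule

/-- Over a principal ideal domain, a submodule of a finitely generated module needs no more generators
than the module. -/
theorem spanFinrank_le_top_of_pid {R : Type*} [CommRing R] [IsDomain R] [IsPrincipalIdealRing R]
    {M : Type*} [AddCommGroup M] [Module R M] [Module.Finite R M] (N : Submodule R M) :
    N.spanFinrank ≤ (⊤ : Submodule R M).spanFinrank := by
  classical
  obtain ⟨s, hs₁, hs₂⟩ := (Module.Finite.fg_top (R := R) (M := M)).exists_span_finset_card_eq_spanFinrank
  -- the surjection from the free module on `s`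
  let φ : (s → R) →ₗ[R] M := Fintype.linearCombination R (fun i : s => (i : M))
  have hφ : Function.Surjective φ := by
    rw [← LinearMap.range_eq_top, Fintype.range_linearCombination]
    simpa using hs₂
  let N' : Submodule R (s → R) := N.comap φ
  have hN' : N'.map φ = N := Submodule.map_comap_eq_of_surjective hφ N
  obtain ⟨n, ⟨b⟩⟩ := Submodule.nonempty_basis_of_pid (Pi.basisFun R s) N'
  have hfree : Module.Free R N' := Module.Free.of_basis b
  have hfg : N'.FG := by
    have : Module.Finite R N' := Module.Finite.of_basis b
    exact Module.Finite.iff_fg.mp this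
  calc N.spanFinrank = (N'.map φ).spanFinrank := by rw [hN']
    _ ≤ N'.spanFinrank := spanFinrank_map_le_of_fg φ hfg
    _ = (⊤ : Submodule R N').spanFinrank := (spanFinrank_top N').symm
    _ = Module.finrank R N' := (Module.finrank_eq_spanFinrank_of_free).symm
    _ ≤ Module.finrank R (s → R) := Submodule.finrank_le N'
    _ = s.card := by simp
    _ = (⊤ : Submodule R M).spanFinrank := hs₁

end Groth.Agent.H76
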