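import Mathlib
import Groth.Agent.H1.CSACentralizer2
import Groth.Agent.Lead.DivAlgP
import Groth.Agent.H76.KummerDiv

/-!
# A 4-dimensional central division algebra in characteristic ≠ 2 is a quaternion algebra
-/

set_option autoImplicit false

open Polynomial

namespace Groth.Agent.H76

universe u v

section

variable (k : Type u) [Field k] (D : Type v) [DivisionRing D] [Algebra k D]

/-- Linear independence of `1, x, y, xy` when `x ∉ k`, `x² ∈ k`, `yx = -xy`, `y ≠ 0`, `2 ≠ 0`. -/
theorem quat_linearIndependent (h2 : (2 : k) ≠ 0) (x y : D) (a : k)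
    (hx : x ∉ (algebraMap k D).range) (hxa : x * x = algebraMap k D a) (hy : y ≠ 0)
    (hyx : y * x = -(x * y)) (α β γ δ : k)
    (h : algebraMap k D α + β • x + γ • y + δ • (x * y) = 0) :
    α = 0 ∧ β = 0 ∧ γ = 0 ∧ δ = 0 := by
  have hx0 : x ≠ 0 := by
    rintro rfl
    exact hx ⟨0, by simp⟩
  have h2D : (2 : D) ≠ 0 := by
    have : (2 : D) = algebraMap k D 2 := (map_ofNat (algebraMap k D) 2).symm
    rw [this]
    exact fun h => h2 ((algebraMap k D).injective (by rw [h, map_zero]))
  -- a general fact: α + βx = 0 → α = β = 0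
  have hlin : ∀ α β : k, algebraMap k D α + β • x = 0 → α = 0 ∧ β = 0 := by
    intro α β h0
    by_cases hβ : β = 0
    · subst hβ
      rw [zero_smul, add_zero] at h0
      exact ⟨(algebraMap k D).injective (by rw [h0, map_zero]), rfl⟩
    · exfalso
      apply hx
      refine ⟨-(α / β), ?_⟩
      have h1 : β • x = -algebraMap k D α := eq_neg_of_add_eq_zero_right h0
      have h3 : x = β⁻¹ • (β • x) := by rw [smul_smul, inv_mul_cancel₀ hβ, one_smul]
      rw [h3, h1, smul_neg, Algebra.smul_def, ← map_mul, ← map_neg]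
      congr 1
      field_simp
  set w : D := algebraMap k D α + β • x with hw
  set u : D := algebraMap k D γ + δ • x with hu
  have hwu : w + u * y = 0 := by
    rw [hu, add_mul, smul_mul_assoc, ← Algebra.smul_def, ← add_assoc]
    exact h
  have hux : u * x = x * u := by
    rw [hu, add_mul, mul_add, smul_mul_assoc, mul_smul_comm, Algebra.commutes]
  have hwx : w * x = x * w := by
    rw [hw, add_mul, mul_add, smul_mul_assoc, mul_smul_comm, Algebra.commutes]
  have hu0 : u = 0 := by
    by_contra hne
    have hy' : y = -(u⁻¹ * w) := by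
      have : u * y = -w := eq_neg_of_add_eq_zero_right hwu
      calc y = u⁻¹ * (u * y) := by rw [← mul_assoc, inv_mul_cancel₀ hne, one_mul]
        _ = -(u⁻¹ * w) := by rw [this, mul_neg]
    have huinv : u⁻¹ * x = x * u⁻¹ := by
      have : x = u⁻¹ * (u * x) := by rw [← mul_assoc, inv_mul_cancel₀ hne, one_mul]
      rw [hux] at this
      calc u⁻¹ * x = u⁻¹ * (x * u) * u⁻¹ := by
            rw [mul_assoc, mul_assoc, mul_inv_cancel₀ hne, mul_one]
        _ = x * u⁻¹ := by rw [← this]
    have hcomm : y * x = x * y := by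
      rw [hy', neg_mul, mul_neg, mul_assoc, hwx, ← mul_assoc, huinv, mul_assoc]
    rw [hyx] at hcomm
    have h4 : (2 : D) * (x * y) = 0 := by
      rw [two_mul]
      nth_rewrite 1 [← hcomm]
      exact neg_add_cancel _
    rcases mul_eq_zero.1 h4 with h5 | h5
    · exact h2D h5
    · rcases mul_eq_zero.1 h5 with h6 | h6
      · exact hx0 h6
      · exact hy h6
  have hw0 : w = 0 := by rwa [hu0, zero_mul, add_zero] at hwu
  obtain ⟨h1, h2'⟩ := hlin α β hw0
  obtain ⟨h3, h4⟩ := hlin γ δ hu0
  exact ⟨h1, h2', h3, h4⟩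

end

theorem exists_quaternion_algEquiv (k : Type u) [Field k] (h2 : (2 : k) ≠ 0)
    (D : Type v) [DivisionRing D] [Algebra k D] [Algebra.IsCentral k D] [FiniteDimensional k D]
    (hD : Module.finrank k D = 2 ^ 2) :
    ∃ a b : k, Nonempty (QuaternionAlgebra k a 0 b ≃ₐ[k] D) := by
  classical
  have : Fact (Nat.Prime 2) := ⟨Nat.prime_two⟩
  obtain ⟨z, hz⟩ := Groth.Agent.Lead.exists_notMem_range k 2 D hD
  have hdeg := Groth.Agent.Lead.natDegree_minpoly_eq k 2 D hD z hz
  have hint : IsIntegral k z := Algebra.IsIntegral.isIntegral z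
  have hmonic := minpoly.monic hint
  set s := (minpoly k z).coeff 1 with hs
  set t' := (minpoly k z).coeff 0 with ht'
  have hrel : z * z + s • z + algebraMap k D t' = 0 := by
    have h0 := minpoly.aeval k z
    rw [Polynomial.aeval_eq_sum_range, hdeg] at h0
    have hc2 : (minpoly k z).coeff 2 = 1 := by
      have := hmonic.coeff_natDegree
      rwa [hdeg] at this
    simp only [Finset.sum_range_succ, Finset.sum_range_zero, zero_add, pow_zero, pow_one, hc2,
      one_smul] at h0
    rw [← h0, Algebra.algebraMap_eq_smul_one, sq]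
    abel
  -- complete the square
  set x : D := z + algebraMap k D (s / 2) with hx
  set a : k := s ^ 2 / 4 - t' with ha
  have hxa : x * x = algebraMap k D a := by
    have h1 : z * z = -(s • z) - algebraMap k D t' := by
      have := hrel
      rw [add_assoc] at this
      rw [eq_neg_of_add_eq_zero_left this]; abel
    have h4 : (4 : k) ≠ 0 := by
      have : (4 : k) = 2 * 2 := by norm_num
      rw [this]; exact mul_ne_zero h2 h2
    rw [hx, add_mul, mul_add, mul_add, ← Algebra.commutes (s / 2) z, ← map_mul, h1, ha, map_sub]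
    have h5 : algebraMap k D (s / 2) * z + algebraMap k D (s / 2) * z = s • z := by
      rw [← add_mul, ← map_add, ← Algebra.smul_def]
      congr 1
      field_simp
      ring
    have h6 : s / 2 * (s / 2) = s ^ 2 / 4 := by field_simp; ring
    rw [h6]
    calc -(s • z) - algebraMap k D t' + algebraMap k D (s / 2) * z +
          (algebraMap k D (s / 2) * z + algebraMap k D (s ^ 2 / 4))
        = (algebraMap k D (s / 2) * z + algebraMap k D (s / 2) * z) - s • z +
            (algebraMap k D (s ^ 2 / 4) - algebraMap k D t') := by abel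
      _ = algebraMap k D (s ^ 2 / 4) - algebraMap k D t' := by rw [h5, sub_self, zero_add]
  have hxr : x ∉ (algebraMap k D).range := by
    rintro ⟨c, hc⟩
    apply hz
    refine ⟨c - s / 2, ?_⟩
    rw [map_sub, hc, hx, add_sub_cancel_right]
  -- minimal polynomial of x
  have hintx : IsIntegral k x := Algebra.IsIntegral.isIntegral x
  have hdegx := Groth.Agent.Lead.natDegree_minpoly_eq k 2 D hD x hxr
  have hμx : minpoly k x = X ^ 2 - C a := by
    have hm2 : (X ^ 2 - C a : k[X]).Monic := monic_X_pow_sub_C a (by norm_num)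
    have hdvd : minpoly k x ∣ X ^ 2 - C a := by
      apply minpoly.dvd
      simp only [map_sub, map_pow, aeval_X, aeval_C]
      rw [sq, hxa, sub_self]
    symm
    apply eq_of_monic_of_dvd_of_natDegree_le (minpoly.monic hintx) hm2 hdvd
    rw [natDegree_X_pow_sub_C, hdegx]
  have hirr : Irreducible (minpoly k x) := minpoly.irreducible hintx
  have : Fact (Irreducible (minpoly k x)) := ⟨hirr⟩
  have hy1 : aeval x (minpoly k x) = 0 := minpoly.aeval k x
  have hy2 : aeval (-x) (minpoly k x) = 0 := by
    rw [hμx]
    simp only [map_sub, map_pow, aeval_X, aeval_C]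
    rw [neg_sq, sq, hxa, sub_self]
  obtain ⟨y, hy⟩ := Groth.Agent.H1.skolem_noether
    (adjoinRootLiftNC (minpoly k x) x hy1) (adjoinRootLiftNC (minpoly k x) (-x) hy2)
  have hconj := hy (AdjoinRoot.root _)
  rw [adjoinRootLiftNC_root, adjoinRootLiftNC_root] at hconj
  -- y x = - x y
  have hyx : (y : D) * x = -(x * (y : D)) := by
    have h1 : x * (y : D) = (y : D) * (-x) := by
      have h0 := congrArg (fun w : D => w * (y : D)) hconj
      simp only [mul_assoc, Units.inv_mul, mul_one] at h0
      exact h0
    rw [h1, mul_neg, neg_neg]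
  have hy0 : (y : D) ≠ 0 := y.ne_zero
  have hx0 : x ≠ 0 := by
    rintro h0
    exact hxr ⟨0, by rw [map_zero, h0]⟩
  have h2D : (2 : D) ≠ 0 := by
    have : (2 : D) = algebraMap k D 2 := (map_ofNat (algebraMap k D) 2).symm
    rw [this]
    exact fun h => h2 ((algebraMap k D).injective (by rw [h, map_zero]))
  -- y * y is a scalar
  have hcomm : x * ((y : D) * y) = (y : D) * y * x := by
    rw [mul_assoc (y : D) y x, hyx, mul_neg, ← mul_assoc (y : D) x y, hyx, neg_mul, neg_neg, mul_assoc]
  obtain ⟨t, ht⟩ := Groth.Agent.Lead.exists_adjoinRootEmb_eq_of_commute k 2 D hD x hxr _ hcomm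
  obtain ⟨g, -, hg⟩ := Groth.Agent.Lead.adjoinRootEmb_eq_aeval k D x t
  rw [ht] at hg
  have hmon := minpoly.monic hintx
  have hne1 : minpoly k x ≠ 1 := by
    intro h1
    rw [h1, natDegree_one] at hdegx
    omega
  set r := g %ₘ minpoly k x with hr
  have hrdeg : r.natDegree ≤ 1 := by
    have := natDegree_modByMonic_lt g hmon hne1
    rw [hdegx, ← hr] at this
    omega
  have hraeval : aeval x r = (y : D) * y := by
    rw [hr, aeval_modByMonic_eq_self_of_root hy1, ← hg]
  rw [eq_X_add_C_of_natDegree_le_one hrdeg] at hraeval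
  simp only [map_add, map_mul, aeval_C, aeval_X] at hraeval
  set r1 := r.coeff 1 with hr1
  set r0 := r.coeff 0 with hr0
  have hr1z : r1 = 0 := by
    -- y commutes with y * y
    have h3 : (y : D) * (algebraMap k D r1 * x + algebraMap k D r0) =
        (algebraMap k D r1 * x + algebraMap k D r0) * y := by
      rw [hraeval, mul_assoc]
    rw [mul_add, add_mul, ← Algebra.commutes r0 (y : D), add_left_inj, ← mul_assoc,
      ← Algebra.commutes r1 (y : D), mul_assoc, mul_assoc, hyx, mul_neg] at h3
    have h4 : algebraMap k D r1 * ((2 : D) * (x * y)) = 0 := by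
      rw [two_mul, mul_add]
      nth_rewrite 1 [← h3]
      exact neg_add_cancel _
    rcases mul_eq_zero.1 h4 with h5 | h5
    · exact (algebraMap k D).injective (by rw [h5, map_zero])
    · exfalso
      rcases mul_eq_zero.1 h5 with h6 | h6
      · exact h2D h6
      · rcases mul_eq_zero.1 h6 with h7 | h7
        · exact hx0 h7
        · exact hy0 h7
  have hyy : (y : D) * y = algebraMap k D r0 := by
    rw [← hraeval, hr1z, map_zero, zero_mul, zero_add]
  -- the quaternion basis
  let q : QuaternionAlgebra.Basis D a 0 r0 :=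
    { i := x
      j := y
      k := x * y
      i_mul_i := by rw [hxa, zero_smul, add_zero, Algebra.algebraMap_eq_smul_one]
      j_mul_j := by rw [hyy, Algebra.algebraMap_eq_smul_one]
      i_mul_j := rfl
      j_mul_i := by rw [hyx, zero_smul, zero_sub] }
  refine ⟨a, r0, ⟨AlgEquiv.ofBijective q.liftHom ?_⟩⟩
  have hinj : Function.Injective q.liftHom := by
    rw [injective_iff_map_eq_zero]
    intro w hw
    have hw' : algebraMap k D w.re + w.imI • x + w.imJ • (y : D) + w.imK • (x * y) = 0 := hw
    obtain ⟨h1, h2', h3, h4⟩ :=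
      quat_linearIndependent k D h2 x y a hxr hxa hy0 hyx _ _ _ _ hw'
    ext <;> assumption
  refine ⟨hinj, ?_⟩
  have hfr : Module.finrank k (QuaternionAlgebra k a 0 r0) = Module.finrank k D := by
    rw [QuaternionAlgebra.finrank_eq_four, hD]; norm_num
  exact (LinearMap.injective_iff_surjective_of_finrank_eq_finrank hfr
    (f := q.liftHom.toLinearMap)).1 hinj


end Groth.Agent.H76
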