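import Mathlib

/-!
# Schubert conditions and vanishing of Plücker minors
-/

set_option autoImplicit false
universe u

open Matrix

namespace Groth.Agent.H76.Schubert

variable {K : Type u} [Field K] {n d : ℕ}

/-- elements of the row span are `c ᵥ* A` -/
theorem mem_rowSpan_iff (A : Matrix (Fin d) (Fin n) K) (w : Fin n → K) :
    w ∈ Submodule.span K (Set.range fun i : Fin d => A i) ↔ ∃ c : Fin d → K, c ᵥ* A = w := by
  rw [Submodule.mem_span_range_iff_exists_fun]
  refine exists_congr fun c => ?_
  have : c ᵥ* A = ∑ i, c i • A i := by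
    ext l
    simp [Matrix.vecMul, dotProduct, Finset.sum_apply]
  rw [this]

theorem vecMul_injective_of_li (A : Matrix (Fin d) (Fin n) K)
    (hA : LinearIndependent K (fun i : Fin d => A i)) :
    Function.Injective (fun c : Fin d → K => c ᵥ* A) := by
  have h := (Matrix.vecMul_injective_iff (M := A)).mpr hA
  exact h

/-- forward direction -/
theorem forward (V : ℕ → Submodule K (Fin n → K))
    (hV : ∀ (j : ℕ) (v : Fin n → K), v ∈ V j ↔ ∀ l : Fin n, j ≤ (l : ℕ) → v l = 0)
    (A : Matrix (Fin d) (Fin n) K) (m : ℕ) (i : Fin d)
    (hdim : (i : ℕ) + 1 ≤ Module.finrank K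
      ↥(Submodule.span K (Set.range fun i : Fin d => A i) ⊓ V m))
    (J : Fin d → Fin n) (hJ : StrictMono J) (hJi : m < (J i : ℕ) + 1) :
    (A.submatrix id J).det = 0 := by
  classical
  set U := Submodule.span K (Set.range fun i : Fin d => A i) ⊓ V m with hU
  -- the map `U → K^i` given by the coordinates `J 0, …, J (i-1)`
  let φ : U →ₗ[K] (Fin (i : ℕ) → K) :=
    { toFun := fun u t => (u : Fin n → K) (J ⟨t, lt_trans t.2 i.2⟩)
      map_add' := fun u v => by ext t; simp
      map_smul' := fun c u => by ext t; simp }
  have hlt : Module.finrank K (Fin (i : ℕ) → K) < Module.finrank K U := by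
    rw [Module.finrank_fin_fun]
    omega
  have hkerne : LinearMap.ker φ ≠ ⊥ := LinearMap.ker_ne_bot_of_finrank_lt hlt
  obtain ⟨u, hu, hu0⟩ := (Submodule.ne_bot_iff _).mp hkerne
  rw [LinearMap.mem_ker] at hu
  have huW : (u : Fin n → K) ∈ Submodule.span K (Set.range fun i : Fin d => A i) := u.2.1
  have huV : (u : Fin n → K) ∈ V m := u.2.2
  rw [mem_rowSpan_iff] at huW
  obtain ⟨c, hc⟩ := huW
  rw [← Matrix.exists_vecMul_eq_zero_iff]
  refine ⟨c, ?_, ?_⟩
  · rintro rfl
    apply hu0
    apply Subtype.ext
    rw [← hc]
    simp
  · ext t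
    have h1 : (c ᵥ* A.submatrix id J) t = (c ᵥ* A) (J t) := by
      simp [Matrix.vecMul, dotProduct]
    rw [h1, hc]
    by_cases ht : (t : ℕ) < i
    · have := congrFun hu ⟨t, ht⟩
      exact this
    · have hle : i ≤ t := by
        rw [Fin.le_def]; omega
      have hJle : J i ≤ J t := hJ.monotone hle
      have : m ≤ (J t : ℕ) := by
        have : (J i : ℕ) ≤ J t := hJle
        omega
      exact (hV m _).mp huV (J t) this

/-- the columns span everything when the rows are independent -/
theorem span_cols_eq_top (A : Matrix (Fin d) (Fin n) K)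
    (hA : LinearIndependent K (fun i : Fin d => A i)) :
    Submodule.span K (Set.range A.col) = ⊤ := by
  apply Submodule.eq_top_of_finrank_eq
  rw [← Matrix.rank_eq_finrank_span_cols, Module.finrank_fin_fun]
  have := LinearIndependent.rank_matrix (M := A) hA
  simpa using this

/-- backward direction, for a single index -/
theorem backward (V : ℕ → Submodule K (Fin n → K))
    (hV : ∀ (j : ℕ) (v : Fin n → K), v ∈ V j ↔ ∀ l : Fin n, j ≤ (l : ℕ) → v l = 0)
    (A : Matrix (Fin d) (Fin n) K) (hA : LinearIndependent K (fun i : Fin d => A i))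
    (m : ℕ) (i : Fin d)
    (hminor : ∀ J : Fin d → Fin n, StrictMono J → m < (J i : ℕ) + 1 →
      (A.submatrix id J).det = 0) :
    (i : ℕ) + 1 ≤ Module.finrank K
      ↥(Submodule.span K (Set.range fun i : Fin d => A i) ⊓ V m) := by
  classical
  let v : Fin n → (Fin d → K) := A.col
  -- a maximal independent set of columns of index `≥ m`
  obtain ⟨b₀, hb₀t, -, hb₀span, hb₀li⟩ :=
    exists_linearIndepOn_extension (K := K) (v := v) (s := ∅) (t := {l : Fin n | m ≤ (l : ℕ)})
      (by simp) (Set.empty_subset _)
  -- extended to a column basis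
  obtain ⟨b, -, hb₀b, hbspan, hbli⟩ :=
    exists_linearIndepOn_extension (K := K) (v := v) (s := b₀) (t := Set.univ)
      hb₀li (Set.subset_univ _)
  have hbtop : Submodule.span K (v '' b) = ⊤ := by
    rw [eq_top_iff, ← span_cols_eq_top A hA]
    apply Submodule.span_le.mpr
    rw [← Set.image_univ]
    exact hbspan
  -- `b` has `d` elements
  have hbcard : b.toFinset.card = d := by
    have hli : LinearIndependent K (fun x : b => v x) := hbli
    have hsp : Submodule.span K (Set.range fun x : b => v x) = ⊤ := by
      rw [← hbtop]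
      congr 1
      ext y
      simp
    have hB := Module.Basis.mk hli (le_of_eq hsp.symm)
    have := Module.finrank_eq_card_basis hB
    rw [Module.finrank_fin_fun] at this
    rw [Set.toFinset_card]
    exact this.symm
  let J : Fin d ↪o Fin n := b.toFinset.orderEmbOfFin hbcard
  have hJrange : ∀ t, J t ∈ b := fun t => by
    have := Finset.orderEmbOfFin_mem b.toFinset hbcard t
    exact Set.mem_toFinset.mp this
  by_cases hJi : m < (J i : ℕ) + 1
  · -- the minor on `J` vanishes, but its columns are independent
    exfalso
    have hdet := hminor J J.strictMono hJi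
    have hcols : LinearIndependent K (A.submatrix id J).col := by
      have hli : LinearIndependent K (fun x : b => v x) := hbli
      have hinj : Function.Injective (fun t : Fin d => (⟨J t, hJrange t⟩ : b)) := by
        intro t t' h
        have h' : J t = J t' := by
          have := congrArg (fun x : b => (x : Fin n)) h
          exact this
        exact J.injective h'
      exact hli.comp _ hinj
    rw [Matrix.linearIndependent_cols_iff_isUnit, Matrix.isUnit_iff_isUnit_det, hdet] at hcols
    exact not_isUnit_zero hcols
  · -- `b₀` is small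
    have hJlt : (J i : ℕ) < m := by omega
    have hb₀card : b₀.toFinset.card + ((i : ℕ) + 1) ≤ d := by
      have hsub : b₀.toFinset ⊆ (Finset.univ.filter fun t : Fin d => i < t).map
          J.toEmbedding := by
        intro l hl
        have hl' : l ∈ b₀ := by simpa using hl
        have hlb : l ∈ b.toFinset := by simpa using hb₀b hl'
        have hrange := Finset.range_orderEmbOfFin b.toFinset hbcard
        have : l ∈ Set.range (b.toFinset.orderEmbOfFin hbcard) := by
          rw [hrange]; exact hlb
        obtain ⟨t, rfl⟩ := this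
        rw [Finset.mem_map]
        refine ⟨t, ?_, rfl⟩
        rw [Finset.mem_filter]
        refine ⟨Finset.mem_univ _, ?_⟩
        by_contra hti
        have hti' : t ≤ i := not_lt.mp hti
        have h1 : J t ≤ J i := J.monotone hti'
        have h2 : m ≤ ((b.toFinset.orderEmbOfFin hbcard t : Fin n) : ℕ) := hb₀t hl'
        have h3 : ((J t : Fin n) : ℕ) ≤ (J i : ℕ) := h1
        have h4 : ((J t : Fin n) : ℕ) = ((b.toFinset.orderEmbOfFin hbcard t : Fin n) : ℕ) := rfl
        omega
      have hcard := Finset.card_le_card hsub
      rw [Finset.card_map] at hcard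
      have hfilter : (Finset.univ.filter fun t : Fin d => i < t).card = d - ((i : ℕ) + 1) := by
        have : (Finset.univ.filter fun t : Fin d => i < t) = Finset.Ioi i := by
          ext t; simp
        rw [this, Fin.card_Ioi]
        omega
      rw [hfilter] at hcard
      have := i.2
      omega
    -- kernel of `c ↦ (c ⬝ v l)_{l ∈ b₀}`
    let ψ : (Fin d → K) →ₗ[K] (b₀ → K) :=
      { toFun := fun c l => c ⬝ᵥ v l
        map_add' := fun c c' => by ext l; simp [add_dotProduct]
        map_smul' := fun a c => by ext l; simp [smul_dotProduct] }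
    have hker : d ≤ Module.finrank K (LinearMap.ker ψ) + b₀.toFinset.card := by
      have h1 := LinearMap.finrank_range_add_finrank_ker ψ
      rw [Module.finrank_fin_fun] at h1
      have h2 : Module.finrank K (LinearMap.range ψ) ≤ Module.finrank K (b₀ → K) :=
        Submodule.finrank_le _
      rw [Module.finrank_pi, ← Set.toFinset_card] at h2
      omega
    -- the kernel embeds into `W ∩ V m`
    have hmem : ∀ c ∈ LinearMap.ker ψ,
        c ᵥ* A ∈ Submodule.span K (Set.range fun i : Fin d => A i) ⊓ V m := by
      intro c hc
      refine ⟨(mem_rowSpan_iff A _).mpr ⟨c, rfl⟩, ?_⟩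
      rw [SetLike.mem_coe, hV]
      intro l hl
      -- `v l` is in the span of `v '' b₀`
      have hvl : v l ∈ Submodule.span K (v '' b₀) := hb₀span ⟨l, hl, rfl⟩
      have hzero : ∀ y ∈ Submodule.span K (v '' b₀), c ⬝ᵥ y = 0 := by
        intro y hy
        induction hy using Submodule.span_induction with
        | mem y hy =>
          obtain ⟨l', hl', rfl⟩ := hy
          have := congrFun (LinearMap.mem_ker.mp hc) ⟨l', hl'⟩
          exact this
        | zero => simp
        | add y z _ _ hy hz => rw [dotProduct_add, hy, hz, add_zero]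
        | smul a y _ hy => rw [dotProduct_smul, hy, smul_zero]
      have := hzero _ hvl
      exact this
    let ι : LinearMap.ker ψ →ₗ[K]
        ↥(Submodule.span K (Set.range fun i : Fin d => A i) ⊓ V m) :=
      { toFun := fun c => ⟨(c : Fin d → K) ᵥ* A, hmem c c.2⟩
        map_add' := fun c c' => by
          apply Subtype.ext
          simp [Matrix.add_vecMul]
        map_smul' := fun a c => by
          apply Subtype.ext
          simp [Matrix.smul_vecMul] }
    have hιinj : Function.Injective ι := by
      intro c c' h
      apply Subtype.ext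
      apply vecMul_injective_of_li A hA
      exact congrArg Subtype.val h
    have := LinearMap.finrank_le_finrank_of_injective hιinj
    omega

theorem main (n d : ℕ) (V : ℕ → Submodule K (Fin n → K))
    (hV : ∀ (j : ℕ) (v : Fin n → K), v ∈ V j ↔ ∀ l : Fin n, j ≤ (l : ℕ) → v l = 0)
    (lam : Fin d → ℕ) (A : Matrix (Fin d) (Fin n) K)
    (hA : LinearIndependent K (fun i : Fin d => A i)) :
    (∀ i : Fin d, (i : ℕ) + 1 ≤
        Module.finrank K ↥(Submodule.span K (Set.range fun i : Fin d => A i) ⊓
          V (n - d + ((i : ℕ) + 1) - lam i))) ↔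
      ∀ J : Fin d → Fin n, StrictMono J →
        (∃ i : Fin d, n - d + ((i : ℕ) + 1) - lam i < (J i : ℕ) + 1) →
          (A.submatrix id J).det = 0 := by
  constructor
  · rintro h J hJ ⟨i, hi⟩
    exact forward V hV A _ i (h i) J hJ hi
  · intro h i
    exact backward V hV A hA _ i (fun J hJ hJi => h J hJ ⟨i, hJi⟩)

end Groth.Agent.H76.Schubert
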