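import Mathlib
import Groth.Prelude.Def_SekSuwa2
import Groth.Agent.H76.FlatTorsion

set_option autoImplicit false
universe u
open CategoryTheory AlgebraicGeometry

namespace Groth.Agent.H76

open SekSuwa in
theorem seksuwa_core (R : Type u) [CommRing R] [IsDomain R] (lam : R) (N : ℕ)
    (h : SekSuwa.DivCond lam N) {X : Scheme.{u}} (q : X ⟶ Spec (CommRingCat.of R)) [Flat q]
    (a b : X ⟶ Spec (CommRingCat.of (SekSuwa.AK R lam N h)))
    (ha : a ≫ Spec.map (CommRingCat.ofHom (algebraMap R (SekSuwa.AK R lam N h))) = q)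
    (hb : b ≫ Spec.map (CommRingCat.ofHom (algebraMap R (SekSuwa.AK R lam N h))) = q)
    (hab : a ≫ Spec.map (CommRingCat.ofHom
        (SekSuwa.alphaNHom R lam N h : MonoidAlgebra R (Multiplicative (ZMod N)) →+* SekSuwa.AK R lam N h)) =
      b ≫ Spec.map (CommRingCat.ofHom
        (SekSuwa.alphaNHom R lam N h : MonoidAlgebra R (Multiplicative (ZMod N)) →+* SekSuwa.AK R lam N h))) : a = b := by
  classical
  have hlam : lam ≠ 0 := nonZeroDivisors.ne_zero h.1
  apply ext_of_isAffine
  let ρ : R →+* Γ(X, ⊤) :=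
    (q.appTop.hom).comp (Scheme.ΓSpecIso (CommRingCat.of R)).inv.hom
  letI : Algebra R Γ(X, ⊤) := ρ.toAlgebra
  have hw : ∀ u : X ⟶ Spec (CommRingCat.of (SekSuwa.AK R lam N h)),
      u ≫ Spec.map (CommRingCat.ofHom (algebraMap R (SekSuwa.AK R lam N h))) = q → ∀ r : R,
      (u.appTop.hom ((Scheme.ΓSpecIso (CommRingCat.of (SekSuwa.AK R lam N h))).inv.hom
        (algebraMap R (SekSuwa.AK R lam N h) r))) = ρ r := by
    intro u h1 r
    have h2 := congrArg (fun q => q.appTop) h1
    simp only [Scheme.Hom.comp_appTop] at h2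
    have h3 := Scheme.ΓSpecIso_inv_naturality
      (CommRingCat.ofHom (algebraMap R (SekSuwa.AK R lam N h)))
    have h4 : CommRingCat.ofHom (algebraMap R (SekSuwa.AK R lam N h)) ≫
        (Scheme.ΓSpecIso (CommRingCat.of (SekSuwa.AK R lam N h))).inv ≫ u.appTop =
        (Scheme.ΓSpecIso (CommRingCat.of R)).inv ≫ q.appTop := by
      rw [← Category.assoc, h3, Category.assoc, h2]
    exact congrArg (fun q => q.hom r) h4
  let F : (u : X ⟶ Spec (CommRingCat.of (SekSuwa.AK R lam N h))) →
      (u ≫ Spec.map (CommRingCat.ofHom (algebraMap R (SekSuwa.AK R lam N h))) = q) →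
      SekSuwa.AK R lam N h →ₐ[R] Γ(X, ⊤) := fun u hu =>
    { toRingHom := (u.appTop.hom).comp
        (Scheme.ΓSpecIso (CommRingCat.of (SekSuwa.AK R lam N h))).inv.hom
      commutes' := fun r => hw u hu r }
  have hu : F a ha (1 + lam • SekSuwa.AK.t) = F b hb (1 + lam • SekSuwa.AK.t) := by
    have h2 := congrArg (fun q => q.appTop) hab
    simp only [Scheme.Hom.comp_appTop] at h2
    have h3 := Scheme.ΓSpecIso_inv_naturality (CommRingCat.ofHom
        (SekSuwa.alphaNHom R lam N h : MonoidAlgebra R (Multiplicative (ZMod N)) →+* SekSuwa.AK R lam N h))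
    have h4 : CommRingCat.ofHom (SekSuwa.alphaNHom R lam N h : MonoidAlgebra R (Multiplicative (ZMod N)) →+* SekSuwa.AK R lam N h) ≫
        (Scheme.ΓSpecIso (CommRingCat.of (SekSuwa.AK R lam N h))).inv ≫ a.appTop =
        CommRingCat.ofHom (SekSuwa.alphaNHom R lam N h : MonoidAlgebra R (Multiplicative (ZMod N)) →+* SekSuwa.AK R lam N h) ≫
        (Scheme.ΓSpecIso (CommRingCat.of (SekSuwa.AK R lam N h))).inv ≫ b.appTop := by
      rw [← Category.assoc, h3, Category.assoc, h2, ← Category.assoc, ← h3, Category.assoc]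
    have h5 := congrArg (fun q => q.hom
      (MonoidAlgebra.single (Multiplicative.ofAdd (1 : ZMod N)) (1 : R))) h4
    have h6 := SekSuwa.alphaNHom_single_one R lam N h
    rw [← h6]
    exact h5
  have ht : F a ha SekSuwa.AK.t = F b hb SekSuwa.AK.t := by
    have h1 : algebraMap R Γ(X, ⊤) lam *
        (F a ha SekSuwa.AK.t - F b hb SekSuwa.AK.t) = 0 := by
      have := hu
      simp only [map_add, map_one, map_smul, Algebra.smul_def] at this
      rw [mul_sub, sub_eq_zero]
      have h9 := add_left_cancel this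
      simpa only [map_mul, AlgHom.commutes] using h9
    have h2 := eq_zero_of_mul_eq_zero_of_flat q lam hlam _ h1
    exact sub_eq_zero.1 h2
  have hinv : F a ha SekSuwa.AK.inv = F b hb SekSuwa.AK.inv := by
    have e1 : (1 + lam • (SekSuwa.AK.t : SekSuwa.AK R lam N h)) * SekSuwa.AK.inv = 1 := by
      have := congrArg (SekSuwa.AK.mkHom R lam N h) (SekSuwa.A.u_mul_inv (R := R) (lam := lam))
      rw [map_mul, map_one, SekSuwa.A.u, map_add, map_one, map_smul] at this
      exact this
    have hf1 := congrArg (F a ha) e1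
    have hg1 := congrArg (F b hb) e1
    rw [map_mul, map_one] at hf1 hg1
    calc F a ha SekSuwa.AK.inv
        = F a ha SekSuwa.AK.inv *
          (F b hb (1 + lam • SekSuwa.AK.t) * F b hb SekSuwa.AK.inv) := by rw [hg1, mul_one]
      _ = (F a ha (1 + lam • SekSuwa.AK.t) * F a ha SekSuwa.AK.inv) * F b hb SekSuwa.AK.inv := by
          rw [hu]; ring
      _ = F b hb SekSuwa.AK.inv := by rw [hf1, one_mul]
  have hFG : F a ha = F b hb := SekSuwa.AK.algHom_ext ht hinv
  have key : (Scheme.ΓSpecIso (CommRingCat.of (SekSuwa.AK R lam N h))).inv ≫ a.appTop =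
      (Scheme.ΓSpecIso (CommRingCat.of (SekSuwa.AK R lam N h))).inv ≫ b.appTop := by
    apply CommRingCat.hom_ext
    exact congrArg (fun φ : SekSuwa.AK R lam N h →ₐ[R] Γ(X, ⊤) => φ.toRingHom) hFG
  exact (cancel_epi _).1 key

end Groth.Agent.H76
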