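import Mathlib
import Groth.Agent.H1.CSAIdeal

/-!
# A central simple algebra, free of rank `r` over a commutative subalgebra `L`, is split by `L`

`nonempty_algEquiv_matrix_of_free`: `A` central simple of dimension `r²` over `k`, `L` a commutative
`k`-algebra embedded in `A` with `A` free of rank `r` as a right `L`-module; then
`L ⊗[k] A ≃ₐ[L] M_r(L)`.
-/

set_option autoImplicit false

open TensorProduct

namespace Groth.Agent.H76

universe u v w

theorem nonempty_algEquiv_matrix_of_free {k : Type u} [Field k] {A : Type v} [Ring A] [Algebra k A]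
    [Algebra.IsCentral k A] [IsSimpleRing A] [FiniteDimensional k A] {L : Type w} [CommRing L]
    [Algebra k L] (ι : L →ₐ[k] A) (hι : Function.Injective ι) [Module L A]
    (hmod : ∀ (l : L) (a : A), l • a = a * ι l) [Module.Free L A] (r : ℕ)
    (hA : Module.finrank k A = r ^ 2) (hrank : Module.finrank L A = r) :
    Nonempty ((L ⊗[k] A) ≃ₐ[L] Matrix (Fin r) (Fin r) L) := by
  classical
  have : IsScalarTower k L A := ⟨fun c l a => by
    rw [hmod, hmod, map_smul, mul_smul_comm]⟩
  have : SMulCommClass L k A := ⟨fun l c a => by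
    rw [hmod, hmod, smul_mul_assoc]⟩
  have : Module.Finite L A := Module.Finite.of_restrictScalars_finite k L A
  have : FiniteDimensional k L := Module.Finite.of_injective ι.toLinearMap hι
  let g : A →ₐ[k] Module.End L A :=
    { toFun := fun a =>
        { toFun := fun y => a * y
          map_add' := mul_add a
          map_smul' := fun l y => by simp only [hmod, mul_assoc, RingHom.id_apply] }
      map_one' := by ext y; simp
      map_mul' := fun a b => by ext y; simp [mul_assoc]
      map_zero' := by ext y; simp
      map_add' := fun a b => by ext y; simp [add_mul]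
      commutes' := fun c => by
        ext y
        simp [Algebra.smul_def] }
  let f : L →ₐ[L] Module.End L A := Algebra.ofId L _
  have hcomm : ∀ l a, Commute (f l) (g a) := by
    intro l a
    ext y
    change l • (a * y) = a * (l • y)
    rw [hmod, hmod, mul_assoc]
  let φ : L ⊗[k] A →ₐ[L] Module.End L A := Algebra.TensorProduct.lift f g hcomm
  have hφ : ∀ l a, φ (l ⊗ₜ a) = f l * g a := fun l a => Algebra.TensorProduct.lift_tmul _ _ _ _ _
  have hinj : Function.Injective φ := by
    rw [← TwoSidedIdeal.ker_eq_bot, eq_bot_iff]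
    rw [Groth.Agent.H1.eq_span_tmul_one (TwoSidedIdeal.ker φ), TwoSidedIdeal.span_le]
    rintro _ ⟨l, hl, rfl⟩
    have h1 : φ (l ⊗ₜ (1 : A)) = 0 := (TwoSidedIdeal.mem_ker φ).1 hl
    rw [hφ] at h1
    have h2 := congrArg (fun e : Module.End L A => e 1) h1
    change l • ((1 : A) * 1) = 0 at h2
    rw [hmod, one_mul, one_mul] at h2
    have h3 : l = 0 := hι (by rw [h2, map_zero])
    rw [h3]
    change (0 : L) ⊗ₜ[k] (1 : A) ∈ (⊥ : TwoSidedIdeal (L ⊗[k] A))
    rw [TensorProduct.zero_tmul]
    exact (⊥ : TwoSidedIdeal (L ⊗[k] A)).zero_mem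
  have : Nontrivial L := ι.toRingHom.domain_nontrivial
  let b : Module.Basis (Fin r) L A := Module.finBasisOfFinrankEq L A hrank
  let eM : Module.End L A ≃ₐ[L] Matrix (Fin r) (Fin r) L := LinearMap.toMatrixAlgEquiv b
  have hfinEnd : Module.Finite k (Module.End L A) :=
    Module.Finite.equiv (eM.toLinearEquiv.restrictScalars k).symm
  have hdim : Module.finrank k (L ⊗[k] A) = Module.finrank k (Module.End L A) := by
    rw [Module.finrank_tensorProduct, (eM.toLinearEquiv.restrictScalars k).finrank_eq,
      Module.finrank_matrix, Fintype.card_fin, hA]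
    ring
  have hsurj : Function.Surjective φ :=
    (LinearMap.injective_iff_surjective_of_finrank_eq_finrank
      (f := φ.toLinearMap.restrictScalars k) hdim).1 hinj
  exact ⟨(AlgEquiv.ofBijective φ ⟨hinj, hsurj⟩).trans eM⟩

end Groth.Agent.H76
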