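import Mathlib
import Groth.Agent.H19.SqZeroComplete
import Groth.Agent.H23.PowerSeriesEval

/-!
# Lifting a surjection from a power series ring along a square-zero extension

`π : R[[σ]] → A` surjective onto a complete Noetherian local ring, `f : E → A` surjective with
finitely generated square-zero kernel. Then `π` lifts to `E`.
-/

set_option autoImplicit false
set_option linter.unusedSectionVars false
universe u v w w'

namespace Groth.Agent.H76.SqZeroLift

open MvPowerSeries Groth.Agent.H23.PowerSeriesEval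

variable {R : Type u} [CommRing R] {σ : Type v} [Finite σ]
variable {A : Type w} [CommRing A] [Algebra R A]

/-- A surjective algebra map from a power series ring onto a local ring sends series without
constant term into the maximal ideal. -/
theorem map_mem_maximalIdeal [IsLocalRing A] (π : MvPowerSeries σ R →ₐ[R] A)
    (hπ : Function.Surjective π) (x : MvPowerSeries σ R)
    (hx : x ∈ RingHom.ker (constantCoeff : MvPowerSeries σ R →+* R)) :
    π x ∈ IsLocalRing.maximalIdeal A := by
  by_contra h
  rw [IsLocalRing.mem_maximalIdeal, mem_nonunits_iff, not_not] at h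
  obtain ⟨a, ha⟩ := h.exists_right_inv
  obtain ⟨y, rfl⟩ := hπ a
  have hu : IsUnit (x * y - 1) := by
    rw [MvPowerSeries.isUnit_iff_constantCoeff, map_sub, map_mul, RingHom.mem_ker.1 hx, zero_mul,
      zero_sub, map_one]
    exact isUnit_one.neg
  have h0 : π (x * y - 1) = 0 := by
    rw [map_sub, map_mul, ha, map_one, sub_self]
  have := hu.map π
  rw [h0] at this
  exact not_isUnit_zero this

theorem map_pow_le [IsLocalRing A] (π : MvPowerSeries σ R →ₐ[R] A)
    (hπ : Function.Surjective π) (n : ℕ) (x : MvPowerSeries σ R)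
    (hx : x ∈ RingHom.ker (constantCoeff : MvPowerSeries σ R →+* R) ^ n) :
    π x ∈ IsLocalRing.maximalIdeal A ^ n := by
  have h1 : (RingHom.ker (constantCoeff : MvPowerSeries σ R →+* R)).map π.toRingHom ≤
      IsLocalRing.maximalIdeal A := by
    rw [Ideal.map_le_iff_le_comap]
    intro y hy
    exact map_mem_maximalIdeal π hπ y hy
  have h2 : π.toRingHom x ∈ ((RingHom.ker (constantCoeff : MvPowerSeries σ R →+* R)) ^ n).map
      π.toRingHom := Ideal.mem_map_of_mem _ hx
  rw [Ideal.map_pow] at h2
  exact Ideal.pow_right_mono h1 n h2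

variable {E : Type w'} [CommRing E] [Algebra R E]

theorem exists_lift [IsNoetherianRing A] [IsLocalRing A]
    [IsAdicComplete (IsLocalRing.maximalIdeal A) A]
    (π : MvPowerSeries σ R →ₐ[R] A) (hπ : Function.Surjective π)
    (f : E →ₐ[R] A) (hf : Function.Surjective f)
    (hsq : RingHom.ker f.toRingHom ^ 2 = ⊥) (hfg : (RingHom.ker f.toRingHom).FG) :
    ∃ l : MvPowerSeries σ R →ₐ[R] E, f.comp l = π := by
  classical
  set m := IsLocalRing.maximalIdeal A with hm
  set J : Ideal E := m.comap f.toRingHom with hJ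
  have hcomp : IsAdicComplete J E :=
    Groth.Agent.H19.SqZeroComplete.main f.toRingHom hf hsq hfg
  -- lifts of the variables
  choose e he using fun i : σ => hf (π (X i))
  have heJ : ∀ i, e i ∈ J := by
    intro i
    rw [hJ, Ideal.mem_comap]
    show f (e i) ∈ m
    rw [he]
    apply map_mem_maximalIdeal π hπ
    rw [RingHom.mem_ker]
    exact MvPowerSeries.constantCoeff_X i
  -- the truncated evaluations
  have hz : ∀ n : ℕ, Ideal.span (Set.range fun i => (Ideal.Quotient.mk (J ^ n) (e i))) ^ n = ⊥ := by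
    intro n
    rw [eq_bot_iff]
    have h1 : Ideal.span (Set.range fun i => (Ideal.Quotient.mk (J ^ n) (e i))) ≤
        J.map (Ideal.Quotient.mk (J ^ n)) := by
      rw [Ideal.span_le]
      rintro _ ⟨i, rfl⟩
      exact Ideal.mem_map_of_mem _ (heJ i)
    refine (Ideal.pow_right_mono h1 n).trans ?_
    rw [← Ideal.map_pow, Ideal.map_quotient_self]
  let ln : ∀ n : ℕ, MvPowerSeries σ R →ₐ[R] E ⧸ J ^ n := fun n =>
    evalTrunc (A := R) (fun i => (Ideal.Quotient.mk (J ^ n) (e i))) n (hz n)
  have hcompat : ∀ {a b : ℕ} (hle : a ≤ b),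
      (Ideal.Quotient.factorₐ R (Ideal.pow_le_pow_right hle)).comp (ln b) = ln a := by
    intro a b hle
    apply algHom_ext_of_kills _ _ b
    · intro x hx
      rw [AlgHom.comp_apply]
      show (Ideal.Quotient.factorₐ R _) (evalTrunc _ b (hz b) x) = 0
      rw [evalTrunc_kills _ b (hz b) x hx, map_zero]
    · intro x hx
      exact evalTrunc_kills _ a (hz a) x (Ideal.pow_le_pow_right hle hx)
    · intro i
      rw [AlgHom.comp_apply]
      show (Ideal.Quotient.factorₐ R _) (evalTrunc _ b (hz b) (X i)) = evalTrunc _ a (hz a) (X i)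
      rw [evalTrunc_X, evalTrunc_X]
      rfl
  let l : MvPowerSeries σ R →ₐ[R] E := IsAdicComplete.liftAlgHom J ln hcompat
  have hl : ∀ (n : ℕ) (x : MvPowerSeries σ R), Ideal.Quotient.mk (J ^ n) (l x) = ln n x :=
    fun n x => IsAdicComplete.mk_liftAlgHom J ln hcompat n x
  have hfJ : ∀ (n : ℕ) (y : E), y ∈ J ^ n → f y ∈ m ^ n := by
    intro n y hy
    have h2 : f.toRingHom y ∈ (J ^ n).map f.toRingHom := Ideal.mem_map_of_mem _ hy
    rw [Ideal.map_pow] at h2
    exact Ideal.pow_right_mono Ideal.map_comap_le n h2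
  refine ⟨l, ?_⟩
  apply IsAdicComplete.algHom_ext m
  intro n
  apply algHom_ext_of_kills _ _ n
  · intro x hx
    rw [AlgHom.comp_apply, AlgHom.comp_apply]
    show Ideal.Quotient.mk (m ^ n) (f (l x)) = 0
    rw [Ideal.Quotient.eq_zero_iff_mem]
    apply hfJ
    rw [← Ideal.Quotient.eq_zero_iff_mem, hl]
    exact evalTrunc_kills _ n (hz n) x hx
  · intro x hx
    rw [AlgHom.comp_apply]
    show Ideal.Quotient.mk (m ^ n) (π x) = 0
    rw [Ideal.Quotient.eq_zero_iff_mem]
    exact map_pow_le π hπ n x hx
  · intro i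
    rw [AlgHom.comp_apply, AlgHom.comp_apply, AlgHom.comp_apply]
    show Ideal.Quotient.mk (m ^ n) (f (l (X i))) = Ideal.Quotient.mk (m ^ n) (π (X i))
    rw [← he i, ← sub_eq_zero, ← map_sub, ← map_sub, Ideal.Quotient.eq_zero_iff_mem]
    apply hfJ
    rw [← Ideal.Quotient.eq_zero_iff_mem, map_sub, hl, sub_eq_zero]
    exact evalTrunc_X _ n (hz n) i

end Groth.Agent.H76.SqZeroLift
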