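import Mathlib
import Groth.Agent.H76.ThreePtE

/-!
# Three-point ramification: a separable member of `P(L)` is a map with exact ramification
-/

set_option autoImplicit false
universe u

open Polynomial Module

namespace Groth.Agent.H76.ThreePt

variable {k : Type u} [Field k]

theorem not_pw_dvd {a : k} {m : ℕ} (hm : 1 ≤ m) {R W : k[X]} (hR : R.eval a ≠ 0)
    (hW : W = pw a (m - 1) * R) : ¬ pw a m ∣ W := by
  intro h
  have hm' : pw a m = pw a (m - 1) * pw a 1 := by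
    rw [pw_mul_pw, Nat.sub_add_cancel hm]
  rw [hW, hm', mul_dvd_mul_iff_left (pw_ne_zero _ _), pw_one_dvd_iff] at h
  exact hR h

section main

variable (d : ℕ) (P₀ P₁ P₂ : k) (e₀ e₁ e₂ : ℕ)
variable (h01 : P₀ ≠ P₁) (h02 : P₀ ≠ P₂) (h12 : P₁ ≠ P₂)
  (hsum : e₀ + e₁ + e₂ = 2 * d + 1) (he₀ : e₀ ≤ d) (he₁ : e₁ ≤ d) (he₂ : e₂ ≤ d)
  (he₀' : 2 ≤ e₀) (he₁' : 2 ≤ e₁) (he₂' : 2 ≤ e₂)

include h01 h02 h12 hsum he₀ he₁ he₂ he₀' he₁' he₂' in
/-- structure of a non-zero Wronskian -/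
theorem wronskian_structure {v : k[X] × k[X]} (hv : v ∈ L d P₀ P₁ P₂ e₀ e₁ e₂)
    (hW : wronskian v.1 v.2 ≠ 0) :
    Om P₀ P₁ P₂ e₀ e₁ e₂ ∣ wronskian v.1 v.2 ∧
    ¬ pw P₀ e₀ ∣ wronskian v.1 v.2 ∧ ¬ pw P₁ e₁ ∣ wronskian v.1 v.2 ∧
      ¬ pw P₂ e₂ ∣ wronskian v.1 v.2 ∧
      ∀ a : k, a ≠ P₀ → a ≠ P₁ → a ≠ P₂ → (wronskian v.1 v.2).eval a ≠ 0 := by
  obtain ⟨h1, h2, h3, h4, h5⟩ := hv
  have d0 : pw P₀ (e₀ - 1) ∣ wronskian v.1 v.2 := pw_dvd_wronskian h3 _
  have d1 : pw P₁ (e₁ - 1) ∣ wronskian v.1 v.2 := by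
    rw [← wronskian_neg_eq v.2 v.1]
    exact (dvd_neg).mpr (pw_dvd_wronskian h4 _)
  have d2 : pw P₂ (e₂ - 1) ∣ wronskian v.1 v.2 := by
    have : wronskian v.1 v.2 = wronskian (v.1 + v.2) v.2 := by
      rw [wronskian_add_left, wronskian_self_eq_zero, add_zero]
    rw [this]
    exact pw_dvd_wronskian h5 _
  have hOm := Om_dvd P₀ P₁ P₂ e₀ e₁ e₂ h01 h02 h12 d0 d1 d2
  obtain ⟨q, hq⟩ := hOm
  have hq0 : q ≠ 0 := by
    rintro rfl
    rw [mul_zero] at hq
    exact hW hq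
  have hdeg := natDegree_wronskian_le d (by omega) h1 h2 hW
  rw [hq, natDegree_mul (Om_ne_zero _ _ _ _ _ _) hq0, natDegree_Om] at hdeg
  have hqdeg : q.natDegree = 0 := by omega
  obtain ⟨c, hc⟩ := natDegree_eq_zero.mp hqdeg
  have hc0 : c ≠ 0 := by
    rintro rfl
    rw [map_zero] at hc
    exact hq0 hc.symm
  refine ⟨⟨q, hq⟩, ?_, ?_, ?_, ?_⟩
  · apply not_pw_dvd (by omega) (R := pw P₁ (e₁ - 1) * pw P₂ (e₂ - 1) * C c)
    · rw [eval_mul, eval_mul, eval_C]
      exact mul_ne_zero (mul_ne_zero (eval_pw_ne_zero (Ne.symm h01) _)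
        (eval_pw_ne_zero (Ne.symm h02) _)) hc0
    · rw [hq, ← hc, Om]; ring
  · apply not_pw_dvd (by omega) (R := pw P₀ (e₀ - 1) * pw P₂ (e₂ - 1) * C c)
    · rw [eval_mul, eval_mul, eval_C]
      exact mul_ne_zero (mul_ne_zero (eval_pw_ne_zero h01 _)
        (eval_pw_ne_zero (Ne.symm h12) _)) hc0
    · rw [hq, ← hc, Om]; ring
  · apply not_pw_dvd (by omega) (R := pw P₀ (e₀ - 1) * pw P₁ (e₁ - 1) * C c)
    · rw [eval_mul, eval_mul, eval_C]
      exact mul_ne_zero (mul_ne_zero (eval_pw_ne_zero h02 _)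
        (eval_pw_ne_zero h12 _)) hc0
    · rw [hq, ← hc, Om]; ring
  · intro a ha0 ha1 ha2
    rw [hq, ← hc, Om, eval_mul, eval_mul, eval_mul, eval_C]
    exact mul_ne_zero (mul_ne_zero (mul_ne_zero (eval_pw_ne_zero (Ne.symm ha0) _)
      (eval_pw_ne_zero (Ne.symm ha1) _)) (eval_pw_ne_zero (Ne.symm ha2) _)) hc0

include h01 h02 h12 hsum he₀ he₁ he₂ he₀' he₁' he₂' in
/-- a separable member of `P(L)` has exact ramification -/
theorem exact_ram {v : k[X] × k[X]} (hv : v ∈ L d P₀ P₁ P₂ e₀ e₁ e₂)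
    (hW : wronskian v.1 v.2 ≠ 0) (s : k[X])
    (hs : s ∈ Submodule.span k ({v.1, v.2} : Set k[X])) (hs0 : s ≠ 0) :
    rootMultiplicity P₀ s ≤ e₀ ∧ rootMultiplicity P₁ s ≤ e₁ ∧ rootMultiplicity P₂ s ≤ e₂ := by
  obtain ⟨-, hn0, hn1, hn2, -⟩ :=
    wronskian_structure d P₀ P₁ P₂ e₀ e₁ e₂ h01 h02 h12 hsum he₀ he₁ he₂ he₀' he₁' he₂' hv hW
  rw [mem_span_pair'] at hs
  obtain ⟨α, β, rfl⟩ := hs
  have key : ∀ (a : k) (m : ℕ), ¬ pw a m ∣ wronskian v.1 v.2 →
      rootMultiplicity a (α • v.1 + β • v.2) ≤ m := by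
    intro a m hn
    by_contra hcon
    push_neg at hcon
    have hdvd : pw a (m + 1) ∣ α • v.1 + β • v.2 := (le_rootMult_iff hs0 _).mp hcon
    by_cases hα : α = 0
    · have hβ : β ≠ 0 := by
        rintro rfl
        apply hs0
        rw [hα]; simp
      have h1 := pw_dvd_wronskian hdvd v.1
      have h2 : wronskian (α • v.1 + β • v.2) v.1 = (-β) • wronskian v.1 v.2 := by
        have := wronskian_comb v.1 v.2 α β 1 0
        rw [one_smul, zero_smul, add_zero] at this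
        rw [this]
        congr 1
        ring
      rw [h2, Nat.add_sub_cancel] at h1
      exact hn (dvd_of_smul_dvd (neg_ne_zero.mpr hβ) h1)
    · have h1 := pw_dvd_wronskian hdvd v.2
      have h2 : wronskian (α • v.1 + β • v.2) v.2 = α • wronskian v.1 v.2 := by
        have := wronskian_comb v.1 v.2 α β 0 1
        rw [one_smul, zero_smul, zero_add] at this
        rw [this]
        congr 1
        ring
      rw [h2, Nat.add_sub_cancel] at h1
      exact hn (dvd_of_smul_dvd hα h1)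
  exact ⟨key _ _ hn0, key _ _ hn1, key _ _ hn2⟩

include h01 h02 h12 hsum he₀ he₁ he₂ he₀' he₁' he₂' in
/-- a separable member of `P(L)` is a base-point-free pencil of degree `d` -/
theorem pencil_of_sep {v : k[X] × k[X]} (hv : v ∈ L d P₀ P₁ P₂ e₀ e₁ e₂)
    (hW : wronskian v.1 v.2 ≠ 0) :
    (∃ s ∈ Submodule.span k ({v.1, v.2} : Set k[X]), s.natDegree = d) ∧
      ∀ a : k, ∃ s ∈ Submodule.span k ({v.1, v.2} : Set k[X]), s.eval a ≠ 0 := by
  obtain ⟨hOm, hn0, hn1, hn2, hother⟩ :=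
    wronskian_structure d P₀ P₁ P₂ e₀ e₁ e₂ h01 h02 h12 hsum he₀ he₁ he₂ he₀' he₁' he₂' hv hW
  have hv' := hv
  obtain ⟨h1, h2, h3, h4, h5⟩ := hv
  have hm1 : v.1 ∈ Submodule.span k ({v.1, v.2} : Set k[X]) := Submodule.subset_span (by simp)
  have hm2 : v.2 ∈ Submodule.span k ({v.1, v.2} : Set k[X]) := Submodule.subset_span (by simp)
  constructor
  · by_contra hcon
    push_neg at hcon
    have hF := hcon v.1 hm1
    have hG := hcon v.2 hm2
    rw [mem_degreeLE] at h1 h2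
    have hFd := natDegree_le_of_degree_le h1
    have hGd := natDegree_le_of_degree_le h2
    have hlt := natDegree_wronskian_lt_add hW
    have hge := natDegree_le_of_dvd hOm hW
    rw [natDegree_Om] at hge
    omega
  · intro a
    by_contra hcon
    push_neg at hcon
    have hF : pw a 1 ∣ v.1 := pw_one_dvd_iff.mpr (hcon v.1 hm1)
    have hG : pw a 1 ∣ v.2 := pw_one_dvd_iff.mpr (hcon v.2 hm2)
    by_cases ha0 : a = P₀
    · subst ha0
      have := pw_dvd_wronskian_two (by omega) (le_refl 1) h3 hG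
      rw [Nat.add_sub_cancel] at this
      exact hn0 this
    by_cases ha1 : a = P₁
    · subst ha1
      have := pw_dvd_wronskian_two (by omega) (le_refl 1) h4 hF
      rw [Nat.add_sub_cancel, ← wronskian_neg_eq v.1 v.2] at this
      exact hn1 ((dvd_neg).mp this)
    by_cases ha2 : a = P₂
    · subst ha2
      have := pw_dvd_wronskian_two (by omega) (le_refl 1) h5 hG
      rw [Nat.add_sub_cancel, wronskian_add_left, wronskian_self_eq_zero, add_zero] at this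
      exact hn2 this
    · have := pw_dvd_wronskian_two (le_refl 1) (le_refl 1) hF hG
      rw [Nat.add_sub_cancel, pw_one_dvd_iff] at this
      exact hother a ha0 ha1 ha2 this

end main

end Groth.Agent.H76.ThreePt
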