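import Mathlib
import Groth.Agent.H76.ThreePtF

/-!
# Three-point ramification: main statement
-/

set_option autoImplicit false
universe u

open Polynomial Module

namespace Groth.Agent.H76.ThreePt

variable {k : Type u} [Field k]

theorem mainB [IsAlgClosed k] (p : ℕ) (d : ℕ) (P : Fin 3 → k) (hP : Function.Injective P)
    (e : Fin 3 → ℕ) (he : W4c1limliniiii.Admissible p d e) :
    (W4c1limliniiii.ramMaps d P e).Subsingleton ∧
      (W4c1limliniiii.ramMaps d P e = ∅ ↔
        ∃ V : Submodule k k[X], V ≤ Polynomial.degreeLE k d ∧ Module.finrank k V = 2 ∧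
          ¬ W4c1limliniiii.IsSeparable V ∧
          ∀ i, ∃ s ∈ V, s ≠ 0 ∧ e i ≤ Polynomial.rootMultiplicity (P i) s) := by
  classical
  obtain ⟨hLne, hpart2, hsurj, -⟩ := explicit (k := k) p d P hP e he
  obtain ⟨hei, hsum⟩ := he
  rw [Fin.sum_univ_three] at hsum
  have hsum' : e 0 + e 1 + e 2 = 2 * d + 1 := by omega
  have he₀ := (hei 0).2.1
  have he₁ := (hei 1).2.1
  have he₂ := (hei 2).2.1
  have he₀' := (hei 0).1
  have he₁' := (hei 1).1
  have he₂' := (hei 2).1
  have h01 : P 0 ≠ P 1 := fun h => by simpa using hP h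
  have h02 : P 0 ≠ P 2 := fun h => by simpa using hP h
  have h12 : P 1 ≠ P 2 := fun h => by simpa using hP h
  set LL := L d (P 0) (P 1) (P 2) (e 0) (e 1) (e 2) with hLL
  -- every point of the Schubert intersection comes from `LL`
  have hfrom : ∀ V : Submodule k k[X], V ≤ Polynomial.degreeLE k d → Module.finrank k V = 2 →
      (∀ i, ∃ s ∈ V, s ≠ 0 ∧ e i ≤ Polynomial.rootMultiplicity (P i) s) →
      ∃ v ∈ LL, v ≠ 0 ∧ Submodule.span k {v.1, v.2} = V := hsurj
  have hfromRam : ∀ V ∈ W4c1limliniiii.ramMaps d P e,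
      ∃ v ∈ LL, v ≠ 0 ∧ Submodule.span k {v.1, v.2} = V := by
    rintro V ⟨hpen, -, hram⟩
    exact hfrom V hpen.1 hpen.2.1 (fun i => (hram i).1)
  -- rigidity
  have hrig : ∀ v ∈ LL, ∀ w ∈ LL, v ≠ 0 → w ≠ 0 →
      W4c1limliniiii.IsPencil d (Submodule.span k ({v.1, v.2} : Set k[X])) →
      Submodule.span k ({w.1, w.2} : Set k[X]) = Submodule.span k ({v.1, v.2} : Set k[X]) := by
    intro v hv w hw hv0 hw0 hpen
    obtain ⟨c, rfl⟩ := rigid d (P 0) (P 1) (P 2) (e 0) (e 1) (e 2) h01 h02 h12 hsum' he₀ he₁ he₂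
      hv hw hv0 hw0 hpen
    haveI : FiniteDimensional k (Submodule.span k ({v.1, v.2} : Set k[X])) :=
      Module.finite_of_finrank_pos (by rw [(hpart2 v hv hv0).2.1]; norm_num)
    apply Submodule.eq_of_le_of_finrank_eq
    · apply Submodule.span_le.mpr
      rintro x (rfl | rfl)
      · exact Submodule.smul_mem _ _ (Submodule.subset_span (by simp))
      · exact Submodule.smul_mem _ _ (Submodule.subset_span (by simp))
    · rw [(hpart2 v hv hv0).2.1, (hpart2 _ hw hw0).2.1]
  constructor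
  · -- subsingleton
    intro V hV V' hV'
    obtain ⟨v, hv, hv0, rfl⟩ := hfromRam V hV
    obtain ⟨w, hw, hw0, rfl⟩ := hfromRam V' hV'
    exact (hrig v hv w hw hv0 hw0 hV.1).symm
  · constructor
    · intro hempty
      obtain ⟨v, hv, hv0⟩ := (Submodule.ne_bot_iff _).mp hLne
      obtain ⟨hle, hfr, hcond⟩ := hpart2 v hv hv0
      refine ⟨Submodule.span k {v.1, v.2}, hle, hfr, ?_, hcond⟩
      rintro ⟨A, hA, B, hB, hAB⟩
      -- the Wronskian of the basis is non-zero
      rw [mem_span_pair'] at hA hB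
      obtain ⟨α, β, rfl⟩ := hA
      obtain ⟨γ, δ, rfl⟩ := hB
      rw [wronskian_comb] at hAB
      have hW : wronskian v.1 v.2 ≠ 0 := fun h => hAB (by rw [h, smul_zero])
      have hmem : Submodule.span k {v.1, v.2} ∈ W4c1limliniiii.ramMaps d P e := by
        obtain ⟨hdeg, hbpf⟩ := pencil_of_sep d (P 0) (P 1) (P 2) (e 0) (e 1) (e 2) h01 h02 h12
          hsum' he₀ he₁ he₂ he₀' he₁' he₂' hv hW
        refine ⟨⟨hle, hfr, hdeg, hbpf⟩, ⟨v.1, Submodule.subset_span (by simp), v.2,
          Submodule.subset_span (by simp), hW⟩, ?_⟩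
        intro i
        refine ⟨hcond i, ?_⟩
        intro s hs hs0
        obtain ⟨r0, r1, r2⟩ := exact_ram d (P 0) (P 1) (P 2) (e 0) (e 1) (e 2) h01 h02 h12
          hsum' he₀ he₁ he₂ he₀' he₁' he₂' hv hW s hs hs0
        fin_cases i
        · exact r0
        · exact r1
        · exact r2
      rw [hempty] at hmem
      exact hmem
    · rintro ⟨V₀, hV₀le, hV₀fr, hV₀insep, hV₀cond⟩
      rw [Set.eq_empty_iff_forall_notMem]
      intro V hV
      obtain ⟨v, hv, hv0, rfl⟩ := hfromRam V hV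
      obtain ⟨w, hw, hw0, rfl⟩ := hfrom V₀ hV₀le hV₀fr hV₀cond
      have := hrig v hv w hw hv0 hw0 hV.1
      rw [this] at hV₀insep
      exact hV₀insep hV.2.1

end Groth.Agent.H76.ThreePt
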