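import Mathlib
import Groth.Agent.H76.ThreePtG

/-!
# Three-point ramification: the count
-/

set_option autoImplicit false
universe u

open Polynomial Module

namespace Groth.Agent.H76.ThreePt

variable {k : Type u} [Field k]

theorem natDegree_eq_zero_of_derivative_eq_zero' (p : ℕ) [CharP k p] {f : k[X]}
    (hf : derivative f = 0) (hp : p = 0 ∨ f.natDegree < p) : f.natDegree = 0 := by
  by_contra hne
  obtain ⟨n, hn⟩ := Nat.exists_eq_succ_of_ne_zero hne
  have h1 : (derivative f).coeff n = 0 := by rw [hf, coeff_zero]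
  rw [coeff_derivative] at h1
  have hlc : f.coeff (n + 1) ≠ 0 := by
    rw [← Nat.succ_eq_add_one, ← hn]
    have hf0 : f ≠ 0 := by
      rintro rfl
      simp at hne
    exact leadingCoeff_ne_zero.mpr hf0
  have hcast : ((n : k) + 1) ≠ 0 := by
    have : ((n + 1 : ℕ) : k) ≠ 0 := by
      rw [Ne, CharP.cast_eq_zero_iff k p]
      rcases hp with rfl | hlt
      · simp
      · intro hdvd
        have := Nat.le_of_dvd (Nat.succ_pos n) hdvd
        omega
    exact_mod_cast this
  exact (mul_ne_zero hlc hcast) h1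

theorem wronskian_mul_left_both (g A B : k[X]) :
    wronskian (g * A) (g * B) = g ^ 2 * wronskian A B := by
  unfold wronskian
  rw [derivative_mul, derivative_mul]
  ring

/-- in characteristic `0` or `> d`, independent polynomials of degree `≤ d` have non-zero
Wronskian -/
theorem wronskian_ne_zero_of_li (p : ℕ) [CharP k p] (d : ℕ) (hp : p = 0 ∨ d < p) {F G : k[X]}
    (hF : F ∈ degreeLE k d) (hG : G ∈ degreeLE k d) (hli : LinearIndependent k ![F, G]) :
    wronskian F G ≠ 0 := by
  classical
  intro hW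
  have hF0 : F ≠ 0 := by
    have := hli.ne_zero 0
    simpa using this
  set g := EuclideanDomain.gcd F G with hg
  have hg0 : g ≠ 0 := by
    intro h
    rw [hg, EuclideanDomain.gcd_eq_zero_iff] at h
    exact hF0 h.1
  obtain ⟨F₁, hF₁⟩ := EuclideanDomain.gcd_dvd_left F G
  obtain ⟨G₁, hG₁⟩ := EuclideanDomain.gcd_dvd_right F G
  rw [← hg] at hF₁ hG₁
  have hcop : IsCoprime F₁ G₁ := by
    have h := EuclideanDomain.gcd_eq_gcd_ab F G
    rw [← hg] at h
    refine ⟨EuclideanDomain.gcdA F G, EuclideanDomain.gcdB F G, ?_⟩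
    apply mul_left_cancel₀ hg0
    calc g * (EuclideanDomain.gcdA F G * F₁ + EuclideanDomain.gcdB F G * G₁)
        = (g * F₁) * EuclideanDomain.gcdA F G + (g * G₁) * EuclideanDomain.gcdB F G := by ring
      _ = g * 1 := by rw [← hF₁, ← hG₁, ← h, mul_one]
  have hW1 : wronskian F₁ G₁ = 0 := by
    have h := wronskian_mul_left_both g F₁ G₁
    rw [← hF₁, ← hG₁, hW] at h
    exact (mul_eq_zero.mp h.symm).resolve_left (pow_ne_zero 2 hg0)
  obtain ⟨hdF, hdG⟩ := hcop.wronskian_eq_zero_iff.mp hW1
  rw [mem_degreeLE] at hF hG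
  have hFd := natDegree_le_of_degree_le hF
  have hGd := natDegree_le_of_degree_le hG
  have hF₁0 : F₁ ≠ 0 := by rintro rfl; rw [mul_zero] at hF₁; exact hF0 hF₁
  have hF₁d : F₁.natDegree ≤ d := by
    have : F.natDegree = g.natDegree + F₁.natDegree := by
      rw [hF₁, natDegree_mul hg0 hF₁0]
    omega
  have hG₁d : G₁ = 0 ∨ G₁.natDegree ≤ d := by
    by_cases hG₁0 : G₁ = 0
    · exact Or.inl hG₁0
    · right
      have : G.natDegree = g.natDegree + G₁.natDegree := by
        rw [hG₁, natDegree_mul hg0 hG₁0]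
      omega
  have hF₁c : F₁.natDegree = 0 :=
    natDegree_eq_zero_of_derivative_eq_zero' p hdF (by
      rcases hp with h | h
      · exact Or.inl h
      · exact Or.inr (by omega))
  have hG₁c : G₁.natDegree = 0 := by
    rcases hG₁d with h | h
    · rw [h, natDegree_zero]
    · exact natDegree_eq_zero_of_derivative_eq_zero' p hdG (by
        rcases hp with h' | h'
        · exact Or.inl h'
        · exact Or.inr (by omega))
  obtain ⟨a, ha⟩ := natDegree_eq_zero.mp hF₁c
  obtain ⟨b, hb⟩ := natDegree_eq_zero.mp hG₁c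
  have ha0 : a ≠ 0 := by
    rintro rfl
    rw [map_zero] at ha
    exact hF₁0 ha.symm
  rw [LinearIndependent.pair_iff] at hli
  have := hli b (-a) (by
    rw [hF₁, hG₁, ← ha, ← hb]
    simp only [smul_eq_C_mul, map_neg]
    ring)
  exact ha0 (neg_eq_zero.mp this.2)

end Groth.Agent.H76.ThreePt
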