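import Mathlib
import Groth.Agent.H76.ThreePtH

/-!
# Three-point ramification: the count (main statement)
-/

set_option autoImplicit false
universe u

open Polynomial Module

namespace Groth.Agent.H76.ThreePt

variable {k : Type u} [Field k]

theorem mainC [IsAlgClosed k] (p : ℕ) [CharP k p] (d : ℕ) (P : Fin 3 → k)
    (hP : Function.Injective P) (e : Fin 3 → ℕ) (he : W4c1limliniiii.Admissible p d e) :
    (p ≠ 0 → e 0 < p → e 1 < p → p ≤ d → W4c1limliniiii.ramMaps d P e = ∅) ∧
      (p = 0 ∨ d < p → ∃ V : Submodule k k[X], W4c1limliniiii.ramMaps d P e = {V}) := by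
  classical
  obtain ⟨hsub, hiff⟩ := mainB (k := k) p d P hP e he
  have h01 : P 0 ≠ P 1 := fun h => by simpa using hP h
  have h02 : P 0 ≠ P 2 := fun h => by simpa using hP h
  have h12 : P 1 ≠ P 2 := fun h => by simpa using hP h
  constructor
  · intro hp0 he0 he1 hpd
    rw [hiff]
    haveI : Fact p.Prime := ⟨(CharP.char_is_prime_or_zero k p).resolve_right hp0⟩
    have hpk : (p : k) = 0 := CharP.cast_eq_zero k p
    set m := e 2 - p with hm
    set g := pw (P 2) m with hg
    set A := g * pw (P 0) p with hA
    set B := g * pw (P 1) p with hB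
    have hg0 : g ≠ 0 := pw_ne_zero _ _
    have hA0 : A ≠ 0 := mul_ne_zero hg0 (pw_ne_zero _ _)
    have hB0 : B ≠ 0 := mul_ne_zero hg0 (pw_ne_zero _ _)
    have he2d := (he.1 2).2.1
    have hAdeg : A.natDegree ≤ d := by
      rw [hA, natDegree_mul hg0 (pw_ne_zero _ _), natDegree_pw, natDegree_pw]
      omega
    have hBdeg : B.natDegree ≤ d := by
      rw [hB, natDegree_mul hg0 (pw_ne_zero _ _), natDegree_pw, natDegree_pw]
      omega
    have hAmem : A ∈ degreeLE k d := by
      rw [mem_degreeLE]; exact natDegree_le_iff_degree_le.mp hAdeg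
    have hBmem : B ∈ degreeLE k d := by
      rw [mem_degreeLE]; exact natDegree_le_iff_degree_le.mp hBdeg
    have heval00 : (pw (P 0) p).eval (P 0) = 0 := by
      unfold pw
      rw [eval_pow, eval_sub, eval_X, eval_C, sub_self, zero_pow hp0]
    have heval11 : (pw (P 1) p).eval (P 1) = 0 := by
      unfold pw
      rw [eval_pow, eval_sub, eval_X, eval_C, sub_self, zero_pow hp0]
    have hli : LinearIndependent k ![A, B] := by
      rw [LinearIndependent.pair_iff]
      intro s t hst
      have h1 : g * (C s * pw (P 0) p + C t * pw (P 1) p) = 0 := by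
        rw [← hst, hA, hB]
        simp only [smul_eq_C_mul]
        ring
      have h2 := (mul_eq_zero.mp h1).resolve_left hg0
      have e0 := congrArg (eval (P 0)) h2
      have e1 := congrArg (eval (P 1)) h2
      simp only [eval_add, eval_mul, eval_C, heval00, heval11, mul_zero, zero_add, add_zero,
        eval_zero] at e0 e1
      constructor
      · exact (mul_eq_zero.mp e1).resolve_right (eval_pw_ne_zero h01 p)
      · exact (mul_eq_zero.mp e0).resolve_right (eval_pw_ne_zero (Ne.symm h01) p)
    have hderiv : ∀ a : k, derivative (pw a p) = 0 := by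
      intro a
      unfold pw
      rw [derivative_X_sub_C_pow, hpk, map_zero, zero_mul]
    have hWAB : wronskian A B = 0 := by
      rw [hA, hB, wronskian_mul_left_both]
      unfold wronskian
      rw [hderiv, hderiv]
      ring
    refine ⟨Submodule.span k {A, B}, ?_, finrank_span_pair hli, ?_, ?_⟩
    · apply Submodule.span_le.mpr
      rintro x (rfl | rfl)
      · exact hAmem
      · exact hBmem
    · rintro ⟨F, hF, G, hG, hFG⟩
      rw [mem_span_pair'] at hF hG
      obtain ⟨α, β, rfl⟩ := hF
      obtain ⟨γ, δ, rfl⟩ := hG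
      rw [wronskian_comb, hWAB, smul_zero] at hFG
      exact hFG rfl
    · have hmA : A ∈ Submodule.span k ({A, B} : Set k[X]) := Submodule.subset_span (by simp)
      have hmB : B ∈ Submodule.span k ({A, B} : Set k[X]) := Submodule.subset_span (by simp)
      have c0 : ∃ s ∈ Submodule.span k ({A, B} : Set k[X]), s ≠ 0 ∧
          e 0 ≤ rootMultiplicity (P 0) s := by
        refine ⟨A, hmA, hA0, (le_rootMult_iff hA0 _).mpr ?_⟩
        exact Dvd.dvd.mul_left (pw_dvd_pw _ he0.le) _
      have c1 : ∃ s ∈ Submodule.span k ({A, B} : Set k[X]), s ≠ 0 ∧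
          e 1 ≤ rootMultiplicity (P 1) s := by
        refine ⟨B, hmB, hB0, (le_rootMult_iff hB0 _).mpr ?_⟩
        exact Dvd.dvd.mul_left (pw_dvd_pw _ he1.le) _
      have c2 : ∃ s ∈ Submodule.span k ({A, B} : Set k[X]), s ≠ 0 ∧
          e 2 ≤ rootMultiplicity (P 2) s := by
        set c₁ := (P 1 - P 2) ^ p with hc₁
        set c₂ := (P 2 - P 0) ^ p with hc₂
        have hs : c₁ • A + c₂ • B = g * (C ((P 1 - P 0) ^ p) * pw (P 2) p) := by
          have hlin : C (P 1 - P 2) * (X - C (P 0)) + C (P 2 - P 0) * (X - C (P 1)) =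
              C (P 1 - P 0) * (X - C (P 2) : k[X]) := by
            simp only [map_sub]
            ring
          have hpow : (C (P 1 - P 2) * (X - C (P 0)) + C (P 2 - P 0) * (X - C (P 1)) : k[X]) ^ p =
              C c₁ * pw (P 0) p + C c₂ * pw (P 1) p := by
            rw [add_pow_char, mul_pow, mul_pow, ← C_pow, ← C_pow]
            rfl
          rw [hA, hB]
          simp only [smul_eq_C_mul]
          have : C c₁ * (g * pw (P 0) p) + C c₂ * (g * pw (P 1) p) =
              g * (C c₁ * pw (P 0) p + C c₂ * pw (P 1) p) := by ring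
          rw [this, ← hpow, hlin, mul_pow, ← C_pow]
          rfl
        have hc0 : (P 1 - P 0) ^ p ≠ 0 := pow_ne_zero _ (sub_ne_zero.mpr (Ne.symm h01))
        have hs0 : c₁ • A + c₂ • B ≠ 0 := by
          rw [hs]
          exact mul_ne_zero hg0 (mul_ne_zero (C_ne_zero.mpr hc0) (pw_ne_zero _ _))
        refine ⟨c₁ • A + c₂ • B, Submodule.add_mem _ (Submodule.smul_mem _ _ hmA)
          (Submodule.smul_mem _ _ hmB), hs0, (le_rootMult_iff hs0 _).mpr ?_⟩
        rw [hs]
        have : g * (C ((P 1 - P 0) ^ p) * pw (P 2) p) =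
            C ((P 1 - P 0) ^ p) * pw (P 2) (m + p) := by
          rw [← pw_mul_pw, hg]; ring
        rw [this]
        exact Dvd.dvd.mul_left (pw_dvd_pw _ (by omega)) _
      intro i
      fin_cases i
      · exact c0
      · exact c1
      · exact c2
  · intro hp
    have hne : (W4c1limliniiii.ramMaps d P e).Nonempty := by
      rw [Set.nonempty_iff_ne_empty]
      intro hempty
      obtain ⟨V₀, hle, hfr, hinsep, -⟩ := hiff.mp hempty
      apply hinsep
      haveI : Module.Finite k V₀ := Module.finite_of_finrank_pos (by rw [hfr]; norm_num)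
      let b := Module.finBasisOfFinrankEq k V₀ hfr
      have hli : LinearIndependent k ![(b 0 : k[X]), (b 1 : k[X])] := by
        have h1 : LinearIndependent k (fun i => (b i : k[X])) :=
          b.linearIndependent.map' V₀.subtype (Submodule.ker_subtype V₀)
        have h2 : (fun i => (b i : k[X])) = ![(b 0 : k[X]), (b 1 : k[X])] := by
          ext i
          fin_cases i <;> rfl
        rw [h2] at h1
        exact h1
      refine ⟨b 0, (b 0).2, b 1, (b 1).2, ?_⟩
      exact wronskian_ne_zero_of_li p d hp (hle (b 0).2) (hle (b 1).2) hli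
    obtain ⟨V, hV⟩ := hne
    exact ⟨V, hsub.eq_singleton_of_mem hV⟩

end Groth.Agent.H76.ThreePt
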