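import Mathlib

set_option autoImplicit false
universe u
open Cardinal

namespace Groth.Agent.H76

/-- Over an uncountable field `k`, a finitely generated `k`-domain has a maximal ideal avoiding any
given countable family of nonzero elements. -/
theorem exists_maximal_notMem_of_uncountable (k : Type u) [Field k] [Uncountable k]
    (D : Type u) [CommRing D] [IsDomain D] [Algebra k D] [Algebra.FiniteType k D]
    (g : ℕ → D) (hg : ∀ n, g n ≠ 0) :
    ∃ m : Ideal D, m.IsMaximal ∧ ∀ n, g n ∉ m := by
  classical
  let S : Submonoid D := Submonoid.closure (Set.range g)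
  have hS : S ≤ nonZeroDivisors D := by
    rw [Submonoid.closure_le]
    rintro _ ⟨n, rfl⟩
    exact mem_nonZeroDivisors_of_ne_zero (hg n)
  let DS := Localization S
  have hinj : Function.Injective (algebraMap D DS) := IsLocalization.injective DS hS
  have : Nontrivial DS := hinj.nontrivial
  obtain ⟨M, hM⟩ := Ideal.exists_maximal DS
  let _ : Field (DS ⧸ M) := Ideal.Quotient.field M
  let L := DS ⧸ M
  let φ : D →ₐ[k] L := (IsScalarTower.toAlgHom k DS L).comp (IsScalarTower.toAlgHom k D DS)
  -- units
  have hunit : ∀ n, IsUnit (algebraMap D DS (g n)) := fun n =>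
    IsLocalization.map_units DS (⟨g n, Submonoid.subset_closure ⟨n, rfl⟩⟩ : S)
  -- countable rank
  obtain ⟨s, hs⟩ := (inferInstance : Algebra.FiniteType k D).out
  let T : Set L := φ '' (s : Set D) ∪ Set.range fun n => (φ (g n))⁻¹
  have hTc : T.Countable :=
    (s.finite_toSet.image _).countable.union (Set.countable_range _)
  have hφA : ∀ d : D, φ d ∈ Algebra.adjoin k T := by
    intro d
    have hd : d ∈ Algebra.adjoin k (s : Set D) := by rw [hs]; trivial
    have : φ d ∈ (Algebra.adjoin k (s : Set D)).map φ := Subalgebra.mem_map.2 ⟨d, hd, rfl⟩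
    rw [AlgHom.map_adjoin] at this
    exact Algebra.adjoin_mono Set.subset_union_left this
  have hφne : ∀ t ∈ S, φ t ≠ 0 := by
    intro t ht h0
    have h1 : IsUnit (algebraMap D DS t) := IsLocalization.map_units DS (⟨t, ht⟩ : S)
    have h2 : Ideal.Quotient.mk M (algebraMap D DS t) = 0 := h0
    rw [Ideal.Quotient.eq_zero_iff_mem] at h2
    exact hM.ne_top (Ideal.eq_top_of_isUnit_mem _ h2 h1)
  have hinv : ∀ t ∈ S, (φ t)⁻¹ ∈ Algebra.adjoin k T := by
    intro t ht
    induction ht using Submonoid.closure_induction with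
    | mem x hx =>
      obtain ⟨n, rfl⟩ := hx
      exact Algebra.subset_adjoin (Or.inr ⟨n, rfl⟩)
    | one => simp
    | mul x y hx hy ihx ihy =>
      rw [map_mul, mul_inv]
      exact Subalgebra.mul_mem _ ihx ihy
  have htop : Algebra.adjoin k T = ⊤ := by
    rw [eq_top_iff]
    intro y _
    obtain ⟨x, rfl⟩ := Ideal.Quotient.mk_surjective y
    obtain ⟨⟨d, t⟩, rfl⟩ := IsLocalization.mk'_surjective S x
    have h1 : Ideal.Quotient.mk M (IsLocalization.mk' DS d t) * φ t = φ d := by
      change Ideal.Quotient.mk M (IsLocalization.mk' DS d t) *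
        Ideal.Quotient.mk M (algebraMap D DS t) = Ideal.Quotient.mk M (algebraMap D DS d)
      rw [← map_mul, IsLocalization.mk'_spec]
    have h2 : Ideal.Quotient.mk M (IsLocalization.mk' DS d t) = φ d * (φ t)⁻¹ := by
      rw [← h1, mul_assoc, mul_inv_cancel₀ (hφne t t.2), mul_one]
    rw [h2]
    exact Subalgebra.mul_mem _ (hφA d) (hinv t t.2)
  have hrank : Module.rank k L ≤ ℵ₀ := by
    have h1 := Algebra.rank_adjoin_le (R := k) T
    rw [htop] at h1
    rw [← Subalgebra.rank_top (F := k) (E := L)]
    refine h1.trans (max_le ?_ le_rfl)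
    exact Cardinal.le_aleph0_iff_set_countable.2 hTc
  -- algebraicity
  have halg : Algebra.IsAlgebraic k L := by
    by_contra hna
    have htr : Algebra.Transcendental k L := Algebra.transcendental_iff_not_isAlgebraic.2 hna
    have h1 := Algebra.Transcendental.rank_eq_cardinalMk k L
    have h2 : #k ≤ #L := Cardinal.mk_le_of_injective (algebraMap k L).injective
    have h3 : ℵ₀ < #k := Cardinal.aleph0_lt_mk_iff.2 inferInstance
    exact absurd (h3.trans_le (h2.trans (h1 ▸ hrank))) (lt_irrefl _)
  -- the maximal ideal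
  have : IsScalarTower k D L := inferInstance
  have : Algebra.IsIntegral k L := Algebra.IsAlgebraic.isIntegral
  have : Algebra.IsIntegral D L := Algebra.IsIntegral.tower_top k
  have hmax : ((⊥ : Ideal L).comap (algebraMap D L)).IsMaximal :=
    Ideal.isMaximal_comap_of_isIntegral_of_isMaximal ⊥
  refine ⟨(⊥ : Ideal L).comap (algebraMap D L), hmax, fun n hn => ?_⟩
  rw [Ideal.mem_comap, Ideal.mem_bot] at hn
  exact hφne (g n) (Submonoid.subset_closure ⟨n, rfl⟩) hn

end Groth.Agent.H76
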