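import Mathlib
import Groth.Agent.H76.VB3
import Groth.Prelude.Def_ModFun2

/-!
helper76, vector bundles on regular curves, part 4: slopes, (semi)stability, Hom-vanishing.
-/

set_option autoImplicit false
set_option linter.style.haveILetI false
universe u
open CategoryTheory CategoryTheory.Limits AlgebraicGeometry TopologicalSpace Opposite

namespace Groth.Agent.H76.VB

variable {k : Type u} [Field k] {X : Scheme.{u}} [X.Over (Spec (CommRingCat.of k))] [IsIntegral X]
  (hX : VCurve k X)
include hX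

/-- the image of a nonzero morphism of vector bundles has positive rank -/
theorem VCurve.exists_kernel_image_pos {E F : X.Modules} (f : E ⟶ F) (hf : f ≠ 0) {r s : ℕ}
    (hE : FlatMod.IsFinLocFreeOfRank r E) (hF : FlatMod.IsFinLocFreeOfRank s F) :
    ∃ a b : ℕ, FlatMod.IsFinLocFreeOfRank a (kernel f) ∧
      FlatMod.IsFinLocFreeOfRank b (Abelian.image f) ∧ 0 < b ∧ r = a + b ∧
      Curv2.deg k X E r = Curv2.deg k X (kernel f) a + Curv2.deg k X (Abelian.image f) b := by
  obtain ⟨a, b, ha, hb, hab, hdeg⟩ := hX.exists_kernel_image f hE hF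
  refine ⟨a, b, ha, hb, ?_, hab, hdeg⟩
  rcases Nat.eq_zero_or_pos b with h | h
  · subst h
    exact absurd (isZero_of_rank_zero hb) (image_ne_zero f hf)
  · exact h

/-- Hom-vanishing: no nonzero map from a semistable bundle to a bundle of smaller maximal slope -/
theorem VCurve.hom_eq_zero_of_slope {E F : X.Modules} {r s : ℕ}
    (hE : FlatMod.IsFinLocFreeOfRank r E) (hF : FlatMod.IsFinLocFreeOfRank s F)
    (hEss : ∀ (G : X.Modules) (r' : ℕ) (i : G ⟶ E), Mono i → 0 < r' →
      FlatMod.IsFinLocFreeOfRank r' G →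
      Curv2.deg k X G r' * (r : ℤ) ≤ Curv2.deg k X E r * (r' : ℤ))
    (hmax : ∀ (G : X.Modules) (r' : ℕ) (i : G ⟶ F), Mono i → 0 < r' →
      FlatMod.IsFinLocFreeOfRank r' G →
      Curv2.deg k X G r' * (r : ℤ) < Curv2.deg k X E r * (r' : ℤ))
    (f : E ⟶ F) : f = 0 := by
  by_contra hf
  obtain ⟨a, b, ha, hb, hb0, hab, hdeg⟩ := hX.exists_kernel_image_pos f hf hE hF
  have h2 := hmax (Abelian.image f) b (Abelian.image.ι f) inferInstance hb0 hb
  rcases Nat.eq_zero_or_pos a with h | h
  · subst h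
    have hK := deg_zero_of_isZero k _ (isZero_of_rank_zero ha)
    rw [hK, zero_add] at hdeg
    have hrb : r = b := by omega
    subst hrb
    rw [hdeg] at h2
    exact lt_irrefl _ h2
  · have h1 := hEss (kernel f) a (kernel.ι f) inferInstance h ha
    have h3 := add_lt_add_of_le_of_lt h1 h2
    rw [← add_mul, ← hdeg, ← mul_add] at h3
    have : ((a : ℤ) + (b : ℤ)) = (r : ℤ) := by rw [hab]; push_cast; rfl
    rw [this] at h3
    exact lt_irrefl _ h3

/-- a nonzero morphism between stable bundles of the same slope is an isomorphism -/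
theorem VCurve.isIso_of_stable {E F : X.Modules} {r s : ℕ} (hr : 0 < r) (hs : 0 < s)
    (hE : FlatMod.IsFinLocFreeOfRank r E) (hF : FlatMod.IsFinLocFreeOfRank s F)
    (hEst : ∀ (G : X.Modules) (r' : ℕ) (i : G ⟶ E), Mono i → 0 < r' → r' < r →
      FlatMod.IsFinLocFreeOfRank r' G →
      Curv2.deg k X G r' * (r : ℤ) < Curv2.deg k X E r * (r' : ℤ))
    (hFss : ∀ (G : X.Modules) (r' : ℕ) (i : G ⟶ F), Mono i → 0 < r' →
      FlatMod.IsFinLocFreeOfRank r' G →
      Curv2.deg k X G r' * (s : ℤ) ≤ Curv2.deg k X F s * (r' : ℤ))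
    (hFst : ∀ (G : X.Modules) (r' : ℕ) (i : G ⟶ F), Mono i → 0 < r' → r' < s →
      FlatMod.IsFinLocFreeOfRank r' G →
      Curv2.deg k X G r' * (s : ℤ) < Curv2.deg k X F s * (r' : ℤ))
    (hμ : Curv2.deg k X E r * (s : ℤ) = Curv2.deg k X F s * (r : ℤ))
    (f : E ⟶ F) (hf : f ≠ 0) : IsIso f := by
  obtain ⟨a, b, ha, hb, hb0, hab, hdeg⟩ := hX.exists_kernel_image_pos f hf hE hF
  have hI := hFss (Abelian.image f) b (Abelian.image.ι f) inferInstance hb0 hb
  have hrZ : ((a : ℤ) + (b : ℤ)) = (r : ℤ) := by rw [hab]; push_cast; rfl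
  have hrpos : (0 : ℤ) < r := by exact_mod_cast hr
  have hspos : (0 : ℤ) < s := by exact_mod_cast hs
  rcases Nat.eq_zero_or_pos a with h | h
  · subst h
    have hz := isZero_of_rank_zero ha
    have hK := deg_zero_of_isZero k _ hz
    rw [hK, zero_add] at hdeg
    have hrb : r = b := by omega
    subst hrb
    haveI : Mono f := Preadditive.mono_of_kernel_zero (hz.eq_of_src _ _)
    haveI : Nonempty X := ⟨genericPoint X⟩
    have hle : r ≤ s := Groth.Agent.H92.LocFreeRank.rank_le_of_mono f hE hF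
    rcases Nat.lt_or_ge r s with hlt | hge
    · exfalso
      have h3 := hFst (Abelian.image f) r (Abelian.image.ι f) inferInstance hb0 hlt hb
      rw [← hdeg, hμ] at h3
      exact lt_irrefl _ h3
    · have hrs : r = s := le_antisymm hle hge
      subst hrs
      have hd : Curv2.deg k X E r = Curv2.deg k X F r :=
        mul_right_cancel₀ (ne_of_gt hrpos) hμ
      exact hX.isIso_of_mono_of_deg_eq f hE hF hd
  · exfalso
    have hbr : b < r := by omega
    have h1 := hEst (kernel f) a (kernel.ι f) inferInstance h (by omega) ha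
    -- dK * r < dE * a, dI * s ≤ dF * b, dE = dK + dI, dE * s = dF * r
    have h4 : Curv2.deg k X E r * (b : ℤ) < Curv2.deg k X (Abelian.image f) b * (r : ℤ) := by
      have : Curv2.deg k X E r * (r : ℤ) =
          Curv2.deg k X (kernel f) a * (r : ℤ) + Curv2.deg k X (Abelian.image f) b * (r : ℤ) := by
        rw [hdeg]; ring
      have h5 : Curv2.deg k X E r * (r : ℤ) = Curv2.deg k X E r * (a : ℤ) +
          Curv2.deg k X E r * (b : ℤ) := by rw [← hrZ]; ring
      linarith
    have h6 : Curv2.deg k X E r * (b : ℤ) * (s : ℤ) <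
        Curv2.deg k X (Abelian.image f) b * (r : ℤ) * (s : ℤ) :=
      mul_lt_mul_of_pos_right h4 hspos
    have h7 : Curv2.deg k X (Abelian.image f) b * (s : ℤ) * (r : ℤ) ≤
        Curv2.deg k X F s * (b : ℤ) * (r : ℤ) := mul_le_mul_of_nonneg_right hI hrpos.le
    have h8 : Curv2.deg k X E r * (b : ℤ) * (s : ℤ) = Curv2.deg k X F s * (b : ℤ) * (r : ℤ) := by
      calc Curv2.deg k X E r * (b : ℤ) * (s : ℤ) = (Curv2.deg k X E r * (s : ℤ)) * (b : ℤ) := by ring
        _ = (Curv2.deg k X F s * (r : ℤ)) * (b : ℤ) := by rw [hμ]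
        _ = _ := by ring
    linarith [h6, h7, h8, mul_comm (Curv2.deg k X (Abelian.image f) b * (r : ℤ)) (s : ℤ)]

/-- the degrees of the vector sub-bundles of a vector bundle are bounded above -/
theorem VCurve.bddAbove_deg_sub {E : X.Modules} {r : ℕ} (hE : FlatMod.IsFinLocFreeOfRank r E) :
    ∃ N : ℤ, ∀ (F : X.Modules) (r' : ℕ) (i : F ⟶ E), Mono i → FlatMod.IsFinLocFreeOfRank r' F →
      Curv2.deg k X F r' ≤ N := by
  refine ⟨(Module.finrank k (Coh.HH X E 0) : ℤ) + r * |Curv2.euler k X (Coh.structureModule X)|, ?_⟩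
  intro F r' i hi hF
  haveI := hi
  haveI : Nonempty X := ⟨genericPoint X⟩
  have hle : r' ≤ r := Groth.Agent.H92.LocFreeRank.rank_le_of_mono i hF hE
  have h0 : Module.finrank k (Coh.HH X F 0) ≤ Module.finrank k (Coh.HH X E 0) := by
    haveI := hX.fin E (isCoh_of_rank hE) 0
    have hinj := Groth.Agent.Lead.FiniteLES.HHmap_f_zero_injective (monoSC i) (monoSC_shortExact i)
    exact LinearMap.finrank_le_finrank_of_injective
      (f := Groth.Agent.Lead.FiniteLES.toA k (Groth.Agent.Lead.FiniteLES.HHmap i 0)) hinj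
  unfold Curv2.deg
  rw [hX.euler_eq F]
  have h1 : (0 : ℤ) ≤ Module.finrank k (Coh.HH X F 1) := by positivity
  have h2 : -((r' : ℤ) * Curv2.euler k X (Coh.structureModule X)) ≤
      r * |Curv2.euler k X (Coh.structureModule X)| := by
    have h3 : -((r' : ℤ) * Curv2.euler k X (Coh.structureModule X)) ≤
        r' * |Curv2.euler k X (Coh.structureModule X)| := by
      have := neg_abs_le (Curv2.euler k X (Coh.structureModule X))
      have hr' : (0 : ℤ) ≤ r' := by positivity
      nlinarith
    have h4 : (r' : ℤ) * |Curv2.euler k X (Coh.structureModule X)| ≤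
        r * |Curv2.euler k X (Coh.structureModule X)| :=
      mul_le_mul_of_nonneg_right (by exact_mod_cast hle) (abs_nonneg _)
    linarith
  have h0' : (Module.finrank k (Coh.HH X F 0) : ℤ) ≤ Module.finrank k (Coh.HH X E 0) := by
    exact_mod_cast h0
  linarith

end Groth.Agent.H76.VB
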