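import Mathlib
import Groth.Agent.H76.VB4
import Groth.Agent.H44.Retract

/-!
helper76, vector bundles on regular curves, part 5: direct sums.
-/

set_option autoImplicit false
set_option linter.style.haveILetI false
universe u
open CategoryTheory CategoryTheory.Limits AlgebraicGeometry TopologicalSpace Opposite

namespace Groth.Agent.H76.VB

section general

variable {X : Scheme.{u}}

/-- a direct summand of a coherent module is coherent -/
theorem isCoh_of_retract {M N : X.Modules} (i : N ⟶ M) (p : M ⟶ N) (h : i ≫ p = 𝟙 N)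
    (hM : Coh.IsCoh M) : Coh.IsCoh N := by
  haveI : M.IsQuasicoherent := hM.1
  haveI : SheafOfModules.IsFiniteType (R := X.ringCatSheaf) M := hM.2
  haveI : N.IsQuasicoherent := Groth.Agent.H44.isQuasicoherent_of_retract (P := M) i p h
  haveI : Epi p := ⟨fun {Z} u v huv => by
    have := congrArg (fun w => i ≫ w) huv
    simpa [← Category.assoc, h] using this⟩
  exact ⟨inferInstance, Groth.Agent.H71.QCoh.isFiniteType_of_epi p⟩

/-- a zero module has subsingleton stalks -/
theorem subsingleton_stalk_of_isZero (M : X.Modules) (h : IsZero M) (x : X) :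
    Subsingleton (M.presheaf.stalk x) := by
  refine ⟨fun a b => ?_⟩
  suffices H : ∀ c : M.presheaf.stalk x, c = 0 by rw [H a, H b]
  intro c
  obtain ⟨U, hxU, s, rfl⟩ := TopCat.Presheaf.exists_germ_eq M.presheaf c
  have h1 : 𝟙 M = 0 := h.eq_of_src _ _
  have h2 : (𝟙 M : M ⟶ M).app U s = s := rfl
  have h3 : (𝟙 M : M ⟶ M).app U s = 0 := by rw [h1]; rfl
  rw [← h2, h3, map_zero]

/-- a nonzero-rank vector bundle on a scheme with a point is not zero -/
theorem not_isZero_of_rank {E : X.Modules} {r : ℕ} (hr : 0 < r)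
    (hE : FlatMod.IsFinLocFreeOfRank r E) (x : X) : ¬ IsZero E := by
  intro h
  haveI := subsingleton_stalk_of_isZero E h x
  obtain ⟨b⟩ := nonempty_basis_stalk E hE x
  haveI : Nontrivial (X.presheaf.stalk x) := inferInstance
  exact b.ne_zero ⟨0, hr⟩ (Subsingleton.elim _ _)

end general

section biprod

variable {C : Type*} [Category C] [Abelian C]

/-- the split short exact sequence of a direct sum decomposition -/
noncomputable def splitSC {E E₁ E₂ : C} (e : E ≅ E₁ ⊞ E₂) : ShortComplex C :=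
  ShortComplex.mk (biprod.inl ≫ e.inv) (e.hom ≫ biprod.snd) (by simp)

theorem splitSC_shortExact {E E₁ E₂ : C} (e : E ≅ E₁ ⊞ E₂) : (splitSC e).ShortExact := by
  refine ShortComplex.Splitting.shortExact
    { r := e.hom ≫ biprod.fst
      s := biprod.inr ≫ e.inv
      f_r := by simp [splitSC]
      s_g := by simp [splitSC]
      id := ?_ }
  change (e.hom ≫ biprod.fst) ≫ biprod.inl ≫ e.inv + (e.hom ≫ biprod.snd) ≫ biprod.inr ≫ e.inv =
    𝟙 E
  have h : (e.hom ≫ biprod.fst) ≫ biprod.inl ≫ e.inv +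
      (e.hom ≫ biprod.snd) ≫ biprod.inr ≫ e.inv =
      e.hom ≫ (biprod.fst ≫ biprod.inl + biprod.snd ≫ biprod.inr) ≫ e.inv := by
    rw [Preadditive.add_comp, Preadditive.comp_add]
    simp only [Category.assoc]
  rw [h, biprod.total]
  simp

end biprod

variable {k : Type u} [Field k] {X : Scheme.{u}} [X.Over (Spec (CommRingCat.of k))] [IsIntegral X]
  (hX : VCurve k X)
include hX

/-- the slope of a sub-bundle of a direct sum is at most the larger of the maximal slopes -/
theorem VCurve.slope_sub_biprod_le_max {E₁ E₂ : X.Modules} {r₁ r₂ : ℕ}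
    (_hE₁ : FlatMod.IsFinLocFreeOfRank r₁ E₁) (hE₂ : FlatMod.IsFinLocFreeOfRank r₂ E₂) (m₁ m₂ : ℚ)
    (h₁ : ∀ (G : X.Modules) (r' : ℕ) (i : G ⟶ E₁), Mono i → 0 < r' →
      FlatMod.IsFinLocFreeOfRank r' G → (Curv2.deg k X G r' : ℚ) / r' ≤ m₁)
    (h₂ : ∀ (G : X.Modules) (r' : ℕ) (i : G ⟶ E₂), Mono i → 0 < r' →
      FlatMod.IsFinLocFreeOfRank r' G → (Curv2.deg k X G r' : ℚ) / r' ≤ m₂)
    (F : X.Modules) (r' : ℕ) (i : F ⟶ E₁ ⊞ E₂) (hi : Mono i) (hr' : 0 < r')
    (hF : FlatMod.IsFinLocFreeOfRank r' F) :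
    (Curv2.deg k X F r' : ℚ) / r' ≤ max m₁ m₂ := by
  haveI := hi
  let g : F ⟶ E₂ := i ≫ biprod.snd
  obtain ⟨a, b, ha, hb, hab, hdeg⟩ := hX.exists_kernel_image g hF hE₂
  let j : kernel g ⟶ E₁ := kernel.ι g ≫ i ≫ biprod.fst
  haveI : Mono j := by
    refine Preadditive.mono_of_cancel_zero j (fun {Z} u hu => ?_)
    have h1 : (u ≫ kernel.ι g ≫ i) ≫ biprod.fst = 0 := by
      simpa [j, Category.assoc] using hu
    have h2 : (u ≫ kernel.ι g ≫ i) ≫ biprod.snd = 0 := by
      have : kernel.ι g ≫ i ≫ biprod.snd = 0 := kernel.condition g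
      simp only [Category.assoc]
      rw [this, comp_zero]
    have h3 : u ≫ kernel.ι g ≫ i = 0 := by
      apply biprod.hom_ext
      · rw [h1, zero_comp]
      · rw [h2, zero_comp]
    have h4 : (u ≫ kernel.ι g) ≫ i = 0 := by rw [Category.assoc]; exact h3
    exact zero_of_comp_mono (kernel.ι g) (zero_of_comp_mono i h4)
  have hK : (Curv2.deg k X (kernel g) a : ℚ) ≤ max m₁ m₂ * a := by
    rcases Nat.eq_zero_or_pos a with h | h
    · subst h
      rw [deg_zero_of_isZero k _ (isZero_of_rank_zero ha)]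
      simp
    · have h3 := h₁ (kernel g) a j inferInstance h ha
      have hapos : (0 : ℚ) < a := by exact_mod_cast h
      rw [div_le_iff₀ hapos] at h3
      exact h3.trans (mul_le_mul_of_nonneg_right (le_max_left _ _) hapos.le)
  have hI : (Curv2.deg k X (Abelian.image g) b : ℚ) ≤ max m₁ m₂ * b := by
    rcases Nat.eq_zero_or_pos b with h | h
    · subst h
      rw [deg_zero_of_isZero k _ (isZero_of_rank_zero hb)]
      simp
    · have h3 := h₂ (Abelian.image g) b (Abelian.image.ι g) inferInstance h hb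
      have hbpos : (0 : ℚ) < b := by exact_mod_cast h
      rw [div_le_iff₀ hbpos] at h3
      exact h3.trans (mul_le_mul_of_nonneg_right (le_max_right _ _) hbpos.le)
  have hr'pos : (0 : ℚ) < r' := by exact_mod_cast hr'
  rw [div_le_iff₀ hr'pos, hdeg, hab]
  push_cast
  linarith

/-- a stable bundle is indecomposable -/
theorem VCurve.indecomposable_of_stable {E : X.Modules} {r : ℕ} (hr : 0 < r)
    (hE : FlatMod.IsFinLocFreeOfRank r E)
    (hEst : ∀ (G : X.Modules) (r' : ℕ) (i : G ⟶ E), Mono i → 0 < r' → r' < r →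
      FlatMod.IsFinLocFreeOfRank r' G →
      Curv2.deg k X G r' * (r : ℤ) < Curv2.deg k X E r * (r' : ℤ)) :
    ¬ IsZero E ∧ ∀ (E₁ E₂ : X.Modules), Nonempty (E ≅ E₁ ⊞ E₂) → IsZero E₁ ∨ IsZero E₂ := by
  refine ⟨not_isZero_of_rank hr hE (genericPoint X), ?_⟩
  rintro E₁ E₂ ⟨e⟩
  by_contra hcon
  rw [not_or] at hcon
  obtain ⟨hn1, hn2⟩ := hcon
  have hEc := isCoh_of_rank hE
  have hc1 : Coh.IsCoh E₁ := isCoh_of_retract (biprod.inl ≫ e.inv) (e.hom ≫ biprod.fst)
    (by simp) hEc
  have hc2 : Coh.IsCoh E₂ := isCoh_of_retract (biprod.inr ≫ e.inv) (e.hom ≫ biprod.snd)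
    (by simp) hEc
  haveI : Mono (biprod.inl ≫ e.inv : E₁ ⟶ E) := mono_comp _ _
  haveI : Mono (biprod.inr ≫ e.inv : E₂ ⟶ E) := mono_comp _ _
  obtain ⟨a, ha⟩ := hX.exists_rank_of_mono (biprod.inl ≫ e.inv) hc1 hE
  obtain ⟨b, hb⟩ := hX.exists_rank_of_mono (biprod.inr ≫ e.inv) hc2 hE
  have hab : r = a + b := rank_add (splitSC e) (splitSC_shortExact e) ha hE hb
  have hdeg := hX.deg_add (splitSC e) (splitSC_shortExact e) ha hE hb
  change Curv2.deg k X E r = Curv2.deg k X E₁ a + Curv2.deg k X E₂ b at hdeg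
  have ha0 : 0 < a := by
    rcases Nat.eq_zero_or_pos a with h | h
    · subst h; exact absurd (isZero_of_rank_zero ha) hn1
    · exact h
  have hb0 : 0 < b := by
    rcases Nat.eq_zero_or_pos b with h | h
    · subst h; exact absurd (isZero_of_rank_zero hb) hn2
    · exact h
  have h1 := hEst E₁ a (biprod.inl ≫ e.inv) inferInstance ha0 (by omega) ha
  have h2 := hEst E₂ b (biprod.inr ≫ e.inv) inferInstance hb0 (by omega) hb
  have h3 := add_lt_add h1 h2
  rw [← add_mul, ← hdeg, ← mul_add] at h3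
  have : ((a : ℤ) + (b : ℤ)) = (r : ℤ) := by rw [hab]; push_cast; rfl
  rw [this] at h3
  exact lt_irrefl _ h3

end Groth.Agent.H76.VB
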