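import Mathlib
import Groth.Agent.H76.VB5
import Groth.Agent.H30.SmulMod

/-!
helper76, vector bundles on regular curves, part 6: endomorphisms of stable bundles are scalars
(over an algebraically closed field).
-/

set_option autoImplicit false
set_option linter.style.haveILetI false
universe u
open CategoryTheory CategoryTheory.Limits AlgebraicGeometry TopologicalSpace Opposite

namespace Groth.Agent.H76.VB

open Groth.Agent.H38.ModStalk TensorProduct

section algebra

/-- over a local ring with algebraically closed residue field, an endomorphism of a nonzero finite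
free module has an "eigenvalue modulo the maximal ideal": for every lift `a` of it, `φ - a` is not
bijective -/
theorem exists_not_bijective_sub_smul {A : Type*} [CommRing A] [IsLocalRing A]
    [IsAlgClosed (IsLocalRing.ResidueField A)] {M : Type*} [AddCommGroup M] [Module A M] {r : ℕ}
    (hr : 0 < r) (b : Module.Basis (Fin r) A M) (φ : M →ₗ[A] M) :
    ∃ μ : IsLocalRing.ResidueField A, ∀ a : A, IsLocalRing.residue A a = μ →
      ¬ Function.Bijective (φ - a • (LinearMap.id : M →ₗ[A] M)) := by
  let κ := IsLocalRing.ResidueField A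
  let bb : Module.Basis (Fin r) κ (κ ⊗[A] M) := b.baseChange κ
  haveI : Module.Finite κ (κ ⊗[A] M) := Module.Finite.of_basis bb
  haveI : Nontrivial (κ ⊗[A] M) := ⟨⟨bb ⟨0, hr⟩, 0, bb.ne_zero _⟩⟩
  obtain ⟨μ, hμ⟩ := Module.End.exists_eigenvalue (φ.baseChange κ)
  obtain ⟨v, hv⟩ := hμ.exists_hasEigenvector
  refine ⟨μ, fun a ha hbij => ?_⟩
  let ψ : M →ₗ[A] M := φ - a • (LinearMap.id : M →ₗ[A] M)
  let e := LinearEquiv.ofBijective ψ hbij
  have h1 : ψ.baseChange κ v = 0 := by
    change (φ - a • (LinearMap.id : M →ₗ[A] M)).baseChange κ v = 0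
    rw [LinearMap.baseChange_sub, LinearMap.baseChange_smul, LinearMap.baseChange_id,
      LinearMap.sub_apply, LinearMap.smul_apply, LinearMap.id_apply, hv.apply_eq_smul,
      ← ha, ← IsLocalRing.ResidueField.algebraMap_eq, algebraMap_smul, sub_self]
  have h2 : (e.symm.toLinearMap.baseChange κ).comp (ψ.baseChange κ) =
      LinearMap.id := by
    rw [← LinearMap.baseChange_comp]
    have : e.symm.toLinearMap.comp ψ = LinearMap.id := by
      ext m
      exact e.symm_apply_apply m
    rw [this, LinearMap.baseChange_id]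
  have h3 : v = 0 := by
    have := congrArg (fun f => f v) h2
    simp only [LinearMap.comp_apply, LinearMap.id_apply, h1, map_zero] at this
    exact this.symm
  exact hv.2 h3

end algebra

section stalk

variable {X : Scheme.{u}}

theorem stalkMap_sub {M N : X.Modules} (φ ψ : M ⟶ N) (x : X) (m : M.presheaf.stalk x) :
    stalkMap (φ - ψ) x m = stalkMap φ x m - stalkMap ψ x m := by
  obtain ⟨U, hxU, s, rfl⟩ := TopCat.Presheaf.exists_germ_eq M.presheaf m
  rw [stalkMap_germ, stalkMap_germ, stalkMap_germ, ← map_sub]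
  rfl

theorem stalkMap_smulMod (E : X.Modules) (a : Γ(X, ⊤)) (x : X) (m : E.presheaf.stalk x) :
    stalkMap (Groth.Agent.H30.SmulMod.smulMod E a) x m =
      (X.presheaf.germ ⊤ x trivial a) • m := by
  obtain ⟨U, hxU, s, rfl⟩ := TopCat.Presheaf.exists_germ_eq E.presheaf m
  rw [stalkMap_germ, Groth.Agent.H30.SmulMod.smulMod_app_apply, Groth.Agent.H8.germ_smul]
  congr 1
  exact TopCat.Presheaf.germ_res_apply X.presheaf (homOfLE (le_top : U ≤ ⊤)) x hxU a

theorem stalkMapₗ_bijective_of_isIso {M N : X.Modules} (φ : M ⟶ N) [IsIso φ] (x : X) :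
    Function.Bijective (stalkMapₗ φ x) :=
  ⟨stalkMapₗ_injective_of_mono φ x, stalkMapₗ_surjective_of_epi φ x⟩

end stalk

variable {k : Type u} [Field k] {X : Scheme.{u}} [X.Over (Spec (CommRingCat.of k))] [IsIntegral X]
  (hX : VCurve k X)
include hX

/-- Schur's lemma over an algebraically closed field: endomorphisms of a stable bundle are
scalars, given a closed point whose residue field is `k` -/
theorem VCurve.endomorphism_scalar [IsAlgClosed k] (x : X)
    (hx : Function.Bijective (Curv2.resMap k X x)) {E : X.Modules} {r : ℕ} (hr : 0 < r)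
    (hE : FlatMod.IsFinLocFreeOfRank r E)
    (hEss : ∀ (G : X.Modules) (r' : ℕ) (i : G ⟶ E), Mono i → 0 < r' →
      FlatMod.IsFinLocFreeOfRank r' G →
      Curv2.deg k X G r' * (r : ℤ) ≤ Curv2.deg k X E r * (r' : ℤ))
    (hEst : ∀ (G : X.Modules) (r' : ℕ) (i : G ⟶ E), Mono i → 0 < r' → r' < r →
      FlatMod.IsFinLocFreeOfRank r' G →
      Curv2.deg k X G r' * (r : ℤ) < Curv2.deg k X E r * (r' : ℤ))
    (φ : E ⟶ E) :
    ∃ c : k, φ = Groth.Agent.H30.SmulMod.smulMod E (Coh.toGlobal (X ↘ Spec (CommRingCat.of k)) c) := by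
  haveI : IsAlgClosed (IsLocalRing.ResidueField (X.presheaf.stalk x)) :=
    IsAlgClosed.of_ringEquiv k _ (RingEquiv.ofBijective (Curv2.resMap k X x) hx)
  obtain ⟨b⟩ := nonempty_basis_stalk E hE x
  obtain ⟨μ, hμ⟩ := exists_not_bijective_sub_smul hr b (stalkMapₗ φ x)
  obtain ⟨c, hc⟩ := hx.2 μ
  refine ⟨c, ?_⟩
  by_contra hne
  let a : Γ(X, ⊤) := Coh.toGlobal (X ↘ Spec (CommRingCat.of k)) c
  let ψ : E ⟶ E := φ - Groth.Agent.H30.SmulMod.smulMod E a
  have hψ : ψ ≠ 0 := fun h => hne (sub_eq_zero.1 h)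
  haveI : IsIso ψ := hX.isIso_of_stable hr hr hE hE hEst hEss hEst rfl ψ hψ
  have hbij := stalkMapₗ_bijective_of_isIso ψ x
  refine hμ (Curv2.stalkMap k X x c) hc ?_
  have heq : stalkMapₗ φ x - Curv2.stalkMap k X x c •
      (LinearMap.id : E.presheaf.stalk x →ₗ[X.presheaf.stalk x] E.presheaf.stalk x) =
      stalkMapₗ ψ x := by
    ext m
    rw [LinearMap.sub_apply, LinearMap.smul_apply, LinearMap.id_apply, stalkMapₗ_apply,
      stalkMapₗ_apply]
    change _ = stalkMap (φ - Groth.Agent.H30.SmulMod.smulMod E a) x m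
    rw [stalkMap_sub, stalkMap_smulMod]
    rfl
  rw [heq]
  exact hbij

end Groth.Agent.H76.VB
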