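import Mathlib
import Groth.Agent.S0002
import Groth.Agent.H76.VB6
import Groth.Agent.H62.GW2
import Groth.Agent.H76.CurveS1

/-!
helper76, vector bundles on regular curves: the gateway from a smooth proper integral curve to
`VCurve`, through the finiteness theorem `S0002`; and the statement-level consequences.
-/

set_option autoImplicit false
set_option linter.style.haveILetI false
universe u
open CategoryTheory CategoryTheory.Limits AlgebraicGeometry TopologicalSpace Opposite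

namespace Groth.Agent.H76.VB

variable (k : Type u) [Field k] (X : Scheme.{u}) [X.Over (Spec (CommRingCat.of k))]

/-- a smooth proper integral curve is a `VCurve` -/
theorem vcurve_of_smooth [IsIntegral X] [IsProper (X ↘ Spec (CommRingCat.of k))]
    [Smooth (X ↘ Spec (CommRingCat.of k))] (hdim : topologicalKrullDim X = 1) : VCurve k X :=
  VCurve.of_smooth hdim (fun M hM n => Groth.Agent.S0002.result k X M hM n)

section statements

variable [IsIntegral X] [IsProper (X ↘ Spec (CommRingCat.of k))]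
  [Smooth (X ↘ Spec (CommRingCat.of k))] (hdim : topologicalKrullDim X = 1)
include hdim

theorem S15331_main (r : ℕ) (E : X.Modules) (hE : FlatMod.IsFinLocFreeOfRank r E) :
    ∃ N : ℤ, ∀ (F : X.Modules) (r' : ℕ) (i : F ⟶ E), Mono i → FlatMod.IsFinLocFreeOfRank r' F →
      Curv2.deg k X F r' ≤ N :=
  (vcurve_of_smooth k X hdim).bddAbove_deg_sub hE

theorem S15332_main (r s : ℕ) (E F : X.Modules)
    (hE : FlatMod.IsFinLocFreeOfRank r E) (hF : FlatMod.IsFinLocFreeOfRank s F)
    (hEss : ModFun.IsSlopeSemistable k X E r)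
    (hmax : ∀ (G : X.Modules) (r' : ℕ) (i : G ⟶ F), Mono i → 0 < r' →
      FlatMod.IsFinLocFreeOfRank r' G →
      Curv2.deg k X G r' * (r : ℤ) < Curv2.deg k X E r * (r' : ℤ))
    (f : E ⟶ F) : f = 0 :=
  (vcurve_of_smooth k X hdim).hom_eq_zero_of_slope hE hF hEss hmax f

theorem S15333_main (r s : ℕ) (hr : 0 < r) (hs : 0 < s) (E F : X.Modules)
    (hE : FlatMod.IsFinLocFreeOfRank r E) (hF : FlatMod.IsFinLocFreeOfRank s F)
    (hEst : ModFun.IsSlopeStable k X E r)
    (hFss : ModFun.IsSlopeSemistable k X F s) (hFst : ModFun.IsSlopeStable k X F s)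
    (hμ : Curv2.deg k X E r * (s : ℤ) = Curv2.deg k X F s * (r : ℤ))
    (f : E ⟶ F) (hf : f ≠ 0) : IsIso f :=
  (vcurve_of_smooth k X hdim).isIso_of_stable hr hs hE hF hEst hFss hFst hμ f hf

theorem S15335_main (r₁ r₂ : ℕ) (E₁ E₂ : X.Modules)
    (hE₁ : FlatMod.IsFinLocFreeOfRank r₁ E₁) (hE₂ : FlatMod.IsFinLocFreeOfRank r₂ E₂) (m₁ m₂ : ℚ)
    (h₁ : ∀ (G : X.Modules) (r' : ℕ) (i : G ⟶ E₁), Mono i → 0 < r' →
      FlatMod.IsFinLocFreeOfRank r' G → (Curv2.deg k X G r' : ℚ) / r' ≤ m₁)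
    (h₂ : ∀ (G : X.Modules) (r' : ℕ) (i : G ⟶ E₂), Mono i → 0 < r' →
      FlatMod.IsFinLocFreeOfRank r' G → (Curv2.deg k X G r' : ℚ) / r' ≤ m₂)
    (F : X.Modules) (r' : ℕ) (i : F ⟶ E₁ ⊞ E₂) (hi : Mono i) (hr' : 0 < r')
    (hF : FlatMod.IsFinLocFreeOfRank r' F) :
    (Curv2.deg k X F r' : ℚ) / r' ≤ max m₁ m₂ :=
  (vcurve_of_smooth k X hdim).slope_sub_biprod_le_max hE₁ hE₂ m₁ m₂ h₁ h₂ F r' i hi hr' hF

theorem S15340_main (r : ℕ) (hr : 0 < r) (E : X.Modules) (hE : FlatMod.IsFinLocFreeOfRank r E)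
    (hEst : ModFun.IsSlopeStable k X E r) :
    ¬ IsZero E ∧ ∀ (E₁ E₂ : X.Modules), Nonempty (E ≅ E₁ ⊞ E₂) → IsZero E₁ ∨ IsZero E₂ :=
  (vcurve_of_smooth k X hdim).indecomposable_of_stable hr hE hEst

end statements

section algclosed

attribute [local instance] Curv2.stalkAlgebra Curv2.resAlgebra

variable [IsAlgClosed k] [IsIntegral X] [IsProper (X ↘ Spec (CommRingCat.of k))]
  [Smooth (X ↘ Spec (CommRingCat.of k))] (hdim : topologicalKrullDim X = 1)
include hdim

/-- over an algebraically closed field the curve has a closed point with residue field `k` -/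
theorem exists_rational_point : ∃ x : X, Function.Bijective (Curv2.resMap k X x) := by
  have hC := Groth.Agent.H76.Curve.gcurve_of_smooth_of_isAlgClosed k X hdim
  obtain ⟨x, hx⟩ := hC.exists_isClosed_singleton
  refine ⟨x, ?_⟩
  have h1 := Groth.Agent.H62.GD.deg_placeOf hC ⟨x, hx⟩
  rw [Groth.Agent.H55.Place.deg_eq_one_of_isAlgClosed hC.isFunctionField] at h1
  exact Algebra.finrank_eq_one_iff_bijective_algebraMap.1 h1.symm

theorem S15334_main (r : ℕ) (hr : 0 < r) (E : X.Modules) (hE : FlatMod.IsFinLocFreeOfRank r E)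
    (hEss : ModFun.IsSlopeSemistable k X E r) (hEst : ModFun.IsSlopeStable k X E r)
    (φ : E ⟶ E) :
    ∃ c : k, (SheafOfModules.toSheaf X.ringCatSheaf).map φ =
      Coh.smulAb E (Coh.toGlobal (X ↘ Spec (CommRingCat.of k)) c) := by
  obtain ⟨x, hx⟩ := exists_rational_point k X hdim
  obtain ⟨c, hc⟩ := (vcurve_of_smooth k X hdim).endomorphism_scalar x hx hr hE hEss hEst φ
  exact ⟨c, by rw [hc]; rfl⟩

end algclosed

end Groth.Agent.H76.VB
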