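import Mathlib
import Groth.Agent.H76.VB6

/-!
helper76, vector bundles on regular curves, part 7: more on stability; preimages of subsheaves of
quotients; the maximal-slope subsheaf.
-/

set_option autoImplicit false
set_option linter.style.haveILetI false
universe u
open CategoryTheory CategoryTheory.Limits AlgebraicGeometry TopologicalSpace Opposite

namespace Groth.Agent.H76.VB

open Groth.Agent.H38.ModStalk

variable {k : Type u} [Field k] {X : Scheme.{u}} [X.Over (Spec (CommRingCat.of k))] [IsIntegral X]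
  (hX : VCurve k X)
include hX

/-- stable implies semistable -/
theorem VCurve.semistable_of_stable {E : X.Modules} {r : ℕ}
    (hE : FlatMod.IsFinLocFreeOfRank r E)
    (hEst : ∀ (G : X.Modules) (r' : ℕ) (i : G ⟶ E), Mono i → 0 < r' → r' < r →
      FlatMod.IsFinLocFreeOfRank r' G →
      Curv2.deg k X G r' * (r : ℤ) < Curv2.deg k X E r * (r' : ℤ)) :
    ∀ (G : X.Modules) (r' : ℕ) (i : G ⟶ E), Mono i → 0 < r' →
      FlatMod.IsFinLocFreeOfRank r' G →
      Curv2.deg k X G r' * (r : ℤ) ≤ Curv2.deg k X E r * (r' : ℤ) := by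
  intro G r' i hi hr' hG
  haveI := hi
  haveI : Nonempty X := ⟨genericPoint X⟩
  have hle := Groth.Agent.H92.LocFreeRank.rank_le_of_mono i hG hE
  rcases Nat.lt_or_ge r' r with h | h
  · exact (hEst G r' i hi hr' h hG).le
  · have : r' = r := le_antisymm hle h
    subst this
    exact mul_le_mul_of_nonneg_right (hX.deg_le_of_mono i hG hE) (by positivity)

/-- a nonzero endomorphism of a stable bundle is an isomorphism -/
theorem VCurve.isIso_of_ne_zero_endo {E : X.Modules} {r : ℕ} (hr : 0 < r)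
    (hE : FlatMod.IsFinLocFreeOfRank r E)
    (hEst : ∀ (G : X.Modules) (r' : ℕ) (i : G ⟶ E), Mono i → 0 < r' → r' < r →
      FlatMod.IsFinLocFreeOfRank r' G →
      Curv2.deg k X G r' * (r : ℤ) < Curv2.deg k X E r * (r' : ℤ))
    (f : E ⟶ E) (hf : f ≠ 0) : IsIso f :=
  hX.isIso_of_stable hr hr hE hE hEst (hX.semistable_of_stable hE hEst) hEst rfl f hf

omit hX in
/-- the "not an isomorphism" form of stability implies the rank form -/
theorem stable_of_stable' {E : X.Modules} {r : ℕ} (hE : FlatMod.IsFinLocFreeOfRank r E)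
    (hEst : ∀ (G : X.Modules) (r' : ℕ) (i : G ⟶ E), Mono i → 0 < r' →
      FlatMod.IsFinLocFreeOfRank r' G → (¬ IsIso i) →
      Curv2.deg k X G r' * (r : ℤ) < Curv2.deg k X E r * (r' : ℤ)) :
    ∀ (G : X.Modules) (r' : ℕ) (i : G ⟶ E), Mono i → 0 < r' → r' < r →
      FlatMod.IsFinLocFreeOfRank r' G →
      Curv2.deg k X G r' * (r : ℤ) < Curv2.deg k X E r * (r' : ℤ) := by
  intro G r' i hi hr' hlt hG
  refine hEst G r' i hi hr' hG (fun hiso => ?_)
  haveI := hiso
  have := rank_unique (rank_of_iso (asIso i) hG) hE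
  omega

/-- a nonzero morphism between semistable bundles of the same rank and degree, one of which is
stable, is an isomorphism -/
theorem VCurve.isIso_of_semistable_eq_rank_deg {E E' : X.Modules} {r : ℕ} (hr : 0 < r)
    (hE : FlatMod.IsFinLocFreeOfRank r E) (hE' : FlatMod.IsFinLocFreeOfRank r E')
    (hdeg : Curv2.deg k X E r = Curv2.deg k X E' r)
    (hss : ∀ (F : X.Modules) (r' : ℕ) (i : F ⟶ E), Mono i → 0 < r' →
      FlatMod.IsFinLocFreeOfRank r' F →
      Curv2.deg k X F r' * (r : ℤ) ≤ Curv2.deg k X E r * (r' : ℤ))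
    (hss' : ∀ (F : X.Modules) (r' : ℕ) (i : F ⟶ E'), Mono i → 0 < r' →
      FlatMod.IsFinLocFreeOfRank r' F →
      Curv2.deg k X F r' * (r : ℤ) ≤ Curv2.deg k X E' r * (r' : ℤ))
    (hst : (∀ (F : X.Modules) (r' : ℕ) (i : F ⟶ E), Mono i → 0 < r' → r' < r →
      FlatMod.IsFinLocFreeOfRank r' F →
      Curv2.deg k X F r' * (r : ℤ) < Curv2.deg k X E r * (r' : ℤ)) ∨
      (∀ (F : X.Modules) (r' : ℕ) (i : F ⟶ E'), Mono i → 0 < r' → r' < r →
      FlatMod.IsFinLocFreeOfRank r' F →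
      Curv2.deg k X F r' * (r : ℤ) < Curv2.deg k X E' r * (r' : ℤ)))
    (f : E ⟶ E') (hf : f ≠ 0) : IsIso f := by
  obtain ⟨a, b, ha, hb, hb0, hab, hd⟩ := hX.exists_kernel_image_pos f hf hE hE'
  have hrZ : ((a : ℤ) + (b : ℤ)) = (r : ℤ) := by rw [hab]; push_cast; rfl
  rcases Nat.eq_zero_or_pos a with h | h
  · subst h
    have hz := isZero_of_rank_zero ha
    haveI : Mono f := Preadditive.mono_of_kernel_zero (hz.eq_of_src _ _)
    exact hX.isIso_of_mono_of_deg_eq f hE hE' hdeg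
  · exfalso
    have hbr : b < r := by omega
    have hI := hss' (Abelian.image f) b (Abelian.image.ι f) inferInstance hb0 hb
    have hK := hss (kernel f) a (kernel.ι f) inferInstance h ha
    have h5 : Curv2.deg k X E r * (r : ℤ) = Curv2.deg k X E r * (a : ℤ) +
        Curv2.deg k X E r * (b : ℤ) := by rw [← hrZ]; ring
    have h6 : Curv2.deg k X E r * (r : ℤ) =
        Curv2.deg k X (kernel f) a * (r : ℤ) + Curv2.deg k X (Abelian.image f) b * (r : ℤ) := by
      rw [hd]; ring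
    rcases hst with hst | hst
    · have h1 := hst (kernel f) a (kernel.ι f) inferInstance h (by omega) ha
      rw [← hdeg] at hI
      linarith
    · have h1 := hst (Abelian.image f) b (Abelian.image.ι f) inferInstance hb0 hbr hb
      rw [← hdeg] at h1
      linarith

/-- in a short exact sequence with stable middle term, every map from the quotient to the sub
vanishes -/
theorem VCurve.hom_quotient_to_sub_eq_zero (T : ShortComplex X.Modules) (hT : T.ShortExact)
    {r : ℕ} (hr : 0 < r) (hE : FlatMod.IsFinLocFreeOfRank r T.X₂)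
    (hst : ∀ (G : X.Modules) (r' : ℕ) (i : G ⟶ T.X₂), Mono i → 0 < r' → r' < r →
      FlatMod.IsFinLocFreeOfRank r' G →
      Curv2.deg k X G r' * (r : ℤ) < Curv2.deg k X T.X₂ r * (r' : ℤ))
    (φ : T.X₃ ⟶ T.X₁) : φ = 0 := by
  haveI := hT.mono_f
  haveI := hT.epi_g
  let ψ : T.X₂ ⟶ T.X₂ := T.g ≫ φ ≫ T.f
  have hψ2 : ψ ≫ ψ = 0 := by
    change (T.g ≫ φ ≫ T.f) ≫ (T.g ≫ φ ≫ T.f) = 0
    simp only [Category.assoc]
    rw [← Category.assoc T.f T.g, T.zero]
    simp
  have hψ : ψ = 0 := by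
    by_contra hne
    haveI := hX.isIso_of_ne_zero_endo hr hE hst ψ hne
    have h0 : ψ = 0 := by
      have := congrArg (fun w => inv ψ ≫ w) hψ2
      simpa using this
    exact hne h0
  have h1 : φ ≫ T.f = 0 := by
    have : T.g ≫ (φ ≫ T.f) = T.g ≫ 0 := by rw [comp_zero]; exact hψ
    exact (cancel_epi T.g).1 this
  exact (cancel_mono T.f).1 (by rw [h1, zero_comp])

/-- the preimage in `E` of a vector sub-bundle `Q` of a quotient `C` of `E` by a vector
sub-bundle `E₁`: it is a vector sub-bundle of `E` of rank `r₁ + s` and degree `deg E₁ + deg Q` -/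
theorem VCurve.exists_preimage (T : ShortComplex X.Modules) (hT : T.ShortExact) {r₁ r s : ℕ}
    (hE₁ : FlatMod.IsFinLocFreeOfRank r₁ T.X₁) (hE : FlatMod.IsFinLocFreeOfRank r T.X₂)
    (hC : Coh.IsCoh T.X₃) {Q : X.Modules} (j : Q ⟶ T.X₃) [Mono j]
    (hQ : FlatMod.IsFinLocFreeOfRank s Q) :
    ∃ (F : X.Modules) (ι : F ⟶ T.X₂), Mono ι ∧ FlatMod.IsFinLocFreeOfRank (r₁ + s) F ∧
      Curv2.deg k X F (r₁ + s) = Curv2.deg k X T.X₁ r₁ + Curv2.deg k X Q s := by
  haveI := hT.epi_g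
  have hEc := isCoh_of_rank hE
  have hQc := isCoh_of_rank hQ
  have hcc : Coh.IsCoh (cokernel j) := hX.isCoh_cokernel j hQc hC
  let u : T.X₂ ⟶ cokernel j := T.g ≫ cokernel.π j
  haveI : Epi u := epi_comp _ _
  have hFc : Coh.IsCoh (kernel u) := hX.isCoh_kernel u hEc hcc
  let Sa : ShortComplex X.Modules := ShortComplex.mk (kernel.ι u) u (kernel.condition u)
  have hSa : Sa.ShortExact :=
    ShortComplex.ShortExact.mk' (ShortComplex.exact_kernel u) (inferInstanceAs (Mono (kernel.ι u)))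
      (inferInstanceAs (Epi u))
  have hfinE := finite_genericStalk_of_rank hE
  have hfinC : Module.Finite (X.presheaf.stalk (genericPoint X))
      (T.X₃.presheaf.stalk (genericPoint X)) :=
    Module.Finite.of_surjective (stalkMapₗ T.g (genericPoint X))
      (stalkMapₗ_surjective_of_epi _ _)
  have g1 := grank_add Sa hSa hfinE
  have g2 := grank_add (monoSC j) (monoSC_shortExact j) hfinC
  have g3 := grank_add T hT hfinE
  change grank T.X₂ = grank (kernel u) + grank (cokernel j) at g1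
  change grank T.X₃ = grank Q + grank (cokernel j) at g2
  rw [grank_of_rank hE₁] at g3
  rw [grank_of_rank hQ] at g2
  obtain ⟨rF, hF⟩ := hX.exists_rank_of_mono (kernel.ι u) hFc hE
  have hrF : rF = r₁ + s := by
    rw [← grank_of_rank hF]
    omega
  subst hrF
  refine ⟨kernel u, kernel.ι u, inferInstance, hF, ?_⟩
  have e1 := hX.euler_add Sa hSa hFc hEc hcc
  have e2 := hX.euler_add (monoSC j) (monoSC_shortExact j) hQc hC hcc
  have e3 := hX.euler_add T hT (isCoh_of_rank hE₁) hEc hC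
  change Curv2.euler k X T.X₂ = Curv2.euler k X (kernel u) + Curv2.euler k X (cokernel j) at e1
  change Curv2.euler k X T.X₃ = Curv2.euler k X Q + Curv2.euler k X (cokernel j) at e2
  unfold Curv2.deg
  push_cast
  linarith

/-- there is a sub-bundle of maximal slope, and of maximal rank among those -/
theorem VCurve.exists_max_slope_sub {E : X.Modules} {r : ℕ} (hr : 0 < r)
    (hE : FlatMod.IsFinLocFreeOfRank r E) :
    ∃ (E₁ : X.Modules) (r₁ : ℕ) (i₁ : E₁ ⟶ E), Mono i₁ ∧ 0 < r₁ ∧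
      FlatMod.IsFinLocFreeOfRank r₁ E₁ ∧
      (∀ (G : X.Modules) (r' : ℕ) (j : G ⟶ E), Mono j → 0 < r' →
        FlatMod.IsFinLocFreeOfRank r' G →
        Curv2.deg k X G r' * (r₁ : ℤ) ≤ Curv2.deg k X E₁ r₁ * (r' : ℤ)) ∧
      (∀ (G : X.Modules) (r' : ℕ) (j : G ⟶ E), Mono j → 0 < r' →
        FlatMod.IsFinLocFreeOfRank r' G →
        Curv2.deg k X G r' * (r₁ : ℤ) = Curv2.deg k X E₁ r₁ * (r' : ℤ) → r' ≤ r₁) := by
  haveI : Nonempty X := ⟨genericPoint X⟩
  obtain ⟨N, hN⟩ := hX.bddAbove_deg_sub hE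
  let Φ : ℕ → ℤ → ℤ := fun r' d => d * ((r.factorial / r' : ℕ) : ℤ) * ((r : ℤ) + 1) + (r' : ℤ)
  let P : ℤ → Prop := fun z => ∃ (G : X.Modules) (r' : ℕ) (j : G ⟶ E), Mono j ∧ 0 < r' ∧
    FlatMod.IsFinLocFreeOfRank r' G ∧ z = Φ r' (Curv2.deg k X G r')
  have hq : ∀ r' : ℕ, 0 < r' → r' ≤ r → (r.factorial / r') * r' = r.factorial := fun r' h1 h2 =>
    Nat.div_mul_cancel (Nat.dvd_factorial h1 h2)
  have hbdd : ∃ b : ℤ, ∀ z, P z → z ≤ b := by
    refine ⟨max N 0 * (r.factorial : ℤ) * ((r : ℤ) + 1) + r, ?_⟩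
    rintro z ⟨G, r', j, hj, hr', hG, rfl⟩
    haveI := hj
    have hle : r' ≤ r := Groth.Agent.H92.LocFreeRank.rank_le_of_mono j hG hE
    have hd := hN G r' j hj hG
    have hq1 : (1 : ℤ) ≤ ((r.factorial / r' : ℕ) : ℤ) := by
      have : 0 < r.factorial / r' := Nat.div_pos (Nat.le_of_dvd (Nat.factorial_pos r)
        (Nat.dvd_factorial hr' hle)) hr'
      exact_mod_cast this
    have hq2 : ((r.factorial / r' : ℕ) : ℤ) ≤ (r.factorial : ℤ) := by
      exact_mod_cast Nat.div_le_self _ _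
    have h1 : Curv2.deg k X G r' * ((r.factorial / r' : ℕ) : ℤ) ≤ max N 0 * (r.factorial : ℤ) := by
      rcases le_or_gt (Curv2.deg k X G r') 0 with h | h
      · have : Curv2.deg k X G r' * ((r.factorial / r' : ℕ) : ℤ) ≤ 0 :=
          mul_nonpos_of_nonpos_of_nonneg h (by positivity)
        have h2 : (0 : ℤ) ≤ max N 0 * (r.factorial : ℤ) :=
          mul_nonneg (le_max_right _ _) (by positivity)
        linarith
      · calc Curv2.deg k X G r' * ((r.factorial / r' : ℕ) : ℤ)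
            ≤ Curv2.deg k X G r' * (r.factorial : ℤ) := mul_le_mul_of_nonneg_left hq2 h.le
          _ ≤ max N 0 * (r.factorial : ℤ) :=
            mul_le_mul_of_nonneg_right (hd.trans (le_max_left _ _)) (by positivity)
    have h3 : (0 : ℤ) ≤ (r : ℤ) + 1 := by positivity
    have h4 := mul_le_mul_of_nonneg_right h1 h3
    have h5 : (r' : ℤ) ≤ r := by exact_mod_cast hle
    change Curv2.deg k X G r' * ((r.factorial / r' : ℕ) : ℤ) * ((r : ℤ) + 1) + (r' : ℤ) ≤ _
    linarith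
  have hne : ∃ z, P z := ⟨_, E, r, 𝟙 E, inferInstance, hr, hE, rfl⟩
  obtain ⟨z₁, ⟨E₁, r₁, i₁, hi₁, hr₁, hE₁, rfl⟩, hmax⟩ := Int.exists_greatest_of_bdd hbdd hne
  haveI := hi₁
  have hr₁le : r₁ ≤ r := Groth.Agent.H92.LocFreeRank.rank_le_of_mono i₁ hE₁ hE
  -- comparison with any other sub-bundle
  have key : ∀ (G : X.Modules) (r' : ℕ) (j : G ⟶ E), Mono j → 0 < r' →
      FlatMod.IsFinLocFreeOfRank r' G →
      Curv2.deg k X G r' * (r₁ : ℤ) ≤ Curv2.deg k X E₁ r₁ * (r' : ℤ) ∧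
      (Curv2.deg k X G r' * (r₁ : ℤ) = Curv2.deg k X E₁ r₁ * (r' : ℤ) → r' ≤ r₁) := by
    intro G r' j hj hr' hG
    haveI := hj
    have hle : r' ≤ r := Groth.Agent.H92.LocFreeRank.rank_le_of_mono j hG hE
    have hΦ := hmax _ ⟨G, r', j, hj, hr', hG, rfl⟩
    change Curv2.deg k X G r' * ((r.factorial / r' : ℕ) : ℤ) * ((r : ℤ) + 1) + (r' : ℤ) ≤
      Curv2.deg k X E₁ r₁ * ((r.factorial / r₁ : ℕ) : ℤ) * ((r : ℤ) + 1) + (r₁ : ℤ) at hΦ
    set A : ℤ := Curv2.deg k X G r' * ((r.factorial / r' : ℕ) : ℤ) with hA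
    set B : ℤ := Curv2.deg k X E₁ r₁ * ((r.factorial / r₁ : ℕ) : ℤ) with hB
    have hr'1 : (1 : ℤ) ≤ r' := by exact_mod_cast hr'
    have hr₁1 : (1 : ℤ) ≤ r₁ := by exact_mod_cast hr₁
    have hr'r : (r' : ℤ) ≤ r := by exact_mod_cast hle
    have hr₁r : (r₁ : ℤ) ≤ r := by exact_mod_cast hr₁le
    have hAB : A ≤ B := by
      by_contra hcon
      rw [not_le] at hcon
      have h1 : B + 1 ≤ A := hcon
      have h2 : (B + 1) * ((r : ℤ) + 1) ≤ A * ((r : ℤ) + 1) :=
        mul_le_mul_of_nonneg_right h1 (by positivity)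
      nlinarith
    have hq' : ((r.factorial / r' : ℕ) : ℤ) * (r' : ℤ) = (r.factorial : ℤ) := by
      exact_mod_cast hq r' hr' hle
    have hq₁ : ((r.factorial / r₁ : ℕ) : ℤ) * (r₁ : ℤ) = (r.factorial : ℤ) := by
      exact_mod_cast hq r₁ hr₁ hr₁le
    have hfpos : (0 : ℤ) < (r.factorial : ℤ) := by exact_mod_cast Nat.factorial_pos r
    have hA' : A * (r' : ℤ) * (r₁ : ℤ) = Curv2.deg k X G r' * (r₁ : ℤ) * (r.factorial : ℤ) := by
      rw [hA, ← hq']; ring
    have hB' : B * (r' : ℤ) * (r₁ : ℤ) = Curv2.deg k X E₁ r₁ * (r' : ℤ) * (r.factorial : ℤ) := by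
      rw [hB, ← hq₁]; ring
    have hpos : (0 : ℤ) < (r' : ℤ) * (r₁ : ℤ) := by positivity
    constructor
    · have h1 : A * ((r' : ℤ) * (r₁ : ℤ)) ≤ B * ((r' : ℤ) * (r₁ : ℤ)) :=
        mul_le_mul_of_nonneg_right hAB hpos.le
      rw [← mul_assoc, ← mul_assoc, hA', hB'] at h1
      exact le_of_mul_le_mul_right h1 hfpos
    · intro heq
      have h1 : A * ((r' : ℤ) * (r₁ : ℤ)) = B * ((r' : ℤ) * (r₁ : ℤ)) := by
        rw [← mul_assoc, ← mul_assoc, hA', hB', heq]
      have h2 : A = B := mul_right_cancel₀ (ne_of_gt hpos) h1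
      rw [h2] at hΦ
      have : (r' : ℤ) ≤ r₁ := by linarith
      exact_mod_cast this
  exact ⟨E₁, r₁, i₁, hi₁, hr₁, hE₁, fun G r' j hj hr' hG => (key G r' j hj hr' hG).1,
    fun G r' j hj hr' hG => (key G r' j hj hr' hG).2⟩

end Groth.Agent.H76.VB
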