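import Mathlib
import Groth.Agent.H76.VB7
import Groth.Agent.H6.HomShRefl2

/-!
helper76, vector bundles on regular curves, part 8: the torsion-free quotient of a coherent
module (image of the biduality map) and the saturation of a sub-bundle.
-/

set_option autoImplicit false
set_option linter.style.haveILetI false
universe u
open CategoryTheory CategoryTheory.Limits AlgebraicGeometry TopologicalSpace Opposite

namespace Groth.Agent.H76.VB

open Groth.Agent.H38.ModStalk

section abelian

variable {C : Type*} [Category C] [Abelian C] {A B : C} (f : A ⟶ B)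

/-- `0 → ker f → A → B → 0` for an epimorphism `f` -/
noncomputable def epiSC : ShortComplex C :=
  ShortComplex.mk (kernel.ι f) f (kernel.condition f)

theorem epiSC_shortExact [Epi f] : (epiSC f).ShortExact :=
  ShortComplex.ShortExact.mk' (ShortComplex.exact_kernel f)
    (inferInstanceAs (Mono (kernel.ι f))) ‹Epi f›

/-- for an epimorphism `f`, the cokernel of `ker f → A` is `B` -/
noncomputable def cokernelKernelIsoOfEpi [Epi f] : cokernel (kernel.ι f) ≅ B :=
  (cokernelIsCokernel (kernel.ι f)).coconePointUniqueUpToIso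
    (Abelian.epiIsCokernelOfKernel (KernelFork.ofι (kernel.ι f) (kernel.condition f))
      (kernelIsKernel f))

theorem cokernelKernelIsoOfEpi_hom [Epi f] :
    cokernel.π (kernel.ι f) ≫ (cokernelKernelIsoOfEpi f).hom = f :=
  (cokernelIsCokernel (kernel.ι f)).comp_coconePointUniqueUpToIso_hom
    (Abelian.epiIsCokernelOfKernel (KernelFork.ofι (kernel.ι f) (kernel.condition f))
      (kernelIsKernel f)) WalkingParallelPair.one

end abelian

section stalk

variable {X : Scheme.{u}}

theorem stalkMapₗ_comp_apply {M N P : X.Modules} (φ : M ⟶ N) (ψ : N ⟶ P) (x : X)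
    (v : M.presheaf.stalk x) :
    stalkMapₗ (φ ≫ ψ) x v = stalkMapₗ ψ x (stalkMapₗ φ x v) := by
  obtain ⟨U, hx, m, rfl⟩ := TopCat.Presheaf.exists_germ_eq M.presheaf v
  rw [stalkMapₗ_apply, stalkMapₗ_apply, stalkMapₗ_apply, stalkMap_germ, stalkMap_germ,
    stalkMap_germ, Scheme.Modules.Hom.comp_app]
  rfl

theorem stalkMapₗ_zero_apply {M N : X.Modules} (x : X) (v : M.presheaf.stalk x) :
    stalkMapₗ (0 : M ⟶ N) x v = 0 := by
  obtain ⟨U, hx, m, rfl⟩ := TopCat.Presheaf.exists_germ_eq M.presheaf v
  rw [stalkMapₗ_apply, stalkMap_germ]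
  have : (0 : M ⟶ N).app U m = 0 := rfl
  rw [this, map_zero]

theorem refStalkMapₗ_apply {M N : X.Modules} (φ : M ⟶ N) (x : X) (v : M.presheaf.stalk x) :
    RefHull.stalkMapₗ φ x v = stalkMapₗ φ x v := rfl

end stalk

section algebra

theorem exists_dual_apply_ne_zero {K V : Type*} [Field K] [AddCommGroup V] [Module K V] (v : V)
    (hv : v ≠ 0) : ∃ φ : V →ₗ[K] K, φ v ≠ 0 := by
  by_contra h
  apply hv
  refine (Module.forall_dual_apply_eq_zero_iff K v).1 (fun φ => ?_)
  by_contra h'
  exact h ⟨φ, h'⟩

end algebra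

section TFQ

variable {X : Scheme.{u}} [IsIntegral X] [IsLocallyNoetherian X]

/-- the stalks of the double dual of a coherent module are torsion free -/
theorem noZeroSMulDivisors_stalk_ddual (Q : X.Modules) (hQ : Coh.IsCoh Q) (x : X) :
    NoZeroSMulDivisors (X.presheaf.stalk x) ((RefHull.ddual Q).presheaf.stalk x) := by
  haveI := Groth.Agent.H67.StalkLoc.isQuasicoherent_structureModule X
  let e := Groth.Agent.H6.HomSh.stalkHomEquiv (RefHull.dual Q) (Coh.structureModule X)
    (Groth.Agent.H6.HomSh.isCoh_dual Q hQ) x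
  let c := Groth.Agent.H79.StructStalk.structStalkEquiv X x
  refine ⟨fun {a m} h => ?_⟩
  by_cases ha : a = 0
  · exact Or.inl ha
  right
  apply e.injective
  rw [map_zero]
  apply LinearMap.ext
  intro v
  have h1 : a • (e m) v = 0 := by
    rw [← LinearMap.smul_apply, ← map_smul, h, map_zero]
    rfl
  have h2 : a • c.symm ((e m) v) = 0 := by rw [← map_smul, h1, map_zero]
  rcases smul_eq_zero.1 h2 with h3 | h3
  · exact absurd h3 ha
  · have := congrArg c h3
    rwa [LinearEquiv.apply_symm_apply, map_zero] at this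

/-- the biduality map of a coherent module is injective at the generic point -/
theorem injective_stalk_bidualMap_generic (Q : X.Modules) (hQ : Coh.IsCoh Q) :
    Function.Injective (stalkMapₗ (RefHull.bidualMap Q) (genericPoint X)) := by
  letI : Field (X.presheaf.stalk (genericPoint X)) := genField
  haveI := Groth.Agent.H67.StalkLoc.isQuasicoherent_structureModule X
  rw [injective_iff_map_eq_zero]
  intro v hv
  by_contra hne
  obtain ⟨φ, hφ⟩ := exists_dual_apply_ne_zero (K := X.presheaf.stalk (genericPoint X)) v hne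
  let c := Groth.Agent.H79.StructStalk.structStalkEquiv X (genericPoint X)
  obtain ⟨θ, hθ⟩ := (Groth.Agent.H6.HomSh.evalStalk_bijective_of_isCoh Q (Coh.structureModule X) hQ
    (genericPoint X)).2 (c.toLinearMap.comp φ)
  have h1 := Groth.Agent.H6.HomSh.evalStalk_stalkMap_bidualMap Q (genericPoint X) v
  rw [refStalkMapₗ_apply, hv, map_zero] at h1
  have h2 : RefHull.bidualAt Q (genericPoint X) v θ = c (φ v) := by
    rw [RefHull.bidualAt_apply, hθ]
    rfl
  rw [← h1] at h2
  apply hφ
  have h3 : c (φ v) = 0 := h2.symm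
  have := congrArg c.symm h3
  rwa [LinearEquiv.symm_apply_apply, map_zero] at this

end TFQ

section TFQ2

variable {X : Scheme.{u}} [IsIntegral X]
variable {k : Type u} [Field k] [X.Over (Spec (CommRingCat.of k))] (hX : VCurve k X)
include hX

/-- every coherent module on a regular curve has a locally free quotient with torsion kernel -/
theorem VCurve.exists_torsionFree_quotient (Q : X.Modules) (hQ : Coh.IsCoh Q) :
    ∃ (F : X.Modules) (n : ℕ) (p : Q ⟶ F), Epi p ∧ FlatMod.IsFinLocFreeOfRank n F ∧
      Subsingleton ((kernel p).presheaf.stalk (genericPoint X)) := by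
  haveI := hX.isLocallyNoetherian
  have hdd : Coh.IsCoh (RefHull.ddual Q) := Groth.Agent.H6.HomSh.isCoh_ddual Q hQ
  have hI : Coh.IsCoh (Abelian.image (RefHull.bidualMap Q)) :=
    hX.isCoh_image (RefHull.bidualMap Q) hQ hdd
  have hfl : FlatMod.IsFinLocFree (Abelian.image (RefHull.bidualMap Q)) := by
    apply Groth.Agent.H67.TorsionFreeLocFree.isFinLocFree_of_torsionFree hX.regular hX.dim.le _ hI
    intro x
    haveI := noZeroSMulDivisors_stalk_ddual Q hQ x
    exact Function.Injective.noZeroSMulDivisors (stalkMapₗ (Abelian.image.ι (RefHull.bidualMap Q)) x)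
      (stalkMapₗ_injective_of_mono _ x) (map_zero _) (fun c m => map_smul _ c m)
  obtain ⟨n, hn⟩ := exists_rank hfl
  refine ⟨Abelian.image (RefHull.bidualMap Q), n, Abelian.factorThruImage (RefHull.bidualMap Q),
    inferInstance, hn, ?_⟩
  refine ⟨fun a c => ?_⟩
  suffices H : ∀ a : (kernel (Abelian.factorThruImage (RefHull.bidualMap Q))).presheaf.stalk
      (genericPoint X), a = 0 by rw [H a, H c]
  intro a
  apply stalkMapₗ_injective_of_mono (kernel.ι (Abelian.factorThruImage (RefHull.bidualMap Q)))
    (genericPoint X)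
  apply injective_stalk_bidualMap_generic Q hQ
  rw [map_zero, map_zero, ← stalkMapₗ_comp_apply]
  have : kernel.ι (Abelian.factorThruImage (RefHull.bidualMap Q)) ≫ RefHull.bidualMap Q = 0 := by
    have h := kernel.condition (Abelian.factorThruImage (RefHull.bidualMap Q))
    calc kernel.ι (Abelian.factorThruImage (RefHull.bidualMap Q)) ≫ RefHull.bidualMap Q
        = kernel.ι (Abelian.factorThruImage (RefHull.bidualMap Q)) ≫
          (Abelian.factorThruImage (RefHull.bidualMap Q) ≫
            Abelian.image.ι (RefHull.bidualMap Q)) := by rw [Abelian.image.fac]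
      _ = 0 := by rw [← Category.assoc, h, zero_comp]
  rw [this, stalkMapₗ_zero_apply]

/-- Euler characteristic of the torsion free quotient -/
theorem VCurve.euler_le_of_torsion_kernel {Q F : X.Modules} (p : Q ⟶ F) [Epi p] (hQ : Coh.IsCoh Q)
    (hF : Coh.IsCoh F) (hK : Subsingleton ((kernel p).presheaf.stalk (genericPoint X))) :
    Curv2.euler k X F ≤ Curv2.euler k X Q := by
  have hKc : Coh.IsCoh (kernel p) := hX.isCoh_kernel p hQ hF
  have h1 := hX.euler_add (epiSC p) (epiSC_shortExact p) hKc hQ hF
  change Curv2.euler k X Q = Curv2.euler k X (kernel p) + Curv2.euler k X F at h1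
  have h2 := hX.euler_torsion_nonneg (kernel p) hKc hK
  linarith

/-- saturation of a sub-bundle: a sub-bundle of the same rank containing it with locally free
quotient -/
theorem VCurve.exists_saturation {G E : X.Modules} (i : G ⟶ E) [Mono i] {r' r : ℕ}
    (hG : FlatMod.IsFinLocFreeOfRank r' G) (hE : FlatMod.IsFinLocFreeOfRank r E) :
    ∃ (G' : X.Modules) (i' : G' ⟶ E) (j : G ⟶ G'), Mono i' ∧ Mono j ∧ j ≫ i' = i ∧
      FlatMod.IsFinLocFreeOfRank r' G' ∧ r' ≤ r ∧
      FlatMod.IsFinLocFreeOfRank (r - r') (cokernel i') := by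
  haveI := hX.isLocallyNoetherian
  letI : Field (X.presheaf.stalk (genericPoint X)) := genField
  have hQ : Coh.IsCoh (cokernel i) := hX.isCoh_cokernel i (isCoh_of_rank hG) (isCoh_of_rank hE)
  obtain ⟨F, n, p, hp, hF, hK⟩ := hX.exists_torsionFree_quotient (cokernel i) hQ
  -- generic ranks
  have hg1 := grank_add (monoSC i) (monoSC_shortExact i) (finite_genericStalk_of_rank hE)
  change grank E = grank G + grank (cokernel i) at hg1
  rw [grank_of_rank hE, grank_of_rank hG] at hg1
  haveI hfinQ : Module.Finite (X.presheaf.stalk (genericPoint X))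
      ((cokernel i).presheaf.stalk (genericPoint X)) := by
    haveI := finite_genericStalk_of_rank hE
    exact Module.Finite.of_surjective (stalkMapₗ (cokernel.π i) (genericPoint X))
      (stalkMapₗ_surjective_of_epi _ _)
  have hg2 := grank_add (epiSC p) (epiSC_shortExact p) hfinQ
  change grank (cokernel i) = grank (kernel p) + grank F at hg2
  rw [grank_of_rank hF] at hg2
  have hg3 : grank (kernel p) = 0 := by
    unfold grank
    exact Module.finrank_zero_of_subsingleton
  have hn : n = r - r' := by omega
  have hle : r' ≤ r := by omega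
  subst hn
  -- the saturation
  let q : E ⟶ F := cokernel.π i ≫ p
  haveI : Epi q := epi_comp _ _
  have hKq : Coh.IsCoh (kernel q) := hX.isCoh_kernel q (isCoh_of_rank hE) (isCoh_of_rank hF)
  obtain ⟨a, ha⟩ := hX.exists_rank_of_mono (kernel.ι q) hKq hE
  have hr := rank_add (epiSC q) (epiSC_shortExact q) ha hE hF
  have har : a = r' := by omega
  subst har
  have hfac : i ≫ q = 0 := by
    change i ≫ cokernel.π i ≫ p = 0
    rw [← Category.assoc, cokernel.condition, zero_comp]
  have hj : kernel.lift q i hfac ≫ kernel.ι q = i := kernel.lift_ι _ _ _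
  refine ⟨kernel q, kernel.ι q, kernel.lift q i hfac, inferInstance, mono_of_mono_fac hj, hj, ha,
    hle, ?_⟩
  exact rank_of_iso (cokernelKernelIsoOfEpi q).symm hF

end TFQ2

end Groth.Agent.H76.VB
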