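import Mathlib
import Groth.Agent.H76.VB8

/-!
helper76, vector bundles on regular curves, part 9: (semi)stability through quotients and through
sub-bundles.
-/

set_option autoImplicit false
set_option linter.style.haveILetI false
universe u
open CategoryTheory CategoryTheory.Limits AlgebraicGeometry TopologicalSpace Opposite

namespace Groth.Agent.H76.VB

open Groth.Agent.H38.ModStalk

section abelian

variable {C : Type*} [Category C] [Abelian C] {A B : C}

theorem isZero_of_mono_eq_zero (f : A ⟶ B) [Mono f] (h : f = 0) : IsZero A := by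
  rw [IsZero.iff_id_eq_zero, ← cancel_mono f, h, comp_zero, comp_zero]

theorem isZero_of_epi_eq_zero (f : A ⟶ B) [Epi f] (h : f = 0) : IsZero B := by
  rw [IsZero.iff_id_eq_zero, ← cancel_epi f, h, zero_comp, zero_comp]

end abelian

section stab

variable {X : Scheme.{u}} [IsIntegral X]
variable {k : Type u} [Field k] [X.Over (Spec (CommRingCat.of k))] (hX : VCurve k X)
include hX

/-- kernel of an epimorphism between vector bundles: rank and degree -/
theorem VCurve.exists_kernel_of_epi {E F : X.Modules} {r s : ℕ}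
    (hE : FlatMod.IsFinLocFreeOfRank r E) (hF : FlatMod.IsFinLocFreeOfRank s F) (p : E ⟶ F)
    [Epi p] : ∃ a : ℕ, FlatMod.IsFinLocFreeOfRank a (kernel p) ∧ r = a + s ∧
      Curv2.deg k X E r = Curv2.deg k X (kernel p) a + Curv2.deg k X F s := by
  obtain ⟨a, ha⟩ := hX.exists_rank_of_mono (kernel.ι p)
    (hX.isCoh_kernel p (isCoh_of_rank hE) (isCoh_of_rank hF)) hE
  exact ⟨a, ha, rank_add (epiSC p) (epiSC_shortExact p) ha hE hF,
    hX.deg_add (epiSC p) (epiSC_shortExact p) ha hE hF⟩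

theorem VCurve.quotient_of_sub_semistable {E : X.Modules} {r : ℕ}
    (hE : FlatMod.IsFinLocFreeOfRank r E)
    (h : ∀ (G : X.Modules) (r' : ℕ) (i : G ⟶ E), Mono i → 0 < r' →
      FlatMod.IsFinLocFreeOfRank r' G →
      Curv2.deg k X G r' * (r : ℤ) ≤ Curv2.deg k X E r * (r' : ℤ))
    (F : X.Modules) (s : ℕ) (p : E ⟶ F) (hp : Epi p) (hF : FlatMod.IsFinLocFreeOfRank s F) :
    Curv2.deg k X E r * (s : ℤ) ≤ Curv2.deg k X F s * (r : ℤ) := by
  haveI := hp
  obtain ⟨a, ha, hr, hd⟩ := hX.exists_kernel_of_epi hE hF p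
  have hrz : (r : ℤ) = a + s := by exact_mod_cast hr
  rcases Nat.eq_zero_or_pos a with h0 | h0
  · subst h0
    have h1 : Curv2.deg k X (kernel p) 0 = 0 := deg_zero_of_isZero k _ (isZero_of_rank_zero ha)
    have h2 : r = s := by omega
    subst h2
    rw [hd, h1, zero_add]
  · have h1 := h (kernel p) a (kernel.ι p) inferInstance h0 ha
    rw [hrz] at h1 ⊢
    nlinarith

theorem VCurve.quotient_of_sub_stable {E : X.Modules} {r : ℕ}
    (hE : FlatMod.IsFinLocFreeOfRank r E)
    (h : ∀ (G : X.Modules) (r' : ℕ) (i : G ⟶ E), Mono i → 0 < r' →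
      FlatMod.IsFinLocFreeOfRank r' G → (¬ IsIso i) →
      Curv2.deg k X G r' * (r : ℤ) < Curv2.deg k X E r * (r' : ℤ))
    (F : X.Modules) (s : ℕ) (p : E ⟶ F) (hp : Epi p) (hs : 0 < s)
    (hF : FlatMod.IsFinLocFreeOfRank s F) (hnp : ¬ IsIso p) :
    Curv2.deg k X E r * (s : ℤ) < Curv2.deg k X F s * (r : ℤ) := by
  haveI := hp
  obtain ⟨a, ha, hr, hd⟩ := hX.exists_kernel_of_epi hE hF p
  have hrz : (r : ℤ) = a + s := by exact_mod_cast hr
  rcases Nat.eq_zero_or_pos a with h0 | h0
  · exfalso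
    subst h0
    apply hnp
    haveI : Mono p := Preadditive.mono_of_kernel_zero
      ((isZero_of_rank_zero ha).eq_of_src _ _)
    exact isIso_of_mono_of_epi p
  · have hni : ¬ IsIso (kernel.ι p) := by
      intro hiso
      have hp0 : p = 0 := by
        rw [← cancel_epi (kernel.ι p), kernel.condition, comp_zero]
      exact not_isZero_of_rank hs hF (genericPoint X) (isZero_of_epi_eq_zero p hp0)
    have h1 := h (kernel p) a (kernel.ι p) inferInstance h0 ha hni
    rw [hrz] at h1 ⊢
    nlinarith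

theorem VCurve.sub_of_quotient_semistable {E : X.Modules} {r : ℕ}
    (hE : FlatMod.IsFinLocFreeOfRank r E)
    (h : ∀ (F : X.Modules) (s : ℕ) (p : E ⟶ F), Epi p → 0 < s →
      FlatMod.IsFinLocFreeOfRank s F →
      Curv2.deg k X E r * (s : ℤ) ≤ Curv2.deg k X F s * (r : ℤ))
    (G : X.Modules) (r' : ℕ) (i : G ⟶ E) (hi : Mono i)
    (hG : FlatMod.IsFinLocFreeOfRank r' G) :
    Curv2.deg k X G r' * (r : ℤ) ≤ Curv2.deg k X E r * (r' : ℤ) := by
  haveI := hi
  obtain ⟨G', i', j, hi', hj, hfac, hG', hle, hC⟩ := hX.exists_saturation i hG hE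
  haveI := hi'
  haveI := hj
  have h1 : Curv2.deg k X G r' ≤ Curv2.deg k X G' r' := hX.deg_le_of_mono j hG hG'
  have hd := hX.deg_add (monoSC i') (monoSC_shortExact i') hG' hE hC
  change Curv2.deg k X E r = Curv2.deg k X G' r' + Curv2.deg k X (cokernel i') (r - r') at hd
  have hr0 : (0 : ℤ) ≤ r := by positivity
  rcases Nat.eq_zero_or_pos (r - r') with h0 | h0
  · have h2 : r' = r := by omega
    rw [h0] at hd hC
    have h3 : Curv2.deg k X (cokernel i') 0 = 0 :=
      deg_zero_of_isZero k _ (isZero_of_rank_zero hC)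
    subst h2
    rw [hd, h3, add_zero]
    exact mul_le_mul_of_nonneg_right h1 hr0
  · have h2 := h (cokernel i') (r - r') (cokernel.π i') inferInstance h0 hC
    have hrz : ((r - r' : ℕ) : ℤ) = (r : ℤ) - r' := by
      rw [Nat.cast_sub hle]
    rw [hrz] at h2
    have h3 : Curv2.deg k X G r' * (r : ℤ) ≤ Curv2.deg k X G' r' * (r : ℤ) :=
      mul_le_mul_of_nonneg_right h1 hr0
    nlinarith

theorem VCurve.sub_of_quotient_stable {E : X.Modules} {r : ℕ} (hr : 0 < r)
    (hE : FlatMod.IsFinLocFreeOfRank r E)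
    (h : ∀ (F : X.Modules) (s : ℕ) (p : E ⟶ F), Epi p → 0 < s →
      FlatMod.IsFinLocFreeOfRank s F → (¬ IsIso p) →
      Curv2.deg k X E r * (s : ℤ) < Curv2.deg k X F s * (r : ℤ))
    (G : X.Modules) (r' : ℕ) (i : G ⟶ E) (hi : Mono i) (hr' : 0 < r')
    (hG : FlatMod.IsFinLocFreeOfRank r' G) (hni : ¬ IsIso i) :
    Curv2.deg k X G r' * (r : ℤ) < Curv2.deg k X E r * (r' : ℤ) := by
  haveI := hi
  obtain ⟨G', i', j, hi', hj, hfac, hG', hle, hC⟩ := hX.exists_saturation i hG hE
  haveI := hi'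
  haveI := hj
  have h1 : Curv2.deg k X G r' ≤ Curv2.deg k X G' r' := hX.deg_le_of_mono j hG hG'
  have hd := hX.deg_add (monoSC i') (monoSC_shortExact i') hG' hE hC
  change Curv2.deg k X E r = Curv2.deg k X G' r' + Curv2.deg k X (cokernel i') (r - r') at hd
  have hr0 : (0 : ℤ) < r := by exact_mod_cast hr
  rcases Nat.eq_zero_or_pos (r - r') with h0 | h0
  · have h2 : r' = r := by omega
    subst h2
    have h4 : Curv2.deg k X G r' ≤ Curv2.deg k X E r' := hX.deg_le_of_mono i hG hE
    have h5 : Curv2.deg k X G r' ≠ Curv2.deg k X E r' := fun he =>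
      hni (hX.isIso_of_mono_of_deg_eq i hG hE he)
    exact mul_lt_mul_of_pos_right (lt_of_le_of_ne h4 h5) hr0
  · have hnp : ¬ IsIso (cokernel.π i') := by
      intro hiso
      have hi0 : i' = 0 := by
        rw [← cancel_mono (cokernel.π i'), cokernel.condition, zero_comp]
      exact not_isZero_of_rank hr' hG' (genericPoint X) (isZero_of_mono_eq_zero i' hi0)
    have h2 := h (cokernel i') (r - r') (cokernel.π i') inferInstance h0 hC hnp
    have hrz : ((r - r' : ℕ) : ℤ) = (r : ℤ) - r' := by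
      rw [Nat.cast_sub hle]
    rw [hrz] at h2
    have h3 : Curv2.deg k X G r' * (r : ℤ) ≤ Curv2.deg k X G' r' * (r : ℤ) :=
      mul_le_mul_of_nonneg_right h1 hr0.le
    nlinarith

end stab

end Groth.Agent.H76.VB
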