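import Mathlib
import Groth.Agent.H76.VB9
import Groth.Agent.H12.QCohExt

/-!
helper76, vector bundles on regular curves, part 10: extensions of vector bundles, line
sub-bundles, scalar endomorphisms.
-/

set_option autoImplicit false
set_option linter.style.haveILetI false
universe u
open CategoryTheory CategoryTheory.Limits AlgebraicGeometry TopologicalSpace Opposite

namespace Groth.Agent.H76.VB

open Groth.Agent.H38.ModStalk

section smul

variable {X : Scheme.{u}}

open Groth.Agent.H30.SmulMod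

theorem smulMod_zero' (M : X.Modules) : smulMod M (0 : Γ(X, ⊤)) = 0 := by
  apply Scheme.Modules.hom_ext
  intro U
  ext m
  rw [smulMod_app_apply, map_zero, zero_smul]
  rfl

theorem smulMod_one' (M : X.Modules) : smulMod M (1 : Γ(X, ⊤)) = 𝟙 M := by
  apply Scheme.Modules.hom_ext
  intro U
  ext m
  rw [smulMod_app_apply, map_one, one_smul]
  rfl

theorem smulMod_mul' (M : X.Modules) (a b : Γ(X, ⊤)) :
    smulMod M (a * b) = smulMod M a ≫ smulMod M b := by
  apply Scheme.Modules.hom_ext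
  intro U
  ext m
  rw [smulMod_app_apply, Scheme.Modules.Hom.comp_app]
  change _ = (smulMod M b).app U ((smulMod M a).app U m)
  rw [smulMod_app_apply, smulMod_app_apply, map_mul, mul_comm, mul_smul]

theorem smulMod_zero (M : X.Modules) : smulMod M (0 : Coh.Γtop X) = 0 := smulMod_zero' M

theorem smulMod_one (M : X.Modules) : smulMod M (1 : Coh.Γtop X) = 𝟙 M := smulMod_one' M

theorem smulMod_mul (M : X.Modules) (a b : Coh.Γtop X) :
    smulMod M (a * b) = smulMod M a ≫ smulMod M b := smulMod_mul' M a b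

end smul

section ext

variable {X : Scheme.{u}}

/-- the sections of a morphism over an open, as a linear map -/
noncomputable def appₗ {M N : X.Modules} (φ : M ⟶ N) (U : X.Opens) :
    Γ(M, U) →ₗ[Γ(X, U)] Γ(N, U) where
  toFun := φ.app U
  map_add' := map_add _
  map_smul' r x := Scheme.Modules.Hom.app_smul φ r x

/-- an extension of coherent modules is coherent -/
theorem isCoh_of_shortExact (S : ShortComplex X.Modules) (hS : S.ShortExact)
    (h₁ : Coh.IsCoh S.X₁) (h₃ : Coh.IsCoh S.X₃) : Coh.IsCoh S.X₂ := by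
  haveI : S.X₁.IsQuasicoherent := h₁.1
  haveI : S.X₃.IsQuasicoherent := h₃.1
  haveI : SheafOfModules.IsFiniteType (R := X.ringCatSheaf) S.X₁ := h₁.2
  haveI : SheafOfModules.IsFiniteType (R := X.ringCatSheaf) S.X₃ := h₃.2
  haveI : S.X₂.IsQuasicoherent := Groth.Agent.H12.QCohExt.isQuasicoherent_of_shortExact S hS
  refine ⟨inferInstance, Groth.Agent.H71.QCoh.isFiniteType_of_finite_sections S.X₂ (fun V => ?_)⟩
  haveI : Module.Finite Γ(X, V.1) Γ(S.X₁, V.1) :=
    Groth.Agent.H44.finite_sections_of_isFiniteType S.X₁ V.2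
  haveI : Module.Finite Γ(X, V.1) Γ(S.X₃, V.1) :=
    Groth.Agent.H44.finite_sections_of_isFiniteType S.X₃ V.2
  refine Module.Finite.of_exact (f := appₗ S.f V.1) (g := appₗ S.g V.1) ?_ ?_
  · intro y
    constructor
    · intro hy
      obtain ⟨x, hx⟩ := Groth.Agent.H12.QCohExt.app_exact S hS V.1 y hy
      exact ⟨x, hx⟩
    · rintro ⟨x, rfl⟩
      exact Groth.Agent.H12.QCohExt.app_zero_apply S V.1 x
  · exact Groth.Agent.H12.QCohExt.app_surjective_of_isAffineOpen S hS V.2

/-- the stalks of an extension of torsion free modules are torsion free -/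
theorem noZeroSMulDivisors_stalk_of_shortExact (S : ShortComplex X.Modules) (hS : S.ShortExact)
    (x : X) [NoZeroSMulDivisors (X.presheaf.stalk x) (S.X₁.presheaf.stalk x)]
    [NoZeroSMulDivisors (X.presheaf.stalk x) (S.X₃.presheaf.stalk x)] :
    NoZeroSMulDivisors (X.presheaf.stalk x) (S.X₂.presheaf.stalk x) := by
  haveI := hS.mono_f
  refine ⟨fun {a m} h => ?_⟩
  by_cases ha : a = 0
  · exact Or.inl ha
  right
  have h1 : a • stalkMapₗ S.g x m = 0 := by rw [← map_smul, h, map_zero]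
  have h2 : stalkMapₗ S.g x m = 0 := (eq_zero_or_eq_zero_of_smul_eq_zero h1).resolve_left ha
  obtain ⟨l, rfl⟩ := (stalkMapₗ_exact S hS x m).1 h2
  have h3 : stalkMapₗ S.f x (a • l) = 0 := by rw [map_smul, h]
  have h4 : a • l = 0 := by
    apply stalkMapₗ_injective_of_mono S.f x
    rw [h3, map_zero]
  rw [(eq_zero_or_eq_zero_of_smul_eq_zero h4).resolve_left ha, map_zero]

end ext

section abelian

variable {C : Type*} [Category C] [Abelian C]

/-- the cokernel of the first map of a short exact sequence is the third term -/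
noncomputable def cokernelIsoOfShortExact (S : ShortComplex C) (hS : S.ShortExact) :
    cokernel S.f ≅ S.X₃ :=
  haveI := hS.epi_g
  (cokernelIsCokernel S.f).coconePointUniqueUpToIso hS.exact.gIsCokernel

/-- a retraction of the first map of a short exact sequence splits it -/
theorem isSplitEpi_of_retraction (S : ShortComplex C) (hS : S.ShortExact) (r : S.X₂ ⟶ S.X₁)
    (hr : S.f ≫ r = 𝟙 S.X₁) : IsSplitEpi S.g := by
  let σ := ShortComplex.Splitting.ofExactOfRetraction S hS.exact r hr hS.epi_g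
  exact IsSplitEpi.mk' ⟨σ.s, σ.s_g⟩

end abelian

section curve

variable {X : Scheme.{u}} [IsIntegral X]
variable {k : Type u} [Field k] [X.Over (Spec (CommRingCat.of k))] (hX : VCurve k X)
include hX

/-- an extension of vector bundles is a vector bundle -/
theorem VCurve.rank_of_shortExact (S : ShortComplex X.Modules) (hS : S.ShortExact) {a c : ℕ}
    (h₁ : FlatMod.IsFinLocFreeOfRank a S.X₁) (h₃ : FlatMod.IsFinLocFreeOfRank c S.X₃) :
    FlatMod.IsFinLocFreeOfRank (a + c) S.X₂ := by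
  haveI := hX.isLocallyNoetherian
  have hc := isCoh_of_shortExact S hS (isCoh_of_rank h₁) (isCoh_of_rank h₃)
  have hfl : FlatMod.IsFinLocFree S.X₂ := by
    apply Groth.Agent.H67.TorsionFreeLocFree.isFinLocFree_of_torsionFree hX.regular hX.dim.le _ hc
    intro x
    haveI := Groth.Agent.H67.TorsionFreeLocFree.torsionFree_of_isFinLocFree hX.regular S.X₁
      (isCoh_of_rank h₁) (isFinLocFree_of_rank h₁) x
    haveI := Groth.Agent.H67.TorsionFreeLocFree.torsionFree_of_isFinLocFree hX.regular S.X₃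
      (isCoh_of_rank h₃) (isFinLocFree_of_rank h₃) x
    exact noZeroSMulDivisors_stalk_of_shortExact S hS x
  obtain ⟨b, hb⟩ := exists_rank hfl
  have := rank_add S hS h₁ hb h₃
  subst this
  exact hb

/-- line bundles are semistable -/
theorem VCurve.semistable_of_rank_one {L : X.Modules} (hL : FlatMod.IsFinLocFreeOfRank 1 L) :
    ∀ (G : X.Modules) (r' : ℕ) (i : G ⟶ L), Mono i → 0 < r' →
      FlatMod.IsFinLocFreeOfRank r' G →
      Curv2.deg k X G r' * ((1 : ℕ) : ℤ) ≤ Curv2.deg k X L 1 * (r' : ℤ) := by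
  intro G r' i hi hr' hG
  haveI := hi
  haveI : Nonempty X := ⟨genericPoint X⟩
  have hle := Groth.Agent.H92.LocFreeRank.rank_le_of_mono i hG hL
  have h1 : r' = 1 := by omega
  subst h1
  have := hX.deg_le_of_mono i hG hL
  push_cast
  linarith

omit [IsIntegral X] hX in
/-- line bundles are stable -/
theorem stable_of_rank_one {L : X.Modules} :
    ∀ (G : X.Modules) (r' : ℕ) (i : G ⟶ L), Mono i → 0 < r' → r' < 1 →
      FlatMod.IsFinLocFreeOfRank r' G →
      Curv2.deg k X G r' * ((1 : ℕ) : ℤ) < Curv2.deg k X L 1 * (r' : ℤ) := by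
  intro G r' i _ h1 h2 _
  omega

/-- a nonzero map from a line bundle to a vector bundle is a monomorphism -/
theorem VCurve.mono_of_ne_zero_of_rank_one {L M : X.Modules} {s : ℕ}
    (hL : FlatMod.IsFinLocFreeOfRank 1 L) (hM : FlatMod.IsFinLocFreeOfRank s M) (f : L ⟶ M)
    (hf : f ≠ 0) : Mono f := by
  obtain ⟨a, b, ha, hb, hb0, hab, -⟩ := hX.exists_kernel_image_pos f hf hL hM
  have h0 : a = 0 := by omega
  subst h0
  exact Preadditive.mono_of_kernel_zero ((isZero_of_rank_zero ha).eq_of_src _ _)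

theorem VCurve.deg_le_of_ne_zero {L M : X.Modules}
    (hL : FlatMod.IsFinLocFreeOfRank 1 L) (hM : FlatMod.IsFinLocFreeOfRank 1 M) (f : L ⟶ M)
    (hf : f ≠ 0) : Curv2.deg k X L 1 ≤ Curv2.deg k X M 1 := by
  haveI := hX.mono_of_ne_zero_of_rank_one hL hM f hf
  exact hX.deg_le_of_mono f hL hM

theorem VCurve.isIso_of_ne_zero_of_deg_eq {L M : X.Modules}
    (hL : FlatMod.IsFinLocFreeOfRank 1 L) (hM : FlatMod.IsFinLocFreeOfRank 1 M) (f : L ⟶ M)
    (hf : f ≠ 0) (hd : Curv2.deg k X L 1 = Curv2.deg k X M 1) : IsIso f := by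
  haveI := hX.mono_of_ne_zero_of_rank_one hL hM f hf
  exact hX.isIso_of_mono_of_deg_eq f hL hM hd

/-- a map from a torsion coherent module to a vector bundle vanishes -/
theorem VCurve.eq_zero_of_torsion {T M : X.Modules} {s : ℕ} (hT : Coh.IsCoh T)
    (hη : Subsingleton (T.presheaf.stalk (genericPoint X)))
    (hM : FlatMod.IsFinLocFreeOfRank s M) (f : T ⟶ M) : f = 0 := by
  by_contra hf
  have hI : Coh.IsCoh (Abelian.image f) := hX.isCoh_image f hT (isCoh_of_rank hM)
  obtain ⟨b, hb⟩ := hX.exists_rank_of_mono (Abelian.image.ι f) hI hM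
  haveI : Subsingleton ((Abelian.image f).presheaf.stalk (genericPoint X)) :=
    (stalkMapₗ_surjective_of_epi (Abelian.factorThruImage f) (genericPoint X)).subsingleton
  have h0 : b = 0 := by
    rw [← grank_of_rank hb]
    unfold grank
    exact Module.finrank_zero_of_subsingleton
  subst h0
  exact image_ne_zero f hf (isZero_of_rank_zero hb)

/-- a sub-bundle with locally free quotient contained in a sub-bundle of the same rank equals
it -/
theorem VCurve.sub_iso_of_comp_eq_zero (S : ShortComplex X.Modules) (hS : S.ShortExact)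
    {a c : ℕ} (hL : FlatMod.IsFinLocFreeOfRank a S.X₁) {N : X.Modules}
    (hN : FlatMod.IsFinLocFreeOfRank a N) (j : N ⟶ S.X₂) [Mono j]
    (hq : FlatMod.IsFinLocFreeOfRank c (cokernel j)) (h0 : j ≫ S.g = 0) :
    ∃ φ : N ≅ S.X₁, φ.hom ≫ S.f = j := by
  haveI := hS.mono_f
  let φ₀ : N ⟶ S.X₁ := hS.exact.lift j h0
  have hφ₀ : φ₀ ≫ S.f = j := hS.exact.lift_f j h0
  haveI : Mono φ₀ := mono_of_mono_fac hφ₀
  have hT : Coh.IsCoh (cokernel φ₀) :=
    hX.isCoh_cokernel φ₀ (isCoh_of_rank hN) (isCoh_of_rank hL)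
  have hη := subsingleton_genericStalk_cokernel φ₀ hN hL
  have hw : φ₀ ≫ S.f ≫ cokernel.π j = 0 := by
    rw [← Category.assoc, hφ₀, cokernel.condition]
  have hz : cokernel.desc φ₀ (S.f ≫ cokernel.π j) hw = 0 :=
    hX.eq_zero_of_torsion hT hη hq _
  have hfz : S.f ≫ cokernel.π j = 0 := by
    rw [← cokernel.π_desc φ₀ (S.f ≫ cokernel.π j) hw, hz, comp_zero]
  let ψ : S.X₁ ⟶ N := Abelian.monoLift j S.f hfz
  have hψ : ψ ≫ j = S.f := Abelian.monoLift_comp j S.f hfz
  refine ⟨⟨φ₀, ψ, ?_, ?_⟩, hφ₀⟩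
  · rw [← cancel_mono j, Category.assoc, hψ, hφ₀, Category.id_comp]
  · rw [← cancel_mono S.f, Category.assoc, hφ₀, hψ, Category.id_comp]

/-- a saturated line sub-bundle of an extension of line bundles either is the sub line bundle
or embeds into the quotient -/
theorem VCurve.sub_iso_or_mono (S : ShortComplex X.Modules) (hS : S.ShortExact)
    (hL : FlatMod.IsFinLocFreeOfRank 1 S.X₁) (hM : FlatMod.IsFinLocFreeOfRank 1 S.X₃)
    {N : X.Modules} (hN : FlatMod.IsFinLocFreeOfRank 1 N) (j : N ⟶ S.X₂) [Mono j] {c : ℕ}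
    (hq : FlatMod.IsFinLocFreeOfRank c (cokernel j)) :
    (∃ φ : N ≅ S.X₁, φ.hom ≫ S.f = j) ∨ Mono (j ≫ S.g) := by
  by_cases h0 : j ≫ S.g = 0
  · exact Or.inl (hX.sub_iso_of_comp_eq_zero S hS hL hN j hq h0)
  · exact Or.inr (hX.mono_of_ne_zero_of_rank_one hN hM _ h0)

/-- summands of a vector bundle -/
theorem VCurve.exists_rank_of_biprod {E E₁ E₂ : X.Modules} {r : ℕ}
    (hE : FlatMod.IsFinLocFreeOfRank r E) (e : E ≅ E₁ ⊞ E₂) :
    ∃ a b : ℕ, FlatMod.IsFinLocFreeOfRank a E₁ ∧ FlatMod.IsFinLocFreeOfRank b E₂ ∧ r = a + b ∧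
      Curv2.deg k X E r = Curv2.deg k X E₁ a + Curv2.deg k X E₂ b := by
  have hEc := isCoh_of_rank hE
  have hc1 : Coh.IsCoh E₁ := isCoh_of_retract (biprod.inl ≫ e.inv) (e.hom ≫ biprod.fst)
    (by simp) hEc
  have hc2 : Coh.IsCoh E₂ := isCoh_of_retract (biprod.inr ≫ e.inv) (e.hom ≫ biprod.snd)
    (by simp) hEc
  haveI : Mono (biprod.inl ≫ e.inv : E₁ ⟶ E) := mono_comp _ _
  haveI : Mono (biprod.inr ≫ e.inv : E₂ ⟶ E) := mono_comp _ _
  obtain ⟨a, ha⟩ := hX.exists_rank_of_mono (biprod.inl ≫ e.inv) hc1 hE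
  obtain ⟨b, hb⟩ := hX.exists_rank_of_mono (biprod.inr ≫ e.inv) hc2 hE
  exact ⟨a, b, ha, hb, rank_add (splitSC e) (splitSC_shortExact e) ha hE hb,
    hX.deg_add (splitSC e) (splitSC_shortExact e) ha hE hb⟩

end curve

end Groth.Agent.H76.VB
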