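import Mathlib
import Groth.Agent.H76.VB10

/-!
helper76, vector bundles on regular curves, part 11: rank two bundles and line sub-bundles.
-/

set_option autoImplicit false
set_option linter.style.haveILetI false
universe u
open CategoryTheory CategoryTheory.Limits AlgebraicGeometry TopologicalSpace Opposite

namespace Groth.Agent.H76.VB

open Groth.Agent.H38.ModStalk

section curve

variable {X : Scheme.{u}} [IsIntegral X]
variable {k : Type u} [Field k] [X.Over (Spec (CommRingCat.of k))] (hX : VCurve k X)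
include hX

/-- core of S11827 -/
theorem VCurve.sub_iso_or_deg_le (S : ShortComplex X.Modules) (hS : S.ShortExact)
    (hL : FlatMod.IsFinLocFreeOfRank 1 S.X₁) (hM : FlatMod.IsFinLocFreeOfRank 1 S.X₃)
    {N : X.Modules} (hN : FlatMod.IsFinLocFreeOfRank 1 N) (j : N ⟶ S.X₂) [Mono j] {c : ℕ}
    (hq : FlatMod.IsFinLocFreeOfRank c (cokernel j)) :
    (∃ φ : N ≅ S.X₁, φ.hom ≫ S.f = j) ∨ Curv2.deg k X N 1 ≤ Curv2.deg k X S.X₃ 1 := by
  rcases hX.sub_iso_or_mono S hS hL hM hN j hq with h | h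
  · exact Or.inl h
  · haveI := h
    exact Or.inr (hX.deg_le_of_mono (j ≫ S.g) hN hM)

/-- core of S11816 -/
theorem VCurve.destabilising_unique {E M M' : X.Modules}
    (hE : FlatMod.IsFinLocFreeOfRank 2 E) (hM : FlatMod.IsFinLocFreeOfRank 1 M)
    (hM' : FlatMod.IsFinLocFreeOfRank 1 M') (i : M ⟶ E) (i' : M' ⟶ E) [Mono i] [Mono i']
    (hq : FlatMod.IsFinLocFreeOfRank 1 (cokernel i))
    (hq' : FlatMod.IsFinLocFreeOfRank 1 (cokernel i'))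
    (hd : Curv2.deg k X E 2 < 2 * Curv2.deg k X M 1)
    (hd' : Curv2.deg k X E 2 < 2 * Curv2.deg k X M' 1) :
    ∃ φ : M ≅ M', φ.hom ≫ i' = i := by
  haveI : Mono (show M ⟶ (monoSC i').X₂ from i) := ‹Mono i›
  rcases hX.sub_iso_or_deg_le (monoSC i') (monoSC_shortExact i') hM' hq' hM
    (show M ⟶ (monoSC i').X₂ from i) hq with h | h
  · exact h
  · exfalso
    have h2 := hX.deg_add (monoSC i') (monoSC_shortExact i') hM' hE hq'
    change Curv2.deg k X E 2 = Curv2.deg k X M' 1 + Curv2.deg k X (cokernel i') 1 at h2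
    change Curv2.deg k X M 1 ≤ Curv2.deg k X (cokernel i') 1 at h
    linarith

/-- core of S11830 -/
theorem VCurve.gr_wellDefined {E L L' : X.Modules}
    (hE : FlatMod.IsFinLocFreeOfRank 2 E) (hL : FlatMod.IsFinLocFreeOfRank 1 L)
    (hL' : FlatMod.IsFinLocFreeOfRank 1 L') (i : L ⟶ E) (i' : L' ⟶ E) [Mono i] [Mono i']
    (hq : FlatMod.IsFinLocFreeOfRank 1 (cokernel i))
    (hq' : FlatMod.IsFinLocFreeOfRank 1 (cokernel i'))
    (hd : 2 * Curv2.deg k X L 1 = Curv2.deg k X E 2)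
    (hd' : 2 * Curv2.deg k X L' 1 = Curv2.deg k X E 2) :
    Nonempty (L ⊞ cokernel i ≅ L' ⊞ cokernel i') := by
  have h2 := hX.deg_add (monoSC i) (monoSC_shortExact i) hL hE hq
  change Curv2.deg k X E 2 = Curv2.deg k X L 1 + Curv2.deg k X (cokernel i) 1 at h2
  have h2' := hX.deg_add (monoSC i') (monoSC_shortExact i') hL' hE hq'
  change Curv2.deg k X E 2 = Curv2.deg k X L' 1 + Curv2.deg k X (cokernel i') 1 at h2'
  haveI : Mono (show L' ⟶ (monoSC i).X₂ from i') := ‹Mono i'›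
  haveI : Mono (show L ⟶ (monoSC i').X₂ from i) := ‹Mono i›
  rcases hX.sub_iso_or_mono (monoSC i) (monoSC_shortExact i) hL hq hL'
    (show L' ⟶ (monoSC i).X₂ from i') hq' with h | h
  · -- L' = L as subobjects
    obtain ⟨φ', hφ'⟩ : ∃ φ : L' ≅ L, φ.hom ≫ i = i' := h
    have ec : cokernel i' ≅ cokernel i :=
      cokernel.mapIso i' i φ' (Iso.refl E) (by
        rw [Iso.refl_hom, Category.comp_id]
        exact hφ'.symm)
    exact ⟨biprod.mapIso φ'.symm ec.symm⟩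
  · rcases hX.sub_iso_or_mono (monoSC i') (monoSC_shortExact i') hL' hq' hL
      (show L ⟶ (monoSC i').X₂ from i) hq with h' | h'
    · obtain ⟨φ', hφ'⟩ : ∃ φ : L ≅ L', φ.hom ≫ i' = i := h'
      have ec : cokernel i ≅ cokernel i' :=
        cokernel.mapIso i i' φ' (Iso.refl E) (by
          rw [Iso.refl_hom, Category.comp_id]
          exact hφ'.symm)
      exact ⟨biprod.mapIso φ' ec⟩
    · change Mono (i' ≫ cokernel.π i) at h
      change Mono (i ≫ cokernel.π i') at h'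
      haveI := h
      haveI := h'
      haveI : IsIso (i' ≫ cokernel.π i) :=
        hX.isIso_of_mono_of_deg_eq _ hL' hq (by linarith)
      haveI : IsIso (i ≫ cokernel.π i') :=
        hX.isIso_of_mono_of_deg_eq _ hL hq' (by linarith)
      exact ⟨biprod.mapIso (asIso (i ≫ cokernel.π i')) (asIso (i' ≫ cokernel.π i)).symm ≪≫
        biprod.braiding _ _⟩

/-- a line bundle summand of a sum of two line bundles is isomorphic to one of them -/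
theorem VCurve.summand_iso {L₁ L₂ M₁ M₂ : X.Modules}
    (h₁ : FlatMod.IsFinLocFreeOfRank 1 L₁)
    (h₃ : FlatMod.IsFinLocFreeOfRank 1 M₁) (h₄ : FlatMod.IsFinLocFreeOfRank 1 M₂)
    (e : L₁ ⊞ L₂ ≅ M₁ ⊞ M₂) : Nonempty (L₁ ≅ M₁) ∨ Nonempty (L₁ ≅ M₂) := by
  let u₁ : L₁ ⟶ M₁ := biprod.inl ≫ e.hom ≫ biprod.fst
  let v₁ : M₁ ⟶ L₁ := biprod.inl ≫ e.inv ≫ biprod.fst
  let u₂ : L₁ ⟶ M₂ := biprod.inl ≫ e.hom ≫ biprod.snd
  let v₂ : M₂ ⟶ L₁ := biprod.inr ≫ e.inv ≫ biprod.fst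
  have hsum : u₁ ≫ v₁ + u₂ ≫ v₂ = 𝟙 L₁ := by
    have h1 : u₁ ≫ v₁ + u₂ ≫ v₂ =
        biprod.inl ≫ e.hom ≫ (biprod.fst ≫ biprod.inl + biprod.snd ≫ biprod.inr) ≫ e.inv ≫
          biprod.fst := by
      simp only [u₁, v₁, u₂, v₂, Preadditive.comp_add, Preadditive.add_comp, Category.assoc]
    rw [h1, biprod.total, Category.id_comp, e.hom_inv_id_assoc, biprod.inl_fst]
  have hne : 𝟙 L₁ ≠ 0 := fun h =>
    not_isZero_of_rank one_pos h₁ (genericPoint X) ((IsZero.iff_id_eq_zero L₁).2 h)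
  have key : ∀ {M : X.Modules} (_ : FlatMod.IsFinLocFreeOfRank 1 M) (u : L₁ ⟶ M) (v : M ⟶ L₁),
      u ≫ v ≠ 0 → Nonempty (L₁ ≅ M) := by
    intro M hM u v huv
    have hu : u ≠ 0 := fun h => huv (by rw [h, zero_comp])
    have hv : v ≠ 0 := fun h => huv (by rw [h, comp_zero])
    have d1 := hX.deg_le_of_ne_zero h₁ hM u hu
    have d2 := hX.deg_le_of_ne_zero hM h₁ v hv
    haveI := hX.isIso_of_ne_zero_of_deg_eq h₁ hM u hu (le_antisymm d1 d2)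
    exact ⟨asIso u⟩
  by_cases h1 : u₁ ≫ v₁ = 0
  · have h2 : u₂ ≫ v₂ ≠ 0 := by
      intro h2
      rw [h1, h2, add_zero] at hsum
      exact hne hsum.symm
    exact Or.inr (key h₄ u₂ v₂ h2)
  · exact Or.inl (key h₃ u₁ v₁ h1)

/-- core of S11829: Krull–Schmidt for sums of two line bundles -/
theorem VCurve.krullSchmidt_two {L₁ L₂ M₁ M₂ : X.Modules}
    (h₁ : FlatMod.IsFinLocFreeOfRank 1 L₁) (h₂ : FlatMod.IsFinLocFreeOfRank 1 L₂)
    (h₃ : FlatMod.IsFinLocFreeOfRank 1 M₁) (h₄ : FlatMod.IsFinLocFreeOfRank 1 M₂)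
    (e : L₁ ⊞ L₂ ≅ M₁ ⊞ M₂) :
    (Nonempty (L₁ ≅ M₁) ∧ Nonempty (L₂ ≅ M₂)) ∨ (Nonempty (L₁ ≅ M₂) ∧ Nonempty (L₂ ≅ M₁)) := by
  have hA := hX.summand_iso h₁ h₃ h₄ e
  have hB := hX.summand_iso h₂ h₃ h₄ (biprod.braiding L₂ L₁ ≪≫ e)
  have hC := hX.summand_iso h₃ h₁ h₂ e.symm
  have hD := hX.summand_iso h₄ h₁ h₂ (biprod.braiding M₂ M₁ ≪≫ e.symm)
  rcases hA with ⟨⟨a⟩⟩ | ⟨⟨a⟩⟩ <;> rcases hB with ⟨⟨b⟩⟩ | ⟨⟨b⟩⟩
  · -- L₁ ≅ M₁, L₂ ≅ M₁
    rcases hD with ⟨⟨d⟩⟩ | ⟨⟨d⟩⟩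
    · exact Or.inr ⟨⟨d.symm⟩, ⟨b⟩⟩
    · exact Or.inl ⟨⟨a⟩, ⟨d.symm⟩⟩
  · exact Or.inl ⟨⟨a⟩, ⟨b⟩⟩
  · exact Or.inr ⟨⟨a⟩, ⟨b⟩⟩
  · -- L₁ ≅ M₂, L₂ ≅ M₂
    rcases hC with ⟨⟨c⟩⟩ | ⟨⟨c⟩⟩
    · exact Or.inl ⟨⟨c.symm⟩, ⟨b⟩⟩
    · exact Or.inr ⟨⟨a⟩, ⟨c.symm⟩⟩

end curve

end Groth.Agent.H76.VB
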