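import Mathlib
import Groth.Agent.H76.VB11

/-!
helper76, vector bundles on regular curves, part 12: non-split extensions of line bundles
(simple / indecomposable-but-not-simple), and a degree bound for sub-bundles.
-/

set_option autoImplicit false
set_option linter.style.haveILetI false
universe u
open CategoryTheory CategoryTheory.Limits AlgebraicGeometry TopologicalSpace Opposite

namespace Groth.Agent.H76.VB

open Groth.Agent.H38.ModStalk Groth.Agent.H30.SmulMod

section curve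

variable {X : Scheme.{u}} [IsIntegral X]
variable {k : Type u} [Field k] [X.Over (Spec (CommRingCat.of k))] (hX : VCurve k X)
include hX

omit [IsIntegral X] hX in
theorem smulMod_toGlobal_comp_inv (M : X.Modules) (c : k) (hc : c ≠ 0) :
    smulMod M (Coh.toGlobal (X ↘ Spec (CommRingCat.of k)) c) ≫
      smulMod M (Coh.toGlobal (X ↘ Spec (CommRingCat.of k)) c⁻¹) = 𝟙 M := by
  rw [← smulMod_mul, ← map_mul, mul_inv_cancel₀ hc, map_one, smulMod_one]

omit [IsIntegral X] hX in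
theorem smulMod_toGlobal_zero (M : X.Modules) :
    smulMod M (Coh.toGlobal (X ↘ Spec (CommRingCat.of k)) (0 : k)) = 0 := by
  rw [map_zero, smulMod_zero]

/-- core of S11818: a non-split extension of `M` by `L` with `deg M < deg L` and `Hom(M, L) = 0`
is simple -/
theorem VCurve.endo_scalar_of_nonsplit [IsAlgClosed k] (x : X)
    (hx : Function.Bijective (Curv2.resMap k X x))
    (S : ShortComplex X.Modules) (hS : S.ShortExact)
    (hL : FlatMod.IsFinLocFreeOfRank 1 S.X₁) (hM : FlatMod.IsFinLocFreeOfRank 1 S.X₃)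
    (hdeg : Curv2.deg k X S.X₃ 1 < Curv2.deg k X S.X₁ 1)
    (hhom : ∀ g : S.X₃ ⟶ S.X₁, g = 0) (hns : ¬ IsSplitEpi S.g) (φ : S.X₂ ⟶ S.X₂) :
    ∃ c : k, φ = smulMod S.X₂ (Coh.toGlobal (X ↘ Spec (CommRingCat.of k)) c) := by
  haveI := hS.mono_f
  haveI := hS.epi_g
  have h1 : (S.f ≫ φ) ≫ S.g = 0 := by
    by_contra hne
    have := hX.deg_le_of_ne_zero hL hM _ hne
    linarith
  let α : S.X₁ ⟶ S.X₁ := hS.exact.lift (S.f ≫ φ) h1
  have hα : α ≫ S.f = S.f ≫ φ := hS.exact.lift_f _ h1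
  obtain ⟨a, ha⟩ := hX.endomorphism_scalar x hx one_pos hL (hX.semistable_of_rank_one hL)
    stable_of_rank_one α
  have h2 : S.f ≫ (φ - smulMod S.X₂ (Coh.toGlobal (X ↘ Spec (CommRingCat.of k)) a)) = 0 := by
    rw [Preadditive.comp_sub, ← hα, ← smulMod_naturality, ha, sub_self]
  let ψ : S.X₃ ⟶ S.X₂ := hS.exact.desc _ h2
  have hψ : S.g ≫ ψ = φ - smulMod S.X₂ (Coh.toGlobal (X ↘ Spec (CommRingCat.of k)) a) :=
    hS.exact.g_desc _ h2
  obtain ⟨b, hb⟩ := hX.endomorphism_scalar x hx one_pos hM (hX.semistable_of_rank_one hM)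
    stable_of_rank_one (ψ ≫ S.g)
  by_cases hb0 : b = 0
  · rw [hb0, smulMod_toGlobal_zero] at hb
    have hχ : hS.exact.lift ψ hb = 0 := hhom _
    have hψ0 : ψ = 0 := by
      rw [← hS.exact.lift_f ψ hb, hχ, zero_comp]
    rw [hψ0, comp_zero] at hψ
    exact ⟨a, sub_eq_zero.1 hψ.symm⟩
  · exfalso
    apply hns
    refine IsSplitEpi.mk' ⟨smulMod S.X₃ (Coh.toGlobal (X ↘ Spec (CommRingCat.of k)) b⁻¹) ≫ ψ, ?_⟩
    rw [Category.assoc, hb, ← smulMod_mul, ← map_mul, inv_mul_cancel₀ hb0, map_one, smulMod_one]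

omit [IsIntegral X] hX in
/-- core of S11819, second part: an extension of `M` by `L` with `Hom(M, L) ≠ 0` is not simple -/
theorem exists_endo_not_scalar (S : ShortComplex X.Modules) (hS : S.ShortExact)
    (g : S.X₃ ⟶ S.X₁) (hg : g ≠ 0) :
    ∃ φ : S.X₂ ⟶ S.X₂, ∀ c : k,
      φ ≠ smulMod S.X₂ (Coh.toGlobal (X ↘ Spec (CommRingCat.of k)) c) := by
  haveI := hS.mono_f
  haveI := hS.epi_g
  refine ⟨S.g ≫ g ≫ S.f, fun c hc => ?_⟩
  have hne : S.g ≫ g ≫ S.f ≠ 0 := by
    intro h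
    apply hg
    rw [← cancel_epi S.g, ← cancel_mono S.f, Category.assoc, h, comp_zero, zero_comp]
  have hsq : (S.g ≫ g ≫ S.f) ≫ (S.g ≫ g ≫ S.f) = 0 := by
    simp only [Category.assoc]
    rw [← Category.assoc S.f S.g, S.zero, zero_comp, comp_zero, comp_zero]
  by_cases hc0 : c = 0
  · rw [hc0, smulMod_toGlobal_zero] at hc
    exact hne hc
  · apply hne
    have h1 := smulMod_toGlobal_comp_inv (k := k) S.X₂ c hc0
    rw [← hc] at h1
    calc S.g ≫ g ≫ S.f = (S.g ≫ g ≫ S.f) ≫ 𝟙 _ := (Category.comp_id _).symm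
      _ = (S.g ≫ g ≫ S.f) ≫ ((S.g ≫ g ≫ S.f) ≫
            smulMod S.X₂ (Coh.toGlobal (X ↘ Spec (CommRingCat.of k)) c⁻¹)) := by rw [h1]
      _ = 0 := by rw [← Category.assoc, hsq, zero_comp]

/-- in a non-split extension of line bundles, the sub line bundle maps nontrivially to the second
summand of any decomposition into line bundles -/
theorem VCurve.comp_snd_ne_zero (S : ShortComplex X.Modules) (hS : S.ShortExact)
    (hL : FlatMod.IsFinLocFreeOfRank 1 S.X₁) (hM : FlatMod.IsFinLocFreeOfRank 1 S.X₃)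
    (hns : ¬ IsSplitEpi S.g) {E₁ E₂ : X.Modules} (h₁ : FlatMod.IsFinLocFreeOfRank 1 E₁)
    (e : S.X₂ ≅ E₁ ⊞ E₂) : S.f ≫ e.hom ≫ biprod.snd ≠ 0 := by
  haveI := hS.mono_f
  intro h0
  have hq : FlatMod.IsFinLocFreeOfRank 1 (cokernel S.f) :=
    rank_of_iso (cokernelIsoOfShortExact S hS).symm hM
  haveI : Mono (show S.X₁ ⟶ (splitSC e).X₂ from S.f) := ‹Mono S.f›
  obtain ⟨φ, hφ⟩ := hX.sub_iso_of_comp_eq_zero (splitSC e) (splitSC_shortExact e) h₁ hL
    (show S.X₁ ⟶ (splitSC e).X₂ from S.f) hq h0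
  obtain ⟨φ', hφ'⟩ : ∃ φ : S.X₁ ≅ E₁, φ.hom ≫ biprod.inl ≫ e.inv = S.f := ⟨φ, hφ⟩
  apply hns
  refine isSplitEpi_of_retraction S hS (e.hom ≫ biprod.fst ≫ φ'.inv) ?_
  rw [← hφ']
  simp

/-- core of S11819, first part: a non-split extension of `M` by `L` with `Hom(M, L) ≠ 0` is
indecomposable -/
theorem VCurve.indecomposable_of_nonsplit (S : ShortComplex X.Modules) (hS : S.ShortExact)
    (hL : FlatMod.IsFinLocFreeOfRank 1 S.X₁) (hM : FlatMod.IsFinLocFreeOfRank 1 S.X₃)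
    (g : S.X₃ ⟶ S.X₁) (hg : g ≠ 0) (hns : ¬ IsSplitEpi S.g) :
    ¬ IsZero S.X₂ ∧ ∀ (E₁ E₂ : X.Modules), Nonempty (S.X₂ ≅ E₁ ⊞ E₂) → IsZero E₁ ∨ IsZero E₂ := by
  haveI := hS.mono_f
  have hE : FlatMod.IsFinLocFreeOfRank (1 + 1) S.X₂ := hX.rank_of_shortExact S hS hL hM
  refine ⟨not_isZero_of_rank (by norm_num) hE (genericPoint X), ?_⟩
  rintro E₁ E₂ ⟨e⟩
  by_contra hcon
  rw [not_or] at hcon
  obtain ⟨hn1, hn2⟩ := hcon
  obtain ⟨a, b, ha, hb, hab, hdeg⟩ := hX.exists_rank_of_biprod hE e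
  have ha0 : 0 < a := by
    rcases Nat.eq_zero_or_pos a with h | h
    · subst h; exact absurd (isZero_of_rank_zero ha) hn1
    · exact h
  have hb0 : 0 < b := by
    rcases Nat.eq_zero_or_pos b with h | h
    · subst h; exact absurd (isZero_of_rank_zero hb) hn2
    · exact h
  have ha1 : a = 1 := by omega
  have hb1 : b = 1 := by omega
  subst ha1
  subst hb1
  have hd0 := hX.deg_add S hS hL hE hM
  -- both components of `L → E₁ ⊕ E₂` are nonzero
  have hw2 := hX.comp_snd_ne_zero S hS hL hM hns ha e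
  have hw1 : S.f ≫ e.hom ≫ biprod.fst ≠ 0 := by
    have := hX.comp_snd_ne_zero S hS hL hM hns hb (e ≪≫ biprod.braiding E₁ E₂)
    simpa using this
  have d1 := hX.deg_le_of_ne_zero hL ha _ hw1
  have d2 := hX.deg_le_of_ne_zero hL hb _ hw2
  have d3 := hX.deg_le_of_ne_zero hM hL g hg
  haveI := hX.isIso_of_ne_zero_of_deg_eq hL ha _ hw1 (by linarith)
  apply hns
  refine isSplitEpi_of_retraction S hS ((e.hom ≫ biprod.fst) ≫ inv (S.f ≫ e.hom ≫ biprod.fst)) ?_
  rw [← Category.assoc, IsIso.hom_inv_id]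

/-- the structure sheaf has a nonzero global section -/
theorem VCurve.finrank_HH0_structure_pos :
    0 < Module.finrank k (Coh.HH X (Coh.structureModule X) 0) := by
  haveI := hX.fin (Coh.structureModule X) (Groth.Agent.H6.HomSh.isCoh_structureModule X) 0
  rw [Module.finrank_pos_iff_exists_ne_zero]
  refine ⟨(Groth.Agent.H18.HH0.equiv (Coh.structureModule X)).symm
    (Groth.Agent.H79.StructStalk.oneSec X ⊤), fun h => ?_⟩
  have h1 := (Groth.Agent.H18.HH0.equiv (Coh.structureModule X)).symm.injective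
    (h.trans (map_zero _).symm)
  let e := Groth.Agent.H79.StructStalk.structStalkEquiv X (genericPoint X)
  have h2 : e 1 = 0 := by
    change (1 : X.presheaf.stalk (genericPoint X)) •
      (Coh.structureModule X).presheaf.germ ⊤ (genericPoint X) trivial
        (Groth.Agent.H79.StructStalk.oneSec X ⊤) = 0
    have h3 : Groth.Agent.H79.StructStalk.oneSec X ⊤ = 0 := h1
    rw [h3, map_zero, smul_zero]
  exact one_ne_zero (e.injective (h2.trans (map_zero e).symm))

/-- core of S18774 -/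
theorem VCurve.deg_sub_le_h0 {E F : X.Modules} (hE : Coh.IsCoh E) {r' : ℕ} (hr' : 0 < r')
    (i : F ⟶ E) [Mono i] :
    Curv2.deg k X F r' ≤ (r' : ℤ) * ((Module.finrank k (Coh.HH X E 0) : ℤ) +
      (Curv2.genus k X : ℤ) - 1) := by
  have h0 : Module.finrank k (Coh.HH X F 0) ≤ Module.finrank k (Coh.HH X E 0) := by
    haveI := hX.fin E hE 0
    have hinj := Groth.Agent.Lead.FiniteLES.HHmap_f_zero_injective (monoSC i) (monoSC_shortExact i)
    exact LinearMap.finrank_le_finrank_of_injective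
      (f := Groth.Agent.Lead.FiniteLES.toA k (Groth.Agent.Lead.FiniteLES.HHmap i 0)) hinj
  have h1 := hX.finrank_HH0_structure_pos
  unfold Curv2.deg Curv2.genus
  rw [hX.euler_eq F, hX.euler_eq (Coh.structureModule X)]
  have hr1 : (1 : ℤ) ≤ r' := by exact_mod_cast hr'
  have h0' : (Module.finrank k (Coh.HH X F 0) : ℤ) ≤ Module.finrank k (Coh.HH X E 0) := by
    exact_mod_cast h0
  have h1' : (1 : ℤ) ≤ Module.finrank k (Coh.HH X (Coh.structureModule X) 0) := by
    exact_mod_cast h1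
  have hF1 : (0 : ℤ) ≤ Module.finrank k (Coh.HH X F 1) := by positivity
  have hE0 : (0 : ℤ) ≤ Module.finrank k (Coh.HH X E 0) := by positivity
  nlinarith

end curve

end Groth.Agent.H76.VB
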