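import Mathlib
import Groth.Agent.H76.VB9

/-!
helper76, vector bundles on regular curves, part 13: the maximal destabilising sub-bundle
(existence and uniqueness) and the abelian category of semistable bundles of a fixed slope.
-/

set_option autoImplicit false
set_option linter.style.haveILetI false
universe u
open CategoryTheory CategoryTheory.Limits AlgebraicGeometry TopologicalSpace Opposite

namespace Groth.Agent.H76.VB

open Groth.Agent.H38.ModStalk

section curve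

variable {X : Scheme.{u}} [IsIntegral X]
variable {k : Type u} [Field k] [X.Over (Spec (CommRingCat.of k))] (hX : VCurve k X)
include hX

/-- a sub-bundle of maximal slope has locally free quotient -/
theorem VCurve.rank_cokernel_of_max_slope {E E₁ : X.Modules} {r r₁ : ℕ}
    (hE : FlatMod.IsFinLocFreeOfRank r E) (hE₁ : FlatMod.IsFinLocFreeOfRank r₁ E₁)
    (i₁ : E₁ ⟶ E) [Mono i₁]
    (hmax : ∀ (F : X.Modules) (i : F ⟶ E), Mono i → FlatMod.IsFinLocFreeOfRank r₁ F →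
      Curv2.deg k X F r₁ ≤ Curv2.deg k X E₁ r₁) :
    r₁ ≤ r ∧ FlatMod.IsFinLocFreeOfRank (r - r₁) (cokernel i₁) := by
  obtain ⟨G', i', j, hi', hj, hfac, hG', hle, hC⟩ := hX.exists_saturation i₁ hE₁ hE
  haveI := hi'
  haveI := hj
  have h1 := hX.deg_le_of_mono j hE₁ hG'
  have h2 := hmax G' i' hi' hG'
  haveI : IsIso j := hX.isIso_of_mono_of_deg_eq j hE₁ hG' (le_antisymm h1 h2)
  have ec : cokernel i₁ ≅ cokernel i' :=
    cokernel.mapIso i₁ i' (asIso j) (Iso.refl E) (by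
      rw [Iso.refl_hom, Category.comp_id, asIso_hom, hfac])
  exact ⟨hle, rank_of_iso ec.symm hC⟩

/-- the quotient by a maximal destabilising sub-bundle has smaller maximal slope -/
theorem VCurve.quotient_slope_lt {E E₁ : X.Modules} {r r₁ : ℕ}
    (hE : FlatMod.IsFinLocFreeOfRank r E) (hE₁ : FlatMod.IsFinLocFreeOfRank r₁ E₁)
    (i₁ : E₁ ⟶ E) [Mono i₁]
    (h1 : ∀ (G : X.Modules) (r' : ℕ) (j : G ⟶ E), Mono j → 0 < r' →
        FlatMod.IsFinLocFreeOfRank r' G →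
        Curv2.deg k X G r' * (r₁ : ℤ) ≤ Curv2.deg k X E₁ r₁ * (r' : ℤ))
    (h2 : ∀ (G : X.Modules) (r' : ℕ) (j : G ⟶ E), Mono j → 0 < r' →
        FlatMod.IsFinLocFreeOfRank r' G →
        Curv2.deg k X G r' * (r₁ : ℤ) = Curv2.deg k X E₁ r₁ * (r' : ℤ) → r' ≤ r₁)
    (Q : X.Modules) (s : ℕ) (j : Q ⟶ cokernel i₁) (hj : Mono j) (hs : 0 < s)
    (hQ : FlatMod.IsFinLocFreeOfRank s Q) :
    Curv2.deg k X Q s * (r₁ : ℤ) < Curv2.deg k X E₁ r₁ * (s : ℤ) := by
  haveI := hj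
  have hC : Coh.IsCoh (cokernel i₁) := hX.isCoh_cokernel i₁ (isCoh_of_rank hE₁) (isCoh_of_rank hE)
  haveI : Mono (show Q ⟶ (monoSC i₁).X₃ from j) := hj
  obtain ⟨F, ι, hι, hF, hdF⟩ := hX.exists_preimage (monoSC i₁) (monoSC_shortExact i₁) hE₁ hE hC
    (show Q ⟶ (monoSC i₁).X₃ from j) hQ
  change Curv2.deg k X F (r₁ + s) = Curv2.deg k X E₁ r₁ + Curv2.deg k X Q s at hdF
  have h3 := h1 F (r₁ + s) ι hι (by omega) hF
  rw [hdF] at h3
  push_cast at h3
  have hle : Curv2.deg k X Q s * (r₁ : ℤ) ≤ Curv2.deg k X E₁ r₁ * (s : ℤ) := by nlinarith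
  refine lt_of_le_of_ne hle (fun heq => ?_)
  have h4 := h2 F (r₁ + s) ι hι (by omega) hF (by
    rw [hdF]
    push_cast
    nlinarith)
  omega

/-- a semistable sub-bundle of the maximal slope maps trivially to the quotient by a maximal
destabilising sub-bundle -/
theorem VCurve.comp_cokernel_eq_zero_of_max {E E₁ E₁' : X.Modules} {r r₁ r₁' : ℕ}
    (hr₁ : 0 < r₁) (hr₁' : 0 < r₁')
    (hE : FlatMod.IsFinLocFreeOfRank r E) (hE₁ : FlatMod.IsFinLocFreeOfRank r₁ E₁)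
    (hE₁' : FlatMod.IsFinLocFreeOfRank r₁' E₁')
    (i₁ : E₁ ⟶ E) (i₁' : E₁' ⟶ E) [Mono i₁] [Mono i₁']
    (h1 : ∀ (G : X.Modules) (r' : ℕ) (j : G ⟶ E), Mono j → 0 < r' →
        FlatMod.IsFinLocFreeOfRank r' G →
        Curv2.deg k X G r' * (r₁ : ℤ) ≤ Curv2.deg k X E₁ r₁ * (r' : ℤ))
    (hQ : ∀ (Q : X.Modules) (s : ℕ) (j : Q ⟶ cokernel i₁), Mono j → 0 < s →
        FlatMod.IsFinLocFreeOfRank s Q →
        Curv2.deg k X Q s * (r₁ : ℤ) < Curv2.deg k X E₁ r₁ * (s : ℤ))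
    (h1' : ∀ (G : X.Modules) (r' : ℕ) (j : G ⟶ E), Mono j → 0 < r' →
        FlatMod.IsFinLocFreeOfRank r' G →
        Curv2.deg k X G r' * (r₁' : ℤ) ≤ Curv2.deg k X E₁' r₁' * (r' : ℤ)) :
    i₁' ≫ cokernel.π i₁ = 0 := by
  by_contra hf
  -- equal slopes
  have e1 := h1 E₁' r₁' i₁' inferInstance hr₁' hE₁'
  have e2 := h1' E₁ r₁ i₁ inferInstance hr₁ hE₁
  have hμ : Curv2.deg k X E₁' r₁' * (r₁ : ℤ) = Curv2.deg k X E₁ r₁ * (r₁' : ℤ) :=
    le_antisymm e1 e2
  -- the quotient is locally free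
  obtain ⟨hle, hC⟩ := hX.rank_cokernel_of_max_slope hE hE₁ i₁ (fun F i hi hF => by
    have := h1 F r₁ i hi hr₁ hF
    have hpos : (0 : ℤ) < r₁ := by exact_mod_cast hr₁
    exact le_of_mul_le_mul_right this hpos)
  obtain ⟨a, b, ha, hb, hb0, hab, hdeg⟩ :=
    hX.exists_kernel_image_pos (i₁' ≫ cokernel.π i₁) hf hE₁' hC
  have hI := hQ (Abelian.image (i₁' ≫ cokernel.π i₁)) b (Abelian.image.ι _) inferInstance hb0 hb
  have hK : Curv2.deg k X (kernel (i₁' ≫ cokernel.π i₁)) a * (r₁' : ℤ) ≤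
      Curv2.deg k X E₁' r₁' * (a : ℤ) := by
    rcases Nat.eq_zero_or_pos a with h | h
    · subst h
      rw [deg_zero_of_isZero k _ (isZero_of_rank_zero ha)]
      simp
    · exact h1' _ a (kernel.ι (i₁' ≫ cokernel.π i₁) ≫ i₁') (mono_comp _ _) h ha
  have hr₁z : (0 : ℤ) < r₁ := by exact_mod_cast hr₁
  have hr₁'z : (0 : ℤ) < r₁' := by exact_mod_cast hr₁'
  have habz : (r₁' : ℤ) = a + b := by exact_mod_cast hab
  set dK := Curv2.deg k X (kernel (i₁' ≫ cokernel.π i₁)) a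
  set dI := Curv2.deg k X (Abelian.image (i₁' ≫ cokernel.π i₁)) b
  set d₁ := Curv2.deg k X E₁ r₁
  set d₁' := Curv2.deg k X E₁' r₁'
  -- dI * r₁' < d₁' * b
  have h5 : dI * (r₁' : ℤ) * (r₁ : ℤ) < d₁' * (b : ℤ) * (r₁ : ℤ) := by
    have := mul_lt_mul_of_pos_right hI hr₁'z
    calc dI * (r₁' : ℤ) * (r₁ : ℤ) = dI * (r₁ : ℤ) * (r₁' : ℤ) := by ring
      _ < d₁ * (b : ℤ) * (r₁' : ℤ) := this
      _ = d₁ * (r₁' : ℤ) * (b : ℤ) := by ring
      _ = d₁' * (r₁ : ℤ) * (b : ℤ) := by rw [hμ]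
      _ = d₁' * (b : ℤ) * (r₁ : ℤ) := by ring
  have h6 : dI * (r₁' : ℤ) < d₁' * (b : ℤ) := lt_of_mul_lt_mul_right h5 hr₁z.le
  have h7 : (dK + dI) * (r₁' : ℤ) < d₁' * ((a : ℤ) + b) := by
    rw [add_mul, mul_add]
    exact add_lt_add_of_le_of_lt hK h6
  rw [← hdeg, ← habz] at h7
  exact lt_irrefl _ h7

/-- uniqueness of the maximal destabilising sub-bundle -/
theorem VCurve.max_destabilising_unique {E E₁ E₁' : X.Modules} {r r₁ r₁' : ℕ}
    (hr₁ : 0 < r₁) (hr₁' : 0 < r₁')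
    (hE : FlatMod.IsFinLocFreeOfRank r E) (hE₁ : FlatMod.IsFinLocFreeOfRank r₁ E₁)
    (hE₁' : FlatMod.IsFinLocFreeOfRank r₁' E₁')
    (i₁ : E₁ ⟶ E) (i₁' : E₁' ⟶ E) [Mono i₁] [Mono i₁']
    (h1 : ∀ (G : X.Modules) (r' : ℕ) (j : G ⟶ E), Mono j → 0 < r' →
        FlatMod.IsFinLocFreeOfRank r' G →
        Curv2.deg k X G r' * (r₁ : ℤ) ≤ Curv2.deg k X E₁ r₁ * (r' : ℤ))
    (hQ : ∀ (Q : X.Modules) (s : ℕ) (j : Q ⟶ cokernel i₁), Mono j → 0 < s →
        FlatMod.IsFinLocFreeOfRank s Q →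
        Curv2.deg k X Q s * (r₁ : ℤ) < Curv2.deg k X E₁ r₁ * (s : ℤ))
    (h1' : ∀ (G : X.Modules) (r' : ℕ) (j : G ⟶ E), Mono j → 0 < r' →
        FlatMod.IsFinLocFreeOfRank r' G →
        Curv2.deg k X G r' * (r₁' : ℤ) ≤ Curv2.deg k X E₁' r₁' * (r' : ℤ))
    (hQ' : ∀ (Q : X.Modules) (s : ℕ) (j : Q ⟶ cokernel i₁'), Mono j → 0 < s →
        FlatMod.IsFinLocFreeOfRank s Q →
        Curv2.deg k X Q s * (r₁' : ℤ) < Curv2.deg k X E₁' r₁' * (s : ℤ)) :
    ∃ e : E₁ ≅ E₁', e.hom ≫ i₁' = i₁ := by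
  have hz := hX.comp_cokernel_eq_zero_of_max hr₁ hr₁' hE hE₁ hE₁' i₁ i₁' h1 hQ h1'
  have hz' := hX.comp_cokernel_eq_zero_of_max hr₁' hr₁ hE hE₁' hE₁ i₁' i₁ h1' hQ' h1
  let u : E₁' ⟶ E₁ := Abelian.monoLift i₁ i₁' hz
  have hu : u ≫ i₁ = i₁' := Abelian.monoLift_comp i₁ i₁' hz
  let v : E₁ ⟶ E₁' := Abelian.monoLift i₁' i₁ hz'
  have hv : v ≫ i₁' = i₁ := Abelian.monoLift_comp i₁' i₁ hz'
  refine ⟨⟨v, u, ?_, ?_⟩, hv⟩
  · rw [← cancel_mono i₁, Category.assoc, hu, hv, Category.id_comp]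
  · rw [← cancel_mono i₁', Category.assoc, hv, hu, Category.id_comp]

end curve

end Groth.Agent.H76.VB

namespace Groth.Agent.H76.VB

open Groth.Agent.H38.ModStalk

section ss

variable {X : Scheme.{u}} [IsIntegral X]
variable {k : Type u} [Field k] [X.Over (Spec (CommRingCat.of k))] (hX : VCurve k X)
include hX

omit [IsIntegral X] hX in
/-- the image of a morphism between semistable bundles of the same slope has that slope -/
theorem image_slope_eq {E F : X.Modules} {r s a b : ℕ} (hr : 0 < r) (hs : 0 < s)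
    (hEss : ∀ (G : X.Modules) (r' : ℕ) (i : G ⟶ E), Mono i → 0 < r' →
      FlatMod.IsFinLocFreeOfRank r' G →
      Curv2.deg k X G r' * (r : ℤ) ≤ Curv2.deg k X E r * (r' : ℤ))
    (hFss : ∀ (G : X.Modules) (r' : ℕ) (i : G ⟶ F), Mono i → 0 < r' →
      FlatMod.IsFinLocFreeOfRank r' G →
      Curv2.deg k X G r' * (s : ℤ) ≤ Curv2.deg k X F s * (r' : ℤ))
    (hμ : Curv2.deg k X E r * (s : ℤ) = Curv2.deg k X F s * (r : ℤ)) (f : E ⟶ F)
    (ha : FlatMod.IsFinLocFreeOfRank a (kernel f))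
    (hb : FlatMod.IsFinLocFreeOfRank b (Abelian.image f)) (hab : r = a + b)
    (hdeg : Curv2.deg k X E r = Curv2.deg k X (kernel f) a + Curv2.deg k X (Abelian.image f) b) :
    Curv2.deg k X (Abelian.image f) b * (r : ℤ) = Curv2.deg k X E r * (b : ℤ) ∧
      Curv2.deg k X (Abelian.image f) b * (s : ℤ) = Curv2.deg k X F s * (b : ℤ) := by
  have hrz : (0 : ℤ) < r := by exact_mod_cast hr
  have hsz : (0 : ℤ) < s := by exact_mod_cast hs
  have habz : (r : ℤ) = a + b := by exact_mod_cast hab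
  rcases Nat.eq_zero_or_pos b with h | h
  · subst h
    rw [deg_zero_of_isZero k _ (isZero_of_rank_zero hb)]
    simp
  · have hsub := hFss (Abelian.image f) b (Abelian.image.ι f) inferInstance h hb
    have hquo : Curv2.deg k X E r * (b : ℤ) ≤ Curv2.deg k X (Abelian.image f) b * (r : ℤ) := by
      rcases Nat.eq_zero_or_pos a with h' | h'
      · subst h'
        rw [deg_zero_of_isZero k _ (isZero_of_rank_zero ha), zero_add] at hdeg
        have : r = b := by omega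
        subst this
        rw [hdeg]
      · have := hEss (kernel f) a (kernel.ι f) inferInstance h' ha
        rw [habz] at this ⊢
        nlinarith
    set dE := Curv2.deg k X E r
    set dF := Curv2.deg k X F s
    set dI := Curv2.deg k X (Abelian.image f) b
    have h3 : dF * (b : ℤ) * (r : ℤ) ≤ dI * (s : ℤ) * (r : ℤ) := by
      calc dF * (b : ℤ) * (r : ℤ) = dF * (r : ℤ) * (b : ℤ) := by ring
        _ = dE * (s : ℤ) * (b : ℤ) := by rw [hμ]
        _ = dE * (b : ℤ) * (s : ℤ) := by ring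
        _ ≤ dI * (r : ℤ) * (s : ℤ) := mul_le_mul_of_nonneg_right hquo hsz.le
        _ = dI * (s : ℤ) * (r : ℤ) := by ring
    have h4 : dF * (b : ℤ) ≤ dI * (s : ℤ) := le_of_mul_le_mul_right h3 hrz
    have h5 : dI * (s : ℤ) = dF * (b : ℤ) := le_antisymm hsub h4
    refine ⟨?_, h5⟩
    have h6 : dI * (r : ℤ) * (s : ℤ) = dE * (b : ℤ) * (s : ℤ) := by
      calc dI * (r : ℤ) * (s : ℤ) = dI * (s : ℤ) * (r : ℤ) := by ring
        _ = dF * (b : ℤ) * (r : ℤ) := by rw [h5]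
        _ = dF * (r : ℤ) * (b : ℤ) := by ring
        _ = dE * (s : ℤ) * (b : ℤ) := by rw [hμ]
        _ = dE * (b : ℤ) * (s : ℤ) := by ring
    exact mul_right_cancel₀ hsz.ne' h6

/-- kernels and cokernels of morphisms between semistable bundles of the same slope are
semistable bundles of that slope -/
theorem VCurve.kernel_cokernel_semistable {E F : X.Modules} {r s : ℕ} (hr : 0 < r) (hs : 0 < s)
    (hE : FlatMod.IsFinLocFreeOfRank r E) (hF : FlatMod.IsFinLocFreeOfRank s F)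
    (hEss : ∀ (G : X.Modules) (r' : ℕ) (i : G ⟶ E), Mono i → 0 < r' →
      FlatMod.IsFinLocFreeOfRank r' G →
      Curv2.deg k X G r' * (r : ℤ) ≤ Curv2.deg k X E r * (r' : ℤ))
    (hFss : ∀ (G : X.Modules) (r' : ℕ) (i : G ⟶ F), Mono i → 0 < r' →
      FlatMod.IsFinLocFreeOfRank r' G →
      Curv2.deg k X G r' * (s : ℤ) ≤ Curv2.deg k X F s * (r' : ℤ))
    (hμ : Curv2.deg k X E r * (s : ℤ) = Curv2.deg k X F s * (r : ℤ)) (f : E ⟶ F) :
    (∃ r₀ : ℕ, FlatMod.IsFinLocFreeOfRank r₀ (kernel f) ∧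
        Curv2.deg k X (kernel f) r₀ * (r : ℤ) = Curv2.deg k X E r * (r₀ : ℤ) ∧
        ∀ (G : X.Modules) (n : ℕ) (j : G ⟶ kernel f), Mono j → 0 < n →
          FlatMod.IsFinLocFreeOfRank n G →
          Curv2.deg k X G n * (r₀ : ℤ) ≤ Curv2.deg k X (kernel f) r₀ * (n : ℤ)) ∧
      (∃ s₀ : ℕ, FlatMod.IsFinLocFreeOfRank s₀ (cokernel f) ∧
        Curv2.deg k X (cokernel f) s₀ * (s : ℤ) = Curv2.deg k X F s * (s₀ : ℤ) ∧
        ∀ (G : X.Modules) (n : ℕ) (j : G ⟶ cokernel f), Mono j → 0 < n →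
          FlatMod.IsFinLocFreeOfRank n G →
          Curv2.deg k X G n * (s₀ : ℤ) ≤ Curv2.deg k X (cokernel f) s₀ * (n : ℤ)) := by
  obtain ⟨a, b, ha, hb, hab, hdeg⟩ := hX.exists_kernel_image f hE hF
  obtain ⟨hI1, hI2⟩ := image_slope_eq hr hs hEss hFss hμ f ha hb hab hdeg
  have hrz : (0 : ℤ) < r := by exact_mod_cast hr
  have hsz : (0 : ℤ) < s := by exact_mod_cast hs
  have habz : (r : ℤ) = a + b := by exact_mod_cast hab
  have hKr : Curv2.deg k X (kernel f) a * (r : ℤ) = Curv2.deg k X E r * (a : ℤ) := by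
    have : Curv2.deg k X (kernel f) a =
        Curv2.deg k X E r - Curv2.deg k X (Abelian.image f) b := by linarith
    rw [this, sub_mul, hI1, habz]
    ring
  refine ⟨⟨a, ha, hKr, ?_⟩, ?_⟩
  · intro G n j hj hn hG
    haveI := hj
    have h1 := hEss G n (j ≫ kernel.ι f) (mono_comp _ _) hn hG
    have h2 : Curv2.deg k X G n * (a : ℤ) * (r : ℤ) ≤
        Curv2.deg k X (kernel f) a * (n : ℤ) * (r : ℤ) := by
      calc Curv2.deg k X G n * (a : ℤ) * (r : ℤ) = Curv2.deg k X G n * (r : ℤ) * (a : ℤ) := by ring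
        _ ≤ Curv2.deg k X E r * (n : ℤ) * (a : ℤ) :=
          mul_le_mul_of_nonneg_right h1 (Nat.cast_nonneg a)
        _ = Curv2.deg k X E r * (a : ℤ) * (n : ℤ) := by ring
        _ = Curv2.deg k X (kernel f) a * (r : ℤ) * (n : ℤ) := by rw [hKr]
        _ = Curv2.deg k X (kernel f) a * (n : ℤ) * (r : ℤ) := by ring
    exact le_of_mul_le_mul_right h2 hrz
  · -- the image is saturated
    obtain ⟨I', i', j, hi', hj, hfac, hI', hle, hC'⟩ :=
      hX.exists_saturation (Abelian.image.ι f) hb hF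
    haveI := hi'
    haveI := hj
    have h1 := hX.deg_le_of_mono j hb hI'
    have h2 : Curv2.deg k X I' b ≤ Curv2.deg k X (Abelian.image f) b := by
      rcases Nat.eq_zero_or_pos b with h | h
      · subst h
        rw [deg_zero_of_isZero k _ (isZero_of_rank_zero hI'),
          deg_zero_of_isZero k _ (isZero_of_rank_zero hb)]
      · have := hFss I' b i' hi' h hI'
        rw [← hI2] at this
        exact le_of_mul_le_mul_right this hsz
    haveI : IsIso j := hX.isIso_of_mono_of_deg_eq j hb hI' (le_antisymm h1 h2)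
    have ec : cokernel (Abelian.image.ι f) ≅ cokernel i' :=
      cokernel.mapIso _ _ (asIso j) (Iso.refl F) (by
        rw [Iso.refl_hom, Category.comp_id, asIso_hom, hfac])
    have ec2 : cokernel (Abelian.image.ι f) ≅ cokernel f := cokernelKernelIsoOfEpi (cokernel.π f)
    have hC : FlatMod.IsFinLocFreeOfRank (s - b) (cokernel f) :=
      rank_of_iso (ec.symm ≪≫ ec2) hC'
    have hdC := hX.deg_add (cokerSC f) (cokerSC_shortExact f) hb hF hC
    change Curv2.deg k X F s = Curv2.deg k X (Abelian.image f) b +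
      Curv2.deg k X (cokernel f) (s - b) at hdC
    have hsb : ((s - b : ℕ) : ℤ) = (s : ℤ) - b := Nat.cast_sub hle
    have hCs : Curv2.deg k X (cokernel f) (s - b) * (s : ℤ) =
        Curv2.deg k X F s * ((s - b : ℕ) : ℤ) := by
      have : Curv2.deg k X (cokernel f) (s - b) =
          Curv2.deg k X F s - Curv2.deg k X (Abelian.image f) b := by linarith
      rw [this, sub_mul, hI2, hsb]
      ring
    refine ⟨s - b, hC, hCs, ?_⟩
    intro G n j' hj' hn hG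
    haveI := hj'
    haveI : Mono (show G ⟶ (cokerSC f).X₃ from j') := hj'
    obtain ⟨F', ι, hι, hF', hdF'⟩ := hX.exists_preimage (cokerSC f) (cokerSC_shortExact f) hb hF
      (isCoh_of_rank hC) (show G ⟶ (cokerSC f).X₃ from j') hG
    change Curv2.deg k X F' (b + n) = Curv2.deg k X (Abelian.image f) b + Curv2.deg k X G n at hdF'
    have h3 := hFss F' (b + n) ι hι (by omega) hF'
    rw [hdF'] at h3
    push_cast at h3
    have h4 : Curv2.deg k X G n * (s : ℤ) ≤ Curv2.deg k X F s * (n : ℤ) := by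
      rw [add_mul, hI2, mul_add] at h3
      linarith
    have h5 : Curv2.deg k X G n * ((s - b : ℕ) : ℤ) * (s : ℤ) ≤
        Curv2.deg k X (cokernel f) (s - b) * (n : ℤ) * (s : ℤ) := by
      calc Curv2.deg k X G n * ((s - b : ℕ) : ℤ) * (s : ℤ)
          = Curv2.deg k X G n * (s : ℤ) * ((s - b : ℕ) : ℤ) := by ring
        _ ≤ Curv2.deg k X F s * (n : ℤ) * ((s - b : ℕ) : ℤ) :=
          mul_le_mul_of_nonneg_right h4 (Nat.cast_nonneg _)
        _ = Curv2.deg k X F s * ((s - b : ℕ) : ℤ) * (n : ℤ) := by ring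
        _ = Curv2.deg k X (cokernel f) (s - b) * (s : ℤ) * (n : ℤ) := by rw [hCs]
        _ = Curv2.deg k X (cokernel f) (s - b) * (n : ℤ) * (s : ℤ) := by ring
    exact le_of_mul_le_mul_right h5 hsz

end ss

end Groth.Agent.H76.VB
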