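import Mathlib
import Groth.Agent.H76.VB0002
import Groth.Agent.H76.VB7
import Groth.Agent.H67.InvertibleNearFibre
import Groth.Prelude.Def_Curve
import Groth.Prelude.Def_KLin

/-!
helper76, vector bundles on regular curves: statement-level consequences, batch 2.
-/

set_option autoImplicit false
set_option linter.style.haveILetI false
universe u
open CategoryTheory CategoryTheory.Limits AlgebraicGeometry TopologicalSpace Opposite

namespace Groth.Agent.H76.VB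

variable (k : Type u) [Field k] (X : Scheme.{u}) [X.Over (Spec (CommRingCat.of k))]

section geomconn

variable [IsProper (X ↘ Spec (CommRingCat.of k))] [Smooth (X ↘ Spec (CommRingCat.of k))]
  [GeometricallyConnected (X ↘ Spec (CommRingCat.of k))] (hdim : topologicalKrullDim X = 1)
include hdim

theorem S14136_main (r s : ℕ) (hs : 0 < s) (E F : X.Modules)
    (hE : FlatMod.IsFinLocFreeOfRank r E) (hF : FlatMod.IsFinLocFreeOfRank s F)
    (hEss : ∀ (G : X.Modules) (r' : ℕ) (i : G ⟶ E), Mono i → 0 < r' →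
      FlatMod.IsFinLocFreeOfRank r' G →
      Curv2.deg k X G r' * (r : ℤ) ≤ Curv2.deg k X E r * (r' : ℤ))
    (hFss : ∀ (G : X.Modules) (r' : ℕ) (i : G ⟶ F), Mono i → 0 < r' →
      FlatMod.IsFinLocFreeOfRank r' G →
      Curv2.deg k X G r' * (s : ℤ) ≤ Curv2.deg k X F s * (r' : ℤ))
    (hslope : Curv2.deg k X F s * (r : ℤ) < Curv2.deg k X E r * (s : ℤ)) (f : E ⟶ F) : f = 0 := by
  haveI := Groth.Agent.H62.GW.isIntegral_of_smooth_of_geometricallyConnected k X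
  refine (vcurve_of_smooth k X hdim).hom_eq_zero_of_slope hE hF hEss ?_ f
  intro G r' i hi hr' hG
  have h1 := hFss G r' i hi hr' hG
  have hs' : (0 : ℤ) < s := by exact_mod_cast hs
  have hr'' : (0 : ℤ) < r' := by exact_mod_cast hr'
  have hr0 : (0 : ℤ) ≤ r := by positivity
  have h2 : Curv2.deg k X G r' * (s : ℤ) * (r : ℤ) ≤ Curv2.deg k X F s * (r' : ℤ) * (r : ℤ) :=
    mul_le_mul_of_nonneg_right h1 hr0
  have h3 : Curv2.deg k X F s * (r : ℤ) * (r' : ℤ) < Curv2.deg k X E r * (s : ℤ) * (r' : ℤ) :=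
    mul_lt_mul_of_pos_right hslope hr''
  have h4 : Curv2.deg k X G r' * (r : ℤ) * (s : ℤ) < Curv2.deg k X E r * (r' : ℤ) * (s : ℤ) := by
    nlinarith
  exact lt_of_mul_lt_mul_right h4 hs'.le

theorem S14137_main (r : ℕ) (hr : 0 < r) (E : X.Modules) (hE : FlatMod.IsFinLocFreeOfRank r E)
    (hEst : ∀ (G : X.Modules) (r' : ℕ) (i : G ⟶ E), Mono i → 0 < r' →
      FlatMod.IsFinLocFreeOfRank r' G → (¬ IsIso i) →
      Curv2.deg k X G r' * (r : ℤ) < Curv2.deg k X E r * (r' : ℤ))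
    (f : E ⟶ E) (hf : f ≠ 0) : IsIso f := by
  haveI := Groth.Agent.H62.GW.isIntegral_of_smooth_of_geometricallyConnected k X
  exact (vcurve_of_smooth k X hdim).isIso_of_ne_zero_endo hr hE (stable_of_stable' hE hEst) f hf

theorem S14139_main (T : ShortComplex X.Modules) (hT : T.ShortExact)
    (r₁ r r₂ : ℕ) (hr₁ : 0 < r₁) (hr : 0 < r) (hr₂ : 0 < r₂)
    (hE₁ : FlatMod.IsFinLocFreeOfRank r₁ T.X₁) (hE : FlatMod.IsFinLocFreeOfRank r T.X₂)
    (hE₂ : FlatMod.IsFinLocFreeOfRank r₂ T.X₃)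
    (hμ₁ : Curv2.deg k X T.X₁ r₁ * (r : ℤ) = Curv2.deg k X T.X₂ r * (r₁ : ℤ))
    (hμ₂ : Curv2.deg k X T.X₃ r₂ * (r : ℤ) = Curv2.deg k X T.X₂ r * (r₂ : ℤ)) :
    (∀ (G : X.Modules) (r' : ℕ) (i : G ⟶ T.X₂), Mono i → 0 < r' →
      FlatMod.IsFinLocFreeOfRank r' G →
      Curv2.deg k X G r' * (r : ℤ) ≤ Curv2.deg k X T.X₂ r * (r' : ℤ)) ↔
      ((∀ (G : X.Modules) (r' : ℕ) (i : G ⟶ T.X₁), Mono i → 0 < r' →
        FlatMod.IsFinLocFreeOfRank r' G →
        Curv2.deg k X G r' * (r₁ : ℤ) ≤ Curv2.deg k X T.X₁ r₁ * (r' : ℤ)) ∧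
       (∀ (G : X.Modules) (r' : ℕ) (i : G ⟶ T.X₃), Mono i → 0 < r' →
        FlatMod.IsFinLocFreeOfRank r' G →
        Curv2.deg k X G r' * (r₂ : ℤ) ≤ Curv2.deg k X T.X₃ r₂ * (r' : ℤ))) := by
  haveI := Groth.Agent.H62.GW.isIntegral_of_smooth_of_geometricallyConnected k X
  have hX := vcurve_of_smooth k X hdim
  haveI := hT.mono_f
  haveI := hT.epi_g
  have hrr : r = r₁ + r₂ := rank_add T hT hE₁ hE hE₂
  have hdd := hX.deg_add T hT hE₁ hE hE₂
  have hrZ : (0 : ℤ) < r := by exact_mod_cast hr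
  have hr₁Z : (0 : ℤ) < r₁ := by exact_mod_cast hr₁
  have hr₂Z : (0 : ℤ) < r₂ := by exact_mod_cast hr₂
  constructor
  · intro hss
    constructor
    · intro G r' i hi hr' hG
      haveI := hi
      have h1 := hss G r' (i ≫ T.f) (mono_comp _ _) hr' hG
      -- dG * r ≤ dE * r', dE₁ * r = dE * r₁  ⊢ dG * r₁ ≤ dE₁ * r'
      have h2 : Curv2.deg k X G r' * (r : ℤ) * (r₁ : ℤ) ≤
          Curv2.deg k X T.X₂ r * (r' : ℤ) * (r₁ : ℤ) := mul_le_mul_of_nonneg_right h1 hr₁Z.le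
      have h3 : Curv2.deg k X G r' * (r₁ : ℤ) * (r : ℤ) ≤
          Curv2.deg k X T.X₁ r₁ * (r' : ℤ) * (r : ℤ) := by
        have : Curv2.deg k X T.X₁ r₁ * (r' : ℤ) * (r : ℤ) =
            Curv2.deg k X T.X₂ r * (r' : ℤ) * (r₁ : ℤ) := by
          calc Curv2.deg k X T.X₁ r₁ * (r' : ℤ) * (r : ℤ)
              = (Curv2.deg k X T.X₁ r₁ * (r : ℤ)) * (r' : ℤ) := by ring
            _ = (Curv2.deg k X T.X₂ r * (r₁ : ℤ)) * (r' : ℤ) := by rw [hμ₁]
            _ = _ := by ring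
        rw [this]
        linarith [mul_comm (Curv2.deg k X G r' * (r : ℤ)) (r₁ : ℤ)]
      exact le_of_mul_le_mul_right h3 hrZ
    · intro G r' j hj hr' hG
      haveI := hj
      obtain ⟨F, ι, hι, hF, hdF⟩ := hX.exists_preimage T hT hE₁ hE (isCoh_of_rank hE₂) j hG
      have h1 := hss F (r₁ + r') ι hι (by omega) hF
      rw [hdF] at h1
      push_cast at h1
      -- (dE₁ + dG) * r ≤ dE * (r₁ + r'),  dE₁ * r = dE * r₁  ⊢ dG * r₂ ≤ dE₂ * r'
      have h2 : Curv2.deg k X G r' * (r : ℤ) ≤ Curv2.deg k X T.X₂ r * (r' : ℤ) := by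
        nlinarith
      have h3 : Curv2.deg k X G r' * (r₂ : ℤ) * (r : ℤ) ≤
          Curv2.deg k X T.X₃ r₂ * (r' : ℤ) * (r : ℤ) := by
        have : Curv2.deg k X T.X₃ r₂ * (r' : ℤ) * (r : ℤ) =
            Curv2.deg k X T.X₂ r * (r' : ℤ) * (r₂ : ℤ) := by
          calc Curv2.deg k X T.X₃ r₂ * (r' : ℤ) * (r : ℤ)
              = (Curv2.deg k X T.X₃ r₂ * (r : ℤ)) * (r' : ℤ) := by ring
            _ = (Curv2.deg k X T.X₂ r * (r₂ : ℤ)) * (r' : ℤ) := by rw [hμ₂]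
            _ = _ := by ring
        rw [this]
        have := mul_le_mul_of_nonneg_right h2 hr₂Z.le
        linarith [mul_comm (Curv2.deg k X G r' * (r : ℤ)) (r₂ : ℤ)]
      exact le_of_mul_le_mul_right h3 hrZ
  · rintro ⟨hss₁, hss₂⟩ G r' i hi hr' hG
    haveI := hi
    -- kernel and image of G → E → E₂
    let g : G ⟶ T.X₃ := i ≫ T.g
    obtain ⟨a, b, ha, hb, hab, hd⟩ := hX.exists_kernel_image g hG hE₂
    -- kernel g maps into E₁
    have hlift : (kernel.ι g ≫ i) ≫ T.g = 0 := by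
      rw [Category.assoc]; exact kernel.condition g
    let j₁ : kernel g ⟶ T.X₁ := hT.exact.lift (kernel.ι g ≫ i) hlift
    have hj₁ : j₁ ≫ T.f = kernel.ι g ≫ i := hT.exact.lift_f _ _
    haveI : Mono j₁ := by
      haveI : Mono (j₁ ≫ T.f) := by rw [hj₁]; exact mono_comp _ _
      exact mono_of_mono j₁ T.f
    have hK : Curv2.deg k X (kernel g) a * (r₁ : ℤ) ≤ Curv2.deg k X T.X₁ r₁ * (a : ℤ) := by
      rcases Nat.eq_zero_or_pos a with h | h
      · subst h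
        rw [deg_zero_of_isZero k _ (isZero_of_rank_zero ha)]
        simp
      · exact hss₁ (kernel g) a j₁ inferInstance h ha
    have hI : Curv2.deg k X (Abelian.image g) b * (r₂ : ℤ) ≤ Curv2.deg k X T.X₃ r₂ * (b : ℤ) := by
      rcases Nat.eq_zero_or_pos b with h | h
      · subst h
        rw [deg_zero_of_isZero k _ (isZero_of_rank_zero hb)]
        simp
      · exact hss₂ (Abelian.image g) b (Abelian.image.ι g) inferInstance h hb
    -- dK * r ≤ dE * a, dI * r ≤ dE * b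
    have hK' : Curv2.deg k X (kernel g) a * (r : ℤ) ≤ Curv2.deg k X T.X₂ r * (a : ℤ) := by
      have h1 := mul_le_mul_of_nonneg_right hK hrZ.le
      have h2 : Curv2.deg k X T.X₁ r₁ * (a : ℤ) * (r : ℤ) =
          Curv2.deg k X T.X₂ r * (a : ℤ) * (r₁ : ℤ) := by
        calc Curv2.deg k X T.X₁ r₁ * (a : ℤ) * (r : ℤ)
            = (Curv2.deg k X T.X₁ r₁ * (r : ℤ)) * (a : ℤ) := by ring
          _ = (Curv2.deg k X T.X₂ r * (r₁ : ℤ)) * (a : ℤ) := by rw [hμ₁]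
          _ = _ := by ring
      rw [h2] at h1
      have h3 : Curv2.deg k X (kernel g) a * (r : ℤ) * (r₁ : ℤ) ≤
          Curv2.deg k X T.X₂ r * (a : ℤ) * (r₁ : ℤ) := by
        linarith [mul_comm (Curv2.deg k X (kernel g) a * (r₁ : ℤ)) (r : ℤ)]
      exact le_of_mul_le_mul_right h3 hr₁Z
    have hI' : Curv2.deg k X (Abelian.image g) b * (r : ℤ) ≤ Curv2.deg k X T.X₂ r * (b : ℤ) := by
      have h1 := mul_le_mul_of_nonneg_right hI hrZ.le
      have h2 : Curv2.deg k X T.X₃ r₂ * (b : ℤ) * (r : ℤ) =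
          Curv2.deg k X T.X₂ r * (b : ℤ) * (r₂ : ℤ) := by
        calc Curv2.deg k X T.X₃ r₂ * (b : ℤ) * (r : ℤ)
            = (Curv2.deg k X T.X₃ r₂ * (r : ℤ)) * (b : ℤ) := by ring
          _ = (Curv2.deg k X T.X₂ r * (r₂ : ℤ)) * (b : ℤ) := by rw [hμ₂]
          _ = _ := by ring
      rw [h2] at h1
      have h3 : Curv2.deg k X (Abelian.image g) b * (r : ℤ) * (r₂ : ℤ) ≤
          Curv2.deg k X T.X₂ r * (b : ℤ) * (r₂ : ℤ) := by
        linarith [mul_comm (Curv2.deg k X (Abelian.image g) b * (r₂ : ℤ)) (r : ℤ)]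
      exact le_of_mul_le_mul_right h3 hr₂Z
    rw [hd, hab]
    push_cast
    linarith

theorem S14149_main (r : ℕ) (hr : 0 < r) (E : X.Modules) (hE : FlatMod.IsFinLocFreeOfRank r E) :
    ∃ (E₁ : X.Modules) (r₁ : ℕ) (i₁ : E₁ ⟶ E), Mono i₁ ∧ 0 < r₁ ∧
      FlatMod.IsFinLocFreeOfRank r₁ E₁ ∧
      (∀ (G : X.Modules) (r' : ℕ) (j : G ⟶ E), Mono j → 0 < r' →
        FlatMod.IsFinLocFreeOfRank r' G →
        Curv2.deg k X G r' * (r₁ : ℤ) ≤ Curv2.deg k X E₁ r₁ * (r' : ℤ)) ∧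
      (∀ (G : X.Modules) (r' : ℕ) (j : G ⟶ E), Mono j → 0 < r' →
        FlatMod.IsFinLocFreeOfRank r' G →
        Curv2.deg k X G r' * (r₁ : ℤ) = Curv2.deg k X E₁ r₁ * (r' : ℤ) → r' ≤ r₁) ∧
      (∀ (G : X.Modules) (r' : ℕ) (i : G ⟶ E₁), Mono i → 0 < r' →
        FlatMod.IsFinLocFreeOfRank r' G →
        Curv2.deg k X G r' * (r₁ : ℤ) ≤ Curv2.deg k X E₁ r₁ * (r' : ℤ)) := by
  haveI := Groth.Agent.H62.GW.isIntegral_of_smooth_of_geometricallyConnected k X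
  obtain ⟨E₁, r₁, i₁, hi₁, hr₁, hE₁, h1, h2⟩ :=
    (vcurve_of_smooth k X hdim).exists_max_slope_sub hr hE
  haveI := hi₁
  refine ⟨E₁, r₁, i₁, hi₁, hr₁, hE₁, h1, h2, ?_⟩
  intro G r' i hi hr' hG
  haveI := hi
  exact h1 G r' (i ≫ i₁) (mono_comp _ _) hr' hG

theorem S16137_main (T : ShortComplex X.Modules) (hT : T.ShortExact)
    (r : ℕ) (hr : 0 < r) (hE : FlatMod.IsFinLocFreeOfRank r T.X₂)
    (hst : ModFun.IsSlopeStable k X T.X₂ r) (φ : T.X₃ ⟶ T.X₁) : φ = 0 := by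
  haveI := Groth.Agent.H62.GW.isIntegral_of_smooth_of_geometricallyConnected k X
  exact (vcurve_of_smooth k X hdim).hom_quotient_to_sub_eq_zero T hT hr hE hst φ

end geomconn

section integral

variable [IsIntegral X] [IsProper (X ↘ Spec (CommRingCat.of k))]
  [Smooth (X ↘ Spec (CommRingCat.of k))] (hdim : topologicalKrullDim X = 1)
include hdim

theorem S11810_main (r : ℕ) (hr : 0 < r) (E E' : X.Modules)
    (hE : FlatMod.IsFinLocFreeOfRank r E) (hE' : FlatMod.IsFinLocFreeOfRank r E')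
    (hdeg : Curv2.deg k X E r = Curv2.deg k X E' r)
    (hss : ∀ (F : X.Modules) (r' : ℕ) (i : F ⟶ E), Mono i → 0 < r' →
      FlatMod.IsFinLocFreeOfRank r' F →
      Curv2.deg k X F r' * (r : ℤ) ≤ Curv2.deg k X E r * (r' : ℤ))
    (hss' : ∀ (F : X.Modules) (r' : ℕ) (i : F ⟶ E'), Mono i → 0 < r' →
      FlatMod.IsFinLocFreeOfRank r' F →
      Curv2.deg k X F r' * (r : ℤ) ≤ Curv2.deg k X E' r * (r' : ℤ))
    (hst : (∀ (F : X.Modules) (r' : ℕ) (i : F ⟶ E), Mono i → 0 < r' → r' < r →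
      FlatMod.IsFinLocFreeOfRank r' F →
      Curv2.deg k X F r' * (r : ℤ) < Curv2.deg k X E r * (r' : ℤ)) ∨
      (∀ (F : X.Modules) (r' : ℕ) (i : F ⟶ E'), Mono i → 0 < r' → r' < r →
      FlatMod.IsFinLocFreeOfRank r' F →
      Curv2.deg k X F r' * (r : ℤ) < Curv2.deg k X E' r * (r' : ℤ)))
    (f : E ⟶ E') (hf : f ≠ 0) : IsIso f :=
  (vcurve_of_smooth k X hdim).isIso_of_semistable_eq_rank_deg hr hE hE' hdeg hss hss' hst f hf

theorem S11826_main (r : ℕ) (E : X.Modules) (hE : FlatMod.IsFinLocFreeOfRank r E) :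
    ∃ N : ℤ, ∀ (M : X.Modules) (i : M ⟶ E), Mono i → PicF.IsInvertible M →
      Curv2.deg k X M 1 ≤ N := by
  obtain ⟨N, hN⟩ := (vcurve_of_smooth k X hdim).bddAbove_deg_sub hE
  exact ⟨N, fun M i hi hM => hN M 1 i hi
    (Groth.Agent.H67.InvertibleNearFibre.isFinLocFreeOfRank_one _ hM)⟩

end integral

section algclosed

variable [IsAlgClosed k] [IsIntegral X] [IsProper (X ↘ Spec (CommRingCat.of k))]
  [Smooth (X ↘ Spec (CommRingCat.of k))] (hdim : topologicalKrullDim X = 1)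
include hdim

theorem S11811_main (r : ℕ) (hr : 0 < r) (E : X.Modules) (hE : FlatMod.IsFinLocFreeOfRank r E)
    (hst : ∀ (F : X.Modules) (r' : ℕ) (i : F ⟶ E), Mono i → 0 < r' → r' < r →
      FlatMod.IsFinLocFreeOfRank r' F →
      Curv2.deg k X F r' * (r : ℤ) < Curv2.deg k X E r * (r' : ℤ))
    (φ : E ⟶ E) :
    ∃ c : k, (SheafOfModules.toSheaf X.ringCatSheaf).map φ =
      Coh.smulAb E (Coh.toGlobal (X ↘ Spec (CommRingCat.of k)) c) :=
  S15334_main k X hdim r hr E hE ((vcurve_of_smooth k X hdim).semistable_of_stable hE hst) hst φ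

end algclosed

section curve

variable [IsAlgClosed k]

theorem S11483_main (hX : Curve.IsSmoothProperCurve k X (X ↘ Spec (CommRingCat.of k))) (r : ℕ)
    (E : X.Modules) (hE : FlatMod.IsFinLocFreeOfRank r E)
    (hst : ∀ (G : X.Modules) (s : ℕ) (ι : G ⟶ E), Mono ι → FlatMod.IsFinLocFreeOfRank s G →
      0 < s → s < r → Curv2.deg k X G s * (r : ℤ) < Curv2.deg k X E r * (s : ℤ))
    (φ : E ⟶ E) (hφ : φ ≠ 0) : IsIso φ := by
  obtain ⟨h1, h2, h3, hdim⟩ := hX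
  haveI := h1
  haveI := h2
  haveI := h3
  rcases Nat.eq_zero_or_pos r with h | hr
  · subst h
    exact absurd ((isZero_of_rank_zero hE).eq_of_src φ 0) hφ
  · exact (vcurve_of_smooth k X hdim).isIso_of_ne_zero_endo hr hE
      (fun G r' i hi hr' hlt hG => hst G r' i hi hG hr' hlt) φ hφ

theorem S19668_main (hX : Curve.IsSmoothProperCurve k X (X ↘ Spec (CommRingCat.of k))) (r : ℕ)
    (E : X.Modules) (hE : FlatMod.IsFinLocFreeOfRank r E)
    (hst : ∀ (G : X.Modules) (s : ℕ) (ι : G ⟶ E), Mono ι → FlatMod.IsFinLocFreeOfRank s G →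
      0 < s → s < r → Curv2.deg k X G s * (r : ℤ) < Curv2.deg k X E r * (s : ℤ))
    (φ : E ⟶ E) : ∃ a : k, φ = a • 𝟙 E := by
  obtain ⟨h1, h2, h3, hdim⟩ := hX
  haveI := h1
  haveI := h2
  haveI := h3
  rcases Nat.eq_zero_or_pos r with h | hr
  · subst h
    exact ⟨0, (isZero_of_rank_zero hE).eq_of_src _ _⟩
  · have hst' : ∀ (G : X.Modules) (r' : ℕ) (i : G ⟶ E), Mono i → 0 < r' → r' < r →
        FlatMod.IsFinLocFreeOfRank r' G →
        Curv2.deg k X G r' * (r : ℤ) < Curv2.deg k X E r * (r' : ℤ) :=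
      fun G r' i hi hr' hlt hG => hst G r' i hi hG hr' hlt
    obtain ⟨x, hx⟩ := exists_rational_point k X hdim
    obtain ⟨c, hc⟩ := (vcurve_of_smooth k X hdim).endomorphism_scalar x hx hr hE
      ((vcurve_of_smooth k X hdim).semistable_of_stable hE hst') hst' φ
    refine ⟨c, ?_⟩
    rw [KLin.smul_id, hc]
    rfl

end curve

end Groth.Agent.H76.VB
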