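import Mathlib
import Groth.Agent.H76.VBS2
import Groth.Agent.H76.VB9
import Groth.Agent.H76.VB12

/-!
helper76, vector bundles on curves: statement-level consequences, part 3.
-/

set_option autoImplicit false
set_option linter.style.haveILetI false
universe u
open CategoryTheory CategoryTheory.Limits AlgebraicGeometry TopologicalSpace Opposite

namespace Groth.Agent.H76.VB

variable (k : Type u) [Field k] (X : Scheme.{u}) [X.Over (Spec (CommRingCat.of k))]

section geomconn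

variable [IsProper (X ↘ Spec (CommRingCat.of k))] [Smooth (X ↘ Spec (CommRingCat.of k))]
  [GeometricallyConnected (X ↘ Spec (CommRingCat.of k))] (hdim : topologicalKrullDim X = 1)
include hdim

theorem S14151_main (r : ℕ) (hr : 0 < r) (E : X.Modules) (hE : FlatMod.IsFinLocFreeOfRank r E) :
    ((∀ (F : X.Modules) (s : ℕ) (p : E ⟶ F), Epi p → 0 < s → FlatMod.IsFinLocFreeOfRank s F →
      Curv2.deg k X E r * (s : ℤ) ≤ Curv2.deg k X F s * (r : ℤ)) ↔
      (∀ (G : X.Modules) (r' : ℕ) (i : G ⟶ E), Mono i → 0 < r' →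
        FlatMod.IsFinLocFreeOfRank r' G →
      Curv2.deg k X G r' * (r : ℤ) ≤ Curv2.deg k X E r * (r' : ℤ))) ∧
    ((∀ (F : X.Modules) (s : ℕ) (p : E ⟶ F), Epi p → 0 < s → FlatMod.IsFinLocFreeOfRank s F →
        (¬ IsIso p) →
      Curv2.deg k X E r * (s : ℤ) < Curv2.deg k X F s * (r : ℤ)) ↔
      (∀ (G : X.Modules) (r' : ℕ) (i : G ⟶ E), Mono i → 0 < r' →
        FlatMod.IsFinLocFreeOfRank r' G → (¬ IsIso i) →
      Curv2.deg k X G r' * (r : ℤ) < Curv2.deg k X E r * (r' : ℤ))) := by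
  haveI := Groth.Agent.H62.GW.isIntegral_of_smooth_of_geometricallyConnected k X
  have hX := vcurve_of_smooth k X hdim
  refine ⟨⟨fun h G r' i hi _ hG => hX.sub_of_quotient_semistable hE h G r' i hi hG,
    fun h F s p hp _ hF => hX.quotient_of_sub_semistable hE h F s p hp hF⟩,
    ⟨fun h G r' i hi hr' hG hni => hX.sub_of_quotient_stable hr hE h G r' i hi hr' hG hni,
    fun h F s p hp hs hF hnp => hX.quotient_of_sub_stable hE h F s p hp hs hF hnp⟩⟩

end geomconn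

section geomint

theorem S18774_main [IsProper (X ↘ Spec (CommRingCat.of k))] [Smooth (X ↘ Spec (CommRingCat.of k))]
    [GeometricallyIntegral (X ↘ Spec (CommRingCat.of k))] (hdim : topologicalKrullDim X = 1)
    (E : X.Modules) (hE : FlatMod.IsFinLocFree E) (F : X.Modules) (r' : ℕ) (hr' : 0 < r')
    (i : F ⟶ E) [Mono i] :
    Curv2.deg k X F r' ≤ (r' : ℤ) * ((Module.finrank k (Coh.HH X E 0) : ℤ) +
      (Curv2.genus k X : ℤ) - 1) := by
  haveI : IsIntegral X :=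
    GeometricallyIntegral.isIntegral_of_subsingleton (X ↘ Spec (CommRingCat.of k))
  exact (vcurve_of_smooth k X hdim).deg_sub_le_h0 (isCoh_of_isFinLocFree hE) hr' i

end geomint

section algclosed

variable [IsAlgClosed k] [IsIntegral X] [IsProper (X ↘ Spec (CommRingCat.of k))]
  [Smooth (X ↘ Spec (CommRingCat.of k))] (hdim : topologicalKrullDim X = 1)
include hdim

open Groth.Agent.H67.InvertibleNearFibre in
theorem S11827_main (S : ShortComplex X.Modules) (hS : S.ShortExact)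
    (hL : PicF.IsInvertible S.X₁) (hM : PicF.IsInvertible S.X₃)
    (N : X.Modules) (hN : PicF.IsInvertible N) (j : N ⟶ S.X₂) [Mono j]
    (hq : PicF.IsInvertible (cokernel j)) :
    (∃ φ : N ≅ S.X₁, φ.hom ≫ S.f = j) ∨ Curv2.deg k X N 1 ≤ Curv2.deg k X S.X₃ 1 :=
  (vcurve_of_smooth k X hdim).sub_iso_or_deg_le S hS (isFinLocFreeOfRank_one _ hL)
    (isFinLocFreeOfRank_one _ hM) (isFinLocFreeOfRank_one _ hN) j (isFinLocFreeOfRank_one _ hq)

open Groth.Agent.H67.InvertibleNearFibre in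
theorem S11816_main (E : X.Modules) (hE : FlatMod.IsFinLocFreeOfRank 2 E)
    (M M' : X.Modules) (hM : PicF.IsInvertible M) (hM' : PicF.IsInvertible M')
    (i : M ⟶ E) (i' : M' ⟶ E) [Mono i] [Mono i']
    (hq : PicF.IsInvertible (cokernel i)) (hq' : PicF.IsInvertible (cokernel i'))
    (hd : Curv2.deg k X E 2 < 2 * Curv2.deg k X M 1)
    (hd' : Curv2.deg k X E 2 < 2 * Curv2.deg k X M' 1) :
    ∃ φ : M ≅ M', φ.hom ≫ i' = i :=
  (vcurve_of_smooth k X hdim).destabilising_unique hE (isFinLocFreeOfRank_one _ hM)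
    (isFinLocFreeOfRank_one _ hM') i i' (isFinLocFreeOfRank_one _ hq)
    (isFinLocFreeOfRank_one _ hq') hd hd'

open Groth.Agent.H67.InvertibleNearFibre in
theorem S11830_main (E : X.Modules) (hE : FlatMod.IsFinLocFreeOfRank 2 E)
    (L L' : X.Modules) (hL : PicF.IsInvertible L) (hL' : PicF.IsInvertible L')
    (i : L ⟶ E) (i' : L' ⟶ E) [Mono i] [Mono i']
    (hq : PicF.IsInvertible (cokernel i)) (hq' : PicF.IsInvertible (cokernel i'))
    (hd : 2 * Curv2.deg k X L 1 = Curv2.deg k X E 2)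
    (hd' : 2 * Curv2.deg k X L' 1 = Curv2.deg k X E 2) :
    Nonempty (L ⊞ cokernel i ≅ L' ⊞ cokernel i') :=
  (vcurve_of_smooth k X hdim).gr_wellDefined hE (isFinLocFreeOfRank_one _ hL)
    (isFinLocFreeOfRank_one _ hL') i i' (isFinLocFreeOfRank_one _ hq)
    (isFinLocFreeOfRank_one _ hq') hd hd'

include k in
open Groth.Agent.H67.InvertibleNearFibre in
theorem S11829_main (L₁ L₂ M₁ M₂ : X.Modules) (h₁ : PicF.IsInvertible L₁)
    (h₂ : PicF.IsInvertible L₂) (h₃ : PicF.IsInvertible M₁) (h₄ : PicF.IsInvertible M₂)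
    (e : L₁ ⊞ L₂ ≅ M₁ ⊞ M₂) :
    (Nonempty (L₁ ≅ M₁) ∧ Nonempty (L₂ ≅ M₂)) ∨ (Nonempty (L₁ ≅ M₂) ∧ Nonempty (L₂ ≅ M₁)) :=
  (vcurve_of_smooth k X hdim).krullSchmidt_two (isFinLocFreeOfRank_one _ h₁)
    (isFinLocFreeOfRank_one _ h₂) (isFinLocFreeOfRank_one _ h₃) (isFinLocFreeOfRank_one _ h₄) e

open Groth.Agent.H67.InvertibleNearFibre in
theorem S11818_main (S : ShortComplex X.Modules) (hS : S.ShortExact)
    (hL : PicF.IsInvertible S.X₁) (hM : PicF.IsInvertible S.X₃)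
    (hdeg : Curv2.deg k X S.X₃ 1 < Curv2.deg k X S.X₁ 1)
    (hhom : ∀ g : S.X₃ ⟶ S.X₁, g = 0) (hns : ¬ IsSplitEpi S.g) (φ : S.X₂ ⟶ S.X₂) :
    ∃ c : k, (SheafOfModules.toSheaf X.ringCatSheaf).map φ =
      Coh.smulAb S.X₂ (Coh.toGlobal (X ↘ Spec (CommRingCat.of k)) c) := by
  obtain ⟨x, hx⟩ := exists_rational_point k X hdim
  obtain ⟨c, hc⟩ := (vcurve_of_smooth k X hdim).endo_scalar_of_nonsplit x hx S hS
    (isFinLocFreeOfRank_one _ hL) (isFinLocFreeOfRank_one _ hM) hdeg hhom hns φ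
  exact ⟨c, by rw [hc]; rfl⟩

open Groth.Agent.H67.InvertibleNearFibre in
theorem S11819_main (S : ShortComplex X.Modules) (hS : S.ShortExact)
    (hL : PicF.IsInvertible S.X₁) (hM : PicF.IsInvertible S.X₃)
    (g : S.X₃ ⟶ S.X₁) (hg : g ≠ 0) (hns : ¬ IsSplitEpi S.g) :
    (¬ IsZero S.X₂ ∧ ∀ (E₁ E₂ : X.Modules), Nonempty (S.X₂ ≅ E₁ ⊞ E₂) → IsZero E₁ ∨ IsZero E₂) ∧
      ∃ φ : S.X₂ ⟶ S.X₂, ∀ c : k, (SheafOfModules.toSheaf X.ringCatSheaf).map φ ≠
        Coh.smulAb S.X₂ (Coh.toGlobal (X ↘ Spec (CommRingCat.of k)) c) := by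
  refine ⟨(vcurve_of_smooth k X hdim).indecomposable_of_nonsplit S hS
    (isFinLocFreeOfRank_one _ hL) (isFinLocFreeOfRank_one _ hM) g hg hns, ?_⟩
  obtain ⟨φ, hφ⟩ := exists_endo_not_scalar (k := k) S hS g hg
  refine ⟨φ, fun c hc => hφ c ?_⟩
  exact (SheafOfModules.toSheaf X.ringCatSheaf).map_injective hc

end algclosed

end Groth.Agent.H76.VB
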