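import Mathlib
import Groth.Agent.H76.VBS4

/-!
helper76, vector bundles on curves: statement-level consequences, part 5.
-/

set_option autoImplicit false
set_option linter.style.haveILetI false
universe u
open CategoryTheory CategoryTheory.Limits AlgebraicGeometry TopologicalSpace Opposite

namespace Groth.Agent.H76.VB

section curve

variable {X : Scheme.{u}} [IsIntegral X]
variable {k : Type u} [Field k] [X.Over (Spec (CommRingCat.of k))] (hX : VCurve k X)
include hX

/-- core of S13934 -/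
theorem VCurve.positive_sub_unique (S : ShortComplex X.Modules) (hS : S.ShortExact)
    (hE : FlatMod.IsFinLocFreeOfRank 2 S.X₂) (hE0 : Curv2.deg k X S.X₂ 2 = 0)
    (hL : FlatMod.IsFinLocFreeOfRank 1 S.X₁) (hM : FlatMod.IsFinLocFreeOfRank 1 S.X₃)
    (hpos : 0 < Curv2.deg k X S.X₁ 1) :
    (∀ (N : X.Modules), FlatMod.IsFinLocFreeOfRank 1 N → ∀ j : N ⟶ S.X₂, j ≠ 0 →
        Curv2.deg k X N 1 ≤ Curv2.deg k X S.X₁ 1) ∧
    (∀ (N : X.Modules), FlatMod.IsFinLocFreeOfRank 1 N → ∀ (j : N ⟶ S.X₂), Mono j →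
        FlatMod.IsFinLocFreeOfRank 1 (cokernel j) → 0 < Curv2.deg k X N 1 →
        ∃ φ : N ≅ S.X₁, φ.hom ≫ S.f = j) ∧
    (∀ (N N' : X.Modules), FlatMod.IsFinLocFreeOfRank 1 N → FlatMod.IsFinLocFreeOfRank 1 N' →
        Curv2.deg k X N 1 = 0 → Curv2.deg k X N' 1 = 0 →
        ∀ (a : N ⟶ S.X₂) (b : S.X₂ ⟶ N') (w : a ≫ b = 0), ¬ (ShortComplex.mk a b w).ShortExact) := by
  haveI := hS.mono_f
  have hd := hX.deg_add S hS hL hE hM
  have hMneg : Curv2.deg k X S.X₃ 1 < 0 := by linarith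
  have hfne : S.f ≠ 0 := fun h =>
    not_isZero_of_rank one_pos hL (genericPoint X) (isZero_of_mono_eq_zero S.f h)
  refine ⟨?_, ?_, ?_⟩
  · intro N hN j hj
    by_cases h0 : j ≫ S.g = 0
    · have hφ : hS.exact.lift j h0 ≫ S.f = j := hS.exact.lift_f j h0
      have hne : hS.exact.lift j h0 ≠ 0 := fun h => hj (by rw [← hφ, h, zero_comp])
      exact hX.deg_le_of_ne_zero hN hL _ hne
    · have := hX.deg_le_of_ne_zero hN hM _ h0
      linarith
  · intro N hN j hj hq hNpos
    haveI := hj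
    rcases hX.sub_iso_or_deg_le S hS hL hM hN j hq with h | h
    · exact h
    · exfalso
      linarith
  · intro N N' hN hN' hN0 hN'0 a b w hT
    by_cases h0 : S.f ≫ b = 0
    · haveI : Mono (ShortComplex.mk a b w).f := hT.mono_f
      have hφ : hT.exact.lift S.f h0 ≫ a = S.f := hT.exact.lift_f S.f h0
      have hne : hT.exact.lift S.f h0 ≠ 0 := fun h => hfne (by rw [← hφ, h, zero_comp])
      have := hX.deg_le_of_ne_zero hL hN _ hne
      linarith
    · have := hX.deg_le_of_ne_zero hL hN' _ h0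
      linarith

end curve

variable (k : Type u) [Field k] (X : Scheme.{u}) [X.Over (Spec (CommRingCat.of k))]

section integral

variable [IsIntegral X] [IsProper (X ↘ Spec (CommRingCat.of k))]
  [Smooth (X ↘ Spec (CommRingCat.of k))] (hdim : topologicalKrullDim X = 1)
include hdim

open Groth.Agent.H67.InvertibleNearFibre in
theorem S13934_main (S : ShortComplex X.Modules) (hS : S.ShortExact)
    (hE : FlatMod.IsFinLocFreeOfRank 2 S.X₂) (hE0 : Curv2.deg k X S.X₂ 2 = 0)
    (hL : PicF.IsInvertible S.X₁) (hM : PicF.IsInvertible S.X₃) (hpos : 0 < Curv2.deg k X S.X₁ 1) :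
    (∀ (N : X.Modules), PicF.IsInvertible N → ∀ j : N ⟶ S.X₂, j ≠ 0 →
        Curv2.deg k X N 1 ≤ Curv2.deg k X S.X₁ 1) ∧
    (∀ (N : X.Modules), PicF.IsInvertible N → ∀ (j : N ⟶ S.X₂), Mono j →
        PicF.IsInvertible (cokernel j) → 0 < Curv2.deg k X N 1 →
        ∃ φ : N ≅ S.X₁, φ.hom ≫ S.f = j) ∧
    (∀ (N N' : X.Modules), PicF.IsInvertible N → PicF.IsInvertible N' →
        Curv2.deg k X N 1 = 0 → Curv2.deg k X N' 1 = 0 →
        ∀ (a : N ⟶ S.X₂) (b : S.X₂ ⟶ N') (w : a ≫ b = 0), ¬ (ShortComplex.mk a b w).ShortExact) := by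
  obtain ⟨h1, h2, h3⟩ := (vcurve_of_smooth k X hdim).positive_sub_unique S hS hE hE0
    (isFinLocFreeOfRank_one _ hL) (isFinLocFreeOfRank_one _ hM) hpos
  exact ⟨fun N hN j hj => h1 N (isFinLocFreeOfRank_one _ hN) j hj,
    fun N hN j hj hq hp => h2 N (isFinLocFreeOfRank_one _ hN) j hj (isFinLocFreeOfRank_one _ hq) hp,
    fun N N' hN hN' d d' a b w => h3 N N' (isFinLocFreeOfRank_one _ hN)
      (isFinLocFreeOfRank_one _ hN') d d' a b w⟩

end integral

end Groth.Agent.H76.VB
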