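import Mathlib

/-!
# The zeta function as an Euler product, as an identity of formal power series

For a sequence `a : ℕ → ℕ`, `N_m = ∑_{e ∣ m} e a_e`, `Z = exp (∑ N_m / m X^m)`:
`Z * ∏_{r ≤ n} (1 - X^r)^{a_r} ≡ 1 mod X^{n+1}` and `Z` has integer coefficients.
-/

set_option autoImplicit false

open PowerSeries

namespace Groth.Agent.H76.ZetaProd

/-- geometric series in `X^r` -/
noncomputable def geo (r : ℕ) : PowerSeries ℚ := mk fun m => if r ∣ m then 1 else 0

theorem coeff_X_pow_mul_geo (r : ℕ) (hr : 1 ≤ r) (m : ℕ) :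
    coeff m (X ^ r * geo r) = if r ∣ m ∧ 1 ≤ m then 1 else 0 := by
  rw [coeff_X_pow_mul']
  simp only [geo, coeff_mk]
  by_cases hrm : r ≤ m
  · rw [if_pos hrm]
    have : r ∣ m - r ↔ r ∣ m := by
      constructor
      · intro h
        have := Nat.dvd_add h (dvd_refl r)
        rwa [Nat.sub_add_cancel hrm] at this
      · intro h
        exact Nat.dvd_sub h (dvd_refl r)
    simp only [this]
    have h1 : 1 ≤ m := le_trans hr hrm
    simp [h1]
  · rw [if_neg hrm]
    push Not at hrm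
    rw [if_neg]
    rintro ⟨h1, h2⟩
    have := Nat.le_of_dvd (by omega) h1
    omega

theorem one_sub_mul_geo (r : ℕ) (hr : 1 ≤ r) : (1 - X ^ r) * geo r = 1 := by
  ext m
  rw [sub_mul, one_mul, map_sub, coeff_X_pow_mul_geo r hr, coeff_one]
  simp only [geo, coeff_mk]
  by_cases hm : m = 0
  · subst hm; simp
  · have h1 : 1 ≤ m := by omega
    simp [hm, h1]

theorem X_mul_derivative_one_sub_pow (r a : ℕ) (hr : 1 ≤ r) :
    X * d⁄dX ℚ ((1 - X ^ r : PowerSeries ℚ) ^ a) =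
      -((1 - X ^ r) ^ a * (C ((a : ℚ) * r) * (X ^ r * geo r))) := by
  have hX : X * d⁄dX ℚ (1 - X ^ r : PowerSeries ℚ) = -((r : PowerSeries ℚ) * X ^ r) := by
    rw [map_sub, derivative_one, zero_sub, derivative_pow, derivative_X, mul_one, mul_neg]
    congr 1
    obtain ⟨k, rfl⟩ : ∃ k, r = k + 1 := ⟨r - 1, by omega⟩
    rw [Nat.add_sub_cancel, pow_succ]
    ring
  rcases a with _ | k
  · simp
  · rw [derivative_pow, Nat.add_sub_cancel]
    have hg := one_sub_mul_geo r hr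
    have e1 : (1 - X ^ r : PowerSeries ℚ) ^ (k + 1) * geo r = (1 - X ^ r) ^ k := by
      rw [pow_succ, mul_assoc, hg, mul_one]
    have e2 : (C (((k + 1 : ℕ) : ℚ) * r) : PowerSeries ℚ) = ((k + 1 : ℕ) : PowerSeries ℚ) * (r : PowerSeries ℚ) := by
      rw [map_mul, map_natCast, map_natCast]
    calc X * (((k + 1 : ℕ) : PowerSeries ℚ) * (1 - X ^ r) ^ k * d⁄dX ℚ (1 - X ^ r))
        = ((k + 1 : ℕ) : PowerSeries ℚ) * (1 - X ^ r) ^ k * (X * d⁄dX ℚ (1 - X ^ r)) := by ring
      _ = -((1 - X ^ r) ^ (k + 1) * (C (((k + 1 : ℕ) : ℚ) * r) * (X ^ r * geo r))) := by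
        rw [hX, e2, ← e1]
        ring

theorem X_mul_derivative_prod (a : ℕ → ℕ) (s : Finset ℕ) (hs : ∀ r ∈ s, 1 ≤ r) :
    X * d⁄dX ℚ (∏ r ∈ s, (1 - X ^ r : PowerSeries ℚ) ^ a r) =
      -((∏ r ∈ s, (1 - X ^ r : PowerSeries ℚ) ^ a r) *
        ∑ r ∈ s, C ((a r : ℚ) * r) * (X ^ r * geo r)) := by
  classical
  induction s using Finset.induction_on with
  | empty => simp
  | insert r s hrs ih =>
    rw [Finset.prod_insert hrs, Finset.sum_insert hrs, Derivation.leibniz, smul_eq_mul, smul_eq_mul,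
      mul_add]
    have h1 := ih (fun r' hr' => hs r' (Finset.mem_insert_of_mem hr'))
    have h2 := X_mul_derivative_one_sub_pow r (a r) (hs r (Finset.mem_insert_self r s))
    calc X * ((1 - X ^ r) ^ a r * d⁄dX ℚ (∏ r ∈ s, (1 - X ^ r : PowerSeries ℚ) ^ a r)) +
          X * ((∏ r ∈ s, (1 - X ^ r : PowerSeries ℚ) ^ a r) * d⁄dX ℚ ((1 - X ^ r) ^ a r))
        = (1 - X ^ r) ^ a r * (X * d⁄dX ℚ (∏ r ∈ s, (1 - X ^ r : PowerSeries ℚ) ^ a r)) +
          (∏ r ∈ s, (1 - X ^ r : PowerSeries ℚ) ^ a r) * (X * d⁄dX ℚ ((1 - X ^ r) ^ a r)) := by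
          ring
      _ = _ := by
          rw [h1, h2]
          ring

/-- the numbers `N_m` -/
def NN (a : ℕ → ℕ) (m : ℕ) : ℕ := ∑ e ∈ m.divisors, e * a e

/-- the logarithm of the zeta function -/
noncomputable def LL (a : ℕ → ℕ) : PowerSeries ℚ := mk fun m => (NN a m : ℚ) / m

theorem hasSubst_LL (a : ℕ → ℕ) : HasSubst (LL a) :=
  HasSubst.of_constantCoeff_zero' (by simp [LL, ← coeff_zero_eq_constantCoeff_apply])

theorem coeff_X_mul_derivative (H : PowerSeries ℚ) (m : ℕ) :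
    coeff m (X * d⁄dX ℚ H) = m * coeff m H := by
  rcases m with _ | m
  · simp
  · rw [coeff_succ_X_mul, coeff_derivative]
    push_cast
    ring

theorem coeff_X_mul_derivative_LL (a : ℕ → ℕ) (m : ℕ) :
    coeff m (X * d⁄dX ℚ (LL a)) = (NN a m : ℚ) := by
  rw [coeff_X_mul_derivative]
  simp only [LL, coeff_mk]
  rcases m with _ | m
  · simp [NN]
  · field_simp

/-- the coefficients of the error term vanish up to degree `n` -/
theorem coeff_err (a : ℕ → ℕ) (n m : ℕ) (hm : m ≤ n) :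
    coeff m (X * d⁄dX ℚ (LL a) - ∑ r ∈ Finset.Icc 1 n, C ((a r : ℚ) * r) * (X ^ r * geo r)) = 0 := by
  rw [map_sub, coeff_X_mul_derivative_LL, map_sum, sub_eq_zero]
  have : ∀ r ∈ Finset.Icc 1 n, coeff m (C ((a r : ℚ) * r) * (X ^ r * geo r)) =
      if r ∣ m ∧ 1 ≤ m then ((r * a r : ℕ) : ℚ) else 0 := by
    intro r hr
    rw [coeff_C_mul, coeff_X_pow_mul_geo r (Finset.mem_Icc.1 hr).1]
    split_ifs
    · push_cast; ring
    · ring
  rw [Finset.sum_congr rfl this, ← Finset.sum_filter, NN]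
  push_cast
  apply Finset.sum_congr _ (fun _ _ => rfl)
  · ext r
    simp only [Nat.mem_divisors, Finset.mem_filter, Finset.mem_Icc]
    constructor
    · rintro ⟨h1, h2⟩
      have h3 : 1 ≤ m := by omega
      have h4 := Nat.le_of_dvd h3 h1
      have h5 : 1 ≤ r := Nat.pos_of_dvd_of_pos h1 h3
      exact ⟨⟨h5, by omega⟩, h1, h3⟩
    · rintro ⟨_, h1, h2⟩
      exact ⟨h1, by omega⟩

/-- the zeta function -/
noncomputable def ZZ (a : ℕ → ℕ) : PowerSeries ℚ := (exp ℚ).subst (LL a)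

/-- the finite product -/
noncomputable def GG (a : ℕ → ℕ) (n : ℕ) : PowerSeries ℚ :=
  ∏ r ∈ Finset.Icc 1 n, (1 - X ^ r : PowerSeries ℚ) ^ a r

theorem constantCoeff_ZZ (a : ℕ → ℕ) : constantCoeff (ZZ a) = 1 := by
  rw [ZZ, ← coeff_zero_eq_constantCoeff_apply, coeff_subst' (hasSubst_LL a)]
  rw [finsum_eq_single _ 0]
  · simp
  · intro d hd
    have h0 : constantCoeff (LL a) = 0 := by simp [LL, ← coeff_zero_eq_constantCoeff_apply]
    rw [coeff_zero_eq_constantCoeff_apply, map_pow, h0, zero_pow hd, smul_zero]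

theorem constantCoeff_GG (a : ℕ → ℕ) (n : ℕ) : constantCoeff (GG a n) = 1 := by
  rw [GG, map_prod]
  apply Finset.prod_eq_one
  intro r hr
  have hr1 : r ≠ 0 := by have := (Finset.mem_Icc.1 hr).1; omega
  rw [map_pow, map_sub, map_one, map_pow, constantCoeff_X, zero_pow hr1, sub_zero, one_pow]

theorem X_mul_derivative_HH (a : ℕ → ℕ) (n : ℕ) :
    X * d⁄dX ℚ (ZZ a * GG a n) = ZZ a * GG a n *
      (X * d⁄dX ℚ (LL a) - ∑ r ∈ Finset.Icc 1 n, C ((a r : ℚ) * r) * (X ^ r * geo r)) := by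
  have hZ : d⁄dX ℚ (ZZ a) = ZZ a * d⁄dX ℚ (LL a) := by
    rw [ZZ, derivative_subst (hasSubst_LL a), derivative_exp]
  have hG := X_mul_derivative_prod a (Finset.Icc 1 n) (fun r hr => (Finset.mem_Icc.1 hr).1)
  rw [Derivation.leibniz, smul_eq_mul, smul_eq_mul, hZ, mul_add]
  have : X * (ZZ a * d⁄dX ℚ (GG a n)) = ZZ a * (X * d⁄dX ℚ (GG a n)) := by ring
  rw [this, GG, hG]
  ring

theorem coeff_HH (a : ℕ → ℕ) (n m : ℕ) (hm1 : 1 ≤ m) (hm : m ≤ n) :
    coeff m (ZZ a * GG a n) = 0 := by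
  have h1 := congrArg (coeff m) (X_mul_derivative_HH a n)
  rw [coeff_X_mul_derivative] at h1
  have h2 : coeff m (ZZ a * GG a n *
      (X * d⁄dX ℚ (LL a) - ∑ r ∈ Finset.Icc 1 n, C ((a r : ℚ) * r) * (X ^ r * geo r))) = 0 := by
    rw [coeff_mul]
    apply Finset.sum_eq_zero
    intro ij hij
    have : ij.2 ≤ n := by
      have h2 := Finset.HasAntidiagonal.mem_antidiagonal.1 hij
      omega
    rw [coeff_err a n ij.2 this, mul_zero]
  rw [h2] at h1
  have hm0 : (m : ℚ) ≠ 0 := by exact_mod_cast (by omega : m ≠ 0)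
  rcases mul_eq_zero.1 h1 with h | h
  · exact absurd h hm0
  · exact h

theorem coeff_zero_HH (a : ℕ → ℕ) (n : ℕ) : coeff 0 (ZZ a * GG a n) = 1 := by
  rw [coeff_zero_eq_constantCoeff_apply, map_mul, constantCoeff_ZZ, constantCoeff_GG, mul_one]

theorem trunc_HH (a : ℕ → ℕ) (n : ℕ) : trunc (n + 1) (ZZ a * GG a n) = 1 := by
  ext m
  rw [coeff_trunc, Polynomial.coeff_one]
  by_cases hm : m = 0
  · subst hm
    rw [if_pos (by omega), if_pos rfl, coeff_zero_HH]
  · rw [if_neg hm]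
    split_ifs with h
    · exact coeff_HH a n m (by omega) (by omega)
    · rfl

theorem coeff_ZZ_int (a : ℕ → ℕ) (n : ℕ) : ∃ z : ℤ, coeff n (ZZ a) = (z : ℚ) := by
  -- the integral version of the product
  set Gz : PowerSeries ℤ := ∏ r ∈ Finset.Icc 1 n, (1 - X ^ r : PowerSeries ℤ) ^ a r with hGz
  have hGmap : map (Int.castRingHom ℚ) Gz = GG a n := by
    rw [hGz, GG, map_prod]
    apply Finset.prod_congr rfl
    intro r _
    rw [map_pow, map_sub, map_one, map_pow, map_X]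
  have hc : constantCoeff Gz = 1 := by
    rw [hGz, map_prod]
    apply Finset.prod_eq_one
    intro r hr
    have hr1 : r ≠ 0 := by have := (Finset.mem_Icc.1 hr).1; omega
    rw [map_pow, map_sub, map_one, map_pow, constantCoeff_X, zero_pow hr1, sub_zero, one_pow]
  have hu : IsUnit Gz := by
    rw [isUnit_iff_constantCoeff, hc]; exact isUnit_one
  obtain ⟨Wz, hW⟩ := hu.exists_right_inv
  have hW' : GG a n * map (Int.castRingHom ℚ) Wz = 1 := by
    rw [← hGmap, ← map_mul, hW, map_one]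
  have hZ : ZZ a = (ZZ a * GG a n) * map (Int.castRingHom ℚ) Wz := by
    rw [mul_assoc, hW', mul_one]
  refine ⟨coeff n Wz, ?_⟩
  rw [hZ, coeff_mul, Finset.sum_eq_single (0, n)]
  · rw [coeff_zero_HH, one_mul, coeff_map]
    rfl
  · rintro ⟨i, j⟩ hij hne
    have h2 := Finset.HasAntidiagonal.mem_antidiagonal.1 hij
    simp only at h2
    have hi : 1 ≤ i := by
      by_contra h
      have : i = 0 := by omega
      subst this
      apply hne
      simp only [zero_add] at h2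
      rw [h2]
    rw [coeff_HH a n i hi (by omega), zero_mul]
  · intro h
    exact absurd (Finset.HasAntidiagonal.mem_antidiagonal.2 (by simp)) h

end Groth.Agent.H76.ZetaProd
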